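import Cfsg.Agent.RootSubgroups.RankOne

set_option autoImplicit false

/-!
`SL₂(k)` with its two unitriangular subgroups as a special rank one group.
-/

namespace CfsgLib.SL2Pair

open Cfsg Matrix CfsgLib.RankOne

variable {k : Type*} [Field k]

local notation "SL2" => Matrix.SpecialLinearGroup (Fin 2) k

/-- The element `(1 c; 0 1)`. -/
def up (c : k) : SL2 := ⟨!![1, c; 0, 1], by simp [Matrix.det_fin_two]⟩

/-- The element `(1 0; c 1)`. -/
def low (c : k) : SL2 := ⟨!![1, 0; c, 1], by simp [Matrix.det_fin_two]⟩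

theorem up_coe (c : k) : ((up c : SL2) : Matrix (Fin 2) (Fin 2) k) = !![1, c; 0, 1] := rfl

theorem low_coe (c : k) : ((low c : SL2) : Matrix (Fin 2) (Fin 2) k) = !![1, 0; c, 1] := rfl

theorem up_mul (c d : k) : up c * up d = up (c + d) := by
  ext i j; fin_cases i <;> fin_cases j <;> simp [up_coe, Matrix.mul_apply, Fin.sum_univ_two, add_comm]

theorem low_mul (c d : k) : low c * low d = low (c + d) := by
  ext i j; fin_cases i <;> fin_cases j <;> simp [low_coe, Matrix.mul_apply, Fin.sum_univ_two, add_comm]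

theorem up_zero : up (0 : k) = 1 := by
  ext i j; fin_cases i <;> fin_cases j <;> simp [up]

theorem low_zero : low (0 : k) = 1 := by
  ext i j; fin_cases i <;> fin_cases j <;> simp [low]

theorem up_inv (c : k) : (up c)⁻¹ = up (-c) :=
  inv_eq_of_mul_eq_one_right (by rw [up_mul, add_neg_cancel, up_zero])

theorem low_inv (c : k) : (low c)⁻¹ = low (-c) :=
  inv_eq_of_mul_eq_one_right (by rw [low_mul, add_neg_cancel, low_zero])

theorem up_eq_one {c : k} : up c = 1 ↔ c = 0 := by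
  refine ⟨fun h => ?_, fun h => h ▸ up_zero⟩
  have := congrArg (fun g : SL2 => (g : Matrix (Fin 2) (Fin 2) k) 0 1) h
  simpa [up] using this

theorem low_eq_one {c : k} : low c = 1 ↔ c = 0 := by
  refine ⟨fun h => ?_, fun h => h ▸ low_zero⟩
  have := congrArg (fun g : SL2 => (g : Matrix (Fin 2) (Fin 2) k) 1 0) h
  simpa [low] using this

theorem mem_upper {g : SL2} : g ∈ upperUnipotentSL2 k ↔ ∃ c, g = up c := by
  constructor
  · intro h
    induction h using Subgroup.closure_induction with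
    | mem x hx =>
      refine ⟨(x : Matrix (Fin 2) (Fin 2) k) 0 1, ?_⟩
      ext i j; fin_cases i <;> fin_cases j <;> simp [up, hx.1, hx.2.1, hx.2.2]
    | one => exact ⟨0, up_zero.symm⟩
    | mul x y _ _ hx hy =>
      obtain ⟨c, rfl⟩ := hx; obtain ⟨d, rfl⟩ := hy; exact ⟨c + d, up_mul c d⟩
    | inv x _ hx => obtain ⟨c, rfl⟩ := hx; exact ⟨-c, up_inv c⟩
  · rintro ⟨c, rfl⟩; exact Subgroup.subset_closure ⟨by simp [up], by simp [up], by simp [up]⟩

theorem mem_lower {g : SL2} : g ∈ lowerUnipotentSL2 k ↔ ∃ c, g = low c := by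
  constructor
  · intro h
    induction h using Subgroup.closure_induction with
    | mem x hx =>
      refine ⟨(x : Matrix (Fin 2) (Fin 2) k) 1 0, ?_⟩
      ext i j; fin_cases i <;> fin_cases j <;> simp [low, hx.1, hx.2.1, hx.2.2]
    | one => exact ⟨0, low_zero.symm⟩
    | mul x y _ _ hx hy =>
      obtain ⟨c, rfl⟩ := hx; obtain ⟨d, rfl⟩ := hy; exact ⟨c + d, low_mul c d⟩
    | inv x _ hx => obtain ⟨c, rfl⟩ := hx; exact ⟨-c, low_inv c⟩
  · rintro ⟨c, rfl⟩; exact Subgroup.subset_closure ⟨by simp [low], by simp [low], by simp [low]⟩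

/-- For `t ≠ 0`, `low t * (up t⁻¹)⁻¹` maps `low c` to `up (-c / t²)`. -/
theorem swap_low {t : k} (ht : t ≠ 0) (c : k) :
    (low t * (up t⁻¹)⁻¹) * low c * (low t * (up t⁻¹)⁻¹)⁻¹ = up (-c / t ^ 2) := by
  rw [mul_inv_eq_iff_eq_mul, up_inv]
  ext i j; fin_cases i <;> fin_cases j <;>
    simp [low_coe, up_coe, Matrix.mul_apply, Fin.sum_univ_two] <;> field_simp <;>
    first | ring1 | simp

theorem conjBy_lower {t : k} (ht : t ≠ 0) :
    conjBy (lowerUnipotentSL2 k) (low t * (up t⁻¹)⁻¹) = upperUnipotentSL2 k := by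
  ext g
  rw [mem_conjBy, mem_upper, mem_lower]
  constructor
  · rintro ⟨c, hc⟩
    refine ⟨-c / t ^ 2, ?_⟩
    rw [← swap_low ht c, ← hc]; group
  · rintro ⟨d, rfl⟩
    refine ⟨-d * t ^ 2, ?_⟩
    have := swap_low ht (-d * t ^ 2)
    rw [show -(-d * t ^ 2) / t ^ 2 = d by field_simp] at this
    rw [← this]; group

theorem commutative_upper : IsMulCommutative (upperUnipotentSL2 k) := by
  refine ⟨⟨fun a b => Subtype.ext ?_⟩⟩
  obtain ⟨c, hc⟩ := mem_upper.1 a.2; obtain ⟨d, hd⟩ := mem_upper.1 b.2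
  simp only [Subgroup.coe_mul, hc, hd, up_mul, add_comm]

theorem commutative_lower : IsMulCommutative (lowerUnipotentSL2 k) := by
  refine ⟨⟨fun a b => Subtype.ext ?_⟩⟩
  obtain ⟨c, hc⟩ := mem_lower.1 a.2; obtain ⟨d, hd⟩ := mem_lower.1 b.2
  simp only [Subgroup.coe_mul, hc, hd, low_mul, add_comm]

theorem nilpotent_of_commutative {G : Type*} [Group G] (h : IsMulCommutative G) : Group.IsNilpotent G := by
  let _ : CommGroup G := { (inferInstance : Group G) with mul_comm := fun a b => h.is_comm.comm a b }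
  infer_instance

theorem lower_ne_upper : lowerUnipotentSL2 k ≠ upperUnipotentSL2 k := by
  intro h
  have : low (1 : k) ∈ upperUnipotentSL2 k := h ▸ mem_lower.2 ⟨1, rfl⟩
  obtain ⟨c, hc⟩ := mem_upper.1 this
  have := congrArg (fun g : SL2 => (g : Matrix (Fin 2) (Fin 2) k) 1 0) hc
  simp [up, low] at this

theorem isRankOnePair : IsRankOnePair (lowerUnipotentSL2 k) (upperUnipotentSL2 k) := by
  refine ⟨lower_ne_upper, nilpotent_of_commutative commutative_lower,
    nilpotent_of_commutative commutative_upper, ?_, ?_⟩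
  · intro a ha ha1
    obtain ⟨t, rfl⟩ := mem_lower.1 ha
    have ht : t ≠ 0 := fun h => ha1 (low_eq_one.2 h)
    exact ⟨up t⁻¹, mem_upper.2 ⟨_, rfl⟩, fun h => ht (inv_eq_zero.1 (up_eq_one.1 h)),
      eqn_iff.2 (conjBy_lower ht)⟩
  · intro b hb hb1
    obtain ⟨s, rfl⟩ := mem_upper.1 hb
    have hs : s ≠ 0 := fun h => hb1 (up_eq_one.2 h)
    refine ⟨low s⁻¹, mem_lower.2 ⟨_, rfl⟩, fun h => hs (inv_eq_zero.1 (low_eq_one.1 h)), ?_⟩
    have := eqn_iff.2 (conjBy_lower (inv_ne_zero hs))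
    rw [inv_inv] at this
    exact this.symm

theorem sup_eq_top : lowerUnipotentSL2 k ⊔ upperUnipotentSL2 k = ⊤ := by
  have hL : ∀ c, low (k := k) c ∈ lowerUnipotentSL2 k ⊔ upperUnipotentSL2 k :=
    fun c => Subgroup.mem_sup_left (mem_lower.2 ⟨c, rfl⟩)
  have hU : ∀ c, up (k := k) c ∈ lowerUnipotentSL2 k ⊔ upperUnipotentSL2 k :=
    fun c => Subgroup.mem_sup_right (mem_upper.2 ⟨c, rfl⟩)
  have hmain : ∀ g : SL2, (g : Matrix (Fin 2) (Fin 2) k) 1 0 ≠ 0 →
      g ∈ lowerUnipotentSL2 k ⊔ upperUnipotentSL2 k := by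
    intro g hg
    have hdet : (g : Matrix (Fin 2) (Fin 2) k) 0 0 * (g : Matrix (Fin 2) (Fin 2) k) 1 1
        - (g : Matrix (Fin 2) (Fin 2) k) 0 1 * (g : Matrix (Fin 2) (Fin 2) k) 1 0 = 1 := by
      rw [← Matrix.det_fin_two]; exact g.2
    set a := (g : Matrix (Fin 2) (Fin 2) k) 0 0 with ha
    set b := (g : Matrix (Fin 2) (Fin 2) k) 0 1 with hb
    set c := (g : Matrix (Fin 2) (Fin 2) k) 1 0 with hc
    set d := (g : Matrix (Fin 2) (Fin 2) k) 1 1 with hd
    have : g = up ((a - 1) / c) * low c * up ((d - 1) / c) := by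
      ext i j; fin_cases i <;> fin_cases j <;>
        simp [up_coe, low_coe, Matrix.mul_apply, Fin.sum_univ_two, ← ha, ← hb, ← hc, ← hd] <;>
        field_simp <;> first | ring1 | linear_combination -hdet
    rw [this]
    exact mul_mem (mul_mem (hU _) (hL _)) (hU _)
  rw [eq_top_iff]
  rintro g -
  by_cases hg : (g : Matrix (Fin 2) (Fin 2) k) 1 0 = 0
  · have : g = (low 1)⁻¹ * (low 1 * g) := (inv_mul_cancel_left _ _).symm
    rw [this]
    refine mul_mem (inv_mem (hL 1)) (hmain _ ?_)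
    have hdet : (g : Matrix (Fin 2) (Fin 2) k).det = 1 := g.2
    rw [Matrix.det_fin_two, hg, mul_zero, sub_zero] at hdet
    simpa [low_coe, Matrix.mul_apply, Fin.sum_univ_two, hg] using left_ne_zero_of_mul_eq_one hdet
  · exact hmain g hg

theorem isSpecial : IsSpecialRankOnePair (lowerUnipotentSL2 k) (upperUnipotentSL2 k) := by
  refine ⟨isRankOnePair, fun a ha ha1 b hb hb1 he => ?_⟩
  obtain ⟨t, rfl⟩ := mem_lower.1 ha
  have ht : t ≠ 0 := fun h => ha1 (low_eq_one.2 h)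
  have hb' : b = up t⁻¹ := partner_unique isRankOnePair hb (mem_upper.2 ⟨_, rfl⟩) he
    (eqn_iff.2 (conjBy_lower ht))
  subst hb'
  have h := swap_low ht t
  rw [show -t / t ^ 2 = -t⁻¹ by field_simp, ← up_inv] at h
  generalize low t = A, up t⁻¹ = B at h ⊢
  calc B⁻¹ * A * B = A⁻¹ * (A * B⁻¹ * A * (A * B⁻¹)⁻¹) * A := by group
    _ = A⁻¹ * B⁻¹ * A := by rw [h]

end CfsgLib.SL2Pair
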