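import Cfsg.Agent.GLElem.PSL2Classes

/-!
In `PSL₂(q)`, `q` even, the centraliser of an involution is elementary abelian of order `q`.
-/

set_option autoImplicit false
set_option linter.unusedSectionVars false
set_option linter.style.haveILetI false

namespace CfsgLib.PSLEven

open Matrix
open CfsgLib.SL2C
open CfsgLib.Linear.SmallSub (proj P2)

variable {F : Type*} [Field F] [Fintype F] [CharP F 2]

theorem proj_injective : Function.Injective (proj (F := F)) := by
  have h20 : (2 : F) = 0 := by exact_mod_cast CharP.cast_eq_zero F 2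
  refine (injective_iff_map_eq_one _).2 fun g hg => ?_
  rw [CfsgLib.Linear.FourGroups.proj_eq_one] at hg
  rcases center_cases hg with e | e
  · exact e
  · rw [e, PSL2Classes.negOne_eq_one h20]

/-- The centraliser of an involution. -/
theorem centralizer_involution {t : P2 F} (ht : t * t = 1) (ht1 : t ≠ 1) :
    Nat.card (Subgroup.centralizer ({t} : Set (P2 F))) = Fintype.card F ∧
      ∀ x ∈ Subgroup.centralizer ({t} : Set (P2 F)), x * x = 1 := by
  classical
  obtain ⟨g, rfl⟩ := CfsgLib.Linear.FourGroups.proj_surj t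
  have hg : g * g = 1 := proj_injective (by rw [map_mul, ht, map_one])
  have hg1 : g ≠ 1 := fun e => ht1 (by rw [e, map_one])
  have h2 : ∀ y : Fin 2 → F, y + y = 0 := fun y => funext fun i => CharTwo.add_self_eq_zero _
  have hne : ¬ Ell g := by
    intro he
    set v : Fin 2 → F := Pi.single 0 1
    have hv : v ≠ 0 := fun e => by simpa [v] using congrFun e 0
    have hgg : mt g *ᵥ (mt g *ᵥ v) = v := by
      rw [Matrix.mulVec_mulVec, ← mt_mul, hg, mt_one, Matrix.one_mulVec]
    by_cases hw : mt g *ᵥ v + v = 0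
    · refine he 1 v hv ?_
      rw [one_smul]
      calc mt g *ᵥ v = mt g *ᵥ v + (v + v) := by rw [h2, add_zero]
        _ = v := by rw [← add_assoc, hw, zero_add]
    · refine he 1 _ hw ?_
      rw [one_smul, Matrix.mulVec_add, hgg, add_comm]
  obtain ⟨a, b, hab⟩ := exists_isConj_bor hne
  obtain ⟨c, hc⟩ := isConj_iff.1 hab
  have hbb : bor a b * bor a b = 1 := by
    have e : bor a b = c⁻¹ * g * c := by rw [← hc]; group
    rw [e, show c⁻¹ * g * c * (c⁻¹ * g * c) = c⁻¹ * (g * g) * c by group, hg]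
    group
  have hone : ∀ u : Fˣ, u * u = 1 → u = 1 := fun u hu => by
    have h : ((u : F) + 1) * ((u : F) + 1) = 0 := by
      have h1 : (u : F) * u = 1 := by rw [← Units.val_mul, hu, Units.val_one]
      linear_combination h1 + ((u : F) + 1) * CharTwo.two_eq_zero (R := F)
    exact Units.ext (CharTwo.add_eq_zero.1 (mul_self_eq_zero.1 h))
  have hb0 : b ≠ 0 ∧ a = 1 := by
    rw [bor_mul, ← bor_one_zero] at hbb
    obtain ⟨h1, -⟩ := bor_inj hbb
    have ha := hone a h1
    refine ⟨fun e => hg1 ?_, ha⟩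
    rw [← hc, e, ha, bor_one_zero]
    group
  obtain ⟨hb, rfl⟩ := hb0
  have hcard := natCard_centralizer_bor (one_mul (1 : Fˣ)) hb
  have hsgn : (sgn F).card = 1 := by
    rw [Finset.card_eq_one]
    exact ⟨1, Finset.ext fun u => ⟨fun h => Finset.mem_singleton.2 (hone u (mem_sgn.1 h)),
      fun h => mem_sgn.2 (by rw [Finset.mem_singleton.1 h, one_mul])⟩⟩
  rw [hsgn, one_mul] at hcard
  have hmap : Subgroup.centralizer ({proj g} : Set (P2 F)) =
      ((Subgroup.centralizer ({bor (1 : Fˣ) b} : Set (SL F))).map (MulAut.conj c).toMonoidHom).map proj := by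
    ext y
    obtain ⟨z, rfl⟩ := CfsgLib.Linear.FourGroups.proj_surj y
    rw [Subgroup.mem_map_iff_mem proj_injective, Subgroup.mem_map_equiv, MulAut.conj_symm_apply,
      Subgroup.mem_centralizer_singleton_iff, Subgroup.mem_centralizer_singleton_iff]
    constructor
    · intro h
      have h' : z * g = g * z := proj_injective (by rw [map_mul, map_mul, h])
      rw [← hc] at h'
      calc c⁻¹ * z * c * bor 1 b = c⁻¹ * (z * (c * bor 1 b * c⁻¹)) * c := by group
        _ = c⁻¹ * (c * bor 1 b * c⁻¹ * z) * c := by rw [h']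
        _ = bor 1 b * (c⁻¹ * z * c) := by group
    · intro h
      rw [← map_mul, ← map_mul, ← hc]
      congr 1
      calc z * (c * bor 1 b * c⁻¹) = c * (c⁻¹ * z * c * bor 1 b) * c⁻¹ := by group
        _ = c * (bor 1 b * (c⁻¹ * z * c)) * c⁻¹ := by rw [h]
        _ = c * bor 1 b * c⁻¹ * z := by group
  refine ⟨?_, ?_⟩
  · rw [hmap, Subgroup.card_map_of_injective proj_injective,
      Subgroup.card_map_of_injective (MulAut.conj c).injective, hcard]
  · rw [hmap]
    rintro _ ⟨_, ⟨z, hz, rfl⟩, rfl⟩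
    obtain ⟨a', b', ha', rfl⟩ := (mem_centralizer_bor (one_mul (1 : Fˣ)) hb).1 hz
    rw [hone a' ha', ← map_mul, ← map_mul, bor_mul, mul_one]
    simp [CharTwo.add_self_eq_zero, bor_one_zero]

/-- An involution lifts to a conjugate of a unipotent. -/
theorem exists_bor {t : P2 F} (ht : t * t = 1) (ht1 : t ≠ 1) :
    ∃ (c : SL F) (b : F), b ≠ 0 ∧ proj (c * bor 1 b * c⁻¹) = t := by
  classical
  obtain ⟨g, rfl⟩ := CfsgLib.Linear.FourGroups.proj_surj t
  have hg : g * g = 1 := proj_injective (by rw [map_mul, ht, map_one])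
  have h2 : ∀ y : Fin 2 → F, y + y = 0 := fun y => funext fun i => CharTwo.add_self_eq_zero _
  have hne : ¬ Ell g := by
    intro he
    set v : Fin 2 → F := Pi.single 0 1
    have hv : v ≠ 0 := fun e => by simpa [v] using congrFun e 0
    have hgg : mt g *ᵥ (mt g *ᵥ v) = v := by
      rw [Matrix.mulVec_mulVec, ← mt_mul, hg, mt_one, Matrix.one_mulVec]
    by_cases hw : mt g *ᵥ v + v = 0
    · refine he 1 v hv ?_
      rw [one_smul]
      calc mt g *ᵥ v = mt g *ᵥ v + (v + v) := by rw [h2, add_zero]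
        _ = v := by rw [← add_assoc, hw, zero_add]
    · refine he 1 _ hw ?_
      rw [one_smul, Matrix.mulVec_add, hgg, add_comm]
  obtain ⟨a, b, hab⟩ := exists_isConj_bor hne
  obtain ⟨c, hc⟩ := isConj_iff.1 hab
  have hbb : bor a b * bor a b = 1 := by
    have e : bor a b = c⁻¹ * g * c := by rw [← hc]; group
    rw [e, show c⁻¹ * g * c * (c⁻¹ * g * c) = c⁻¹ * (g * g) * c by group, hg]
    group
  have ha : a = 1 := by
    rw [bor_mul, ← bor_one_zero] at hbb
    obtain ⟨h1, -⟩ := bor_inj hbb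
    have h : ((a : F) + 1) * ((a : F) + 1) = 0 := by
      have h2 : (a : F) * a = 1 := by rw [← Units.val_mul, h1, Units.val_one]
      linear_combination h2 + ((a : F) + 1) * CharTwo.two_eq_zero (R := F)
    exact Units.ext (CharTwo.add_eq_zero.1 (mul_self_eq_zero.1 h))
  subst ha
  exact ⟨c, b, fun e => ht1 (by rw [← hc, e, bor_one_zero, mul_one, mul_inv_cancel, map_one]), by rw [hc]⟩

/-- All involutions are conjugate. -/
theorem exists_conj_involution {t y : P2 F} (ht : t * t = 1) (ht1 : t ≠ 1) (hy : y * y = 1) (hy1 : y ≠ 1) :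
    ∃ g : P2 F, g * t * g⁻¹ = y := by
  obtain ⟨c, b, hb, rfl⟩ := exists_bor ht ht1
  obtain ⟨c', b', hb', rfl⟩ := exists_bor hy hy1
  obtain ⟨s, hs⟩ := FiniteField.isSquare_of_char_two (ringChar.eq F 2) (b' / b)
  have hs0 : s ≠ 0 := fun e => by rw [e, mul_zero] at hs; exact div_ne_zero hb' hb hs
  set u : Fˣ := Units.mk0 s hs0 with hu
  have hconj : bor u 0 * bor 1 b * (bor u 0)⁻¹ = bor (1 : Fˣ) b' := by
    rw [mul_inv_eq_iff_eq_mul, bor_mul, bor_mul, mul_one, one_mul]
    congr 1
    have hb2 : b' = s * s * b := by rw [← hs, div_mul_cancel₀ _ hb]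
    simp only [inv_one, Units.val_one, mul_one, mul_zero, add_zero, zero_add, hu, Units.val_mk0,
      Units.val_inv_eq_inv_val]
    rw [hb2]
    field_simp
  refine ⟨proj (c' * bor u 0 * c⁻¹), ?_⟩
  rw [← map_inv, ← map_mul, ← map_mul, ← hconj]
  congr 1
  group

end CfsgLib.PSLEven
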