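import Cfsg.Prelude.Def_RootSubgroups

set_option autoImplicit false

/-!
Elementary theory of rank one groups (Timmesfeld, chapter I).
-/

namespace CfsgLib.RankOne

open Cfsg

variable {G : Type*} [Group G]

theorem mem_conjBy {A : Subgroup G} {g x : G} : x ∈ conjBy A g ↔ g⁻¹ * x * g ∈ A := by
  constructor
  · rintro ⟨y, hy, rfl⟩
    simpa [MulAut.conj_apply, mul_assoc] using hy
  · intro h
    exact ⟨g⁻¹ * x * g, h, by simp [MulAut.conj_apply, mul_assoc]⟩

theorem conj_mem_conjBy {A : Subgroup G} {g x : G} (hx : x ∈ A) : g * x * g⁻¹ ∈ conjBy A g := by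
  rw [mem_conjBy]; simpa [mul_assoc] using hx

theorem conjBy_conjBy (A : Subgroup G) (g h : G) : conjBy (conjBy A g) h = conjBy A (h * g) := by
  ext x; simp only [mem_conjBy, mul_inv_rev, mul_assoc]

theorem conjBy_one (A : Subgroup G) : conjBy A (1 : G) = A := by
  ext x; simp [mem_conjBy]

theorem conjBy_eq_iff {A C : Subgroup G} {g : G} : conjBy A g = C ↔ A = conjBy C g⁻¹ := by
  constructor
  · rintro rfl; rw [conjBy_conjBy, inv_mul_cancel, conjBy_one]
  · rintro rfl; rw [conjBy_conjBy, mul_inv_cancel, conjBy_one]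

theorem conjBy_injective (g : G) : Function.Injective (fun A : Subgroup G => conjBy A g) := by
  intro A C h
  have h' : conjBy A g = conjBy C g := h
  rw [conjBy_eq_iff] at h'
  rw [h', conjBy_conjBy, inv_mul_cancel, conjBy_one]

theorem conjBy_eq_self_iff {A : Subgroup G} {g : G} :
    conjBy A g = A ↔ g ∈ Subgroup.normalizer (A : Set G) := by
  rw [Subgroup.mem_normalizer_iff]
  constructor
  · intro h x
    constructor
    · intro hx; rw [← h]; exact conj_mem_conjBy hx
    · intro hx
      rw [← h, mem_conjBy] at hx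
      simpa [mul_assoc] using hx
  · intro h
    ext x
    rw [mem_conjBy]
    constructor
    · intro hx; simpa [mul_assoc] using (h _).1 hx
    · intro hx; apply (h _).2; simpa [mul_assoc] using hx

theorem conjBy_of_mem {A : Subgroup G} {g : G} (hg : g ∈ A) : conjBy A g = A :=
  conjBy_eq_self_iff.2 (Subgroup.le_normalizer hg)

theorem conjBy_bot (g : G) : conjBy (⊥ : Subgroup G) g = ⊥ := Subgroup.map_bot _

variable {A B : Subgroup G}

/-- The basic equation read as: `a * b⁻¹` carries `A` to `B`. -/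
theorem eqn_iff {a b : G} : conjBy A b⁻¹ = conjBy B a⁻¹ ↔ conjBy A (a * b⁻¹) = B := by
  constructor
  · intro h
    rw [← conjBy_conjBy, h, conjBy_conjBy, mul_inv_cancel, conjBy_one]
  · intro h
    rw [← h, conjBy_conjBy, inv_mul_cancel_left]

theorem left_ne_bot (h : IsRankOnePair A B) : A ≠ ⊥ := by
  intro hA
  apply h.ne
  rw [hA]; symm
  rw [Subgroup.eq_bot_iff_forall]
  intro b hb
  by_contra hb1
  obtain ⟨a, ha, ha1, -⟩ := h.cond_right b hb hb1
  rw [hA, Subgroup.mem_bot] at ha
  exact ha1 ha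

theorem right_ne_bot (h : IsRankOnePair A B) : B ≠ ⊥ := left_ne_bot (RankOnePair_symm h)

theorem exists_ne_one_left (h : IsRankOnePair A B) : ∃ a ∈ A, a ≠ 1 :=
  (Subgroup.bot_or_exists_ne_one A).resolve_left (left_ne_bot h)

theorem inf_normalizer_eq_bot (h : IsRankOnePair A B) :
    A ⊓ Subgroup.normalizer (B : Set G) = ⊥ := by
  rw [Subgroup.eq_bot_iff_forall]
  rintro a ⟨haA, haN⟩
  by_contra ha1
  obtain ⟨b, hb, -, hbe⟩ := h.cond_left a haA ha1
  rw [conjBy_eq_self_iff.2 (inv_mem haN)] at hbe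
  rw [conjBy_eq_iff, inv_inv, conjBy_of_mem hb] at hbe
  exact h.ne hbe

theorem eq_one_of_mem_of_fix (h : IsRankOnePair A B) {a : G} (ha : a ∈ A) (hfix : conjBy B a = B) :
    a = 1 := by
  have : a ∈ A ⊓ Subgroup.normalizer (B : Set G) := ⟨ha, conjBy_eq_self_iff.1 hfix⟩
  rw [inf_normalizer_eq_bot h, Subgroup.mem_bot] at this
  exact this

theorem inf_eq_bot (h : IsRankOnePair A B) : A ⊓ B = ⊥ :=
  le_bot_iff.1 ((inf_le_inf_left _ Subgroup.le_normalizer).trans (inf_normalizer_eq_bot h).le)

theorem partner_unique (h : IsRankOnePair A B) {a : G} {b b' : G} (hb : b ∈ B) (hb' : b' ∈ B)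
    (e : conjBy A b⁻¹ = conjBy B a⁻¹) (e' : conjBy A b'⁻¹ = conjBy B a⁻¹) : b = b' := by
  have h1 : conjBy A (b' * b⁻¹) = A := by
    rw [← conjBy_conjBy, e, ← e', conjBy_conjBy, mul_inv_cancel, conjBy_one]
  exact (mul_inv_eq_one.1 (eq_one_of_mem_of_fix (RankOnePair_symm h) (mul_mem hb' (inv_mem hb)) h1)).symm

theorem unipotent_cases (h : IsRankOnePair A B) {C : Subgroup G}
    (hC : C ∈ unipotentSubgroups A B) : C = A ∨ ∃ a ∈ A, C = conjBy B a := by
  obtain ⟨x, hx, rfl⟩ := hC
  rw [Subgroup.sup_eq_closure] at hx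
  induction hx using Subgroup.closure_induction_left with
  | one => exact Or.inl (conjBy_one A)
  | mul_left g hg y hy ih =>
    rw [← conjBy_conjBy]
    rcases hg with hgA | hgB
    · rcases ih with hh | ⟨a, ha, hh⟩
      · rw [hh]; exact Or.inl (conjBy_of_mem hgA)
      · rw [hh, conjBy_conjBy]; exact Or.inr ⟨g * a, mul_mem hgA ha, rfl⟩
    · exact step h hgB ih
  | inv_mul_cancel g hg y hy ih =>
    rw [← conjBy_conjBy]
    rcases hg with hgA | hgB
    · rcases ih with hh | ⟨a, ha, hh⟩
      · rw [hh]; exact Or.inl (conjBy_of_mem (inv_mem hgA))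
      · rw [hh, conjBy_conjBy]; exact Or.inr ⟨g⁻¹ * a, mul_mem (inv_mem hgA) ha, rfl⟩
    · exact step h (inv_mem hgB) ih
where
  step (h : IsRankOnePair A B) {b : G} (hb : b ∈ B) {D : Subgroup G}
      (hD : D = A ∨ ∃ a ∈ A, D = conjBy B a) :
      conjBy D b = A ∨ ∃ a ∈ A, conjBy D b = conjBy B a := by
    have key : ∀ c ∈ B, conjBy A c = A ∨ ∃ a ∈ A, conjBy A c = conjBy B a := by
      intro c hc
      by_cases hc1 : c = 1
      · subst hc1; exact Or.inl (conjBy_one A)
      · obtain ⟨a, ha, -, he⟩ := h.cond_right c⁻¹ (inv_mem hc) (inv_ne_one.2 hc1)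
        rw [inv_inv] at he
        exact Or.inr ⟨a⁻¹, inv_mem ha, he.symm⟩
    rcases hD with rfl | ⟨a, ha, rfl⟩
    · exact key b hb
    · by_cases ha1 : a = 1
      · subst ha1; rw [conjBy_one, conjBy_of_mem hb]; exact Or.inr ⟨1, one_mem A, (conjBy_one B).symm⟩
      · obtain ⟨b', hb', -, he⟩ := h.cond_left a⁻¹ (inv_mem ha) (inv_ne_one.2 ha1)
        rw [inv_inv] at he
        rw [← he, conjBy_conjBy]
        exact key _ (mul_mem hb (inv_mem hb'))

theorem left_mem_unipotent (A B : Subgroup G) : A ∈ unipotentSubgroups A B :=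
  ⟨1, one_mem _, (conjBy_one A).symm⟩

theorem exists_swap (h : IsRankOnePair A B) :
    ∃ x ∈ A ⊔ B, conjBy A x = B := by
  obtain ⟨a, ha, ha1⟩ := exists_ne_one_left h
  obtain ⟨b, hb, -, he⟩ := h.cond_left a ha ha1
  exact ⟨a * b⁻¹, mul_mem (Subgroup.mem_sup_left ha) (inv_mem (Subgroup.mem_sup_right hb)), eqn_iff.1 he⟩

theorem right_mem_unipotent (h : IsRankOnePair A B) : B ∈ unipotentSubgroups A B := by
  obtain ⟨x, hx, he⟩ := exists_swap h
  exact ⟨x, hx, he.symm⟩

theorem conjBy_mem_unipotent {C : Subgroup G} (hC : C ∈ unipotentSubgroups A B) {g : G}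
    (hg : g ∈ A ⊔ B) : conjBy C g ∈ unipotentSubgroups A B := by
  obtain ⟨x, hx, rfl⟩ := hC
  exact ⟨g * x, mul_mem hg hx, conjBy_conjBy _ _ _⟩

theorem conjBy_right_ne_left (h : IsRankOnePair A B) {a : G} (ha : a ∈ A) : conjBy B a ≠ A := by
  intro he
  rw [conjBy_eq_iff, conjBy_of_mem (inv_mem ha)] at he
  exact h.ne he.symm

theorem regular (h : IsRankOnePair A B) {C D : Subgroup G} (hC : C ∈ unipotentSubgroups A B)
    (hD : D ∈ unipotentSubgroups A B) (hCA : C ≠ A) (hDA : D ≠ A) :
    ∃! a : G, a ∈ A ∧ conjBy C a = D := by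
  obtain ⟨c, hc, rfl⟩ := (unipotent_cases h hC).resolve_left hCA
  obtain ⟨d, hd, rfl⟩ := (unipotent_cases h hD).resolve_left hDA
  refine ⟨d * c⁻¹, ⟨mul_mem hd (inv_mem hc), by rw [conjBy_conjBy, inv_mul_cancel_right]⟩, ?_⟩
  rintro a ⟨ha, he⟩
  rw [conjBy_conjBy, conjBy_eq_iff, conjBy_conjBy] at he
  have := (eq_one_of_mem_of_fix h (mul_mem (inv_mem (mul_mem ha hc)) hd) he.symm)
  rw [inv_mul_eq_one] at this
  rw [← this, mul_inv_cancel_right]

theorem two_transitive (h : IsRankOnePair A B) {C₁ C₂ : Subgroup G}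
    (h₁ : C₁ ∈ unipotentSubgroups A B) (h₂ : C₂ ∈ unipotentSubgroups A B) (hne : C₁ ≠ C₂) :
    ∃ x ∈ A ⊔ B, conjBy A x = C₁ ∧ conjBy B x = C₂ := by
  obtain ⟨x, hx, rfl⟩ := h₁
  have h₂' := conjBy_mem_unipotent h₂ (inv_mem hx)
  have hneA : conjBy C₂ x⁻¹ ≠ A := fun he => hne (by rw [← he, conjBy_conjBy, mul_inv_cancel, conjBy_one])
  obtain ⟨a, ha, he⟩ := (unipotent_cases h h₂').resolve_left hneA
  refine ⟨x * a, mul_mem hx (Subgroup.mem_sup_left ha), ?_, ?_⟩
  · rw [← conjBy_conjBy, conjBy_of_mem ha]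
  · rw [← conjBy_conjBy, ← he, conjBy_conjBy, mul_inv_cancel, conjBy_one]

section Generated

variable {X : Type*} [Group X] {A B : Subgroup X}

theorem mem_top_sup (h : IsRankOneGroup X A B) (x : X) : x ∈ A ⊔ B := h.1.symm ▸ Subgroup.mem_top x

theorem conj_mem_unipotent (h : IsRankOneGroup X A B) (x : X) :
    conjBy A x ∈ unipotentSubgroups A B := ⟨x, mem_top_sup h x, rfl⟩

theorem eq_one_of_mem_center (h : IsRankOneGroup X A B) {a : X} (ha : a ∈ A)
    (hz : a ∈ Subgroup.center X) : a = 1 :=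
  eq_one_of_mem_of_fix h.2 ha
    (conjBy_eq_self_iff.2 (Subgroup.center_le_normalizer _ hz))

/-- A normal subgroup moving `A` contains, together with `A`, the whole group. -/
theorem normal_sup_eq_top (h : IsRankOneGroup X A B) (N : Subgroup X) [hN : N.Normal]
    (hne : ¬ N ≤ Subgroup.normalizer (A : Set X)) : N ⊔ A = ⊤ := by
  obtain ⟨n, hn, hnA⟩ := SetLike.not_le_iff_exists.1 hne
  have hnA' : conjBy A n ≠ A := fun he => hnA (conjBy_eq_self_iff.1 he)
  obtain ⟨a, ⟨ha, he⟩, -⟩ := regular h.2 (conj_mem_unipotent h n) (right_mem_unipotent h.2) hnA' h.2.ne.symm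
  have hB : B ≤ N ⊔ A := by
    rw [← he, conjBy_conjBy]
    intro x hx
    rw [mem_conjBy] at hx
    have han : a * n ∈ N ⊔ A := mul_mem (Subgroup.mem_sup_right ha) (Subgroup.mem_sup_left hn)
    have : x = (a * n) * ((a * n)⁻¹ * x * (a * n)) * (a * n)⁻¹ := by simp [mul_assoc]
    rw [this]
    exact mul_mem (mul_mem han (Subgroup.mem_sup_right hx)) (inv_mem han)
  rw [← top_le_iff, ← h.1]
  exact sup_le le_sup_right hB

theorem normal_sup_or_central (h : IsRankOneGroup X A B) (N : Subgroup X) [hN : N.Normal] :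
    N ⊔ A = ⊤ ∨ N ≤ Subgroup.center X := by
  by_cases hne : N ≤ Subgroup.normalizer (A : Set X)
  · refine Or.inr fun n hn => ?_
    have hfix : ∀ x : X, conjBy (conjBy A x) n = conjBy A x := fun x => by
      have : x⁻¹ * n * x ∈ Subgroup.normalizer (A : Set X) := hne (by simpa using hN.conj_mem n hn x⁻¹)
      rw [conjBy_conjBy]
      conv_rhs => rw [← conjBy_eq_self_iff.2 this]
      rw [conjBy_conjBy]
      congr 1; group
    obtain ⟨x, -, hx⟩ := exists_swap h.2
    have hB : conjBy B n = B := hx ▸ hfix x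
    have hAn : conjBy A n = A := by simpa [conjBy_one] using hfix 1
    rw [Subgroup.mem_center_iff]
    intro g
    have hg := mem_top_sup h g
    have key : ∀ (P Q : Subgroup X), IsRankOnePair P Q → conjBy P n = P → conjBy Q n = Q →
        (∀ m ∈ N, conjBy Q m = Q) → ∀ y ∈ P, y * n = n * y := by
      intro P Q hPQ hP hQ hQall y hy
      have hc : n * y * n⁻¹ * y⁻¹ = 1 := by
        apply eq_one_of_mem_of_fix hPQ
        · exact mul_mem (by rw [← hP]; exact conj_mem_conjBy hy) (inv_mem hy)
        · apply hQall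
          have : n * y * n⁻¹ * y⁻¹ = n * (y * n⁻¹ * y⁻¹) := by group
          rw [this]
          exact mul_mem hn (hN.conj_mem _ (inv_mem hn) y)
      calc y * n = 1 * (y * n) := (one_mul _).symm
        _ = (n * y * n⁻¹ * y⁻¹) * (y * n) := by rw [hc]
        _ = n * y := by group
    have hallB : ∀ m ∈ N, conjBy B m = B := fun m hm => by
      have : x⁻¹ * m * x ∈ Subgroup.normalizer (A : Set X) := hne (by simpa using hN.conj_mem m hm x⁻¹)
      rw [← hx, conjBy_conjBy]
      conv_rhs => rw [← conjBy_eq_self_iff.2 this]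
      rw [conjBy_conjBy]
      congr 1; group
    have hle : A ⊔ B ≤ Subgroup.centralizer {n} := by
      refine sup_le (fun y hy => ?_) (fun y hy => ?_) <;> rw [Subgroup.mem_centralizer_singleton_iff]
      · exact key A B h.2 hAn hB hallB y hy
      · exact key B A (RankOnePair_symm h.2) hB hAn (fun m hm => conjBy_eq_self_iff.2 (hne hm)) y hy
    exact Subgroup.mem_centralizer_singleton_iff.1 (hle hg)
  · exact Or.inl (normal_sup_eq_top h N hne)

theorem normalizer_ne_top (h : IsRankOneGroup X A B) : Subgroup.normalizer (A : Set X) ≠ ⊤ := by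
  intro hN
  obtain ⟨x, -, hx⟩ := exists_swap h.2
  exact h.2.ne ((conjBy_eq_self_iff.2 (hN.symm ▸ Subgroup.mem_top x)).symm.trans hx)

theorem normalizer_isCoatom (h : IsRankOneGroup X A B) :
    IsCoatom (Subgroup.normalizer (A : Set X)) := by
  refine ⟨normalizer_ne_top h, fun H hH => ?_⟩
  obtain ⟨g, hg, hgA⟩ := SetLike.exists_of_lt hH
  have hAH : A ≤ H := Subgroup.le_normalizer.trans hH.le
  have hgA' : conjBy A g ≠ A := fun he => hgA (conjBy_eq_self_iff.1 he)
  rw [eq_top_iff]
  rintro x -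
  by_cases hx : conjBy A x = A
  · exact hH.le (conjBy_eq_self_iff.1 hx)
  · obtain ⟨a, ⟨ha, he⟩, -⟩ := regular h.2 (conj_mem_unipotent h g) (conj_mem_unipotent h x) hgA' hx
    rw [conjBy_conjBy] at he
    have h1 : conjBy A (x⁻¹ * (a * g)) = A := by rw [← conjBy_conjBy, he, conjBy_conjBy, inv_mul_cancel, conjBy_one]
    have h2 : x = a * g * (x⁻¹ * (a * g))⁻¹ := by group
    rw [h2]
    exact mul_mem (mul_mem (hAH ha) hg) (inv_mem (hH.le (conjBy_eq_self_iff.1 h1)))

theorem not_isNilpotent (h : IsRankOneGroup X A B) : ¬ Group.IsNilpotent X := by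
  intro hX
  have hcoat := normalizer_isCoatom h
  have hn : (Subgroup.normalizer (A : Set X)).Normal :=
    Subgroup.NormalizerCondition.normal_of_coatom _ (Group.normalizerCondition_of_isNilpotent (h := hX)) hcoat
  obtain ⟨x, -, hx⟩ := exists_swap h.2
  have hB : B ≤ B ⊓ Subgroup.normalizer (A : Set X) := by
    refine le_inf le_rfl fun y hy => ?_
    rw [← hx, mem_conjBy] at hy
    have := hn.conj_mem _ (Subgroup.le_normalizer hy) x
    simpa [mul_assoc] using this
  rw [inf_normalizer_eq_bot (RankOnePair_symm h.2)] at hB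
  exact right_ne_bot h.2 (le_bot_iff.1 hB)

theorem surjective_of_sup_eq_top (N : Subgroup X) [N.Normal] (hA : N ⊔ A = ⊤) :
    Function.Surjective ((QuotientGroup.mk' N).comp A.subtype) := by
  rw [← MonoidHom.range_eq_top, MonoidHom.range_comp, Subgroup.range_subtype]
  have := Subgroup.map_sup N A (QuotientGroup.mk' N)
  rw [hA, Subgroup.map_top_of_surjective _ (QuotientGroup.mk'_surjective N),
    QuotientGroup.map_mk'_self, bot_sup_eq] at this
  exact this.symm

theorem upperCentralSeries_two (h : IsRankOneGroup X A B) :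
    Subgroup.upperCentralSeries X 2 = Subgroup.center X := by
  refine le_antisymm ?_ ((Subgroup.upperCentralSeries_one X).ge.trans
    (Subgroup.upperCentralSeries_mono X one_le_two))
  refine (normal_sup_or_central h _).resolve_left fun htop => ?_
  apply not_isNilpotent h
  refine Group.of_quotient_center_nilpotent (Group.of_quotient_center_nilpotent ?_)
  have hsur : Function.Surjective (((QuotientGroup.mk' (Subgroup.center (X ⧸ Subgroup.center X))).comp
      (QuotientGroup.mk' (Subgroup.center X))).comp A.subtype) := by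
    rw [← MonoidHom.range_eq_top, MonoidHom.range_comp, Subgroup.range_subtype]
    set f := (QuotientGroup.mk' (Subgroup.center (X ⧸ Subgroup.center X))).comp
      (QuotientGroup.mk' (Subgroup.center X)) with hf
    have hfs : Function.Surjective f :=
      (QuotientGroup.mk'_surjective _).comp (QuotientGroup.mk'_surjective _)
    have hk : (Subgroup.upperCentralSeries X 2).map f = ⊥ := by
      rw [Subgroup.map_eq_bot_iff, hf, ← MonoidHom.comap_ker, QuotientGroup.ker_mk',
        ← Subgroup.upperCentralSeries_one (X ⧸ Subgroup.center X), Subgroup.comap_upperCentralSeries_quotient_center]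
    have := Subgroup.map_sup (Subgroup.upperCentralSeries X 2) A f
    rw [htop, Subgroup.map_top_of_surjective _ hfs, hk, bot_sup_eq] at this
    exact this.symm
  have := h.2.nilpotent_left
  exact Group.nilpotent_of_surjective _ hsur

theorem nontrivial' (h : IsRankOneGroup X A B) : Nontrivial X := by
  obtain ⟨a, -, ha1⟩ := exists_ne_one_left h.2
  exact ⟨a, 1, ha1⟩

theorem isQuasisimple (h : IsRankOneGroup X A B) (hp : Group.IsPerfect X) :
    IsQuasisimple X := by
  refine ⟨hp, ?_⟩
  have : Nontrivial (X ⧸ Subgroup.center X) := by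
    rw [QuotientGroup.nontrivial_iff]
    intro hc
    apply not_isNilpotent h
    refine Group.of_quotient_center_nilpotent ?_
    have : Subsingleton (X ⧸ Subgroup.center X) := QuotientGroup.subsingleton_iff.2 hc
    infer_instance
  refine ⟨fun M hM => ?_⟩
  have hcomap : (M.comap (QuotientGroup.mk' (Subgroup.center X))).Normal := hM.comap _
  rcases normal_sup_or_central h (M.comap (QuotientGroup.mk' (Subgroup.center X))) with htop | hcen
  · right
    set N := M.comap (QuotientGroup.mk' (Subgroup.center X)) with hNdef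
    have := h.2.nilpotent_left
    have hnil : Group.IsNilpotent (X ⧸ N) :=
      Group.nilpotent_of_surjective _ (surjective_of_sup_eq_top N htop)
    have hNtop : N = ⊤ := by
      by_contra hne
      have : Nontrivial (X ⧸ N) := QuotientGroup.nontrivial_iff.2 hne
      exact Group.IsPerfect.not_isNilpotent (X ⧸ N) hnil
    rw [← Subgroup.map_comap_eq_self_of_surjective (QuotientGroup.mk'_surjective (Subgroup.center X)) M,
      ← hNdef, hNtop, Subgroup.map_top_of_surjective _ (QuotientGroup.mk'_surjective _)]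
  · left
    rw [← Subgroup.map_comap_eq_self_of_surjective (QuotientGroup.mk'_surjective (Subgroup.center X)) M,
      eq_bot_iff]
    exact (Subgroup.map_mono hcen).trans_eq (QuotientGroup.map_mk'_self _)

end Generated

end CfsgLib.RankOne
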