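import Cfsg.Prelude.Def_RootSubgroups
import Mathlib.GroupTheory.SpecificGroups.Alternating

set_option autoImplicit false

/-!
The involutions of `A₆`.
-/

namespace CfsgLib.RootInv.AltSix

open Equiv

/-- The reference involution. -/
def a₀ : Equiv.Perm (Fin 6) := swap 0 1 * swap 2 3

theorem facts : ∀ b : Equiv.Perm (Fin 6), b * b = 1 → Equiv.Perm.sign b = 1 →
    (a₀ * b) ^ 2 = 1 ∨ (a₀ * b) ^ 3 = 1 ∨ (a₀ * b) ^ 5 = 1 ∨
      ((a₀ * b) ^ 4 = 1 ∧ (a₀ * b) ^ 2 ≠ 1) := by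
  decide +kernel

theorem conj_facts : ∀ b : Equiv.Perm (Fin 6), b * b = 1 → Equiv.Perm.sign b = 1 → b ≠ 1 →
    ∃ g : Equiv.Perm (Fin 6), Equiv.Perm.sign g = 1 ∧ g * a₀ = b * g := by
  decide +kernel

theorem main :
    Cfsg.IsRootInvolutionClass {g : ↥(alternatingGroup (Fin 6)) | orderOf g = 2} ∧
    ∀ d ∈ {g : ↥(alternatingGroup (Fin 6)) | orderOf g = 2},
      ∀ e ∈ {g : ↥(alternatingGroup (Fin 6)) | orderOf g = 2}, orderOf (d * e) ≤ 5 := by
  have h2 : Fact (Nat.Prime 2) := ⟨Nat.prime_two⟩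
  set D := {g : ↥(alternatingGroup (Fin 6)) | orderOf g = 2} with hD
  let A : alternatingGroup (Fin 6) := ⟨a₀, by rw [Equiv.Perm.mem_alternatingGroup]; decide +kernel⟩
  have hA : A ∈ D := orderOf_eq_prime (Subtype.ext (by decide +kernel : a₀ ^ 2 = 1))
    (fun h => absurd (congrArg Subtype.val h) (by decide +kernel : a₀ ≠ 1))
  have hdata : ∀ d ∈ D, (d.1 * d.1 = 1) ∧ Equiv.Perm.sign d.1 = 1 ∧ d.1 ≠ 1 := by
    intro d hd
    have hd' : orderOf d = 2 := hd
    refine ⟨?_, Equiv.Perm.mem_alternatingGroup.1 d.2, ?_⟩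
    · have := pow_orderOf_eq_one d
      rw [hd', pow_two] at this
      exact congrArg Subtype.val this
    · intro h
      rw [show d = 1 from Subtype.ext h, orderOf_one] at hd'
      omega
  have hconjD : ∀ d ∈ D, ∀ g : ↥(alternatingGroup (Fin 6)), g * d * g⁻¹ ∈ D := by
    intro d hd g
    show orderOf (g * d * g⁻¹) = 2
    rw [← MulAut.conj_apply, MulEquiv.orderOf_eq]; exact hd
  have htoA : ∀ d ∈ D, ∃ g : ↥(alternatingGroup (Fin 6)), d = g * A * g⁻¹ := by
    intro d hd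
    obtain ⟨h1, h2, h3⟩ := hdata d hd
    obtain ⟨g, hg, he⟩ := conj_facts d.1 h1 h2 h3
    refine ⟨⟨g, Equiv.Perm.mem_alternatingGroup.2 hg⟩, Subtype.ext ?_⟩
    show d.1 = g * a₀ * g⁻¹
    rw [he, mul_inv_cancel_right]
  have hpair : ∀ b ∈ D, (A * b) ^ 2 = 1 ∨ (A * b) ^ 3 = 1 ∨ (A * b) ^ 5 = 1 ∨
      ((A * b) ^ 4 = 1 ∧ (A * b) ^ 2 ≠ 1) := by
    intro b hb
    obtain ⟨h1, h2, -⟩ := hdata b hb
    rcases facts b.1 h1 h2 with h | h | h | ⟨h, h'⟩
    · exact Or.inl (Subtype.ext h)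
    · exact Or.inr (Or.inl (Subtype.ext h))
    · exact Or.inr (Or.inr (Or.inl (Subtype.ext h)))
    · exact Or.inr (Or.inr (Or.inr ⟨Subtype.ext h, fun e => h' (congrArg Subtype.val e)⟩))
  have hgen : ∀ a ∈ D, ∀ b ∈ D, (a * b) ^ 2 = 1 ∨ (a * b) ^ 3 = 1 ∨ (a * b) ^ 5 = 1 ∨
      ((a * b) ^ 4 = 1 ∧ (a * b) ^ 2 ≠ 1) := by
    intro a ha b hb
    obtain ⟨g, rfl⟩ := htoA a ha
    have h := hpair (g⁻¹ * b * g) (by simpa using hconjD b hb g⁻¹)
    have e : ∀ k : ℕ, (g * A * g⁻¹ * b) ^ k = g * (A * (g⁻¹ * b * g)) ^ k * g⁻¹ := fun k => by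
      rw [← conj_pow]; congr 1; group
    simp only [e]
    rcases h with h | h | h | ⟨h, h'⟩
    · exact Or.inl (by rw [h]; group)
    · exact Or.inr (Or.inl (by rw [h]; group))
    · exact Or.inr (Or.inr (Or.inl (by rw [h]; group)))
    · refine Or.inr (Or.inr (Or.inr ⟨by rw [h]; group, fun e' => h' ?_⟩))
      have := congrArg (fun t => g⁻¹ * t * g) e'
      simpa [mul_assoc] using this
  have hord : ∀ a ∈ D, ∀ b ∈ D, (a * b = b * a ∧ orderOf (a * b) ≤ 2) ∨
      (Odd (orderOf (a * b)) ∧ orderOf (a * b) ≤ 5) ∨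
      (orderOf (a * b) = 4 ∧ (a * b) ^ 2 ∈ D) := by
    intro a ha b hb
    have inv : ∀ d ∈ D, d⁻¹ = d := fun d hd =>
      inv_eq_of_mul_eq_one_right (Subtype.ext (hdata d hd).1)
    rcases hgen a ha b hb with h | h | h | ⟨h, h'⟩
    · refine Or.inl ⟨?_, Nat.le_of_dvd (by norm_num) (orderOf_dvd_of_pow_eq_one h)⟩
      rw [pow_two, mul_eq_one_iff_eq_inv, mul_inv_rev, inv a ha, inv b hb] at h
      exact h
    · have := orderOf_dvd_of_pow_eq_one h
      exact Or.inr (Or.inl ⟨(by decide : Odd 3).of_dvd_nat this, le_trans (Nat.le_of_dvd (by norm_num) this) (by norm_num)⟩)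
    · have := orderOf_dvd_of_pow_eq_one h
      exact Or.inr (Or.inl ⟨(by decide : Odd 5).of_dvd_nat this, Nat.le_of_dvd (by norm_num) this⟩)
    · right; right
      have h4 : orderOf (a * b) = 4 :=
        orderOf_eq_prime_pow (p := 2) (n := 1) (by rwa [pow_one]) (by simpa using h)
      refine ⟨h4, orderOf_eq_prime ?_ h'⟩
      rw [← pow_mul]; exact h
  refine ⟨⟨⟨fun d hd => hd, ?_, hconjD, ?_⟩, ⟨A, hA⟩, ?_⟩, ?_⟩
  · have : IsSimpleGroup (alternatingGroup (Fin 6)) := alternatingGroup.isSimpleGroup (by simp)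
    have hn : (Subgroup.closure D).Normal := ⟨fun x hx g => by
      induction hx using Subgroup.closure_induction with
      | mem v hv => exact Subgroup.subset_closure (hconjD v hv g)
      | one => rw [mul_one, mul_inv_cancel]; exact one_mem _
      | mul v w _ _ ihv ihw => rw [← conj_mul]; exact mul_mem ihv ihw
      | inv v _ ihv => rw [← conj_inv]; exact inv_mem ihv⟩
    rcases hn.eq_bot_or_eq_top with h | h
    · exfalso
      have := (Subgroup.closure_eq_bot_iff).1 h hA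
      exact (hdata A hA).2.2 (congrArg Subtype.val (Set.mem_singleton_iff.1 this))
    · exact h
  · intro a ha b hb
    rcases hord a ha b hb with h | h | h
    · exact Or.inl h.1
    · exact Or.inr (Or.inl h.1)
    · exact Or.inr (Or.inr h)
  · intro a ha b hb
    obtain ⟨g, rfl⟩ := htoA a ha
    obtain ⟨h, rfl⟩ := htoA b hb
    exact ⟨h * g⁻¹, by group⟩
  · intro a ha b hb
    rcases hord a ha b hb with h | h | h
    · omega
    · exact h.2
    · omega

end CfsgLib.RootInv.AltSix
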