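import Cfsg.Agent.RootSubgroups.ClassPairs

set_option autoImplicit false

/-!
A rank one pair `A`, `B` with a member commuting with `A` and opposite to `B` is special.
-/

namespace CfsgLib.RootSubgroups

open Cfsg CfsgLib.RankOne commutatorElement

variable {G : Type*} [Group G] {S : Set (Subgroup G)} {A B C D P Q : Subgroup G}

theorem comm_conj (h : ⁅P, Q⁆ = ⊥) (g : G) : ⁅conjBy P g, conjBy Q g⁆ = ⊥ :=
  (Subgroup.map_commutator _ _ _).symm.trans ((congrArg (fun R => conjBy R g) h).trans (conjBy_bot g))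

theorem exists_right_partner (h : IsRankOnePair A B) {b : G} (hb : b ∈ B) (hb1 : b ≠ 1) :
    ∃ a ∈ A, a ≠ 1 ∧ conjBy A b = conjBy B a := by
  obtain ⟨a, ha, ha1, e⟩ := h.cond_right b⁻¹ (inv_mem hb) (inv_ne_one.2 hb1)
  rw [inv_inv] at e
  exact ⟨a⁻¹, inv_mem ha, inv_ne_one.2 ha1, e.symm⟩

theorem witness_core (hS : IsRootSubgroupSet S) (hA : A ∈ S) (hB : B ∈ S) (hC : C ∈ S)
    (hAB : IsRankOnePair A B) (hCB : IsRankOnePair C B) (hAC : ⁅A, C⁆ = ⊥) (hne : A ≠ C) {a b b' : G}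
    (ha : a ∈ A) (ha1 : a ≠ 1) (hb : b ∈ B) (hb1 : b ≠ 1) (hb' : b' ∈ B) (hb'1 : b' ≠ 1)
    (e : conjBy A b = conjBy B a) (e' : conjBy A b' = conjBy B a⁻¹) : a⁻¹ * b * a = b' * a⁻¹ * b'⁻¹ := by
  obtain ⟨c, hc, hc1, ec⟩ := exists_right_partner hCB hb hb1
  obtain ⟨c', hc', hc'1, ec'⟩ := exists_right_partner hCB hb' hb'1
  have hac : ∀ {x y : G}, x ∈ A → y ∈ C → x * y = y * x := fun hx hy => commute_of_commutator_eq_bot hAC hx hy
  -- the conjugate `N` of `B` by `c⁻¹ a`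
  have hBN : ⁅conjBy B (c⁻¹ * a), B⁆ = ⊥ := by
    have h := comm_conj (comm_conj hAC b) c⁻¹
    rwa [e, ec, conjBy_conjBy, conjBy_conjBy, inv_mul_cancel, conjBy_one] at h
  have hBM : ⁅B, conjBy B (a * c')⁆ = ⊥ := by
    have h := comm_conj (comm_conj hAC b') (a)
    rwa [e', ec', conjBy_conjBy, conjBy_conjBy, mul_inv_cancel, conjBy_one] at h
  have hCN : IsRankOnePair C (conjBy B (c⁻¹ * a)) := by
    have h := isRankOnePair_conj hCB (c⁻¹ * a)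
    have hCq : conjBy C (c⁻¹ * a) = C := by
      rw [← conjBy_conjBy, conjBy_eq_of_commute (Subgroup.commutator_comm C A ▸ hAC) ha,
        conjBy_of_mem (inv_mem hc)]
    rwa [hCq] at h
  have hc'c : c' = c⁻¹ := by
    by_contra hcc
    have hc0 : c' * c ≠ 1 := fun h => hcc (eq_inv_of_mul_eq_one_left h)
    have hN' : conjBy (conjBy B (c⁻¹ * a)) (c' * c) = conjBy B (a * c') := by
      rw [conjBy_conjBy, hac ha hc']; congr 1; group
    have hne' : conjBy (conjBy B (c⁻¹ * a)) (c' * c) ≠ conjBy B (c⁻¹ * a) := fun h =>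
      hc0 (eq_one_of_mem_of_fix hCN (mul_mem hc' hc) h)
    have hgen := unipotent_sup_eq hCN (conjBy_mem_unipotent (right_mem_unipotent hCN)
      (Subgroup.mem_sup_left (mul_mem hc' hc))) (right_mem_unipotent hCN) hne'
    rw [hN'] at hgen
    refine eq_bot_of_commutator_of_rankOne hCB ?_
    rw [Subgroup.commutator_eq_bot_iff_le_centralizer] at hBN ⊢
    rw [Subgroup.commutator_comm, Subgroup.commutator_eq_bot_iff_le_centralizer] at hBM
    exact (hgen ▸ le_sup_left : C ≤ conjBy B (a * c') ⊔ conjBy B (c⁻¹ * a)).trans (sup_le hBM hBN)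
  subst hc'c
  have hq : ∀ {x : G}, x ∈ A → Commute (c⁻¹ * a) x := fun {x} hx =>
    ((show Commute c⁻¹ x from (hac hx (inv_mem hc)).symm).mul_left
      (show Commute a x from abelian_comm hS hA ha hx))
  -- products centralising `B`
  obtain ⟨x, hx, ex⟩ : ∃ x ∈ A, a⁻¹ * b * a = b' * x * b'⁻¹ := by
    have h := conj_mem_conjBy (g := a⁻¹) hb
    rw [inv_inv, ← e', mem_conjBy] at h
    exact ⟨_, h, by group⟩
  obtain ⟨y, hy, ey⟩ : ∃ y ∈ C, c⁻¹ * b * c = b' * y * b'⁻¹ := by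
    have h := conj_mem_conjBy (g := c⁻¹) hb
    rw [inv_inv, ← ec', mem_conjBy] at h
    exact ⟨_, h, by group⟩
  obtain ⟨q, hqd⟩ : ∃ q, q = c⁻¹ * a := ⟨_, rfl⟩
  have hZ : ∀ z ∈ B, Commute (b' * (x * y⁻¹) * b'⁻¹ * q) z := by
    intro z hz
    have h2 : a * z * a⁻¹ ∈ conjBy A b := e ▸ conj_mem_conjBy hz
    rw [mem_conjBy] at h2
    have h3 := (hq h2).map (MulAut.conj (a⁻¹ * b)).toMonoidHom
    simp only [MulEquiv.coe_toMonoidHom, MulAut.conj_apply] at h3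
    have e1 : a⁻¹ * b * (b⁻¹ * (a * z * a⁻¹) * b) * (a⁻¹ * b)⁻¹ = z := by group
    rw [e1, ← hqd] at h3
    have e2 : a⁻¹ * b * q * (a⁻¹ * b)⁻¹ = b' * (x * y⁻¹) * b'⁻¹ * q := by
      have hqa : Commute q a := hqd ▸ hq ha
      have hqa' : a⁻¹ * q = q * a⁻¹ := (hqa.inv_right).eq.symm
      have hn : a⁻¹ * (q * b * q⁻¹) * a = c⁻¹ * b * c := by
        rw [hqd, show a⁻¹ * (c⁻¹ * a * b * (c⁻¹ * a)⁻¹) * a = (a⁻¹ * c⁻¹ * a) * b * (a⁻¹ * c * a) by group,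
          mul_assoc a⁻¹ c⁻¹ a, ← hac ha (inv_mem hc), inv_mul_cancel_left, mul_assoc a⁻¹ c a, ← hac ha hc,
          inv_mul_cancel_left]
      calc a⁻¹ * b * q * (a⁻¹ * b)⁻¹
          = (a⁻¹ * b * a) * (a⁻¹ * (q * b * q⁻¹) * a)⁻¹ * (a⁻¹ * q) * a := by group
        _ = (b' * x * b'⁻¹) * (b' * y * b'⁻¹)⁻¹ * q := by rw [ex, hn, ey, hqa']; group
        _ = _ := by group
    rwa [e2] at h3
  have hE : ∀ z ∈ B, Commute ((q⁻¹ * b'⁻¹ * q) * b') z := by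
    intro z hz
    have hM : ⁅conjBy B q⁻¹, B⁆ = ⊥ := by
      have h := comm_conj hBN q⁻¹
      rw [hqd, conjBy_conjBy, inv_mul_cancel, conjBy_one] at h
      rw [Subgroup.commutator_comm, hqd]
      exact h
    have hm : q⁻¹ * b'⁻¹ * q ∈ conjBy B q⁻¹ := by
      have := conj_mem_conjBy (g := q⁻¹) (inv_mem hb'); rwa [inv_inv] at this
    exact (show Commute (q⁻¹ * b'⁻¹ * q) z from commute_of_commutator_eq_bot hM hm hz).mul_left
      (abelian_comm hS hB hb' hz)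
  have hp : ∀ z ∈ B, Commute (x * y⁻¹ * q) z := by
    intro z hz
    have h1 : b'⁻¹ * (b' * (x * y⁻¹) * b'⁻¹ * q) * b' = b' * (x * y⁻¹) * b'⁻¹ * q := by
      rw [mul_assoc, (hZ b' hb').eq, inv_mul_cancel_left]
    have h2 : b' * (x * y⁻¹) * b'⁻¹ * q = (x * y⁻¹ * q) * ((q⁻¹ * b'⁻¹ * q) * b') := by
      rw [← h1]; group
    have h3 := (hZ z hz).mul_left (hE z hz).inv_left
    rwa [h2, mul_inv_cancel_right] at h3
  have hzX : ∀ w ∈ A ⊔ B, (x * y⁻¹ * q) * w = w * (x * y⁻¹ * q) := by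
    intro w hw
    have hle : A ⊔ B ≤ Subgroup.centralizer {x * y⁻¹ * q} := sup_le
      (fun z hz => Subgroup.mem_centralizer_singleton_iff.2
        ((((show Commute x z from abelian_comm hS hA hx hz).mul_left
          (show Commute y⁻¹ z from (hac hz (inv_mem hy)).symm)).mul_left (hqd ▸ hq hz)).eq).symm)
      (fun z hz => Subgroup.mem_centralizer_singleton_iff.2 (hp z hz).eq.symm)
    exact (Subgroup.mem_centralizer_singleton_iff.1 (hle hw)).symm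
  have hsplit : x * y⁻¹ * q = (x * a) * (c * y)⁻¹ := by
    rw [hqd, show x * y⁻¹ * (c⁻¹ * a) = x * ((c * y)⁻¹ * a) by group, ← hac ha (inv_mem (mul_mem hc hy)), mul_assoc]
  have hxa : x = a⁻¹ := by
    by_contra hxa
    have hxa1 : x * a ≠ 1 := fun h => hxa (eq_inv_of_mul_eq_one_left h)
    by_cases hcy : c * y = 1
    · obtain ⟨z, hz, hz1⟩ := exists_ne_one_left (RankOnePair_symm hAB)
      refine hz1 (eq_one_of_commute hAB (mul_mem hx ha) hxa1 hz ?_)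
      have := hp z hz
      rw [hsplit, hcy, inv_one, mul_one] at this
      exact this.eq
    · have hm : (x * y⁻¹ * q)⁻¹ * (x * a) = c * y := by rw [hsplit]; group
      refine hne (eq_of_translate hS hA hB hAB (z := (x * y⁻¹ * q)⁻¹) (fun w hw => ?_) (mul_mem hx ha) hxa1 hC
        (hm.symm ▸ mul_mem hc hy) (hm.symm ▸ hcy)).symm
      exact ((show Commute (x * y⁻¹ * q) w from hzX w hw).inv_left).eq
  rw [ex, hxa]

/-- A rank one pair with a witness is special. -/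
theorem special_of_witness (hS : IsRootSubgroupSet S) (hA : A ∈ S) (hB : B ∈ S) (hC : C ∈ S)
    (hAB : IsRankOnePair A B) (hCB : IsRankOnePair C B) (hAC : ⁅A, C⁆ = ⊥) (hne : A ≠ C) :
    IsSpecialRankOnePair A B := by
  refine ⟨hAB, fun a ha ha1 b hb hb1 he => ?_⟩
  obtain ⟨b', hb', hb'1, he'⟩ := hAB.cond_left a⁻¹ (inv_mem ha) (inv_ne_one.2 ha1)
  rw [inv_inv] at he'
  have h1 := witness_core hS hA hB hC hAB hCB hAC hne (inv_mem ha) (inv_ne_one.2 ha1) (inv_mem hb)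
    (inv_ne_one.2 hb1) (inv_mem hb') (inv_ne_one.2 hb'1) he (by rwa [inv_inv])
  have h2 := witness_core hS hA hB hC hAB hCB hAC hne ha ha1 (inv_mem hb') (inv_ne_one.2 hb'1) (inv_mem hb)
    (inv_ne_one.2 hb1) he' he
  simp only [inv_inv] at h1 h2
  have hb'eq : b'⁻¹ = a * (b⁻¹ * a⁻¹ * b) * a⁻¹ := by rw [← h2]; group
  have h3 : a * b⁻¹ * a⁻¹ * b'⁻¹ = b'⁻¹ * a := by rw [h1]; group
  rw [hb'eq] at h3
  -- `h3` says `a b⁻² a⁻¹ b a⁻¹ = a b⁻¹ a⁻¹ b`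
  have h4 : b⁻¹ * b⁻¹ * a⁻¹ * b * a⁻¹ = b⁻¹ * a⁻¹ * b := by
    calc b⁻¹ * b⁻¹ * a⁻¹ * b * a⁻¹ = a⁻¹ * (a * b⁻¹ * a⁻¹ * (a * (b⁻¹ * a⁻¹ * b) * a⁻¹)) := by group
      _ = b⁻¹ * a⁻¹ * b := by rw [h3]; group
  have h5 : b⁻¹ * a⁻¹ * b * a⁻¹ = a⁻¹ * b := by
    calc b⁻¹ * a⁻¹ * b * a⁻¹ = b * (b⁻¹ * b⁻¹ * a⁻¹ * b * a⁻¹) := by group
      _ = a⁻¹ * b := by rw [h4]; group
  calc b⁻¹ * a * b = a⁻¹ * (b⁻¹ * a⁻¹ * b * a⁻¹)⁻¹ := by group
    _ = a⁻¹ * b⁻¹ * a := by rw [h5]; group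

end CfsgLib.RootSubgroups
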