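import Cfsg.Agent.RootSubgroups.Braid
import Cfsg.Agent.RootSubgroups.WitnessSpecial

set_option autoImplicit false

/-!
A degenerate set of root subgroups: a rank one pair `A`, `B` such that every member commuting with `A` also commutes
with `B`. Mates (elements braided with the same element of a common partner `P`) are permuted by the rank one group.
-/

namespace CfsgLib.RootSubgroups

open Cfsg CfsgLib.RankOne commutatorElement

variable {G : Type*} [Group G] {S : Set (Subgroup G)} {A B C D P Q U V : Subgroup G}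

theorem commute_or_rankOne (hS : IsRootSubgroupSet S) (hdeg : IsDegenerateRootSet S) (hA : A ∈ S) (hB : B ∈ S) :
    ⁅A, B⁆ = ⊥ ∨ IsRankOnePair A B :=
  (hS.pair A hA B hB).imp_right fun h => h.resolve_right (hdeg A hA B hB)

theorem commute_of_generators (h1 : ⁅D, U⁆ = ⊥) (h2 : ⁅D, V⁆ = ⊥) (hQ : Q ≤ U ⊔ V) : ⁅D, Q⁆ = ⊥ := by
  rw [Subgroup.commutator_comm, Subgroup.commutator_eq_bot_iff_le_centralizer] at h1 h2 ⊢
  exact hQ.trans (sup_le h1 h2)

theorem conjBy_fix_of_commute (h : ⁅U, D⁆ = ⊥) {g : G} (hg : g ∈ D) : conjBy U g = U :=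
  conjBy_eq_of_commute h hg

/-- Members of a degenerate class that commute have a common partner. -/
theorem exists_common_partner (hS : IsRootSubgroupClass S) (hdeg : IsDegenerateRootSet S) (hA : A ∈ S) (hC : C ∈ S)
    (hAC : ⁅A, C⁆ = ⊥) (hCP : ∃ P ∈ S, IsRankOnePair C P) :
    ∃ P ∈ S, IsRankOnePair A P ∧ IsRankOnePair C P := by
  by_contra hno
  push Not at hno
  let Y : Set (Subgroup G) :=
    {X | X ∈ S ∧ ⁅X, C⁆ = ⊥ ∧ ∀ P ∈ S, IsRankOnePair X P → IsRankOnePair C P → False}
  have hstep : ∀ X ∈ Y, ∀ M ∈ S, IsRankOnePair X M → M ∈ Y := by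
    rintro X ⟨hX, hXC, hX'⟩ M hM hXM
    have hMC : ⁅M, C⁆ = ⊥ := (commute_or_rankOne hS.1 hdeg hM hC).resolve_right fun h =>
      hX' M hM hXM (RankOnePair_symm h)
    refine ⟨hM, hMC, fun Q hQ hMQ hCQ => ?_⟩
    have hXQ : ⁅X, Q⁆ = ⊥ := (commute_or_rankOne hS.1 hdeg hX hQ).resolve_right fun h => hX' Q hQ h hCQ
    obtain ⟨q, hq, hq1⟩ := exists_ne_one_left (RankOnePair_symm hCQ)
    have hXM' : IsRankOnePair X (conjBy M q) := by
      have := isRankOnePair_conj hXM q
      rwa [conjBy_fix_of_commute hXQ hq] at this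
    rcases commute_or_rankOne hS.1 hdeg (hS.1.conj_mem M hM q) hC with h | h
    · refine eq_bot_of_commutator_of_rankOne hMQ ?_
      have hMC' : ⁅M, conjBy C q⁻¹⁆ = ⊥ := by
        have := comm_conj h q⁻¹
        rwa [conjBy_conjBy, inv_mul_cancel, conjBy_one] at this
      refine commute_of_generators hMC hMC' ?_
      rw [unipotent_sup_eq hCQ (left_mem_unipotent C Q)
        (conjBy_mem_unipotent (left_mem_unipotent C Q) (Subgroup.mem_sup_right (inv_mem hq)))
        (fun e => hq1 (inv_eq_one.1 (eq_one_of_mem_of_fix (RankOnePair_symm hCQ) (inv_mem hq) e.symm)))]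
      exact le_sup_right
    · exact hX' _ (hS.1.conj_mem M hM q) hXM' (RankOnePair_symm h)
  have hinv : ∀ g : G, (∀ X ∈ Y, conjBy X g ∈ Y) ∧ (∀ X ∈ Y, conjBy X g⁻¹ ∈ Y) := by
    intro g
    have hgen : g ∈ (⨆ R ∈ S, R) := hS.1.generates ▸ Subgroup.mem_top g
    rw [iSup_subtype'] at hgen
    induction hgen using Subgroup.iSup_induction' with
    | hp i x hx =>
      have key : ∀ y ∈ (i : Subgroup G), ∀ X ∈ Y, conjBy X y ∈ Y := by
        intro y hy X hX
        rcases commute_or_rankOne hS.1 hdeg hX.1 i.2 with h | h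
        · rwa [conjBy_fix_of_commute h hy]
        · by_cases hy1 : y = 1
          · rwa [hy1, conjBy_one]
          · exact hstep X hX _ (hS.1.conj_mem X hX.1 y) (conjBy_ne_of_rankOne h hy hy1)
      exact ⟨key x hx, key x⁻¹ (inv_mem hx)⟩
    | h1 => exact ⟨fun X hX => by rwa [conjBy_one], fun X hX => by rwa [inv_one, conjBy_one]⟩
    | hmul x y _ _ ihx ihy =>
      refine ⟨fun X hX => ?_, fun X hX => ?_⟩
      · rw [← conjBy_conjBy]; exact ihx.1 _ (ihy.1 X hX)
      · rw [mul_inv_rev, ← conjBy_conjBy]; exact ihy.2 _ (ihx.2 X hX)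
  obtain ⟨g, hg⟩ := hS.2.2 A hA C hC
  have hCY : C ∈ Y := hg ▸ (hinv g).1 A ⟨hA, hAC, hno⟩
  obtain ⟨P, hP, hCP⟩ := hCP
  exact hCY.2.2 P hP hCP hCP

theorem special_symm (h : IsSpecialRankOnePair A B) : IsSpecialRankOnePair B A := by
  refine ⟨RankOnePair_symm h.1, fun b hb hb1 a ha ha1 e => ?_⟩
  have := congrArg (fun g : G => g⁻¹) (h.2 a ha ha1 b hb hb1 e.symm)
  simpa [mul_assoc] using this.symm

theorem mem_partners_conj (hS : IsRootSubgroupSet S) (h : D ∈ commutingPartners S U) (g : G) :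
    conjBy D g ∈ commutingPartners S (conjBy U g) :=
  ⟨hS.conj_mem D h.1 g, fun e => h.2.1 (conjBy_injective g e), comm_conj h.2.2 g⟩

theorem mem_partners_symm (h : D ∈ commutingPartners S U) (hU : U ∈ S) : U ∈ commutingPartners S D :=
  ⟨hU, h.2.1.symm, Subgroup.commutator_comm U D ▸ h.2.2⟩

theorem partners_conj (hS : IsRootSubgroupSet S) (h : commutingPartners S U = commutingPartners S V) (g : G) :
    commutingPartners S (conjBy U g) = commutingPartners S (conjBy V g) := by
  have key : ∀ {U V : Subgroup G}, commutingPartners S U = commutingPartners S V →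
      commutingPartners S (conjBy U g) ⊆ commutingPartners S (conjBy V g) := by
    intro U V h D hD
    have h1 := mem_partners_conj hS hD g⁻¹
    rw [conjBy_conjBy U, inv_mul_cancel, conjBy_one, h] at h1
    have h2 := mem_partners_conj hS h1 g
    rwa [conjBy_conjBy D, mul_inv_cancel, conjBy_one] at h2
  exact Set.Subset.antisymm (key h) (key h.symm)

/-- `A`, `B` opposite, `C` commuting with `A`, `P` opposite to `A` and `C`, and `Σ_A` commutes with `B`. -/
structure BadPair (S : Set (Subgroup G)) (A B C P : Subgroup G) : Prop where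
  root : IsRootSubgroupSet S
  degenerate : IsDegenerateRootSet S
  memA : A ∈ S
  memB : B ∈ S
  memC : C ∈ S
  memP : P ∈ S
  rankOne : IsRankOnePair A B
  oppA : IsRankOnePair A P
  oppC : IsRankOnePair C P
  commA : ⁅A, C⁆ = ⊥
  neC : A ≠ C
  bad : ∀ D ∈ S, D ≠ A → ⁅D, A⁆ = ⊥ → ⁅D, B⁆ = ⊥

namespace BadPair

variable (H : BadPair S A B C P) {a b c u v w x : G}

include H

theorem mem (hU : U ∈ unipotentSubgroups A B) : U ∈ S := by
  obtain ⟨x, -, rfl⟩ := hU
  exact H.root.conj_mem A H.memA x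

theorem partners_eq (hU : U ∈ unipotentSubgroups A B) : commutingPartners S U = commutingPartners S A := by
  have cent : ∀ {D : Subgroup G}, D ∈ commutingPartners S A → ∀ {Q : Subgroup G}, Q ≤ A ⊔ B → ⁅D, Q⁆ = ⊥ :=
    fun {D} hD _ hQ => by
      have h : ⁅D, A⁆ = ⊥ := (Subgroup.commutator_comm D A).trans hD.2.2
      exact commute_of_generators h (H.bad D hD.1 hD.2.1 h) hQ
  obtain ⟨x, hx, rfl⟩ := hU
  refine Set.Subset.antisymm (fun D hD => ?_) (fun D hD => ?_)
  · have h1 := mem_partners_conj H.root hD x⁻¹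
    rw [conjBy_conjBy A, inv_mul_cancel, conjBy_one] at h1
    have h2 : conjBy (conjBy D x⁻¹) x = conjBy D x⁻¹ := conjBy_fix_of_commute (cent h1 le_rfl) hx
    rw [conjBy_conjBy, mul_inv_cancel, conjBy_one] at h2
    rwa [← h2] at h1
  · refine ⟨hD.1, fun e => ?_, (Subgroup.commutator_comm _ D).trans (cent hD ?_)⟩
    · subst e
      exact eq_bot_of_commutator_of_rankOne
        (isRankOnePair_of_unipotent H.rankOne (left_mem_unipotent A B) ⟨x, hx, rfl⟩ hD.2.1.symm) hD.2.2
    · rintro _ ⟨a, ha, rfl⟩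
      exact mul_mem (mul_mem hx (Subgroup.mem_sup_left ha)) (inv_mem hx)

theorem c_mem (hU : U ∈ unipotentSubgroups A B) : C ∈ commutingPartners S U :=
  H.partners_eq hU ▸ ⟨H.memC, H.neC.symm, H.commA⟩

theorem opp (hU : U ∈ unipotentSubgroups A B) : IsRankOnePair U P := by
  refine (commute_or_rankOne H.root H.degenerate (H.mem hU) H.memP).resolve_left fun h => ?_
  by_cases e : P = U
  · exact eq_bot_of_commutator_of_rankOne H.oppC ((Subgroup.commutator_comm C P).trans (e ▸ (H.c_mem hU).2.2))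
  · have hP : P ∈ commutingPartners S U := ⟨H.memP, e, h⟩
    rw [H.partners_eq hU] at hP
    exact eq_bot_of_commutator_of_rankOne H.oppA hP.2.2

theorem special (hU : U ∈ unipotentSubgroups A B) : IsSpecialRankOnePair U P :=
  special_of_witness H.root (H.mem hU) H.memP H.memC (H.opp hU) H.oppC
    (H.c_mem hU).2.2 (H.c_mem hU).2.1.symm

theorem special_c : IsSpecialRankOnePair C P :=
  special_of_witness H.root H.memC H.memP H.memA H.oppC H.oppA (Subgroup.commutator_comm C A ▸ H.commA) H.neC.symm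

theorem exists_mate (hU : U ∈ unipotentSubgroups A B) (hb : b ∈ P) (hb1 : b ≠ 1) : ∃ u, Braid U P u b := by
  obtain ⟨u, hu⟩ := exists_braid (special_symm (H.special hU)) hb hb1
  exact ⟨u, hu.symm⟩

theorem exists_mate_c (hb : b ∈ P) (hb1 : b ≠ 1) : ∃ c, Braid C P c b := by
  obtain ⟨u, hu⟩ := exists_braid (special_symm H.special_c) hb hb1
  exact ⟨u, hu.symm⟩

theorem c_commute (hc : c ∈ C) (hx : x ∈ A ⊔ B) : c * x = x * c :=
  commute_of_commutator_eq_bot (commute_of_generators ((Subgroup.commutator_comm C A).trans H.commA)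
    ((Subgroup.commutator_comm C B).trans (H.c_mem (right_mem_unipotent H.rankOne)).2.2) le_rfl) hc hx

omit H in
theorem unipotent_le (hU : U ∈ unipotentSubgroups A B) : U ≤ A ⊔ B := by
  obtain ⟨x, hx, rfl⟩ := hU
  rintro _ ⟨a, ha, rfl⟩
  exact mul_mem (mul_mem hx (Subgroup.mem_sup_left ha)) (inv_mem hx)

theorem braid_partners (hU : U ∈ unipotentSubgroups A B) (hV : V ∈ unipotentSubgroups A B)
    (hu : Braid U P u b) (hv : Braid V P v b) :
    commutingPartners S (conjBy P u) = commutingPartners S (conjBy P v) := by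
  have h := partners_conj H.root ((H.partners_eq hU).trans (H.partners_eq hV).symm) b⁻¹
  rwa [hu.inv.conjBy_left (H.opp hU), hv.inv.conjBy_left (H.opp hV), inv_inv, inv_inv] at h

theorem c_partner (hU : U ∈ unipotentSubgroups A B) (hc : Braid C P c b) (hu : Braid U P u b) :
    conjBy P c ∈ commutingPartners S (conjBy P u) := by
  have h := mem_partners_conj H.root (H.c_mem hU) b⁻¹
  rwa [hc.inv.conjBy_left H.oppC, hu.inv.conjBy_left (H.opp hU), inv_inv, inv_inv] at h

theorem c_u_partner (hU : U ∈ unipotentSubgroups A B) (hc : Braid C P c b) (hu : Braid U P u b) :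
    conjBy P (c⁻¹ * u) ∈ commutingPartners S P := by
  have h := mem_partners_conj H.root
    (mem_partners_symm (H.c_partner hU hc hu) (H.root.conj_mem P H.memP u)) c⁻¹
  rwa [conjBy_conjBy, conjBy_conjBy, inv_mul_cancel, conjBy_one] at h

theorem mate_conj_aux (hU : U ∈ unipotentSubgroups A B) (hV : V ∈ unipotentSubgroups A B) (hu : Braid U P u b)
    (hv : v ∈ V) : Braid (conjBy U v⁻¹) P (v⁻¹ * u * v) b := by
  by_cases hv1 : v = 1
  · simpa [hv1, conjBy_one] using hu
  obtain ⟨b', hb'⟩ := exists_braid (H.special hV) hv hv1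
  obtain ⟨c, hc⟩ := H.exists_mate_c hb'.memB hb'.neB
  obtain ⟨β, hβ⟩ := H.exists_mate hV hu.memB hu.neB
  have hvX : v ∈ A ⊔ B := unipotent_le hV hv
  have hU' := conjBy_mem_unipotent hU (inv_mem hvX)
  have hx : v⁻¹ * u * v ∈ conjBy U v⁻¹ := by
    have := conj_mem_conjBy (g := v⁻¹) hu.memA; rwa [inv_inv] at this
  have hx1 : v⁻¹ * u * v ≠ 1 := fun e => hu.neA (by
    calc u = v * (v⁻¹ * u * v) * v⁻¹ := by group
      _ = 1 := by rw [e]; group)
  obtain ⟨b'', hb''⟩ := exists_braid (H.special hU') hx hx1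
  obtain ⟨β'', hβ''⟩ := H.exists_mate hV hb''.memB hb''.neB
  obtain ⟨g, hg⟩ : ∃ g, g = β⁻¹ * v * (v⁻¹ * u * v) := ⟨_, rfl⟩
  have hg' : g = β⁻¹ * (u * v) := by rw [hg]; group
  -- `P ^ g` and `P ^ c` commute
  have h1 : ⁅conjBy P c, conjBy P g⁆ = ⊥ := by
    have h := mem_partners_conj H.root (H.c_u_partner hV hc hb') u
    rw [conjBy_conjBy, H.braid_partners hU hV hu hβ] at h
    have h2 := comm_conj h.2.2 (c * β⁻¹)
    rw [conjBy_conjBy, conjBy_conjBy, mul_assoc c β⁻¹ β, inv_mul_cancel, mul_one] at h2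
    convert h2 using 3
    have hcX : ∀ {y : G}, y ∈ A ⊔ B → c * y = y * c := fun hy => H.c_commute hc.memA hy
    have hm : β⁻¹ * u ∈ A ⊔ B :=
      mul_mem (inv_mem (unipotent_le hV hβ.memA)) (unipotent_le hU hu.memA)
    calc g = (β⁻¹ * u) * v := by rw [hg', mul_assoc]
      _ = c * c⁻¹ * ((β⁻¹ * u) * v) := by rw [mul_inv_cancel, one_mul]
      _ = c * ((β⁻¹ * u) * c⁻¹ * v) := by
        rw [mul_assoc c, ← mul_assoc c⁻¹, H.c_commute (inv_mem hc.memA) hm, mul_assoc]
      _ = _ := by group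
  have hβ3 : β⁻¹ * v * β'' ∈ V := mul_mem (mul_mem (inv_mem hβ.memA) hv) hβ''.memA
  have h2 : commutingPartners S (conjBy P g) = commutingPartners S (conjBy P (β⁻¹ * v * β'')) := by
    have h := partners_conj H.root (H.braid_partners hU' hV hb'' hβ'') (β⁻¹ * v)
    rwa [conjBy_conjBy, conjBy_conjBy, ← hg] at h
  have hVP := H.opp hV
  have hunip : ∀ {y : G}, y ∈ V → conjBy P y ∈ unipotentSubgroups V P := fun hy =>
    conjBy_mem_unipotent (right_mem_unipotent hVP) (Subgroup.mem_sup_left hy)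
  have h3 : conjBy P v ∈ commutingPartners S (conjBy P c) :=
    mem_partners_symm (H.c_partner hV hc hb') (H.root.conj_mem P H.memP v)
  have hβ3eq : β⁻¹ * v * β'' = v := by
    by_contra hne
    have hne' : conjBy P (β⁻¹ * v * β'') ≠ conjBy P v := fun e => hne (eq_of_conjBy_right_eq hVP hβ3 hv e)
    by_cases e : conjBy P c = conjBy P g
    · rw [e, h2] at h3
      exact eq_bot_of_commutator_of_rankOne (isRankOnePair_of_unipotent hVP (hunip hβ3) (hunip hv) hne') h3.2.2
    · have h4 : conjBy P c ∈ commutingPartners S (conjBy P g) :=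
        ⟨H.root.conj_mem P H.memP c, e, (Subgroup.commutator_comm _ _).trans h1⟩
      rw [h2] at h4
      have hgen := unipotent_sup_eq hVP (hunip hβ3) (hunip hv) hne'
      have h5 : ⁅conjBy P c, P⁆ = ⊥ := commute_of_generators ((Subgroup.commutator_comm _ _).trans h4.2.2)
        h3.2.2 (hgen ▸ le_sup_right)
      exact eq_bot_of_commutator_of_rankOne (conjBy_ne_of_rankOne (RankOnePair_symm H.oppC) hc.memA hc.neA)
        ((Subgroup.commutator_comm _ _).trans h5)
  have hββ : β'' = β := by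
    have h := hβ3eq
    rw [(show Commute β⁻¹ v from abelian_comm H.root (H.mem hV) (inv_mem hβ.memA) hv).eq, mul_assoc] at h
    exact (inv_mul_eq_one.1 (mul_eq_left.1 h)).symm
  rw [hββ] at hβ''
  rwa [hβ''.unique_right hVP hβ] at hb''

/-- Mates are permuted by the rank one group. -/
theorem mate_conj (hU : U ∈ unipotentSubgroups A B) (hu : Braid U P u b) (hx : x ∈ A ⊔ B) :
    Braid (conjBy U x) P (x * u * x⁻¹) b := by
  have step : ∀ {U : Subgroup G} {u : G}, U ∈ unipotentSubgroups A B → Braid U P u b → ∀ {g : G},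
      g ∈ (A : Set G) ∪ B → Braid (conjBy U g) P (g * u * g⁻¹) b := by
    intro U u hU hu g hg
    rcases hg with hg | hg
    · simpa using H.mate_conj_aux hU (left_mem_unipotent A B) hu (inv_mem hg)
    · simpa using H.mate_conj_aux hU (right_mem_unipotent H.rankOne) hu (inv_mem hg)
  rw [Subgroup.sup_eq_closure] at hx
  induction hx using Subgroup.closure_induction_left with
  | one => simpa [conjBy_one] using hu
  | mul_left g hg y hy ih =>
    have hy' : y ∈ A ⊔ B := by rwa [Subgroup.sup_eq_closure]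
    simpa [conjBy_conjBy, mul_assoc] using step (conjBy_mem_unipotent hU hy') ih hg
  | inv_mul_cancel g hg y hy ih =>
    have hy' : y ∈ A ⊔ B := by rwa [Subgroup.sup_eq_closure]
    have hg' : g⁻¹ ∈ (A : Set G) ∪ B := hg.imp inv_mem inv_mem
    simpa [conjBy_conjBy, mul_assoc] using step (conjBy_mem_unipotent hU hy') ih hg'

/-- An element of `⟨A, B⟩` normalising `A` centralises it. -/
theorem centralise (hx : x ∈ A ⊔ B) (hfix : conjBy A x = A) (ha : a ∈ A) : x * a * x⁻¹ = a := by
  by_cases ha1 : a = 1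
  · rw [ha1]; group
  obtain ⟨b, hb⟩ := exists_braid (H.special (left_mem_unipotent A B)) ha ha1
  have h := H.mate_conj (left_mem_unipotent A B) hb hx
  rw [hfix] at h
  exact h.unique_left H.oppA hb

end BadPair

end CfsgLib.RootSubgroups
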