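import Cfsg.Agent.RootSubgroups.BadPair

set_option autoImplicit false

/-!
A bad pair does not exist when no root element has order at most `4`.
-/

namespace CfsgLib.RootSubgroups

open Cfsg CfsgLib.RankOne commutatorElement

variable {G : Type*} [Group G] {S : Set (Subgroup G)} {A B C D P U V : Subgroup G} {a b c x u w r r' g z : G}

theorem braid_conj_inv (hb : u * b * u = b * u * b) : b⁻¹ * u * b = u * b * u⁻¹ := by
  calc b⁻¹ * u * b = b⁻¹ * (u * b * u) * u⁻¹ := by group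
    _ = u * b * u⁻¹ := by rw [hb]; group

theorem braid_conj (hb : u * b * u = b * u * b) : b * u * b⁻¹ = u⁻¹ * b * u := by
  calc b * u * b⁻¹ = u⁻¹ * (u * b * u) * b⁻¹ := by group
    _ = u⁻¹ * (b * u * b) * b⁻¹ := by rw [hb]
    _ = u⁻¹ * b * u := by group

theorem double_braid {b' : G} (h : a * b * a = b * a * b) (h' : a * b' * a = b' * a * b') :
    a * (b' * b⁻¹) * a⁻¹ = b' * b⁻¹ * ((b * a) * (b' * b⁻¹) * (b * a)⁻¹) := by
  calc a * (b' * b⁻¹) * a⁻¹ = (a * b' * a) * (a * b * a)⁻¹ := by group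
    _ = (b' * a * b') * (b * a * b)⁻¹ := by rw [h, h']
    _ = _ := by group

theorem mate_algebra (ha : a * b * a = b * a * b) (hx : x * b * x = b * x * b) :
    b * (x * a⁻¹) * b⁻¹ = x * a⁻¹ * ((a * b) * (x * a⁻¹) * (a * b)⁻¹) := by
  calc b * (x * a⁻¹) * b⁻¹ = x * (x⁻¹ * b * x) * (a⁻¹ * b⁻¹) := by group
    _ = x * a⁻¹ * (a * (b * x * b⁻¹) * (b * (b * a * b)⁻¹)) := by rw [← braid_conj hx]; group
    _ = _ := by rw [← ha]; group

/-- A product of an element of a member with the partners of `P` and an element of `P`. -/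
def IsTranslated (S : Set (Subgroup G)) (P : Subgroup G) (r : G) : Prop :=
  ∃ Q ∈ S, commutingPartners S Q = commutingPartners S P ∧ ∃ x ∈ Q, ∃ y ∈ P, r = x * y

theorem IsTranslated.commute_partner (hr : IsTranslated S P r) (hD : D ∈ commutingPartners S P) (hz : z ∈ D) :
    Commute r z := by
  obtain ⟨Q, -, hQ, x, hx, y, hy, rfl⟩ := hr
  exact (show Commute x z from commute_of_commutator_eq_bot (hQ ▸ hD : D ∈ commutingPartners S Q).2.2 hx hz).mul_left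
    (commute_of_commutator_eq_bot hD.2.2 hy hz)

theorem IsTranslated.commute_conj (hS : IsRootSubgroupSet S) (hP : P ∈ S)
    (hg : conjBy P g ∈ commutingPartners S P) (hr : IsTranslated S P r) (hr' : IsTranslated S P r') :
    Commute r' (g * r * g⁻¹) := by
  obtain ⟨Q, hQ, hQP, x, hx, y, hy, rfl⟩ := hr
  have hQg : conjBy Q g ∈ commutingPartners S P := by
    refine mem_partners_symm ?_ (hS.conj_mem Q hQ g)
    rw [partners_conj hS hQP g]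
    exact mem_partners_symm hg hP
  rw [← conj_mul]
  exact (hr'.commute_partner hQg (conj_mem_conjBy hx)).mul_right (hr'.commute_partner hg (conj_mem_conjBy hy))

/-- No non-identity element of a member has order at most `4`. -/
def NoSmallOrder (S : Set (Subgroup G)) : Prop :=
  ∀ D ∈ S, ∀ x ∈ D, x ≠ 1 → ∀ k : ℕ, 0 < k → k ≤ 4 → x ^ k ≠ 1

theorem exists_root (hS : IsRootSubgroupSet S) (hbig : NoSmallOrder S) (hU : U ∈ S)
    (h : IsSpecialRankOnePair U P) (hu : Braid U P u b) {k : ℕ} (hk : 0 < k) (hk4 : k ≤ 4) :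
    ∃ d, Braid U P (u ^ k) d ∧ d ^ k = b := by
  obtain ⟨d, hd⟩ := exists_braid h (pow_mem hu.memA k) (hbig U hU u hu.memA hu.neA k hk hk4)
  exact ⟨d, hd, Braid.pow h (hS.commutative U hU) k hu hd⟩

theorem braid_root (hS : IsRootSubgroupSet S) (hbig : NoSmallOrder S) (hU : U ∈ S) (hP : P ∈ S)
    (h : IsSpecialRankOnePair U P) (hu : Braid U P u b) {k : ℕ} (hk : 0 < k) (hk4 : k ≤ 4) {d : G}
    (hd : d ∈ P) (hdk : d ^ k = b) : Braid U P (u ^ k) d := by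
  obtain ⟨d', hd', hdk'⟩ := exists_root hS hbig hU h hu hk hk4
  suffices d' = d from this ▸ hd'
  by_contra hne
  refine hbig P hP (d'⁻¹ * d) (mul_mem (inv_mem hd'.memB) hd) (fun e => hne (inv_mul_eq_one.1 e)) k hk hk4 ?_
  rw [(show Commute d'⁻¹ d from abelian_comm hS hP (inv_mem hd'.memB) hd).mul_pow, inv_pow, hdk', hdk, inv_mul_cancel]

namespace BadPair

variable (H : BadPair S A B C P)

include H

theorem mate_translated (hU : U ∈ unipotentSubgroups A B) (hV : V ∈ unipotentSubgroups A B) (hu : Braid U P u b)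
    (hw : Braid V P w b) : commutingPartners S (conjBy P (u⁻¹ * w)) = commutingPartners S P := by
  have h := partners_conj H.root (H.braid_partners hU hV hu hw) u⁻¹
  rw [conjBy_conjBy, conjBy_conjBy, inv_mul_cancel, conjBy_one] at h
  exact h.symm

theorem pow_partner (hbig : NoSmallOrder S) (hU : U ∈ unipotentSubgroups A B) (hc : Braid C P c b)
    (hu : Braid U P u b) {k : ℕ} (hk : 0 < k) (hk4 : k ≤ 4) :
    conjBy P ((c ^ k)⁻¹ * u ^ k) ∈ commutingPartners S P := by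
  obtain ⟨d, hd, hdk⟩ := exists_root H.root hbig (H.mem hU) (H.special hU) hu hk hk4
  exact H.c_u_partner hU (braid_root H.root hbig H.memC H.memP H.special_c hc hk hk4 hd.memB hdk) hd

theorem braid_data (hU : U ∈ unipotentSubgroups A B) (hV : V ∈ unipotentSubgroups A B) (ha : Braid U P a b)
    (hu : Braid V P u b) (hc : Braid C P c b) {n E : G} (hn : n = (b * a)⁻¹ * (u * a⁻¹) * (b * a))
    (hE : E = (b * c) * n * (b * c)⁻¹) :
    IsTranslated S P n ∧ (∀ x ∈ A ⊔ B, Commute E x) ∧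
      (c⁻¹ * a) * n * (c⁻¹ * a)⁻¹ = n * ((c⁻¹ * E * c)⁻¹ * (u * a⁻¹)) := by
  obtain ⟨y, hy⟩ : ∃ y, y = a⁻¹ * u := ⟨_, rfl⟩
  have haX : a ∈ A ⊔ B := unipotent_le hU ha.memA
  have huX : u ∈ A ⊔ B := unipotent_le hV hu.memA
  have hyX : y ∈ A ⊔ B := hy ▸ mul_mem (inv_mem haX) huX
  have hn' : n = y * b * y⁻¹ * b⁻¹ := by
    calc n = a⁻¹ * (b⁻¹ * u * b) * a * ((a * b * a)⁻¹ * (b * a)) := by rw [hn]; group
      _ = a⁻¹ * (u * b * u⁻¹) * a * ((a * b * a)⁻¹ * (b * a)) := by rw [braid_conj_inv hu.eq]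
      _ = y * b * y⁻¹ * b⁻¹ := by rw [ha.eq, hy]; group
  have htr : IsTranslated S P n :=
    ⟨conjBy P y, H.root.conj_mem P H.memP y, hy ▸ H.mate_translated hU hV ha hu, y * b * y⁻¹,
      conj_mem_conjBy hu.memB, b⁻¹, inv_mem hu.memB, hn'⟩
  have hEX : ∀ x ∈ A ⊔ B, Commute E x := by
    have hle : A ⊔ B ≤ Subgroup.centralizer {E} := by
      suffices hW : ∀ W ∈ unipotentSubgroups A B, W ≤ Subgroup.centralizer {E} from
        sup_le (hW A (left_mem_unipotent A B)) (hW B (right_mem_unipotent H.rankOne))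
      intro W hW x hx
      obtain ⟨v, hv⟩ := H.exists_mate hW hc.memB hc.neB
      have hm : (c⁻¹ * b⁻¹) * x * (c⁻¹ * b⁻¹)⁻¹ ∈ conjBy W (c⁻¹ * b⁻¹) := conj_mem_conjBy hx
      rw [← conjBy_conjBy, hv.inv.conjBy_left (H.opp hW), inv_inv, conjBy_conjBy] at hm
      have h := htr.commute_partner (H.c_u_partner hW hc hv) hm
      have h2 := (SemiconjBy.conj_mk (b * c) n).eq
      rw [Subgroup.mem_centralizer_singleton_iff, hE]
      calc x * (b * c * n * (b * c)⁻¹)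
          = (b * c) * (((c⁻¹ * b⁻¹) * x * (c⁻¹ * b⁻¹)⁻¹) * n) * (b * c)⁻¹ := by group
        _ = (b * c) * (n * ((c⁻¹ * b⁻¹) * x * (c⁻¹ * b⁻¹)⁻¹)) * (b * c)⁻¹ := by rw [h.eq]
        _ = _ := by group
    exact fun x hx => (Subgroup.mem_centralizer_singleton_iff.1 (hle hx)).symm
  refine ⟨htr, hEX, ?_⟩
  have hcx : ∀ {z : G}, z ∈ A ⊔ B → Commute c z := fun hz => H.c_commute hc.memA hz
  have ha' : a * (y * b * y⁻¹) * a = (y * b * y⁻¹) * a * (y * b * y⁻¹) := by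
    have h := H.mate_conj hU ha (inv_mem hyX)
    have h' := congrArg (fun g : G => y * g * y⁻¹) h.eq
    simp only [inv_inv] at h'
    calc a * (y * b * y⁻¹) * a = y * (y⁻¹ * a * y * b * (y⁻¹ * a * y)) * y⁻¹ := by group
      _ = y * (b * (y⁻¹ * a * y) * b) * y⁻¹ := h'
      _ = _ := by group
  have hc' : c * (y * b * y⁻¹) * c = (y * b * y⁻¹) * c * (y * b * y⁻¹) := by
    have h' := congrArg (fun g : G => y * g * y⁻¹) hc.eq
    simp only [← conj_mul] at h'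
    rwa [show y * c * y⁻¹ = c by rw [← (hcx hyX).eq, mul_inv_cancel_right]] at h'
  have h1 := double_braid ha.eq ha'
  have h2 := double_braid hc.eq hc'
  rw [← hn'] at h1 h2
  rw [← hE] at h2
  rw [show (b * a) * n * (b * a)⁻¹ = u * a⁻¹ by rw [hn]; group] at h1
  have hnc : c⁻¹ * n * c = n * (c⁻¹ * E * c)⁻¹ := by
    calc c⁻¹ * n * c = c⁻¹ * (c * n * c⁻¹ * E⁻¹) * c := by rw [h2, mul_inv_cancel_right]
      _ = _ := by group
  have hcv : c⁻¹ * (u * a⁻¹) * c = u * a⁻¹ := by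
    rw [mul_assoc, ← (hcx (mul_mem huX (inv_mem haX))).eq, inv_mul_cancel_left]
  calc (c⁻¹ * a) * n * (c⁻¹ * a)⁻¹ = c⁻¹ * (a * n * a⁻¹) * c := by group
    _ = (c⁻¹ * n * c) * (c⁻¹ * (u * a⁻¹) * c) := by rw [h1]; group
    _ = _ := by rw [hnc, hcv, mul_assoc]

theorem commute_core (hbig : NoSmallOrder S) (hU : U ∈ unipotentSubgroups A B) (hV : V ∈ unipotentSubgroups A B)
    (ha : Braid U P a b) (hu : Braid V P u b) (hr : IsTranslated S P r) :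
    Commute r (a * u⁻¹ * a ^ 2 * u * (a ^ 3)⁻¹) := by
  obtain ⟨c, hc⟩ := H.exists_mate_c ha.memB ha.neB
  have haX : a ∈ A ⊔ B := unipotent_le hU ha.memA
  have huX : u ∈ A ⊔ B := unipotent_le hV hu.memA
  obtain ⟨n, hn⟩ : ∃ n, n = (b * a)⁻¹ * (u * a⁻¹) * (b * a) := ⟨_, rfl⟩
  obtain ⟨n', hn'⟩ : ∃ n', n' = (b * a)⁻¹ * (a⁻¹ * u * a⁻¹⁻¹ * a⁻¹) * (b * a) := ⟨_, rfl⟩
  obtain ⟨E, hE⟩ : ∃ E, E = (b * c) * n * (b * c)⁻¹ := ⟨_, rfl⟩
  obtain ⟨E', hE'⟩ : ∃ E', E' = (b * c) * n' * (b * c)⁻¹ := ⟨_, rfl⟩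
  obtain ⟨htn, -, hq⟩ := H.braid_data hU hV ha hu hc hn hE
  obtain ⟨htn', hEX, hq'⟩ := H.braid_data hU (conjBy_mem_unipotent hV (inv_mem haX)) ha
    (H.mate_conj hV hu (inv_mem haX)) hc hn' hE'
  have hEE : c⁻¹ * E * c = E' := by
    have e1 : b⁻¹ * n * b = n' := by
      calc b⁻¹ * n * b = (b * a * b)⁻¹ * (u * a⁻¹) * (b * a * b) := by rw [hn]; group
        _ = (a * b * a)⁻¹ * (u * a⁻¹) * (a * b * a) := by rw [ha.eq]
        _ = n' := by rw [hn']; group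
    have e2 : c⁻¹ * b * c = b * c * b⁻¹ := by
      calc c⁻¹ * b * c = c⁻¹ * (b * c * b) * b⁻¹ := by group
        _ = b * c * b⁻¹ := by rw [← hc.eq]; group
    calc c⁻¹ * E * c = (c⁻¹ * b * c) * n * (c⁻¹ * b * c)⁻¹ := by rw [hE]; group
      _ = E' := by rw [e2, hE', ← e1]; group
  rw [hEE] at hq
  have hca : Commute c a := H.c_commute hc.memA haX
  have hpk : ∀ {k : ℕ}, 0 < k → k ≤ 4 → ∀ {m : G}, IsTranslated S P m →
      Commute r ((c⁻¹ * a) ^ k * m * ((c⁻¹ * a) ^ k)⁻¹) := fun {k} hk hk4 {m} hm => by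
    refine IsTranslated.commute_conj H.root H.memP ?_ hm hr
    rw [hca.inv_left.mul_pow, inv_pow]
    exact H.pow_partner hbig hU hc ha hk hk4
  obtain ⟨q, hqdef⟩ : ∃ q, q = c⁻¹ * a := ⟨_, rfl⟩
  rw [← hqdef] at hpk hq hq'
  have cancel : ∀ {p t : G}, Commute r p → Commute r (p * t) → Commute r t := fun h1 h2 => by
    have := h1.inv_right.mul_right h2
    rwa [inv_mul_cancel_left] at this
  -- the second differences
  have hD2 : Commute r (q ^ 2 * (E'⁻¹ * (u * a⁻¹)) * (q ^ 2)⁻¹) := by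
    refine cancel (hpk (k := 2) (by norm_num) (by norm_num) htn) ?_
    rw [conj_mul, ← hq]
    convert hpk (k := 3) (by norm_num) (by norm_num) htn using 1; group
  have hD1 : Commute r (q * ((c⁻¹ * E' * c)⁻¹ * (a⁻¹ * u * a⁻¹⁻¹ * a⁻¹)) * q⁻¹) := by
    refine cancel (p := q ^ 1 * n' * (q ^ 1)⁻¹) (hpk (by norm_num) (by norm_num) htn') ?_
    rw [pow_one, conj_mul, ← hq']
    convert hpk (k := 2) (by norm_num) (by norm_num) htn' using 1; rw [pow_two]; group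
  have hEa : Commute a E' := (hEX a haX).symm
  obtain ⟨F, hF⟩ : ∃ F, F = c⁻¹ * (c⁻¹ * E' * c) * c := ⟨_, rfl⟩
  have hcX : ∀ {z : G}, z ∈ A ⊔ B → c⁻¹ * z * c = z := fun hz => by
    rw [mul_assoc, ← H.c_commute hc.memA hz, inv_mul_cancel_left]
  have e2 : q ^ 2 * (E'⁻¹ * (u * a⁻¹)) * (q ^ 2)⁻¹ = F⁻¹ * (a ^ 2 * (u * a⁻¹) * (a ^ 2)⁻¹) := by
    rw [hqdef, hca.inv_left.mul_pow, inv_pow, ← conj_mul]
    have h1 : (c ^ 2)⁻¹ * a ^ 2 * E'⁻¹ * ((c ^ 2)⁻¹ * a ^ 2)⁻¹ = F⁻¹ := by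
      calc _ = (c ^ 2)⁻¹ * (a ^ 2 * E'⁻¹ * (a ^ 2)⁻¹) * c ^ 2 := by group
        _ = F⁻¹ := by rw [(hEa.pow_left 2).inv_right.eq, mul_inv_cancel_right, hF]; group
    rw [h1]
    congr 1
    calc _ = c⁻¹ * (c⁻¹ * (a ^ 2 * (u * a⁻¹) * (a ^ 2)⁻¹) * c) * c := by simp only [pow_two, mul_inv_rev, inv_inv, mul_assoc]
      _ = _ := by
        have hm : a ^ 2 * (u * a⁻¹) * (a ^ 2)⁻¹ ∈ A ⊔ B :=
          mul_mem (mul_mem (pow_mem haX 2) (mul_mem huX (inv_mem haX))) (inv_mem (pow_mem haX 2))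
        rw [hcX hm, hcX hm]
  have e1 : q * ((c⁻¹ * E' * c)⁻¹ * (a⁻¹ * u * a⁻¹⁻¹ * a⁻¹)) * q⁻¹ = F⁻¹ * (u * a⁻¹) := by
    have h1 : a * (c⁻¹ * E' * c) * a⁻¹ = c⁻¹ * E' * c := by
      have h : Commute a (c⁻¹ * E' * c) := (hca.symm.inv_right.mul_right hEa).mul_right hca.symm
      rw [h.eq, mul_inv_cancel_right]
    calc _ = (c⁻¹ * (a * (c⁻¹ * E' * c) * a⁻¹) * c)⁻¹ * (c⁻¹ * (u * a⁻¹) * c) := by rw [hqdef]; group
      _ = _ := by rw [h1, hcX (mul_mem huX (inv_mem haX)), hF]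
  rw [e2] at hD2
  rw [e1] at hD1
  have h := hD1.inv_right.mul_right hD2
  have e : a * u⁻¹ * a ^ 2 * u * (a ^ 3)⁻¹ =
      (F⁻¹ * (u * a⁻¹))⁻¹ * (F⁻¹ * (a ^ 2 * (u * a⁻¹) * (a ^ 2)⁻¹)) := by group
  rwa [e]

theorem commute_key (hbig : NoSmallOrder S) (hU : U ∈ unipotentSubgroups A B) (hV : V ∈ unipotentSubgroups A B)
    (ha : Braid U P a b) (hw : Braid V P w b) (hr : IsTranslated S P r) :
    Commute r ((w ^ 2)⁻¹ * a * w ^ 2 * a⁻¹) := by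
  have hwX : w ∈ A ⊔ B := unipotent_le hV hw.memA
  have h := (H.commute_core hbig hV (conjBy_mem_unipotent hU hwX) hw.inv (H.mate_conj hU ha.inv hwX) hr).inv_right
  convert h using 1; group

theorem nu_sq (hbig : NoSmallOrder S) (ha : Braid A P a b) (hV : V ∈ unipotentSubgroups A B) (hw : Braid V P w b)
    {d : G} (hd : Braid A P (a ^ 2) d) (hdb : d ^ 2 = b) {x : G} (hx : x = (w ^ 2)⁻¹ * a * w ^ 2) :
    a * b * (x ^ 2 * (a ^ 2)⁻¹) * (a * b)⁻¹ = a ^ 2 * d * (x ^ 4 * (a ^ 4)⁻¹) * (a ^ 2 * d)⁻¹ := by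
  have hA := left_mem_unipotent A B
  have haX : a ∈ A ⊔ B := Subgroup.mem_sup_left ha.memA
  have hwX : (w ^ 2)⁻¹ ∈ A ⊔ B := inv_mem (pow_mem (unipotent_le hV hw.memA) 2)
  have hU := conjBy_mem_unipotent hA hwX
  have hxB : Braid (conjBy A (w ^ 2)⁻¹) P x b := by
    have := H.mate_conj hA ha hwX
    rwa [inv_inv, ← hx] at this
  have hxX : x ∈ A ⊔ B := unipotent_le hU hxB.memA
  have hx'B : Braid (conjBy (conjBy A (w ^ 2)⁻¹) a) P (a * x * a⁻¹) b := H.mate_conj hU hxB haX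
  obtain ⟨s, hs⟩ : ∃ s, s = x * a⁻¹ := ⟨_, rfl⟩
  have hν : ∀ {z : G}, z * b * z = b * z * b →
      b * (z * a⁻¹) * b⁻¹ = z * a⁻¹ * ((a * b) * (z * a⁻¹) * (a * b)⁻¹) := fun hz => mate_algebra ha.eq hz
  have htr : IsTranslated S P ((a * b) * s * (a * b)⁻¹) := by
    have h1 := H.mate_translated hA hU ha.inv hxB.inv
    refine ⟨conjBy P (a⁻¹⁻¹ * x⁻¹), H.root.conj_mem P H.memP _, h1, _, conj_mem_conjBy ha.memB, b⁻¹,
      inv_mem ha.memB, ?_⟩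
    have := hν hxB.eq
    rw [← hs] at this
    calc a * b * s * (a * b)⁻¹ = s⁻¹ * (b * s * b⁻¹) := by rw [this]; group
      _ = _ := by rw [hs]; group
  have hcomm : Commute ((a * b) * s * (a * b)⁻¹) (a * s * a⁻¹) := by
    have h := H.commute_key hbig hA (conjBy_mem_unipotent hV haX) ha (H.mate_conj hV hw haX) htr
    convert h using 1
    rw [hs, hx, pow_two w, pow_two (a * w * a⁻¹)]; group
  have hs2 : s * (a * s * a⁻¹) = x ^ 2 * (a ^ 2)⁻¹ := by rw [hs, pow_two x]; group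
  have hb2 : b * (x ^ 2 * (a ^ 2)⁻¹) * b⁻¹ =
      x ^ 2 * (a ^ 2)⁻¹ * (a * b * (x ^ 2 * (a ^ 2)⁻¹) * (a * b)⁻¹) := by
    have e1 := hν hxB.eq
    rw [← hs] at e1
    have e2 := hν hx'B.eq
    rw [show a * x * a⁻¹ * a⁻¹ = a * s * a⁻¹ by rw [hs]; group] at e2
    rw [← hs2, ← conj_mul, e1, e2, ← conj_mul]
    rw [mul_assoc s, ← mul_assoc ((a * b) * s * (a * b)⁻¹), hcomm.eq]
    group
  have hd2 : Braid (conjBy A (w ^ 2)⁻¹) P (x ^ 2) d := braid_root H.root hbig (H.mem hU) H.memP (H.special hU)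
    hxB (by norm_num) (by norm_num) hd.memB hdb
  have hd' := mate_algebra hd.eq hd2.eq
  have hshift : ∀ z : G, d * (a ^ 2 * d * z * (a ^ 2 * d)⁻¹) * d⁻¹ =
      a ^ 2 * d * (a ^ 2 * z * (a ^ 2)⁻¹) * (a ^ 2 * d)⁻¹ := fun z => by
    calc _ = (d * a ^ 2 * d) * z * (d * a ^ 2 * d)⁻¹ := by group
      _ = (a ^ 2 * d * a ^ 2) * z * (a ^ 2 * d * a ^ 2)⁻¹ := by rw [hd.eq]
      _ = _ := by group
  have hb2' : b * (x ^ 2 * (a ^ 2)⁻¹) * b⁻¹ =
      x ^ 2 * (a ^ 2)⁻¹ * (a ^ 2 * d * (x ^ 4 * (a ^ 4)⁻¹) * (a ^ 2 * d)⁻¹) := by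
    calc b * (x ^ 2 * (a ^ 2)⁻¹) * b⁻¹ = d * (d * (x ^ 2 * (a ^ 2)⁻¹) * d⁻¹) * d⁻¹ := by rw [← hdb, pow_two d]; group
      _ = (d * (x ^ 2 * (a ^ 2)⁻¹) * d⁻¹) *
          (d * (a ^ 2 * d * (x ^ 2 * (a ^ 2)⁻¹) * (a ^ 2 * d)⁻¹) * d⁻¹) := by
        conv_lhs => rw [hd']
        group
      _ = _ := by rw [hd', hshift]; group
  exact mul_left_cancel (hb2.symm.trans hb2')

theorem false_of_noSmallOrder (hbig : NoSmallOrder S) : False := by
  have hA := left_mem_unipotent A B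
  have hB := right_mem_unipotent H.rankOne
  obtain ⟨a, ha, ha1⟩ := exists_ne_one_left H.rankOne
  obtain ⟨b, hab⟩ := exists_braid (H.special hA) ha ha1
  obtain ⟨w, hw⟩ := H.exists_mate hB hab.memB hab.neB
  obtain ⟨d, hd, hdb⟩ := exists_root H.root hbig H.memA (H.special hA) hab (k := 2) (by norm_num) (by norm_num)
  have haX : a ∈ A ⊔ B := Subgroup.mem_sup_left ha
  obtain ⟨x, hx⟩ : ∃ x, x = (w ^ 2)⁻¹ * a * w ^ 2 := ⟨_, rfl⟩
  have h1 := H.nu_sq hbig hab hB hw hd hdb hx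
  have h2 := H.nu_sq hbig hab (conjBy_mem_unipotent hB haX) (H.mate_conj hB hw haX) hd hdb
    (x := a * x * a⁻¹) (by rw [hx, pow_two w, pow_two (a * w * a⁻¹)]; group)
  obtain ⟨t, ht⟩ : ∃ t, t = x ^ 4 * (a ^ 4)⁻¹ := ⟨_, rfl⟩
  rw [← ht] at h1
  have h3 : a ^ 2 * d * (a * t * a⁻¹) * (a ^ 2 * d)⁻¹ =
      a ^ 2 * d * (a ^ 4 * t * (a ^ 4)⁻¹) * (a ^ 2 * d)⁻¹ := by
    calc _ = a ^ 2 * d * ((a * x * a⁻¹) ^ 4 * (a ^ 4)⁻¹) * (a ^ 2 * d)⁻¹ := by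
          rw [ht, _root_.conj_pow]; group
      _ = a * b * ((a * x * a⁻¹) ^ 2 * (a ^ 2)⁻¹) * (a * b)⁻¹ := h2.symm
      _ = (a * b * a) * (x ^ 2 * (a ^ 2)⁻¹) * (a * b * a)⁻¹ := by rw [_root_.conj_pow]; group
      _ = b * (a * b * (x ^ 2 * (a ^ 2)⁻¹) * (a * b)⁻¹) * b⁻¹ := by rw [hab.eq]; group
      _ = (d * (d * a ^ 2 * d)) * t * (d * (d * a ^ 2 * d))⁻¹ := by rw [h1, ← hdb, pow_two d]; group
      _ = (d * (a ^ 2 * d * a ^ 2)) * t * (d * (a ^ 2 * d * a ^ 2))⁻¹ := by rw [hd.eq]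
      _ = ((d * a ^ 2 * d) * a ^ 2) * t * ((d * a ^ 2 * d) * a ^ 2)⁻¹ := by group
      _ = ((a ^ 2 * d * a ^ 2) * a ^ 2) * t * ((a ^ 2 * d * a ^ 2) * a ^ 2)⁻¹ := by rw [hd.eq]
      _ = _ := by group
  have h4 : a * t * a⁻¹ = a ^ 4 * t * (a ^ 4)⁻¹ := mul_left_cancel (mul_right_cancel h3)
  have h5 : a ^ 3 * x ^ 4 = x ^ 4 * a ^ 3 := by
    calc a ^ 3 * x ^ 4 = a⁻¹ * (a ^ 4 * (x ^ 4 * (a ^ 4)⁻¹) * (a ^ 4)⁻¹) * a ^ 8 := by group
      _ = a⁻¹ * (a * (x ^ 4 * (a ^ 4)⁻¹) * a⁻¹) * a ^ 8 := by rw [← ht, h4]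
      _ = _ := by group
  have hwX : (w ^ 2)⁻¹ ∈ B := inv_mem (pow_mem hw.memA 2)
  have hw2 : (w ^ 2)⁻¹ ≠ 1 := inv_ne_one.2 (hbig B H.memB w hw.memA hw.neA 2 (by norm_num) (by norm_num))
  have hxU : x ∈ conjBy A (w ^ 2)⁻¹ := by
    have := conj_mem_conjBy (g := (w ^ 2)⁻¹) ha
    rwa [inv_inv, ← hx] at this
  have hx1 : x ≠ 1 := fun e => ha1 (by
    calc a = w ^ 2 * ((w ^ 2)⁻¹ * a * w ^ 2) * (w ^ 2)⁻¹ := by group
      _ = 1 := by rw [← hx, e]; group)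
  exact hbig _ (H.root.conj_mem A H.memA _) x hxU hx1 4 (by norm_num) le_rfl
    (eq_one_of_commute (conjBy_ne_of_rankOne H.rankOne hwX hw2) (pow_mem ha 3)
      (hbig A H.memA a ha ha1 3 (by norm_num) (by norm_num)) (pow_mem hxU 4) h5)

end BadPair

end CfsgLib.RootSubgroups
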