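import Cfsg.Agent.RootSubgroups.InvolutionClass

/-!
A line with different commuting sets yields a pair with product of order three.
-/

set_option autoImplicit false

namespace CfsgLib.RootInv

open Cfsg

variable {G : Type*} [Group G] [Finite G] {D : Set G} (hD : IsRootInvolutionSet D)

include hD

/-- If the commuting sets of `u` and `v` differ, some odd partner of `u` has product of order four with `v`. -/
theorem exists_odd_four (hcl : ∀ a ∈ D, ∀ b ∈ D, ∃ g : G, b = g * a * g⁻¹) {u v : G} (h : Line D u v)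
    (hne : commutingMembers D u ≠ commutingMembers D v) :
    ∃ w ∈ D, w ≠ u ∧ Odd (orderOf (w * u)) ∧ orderOf (v * w) = 4 := by
  by_contra hno
  refine hne ((sameCommuting_iff hD hcl h.mem h.mem').2 (oddPartners_eq_of_subset hD hcl h.mem h.mem' ?_))
  rintro w ⟨hw, hwu, hodd⟩
  rw [orderOf_mul_comm] at hodd
  have hnc := line_not_commute hD h hw hwu hodd
  refine ⟨hw, fun e => hnc (by rw [e]), ?_⟩
  by_contra ho
  exact hno ⟨w, hw, hwu, hodd, four_of hD h.mem' hw (fun e => hnc e.symm) ho⟩

/-- The key consequence. -/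
theorem exists_order_three (hcl : ∀ a ∈ D, ∀ b ∈ D, ∃ g : G, b = g * a * g⁻¹) {a b : G} (h : Line D a b)
    (hne : commutingMembers D a ≠ commutingMembers D b) :
    ∃ x ∈ D, orderOf (b * x) = 4 ∧ orderOf (a * x) = 3 := by
  obtain ⟨y, hy, hya, hyodd, hby⟩ := exists_odd_four hD hcl h hne
  obtain ⟨d, hd, hdb, hdad, had, hadsq, -⟩ := exists_shift hD (line_symm hD h) hy hya hyodd hby
  have hda : orderOf (d * a) = 4 := by rw [orderOf_mul_comm]; exact had
  have hdasq : (d * a) ^ 2 = b := by
    rw [← inv hD h.mem', ← hadsq, ← inv_pow, mul_inv_rev, inv hD hd, inv hD h.mem]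
  have hline : Line D d b := hdasq ▸ (four hD hd h.mem hda).2.2.2.2
  have hne' : commutingMembers D b ≠ commutingMembers D d := by
    intro e
    have : a ∈ commutingMembers D d := e ▸ (⟨h.mem, h.comm.eq⟩ : a ∈ commutingMembers D b)
    exact not_commute_of_four hD h.mem hd had this.2
  obtain ⟨w, hw, hwb, hwodd, hdw⟩ := exists_odd_four hD hcl (line_symm hD hline) hne'
  obtain ⟨x, hx, hxd, hxbx, hbx, hbxsq, -⟩ := exists_shift hD hline hw hwb hwodd hdw
  refine ⟨x, hx, hbx, ?_⟩
  -- the action on the four-group `{b, d, b d}`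
  have haa := sq hD h.mem
  have hxx := sq hD hx
  have hbb := sq hD h.mem'
  have hab : a * b * a = b := by rw [h.comm.eq, mul_assoc, haa, mul_one]
  have hada : a * d * a = b * d := by
    rw [← hadsq, pow_two, show a * d * (a * d) * d = a * d * a * (d * d) by group, sq hD hd, mul_one]
  have hxdx : x * d * x = d := by rw [hxd.eq, mul_assoc, hxx, mul_one]
  set g := a * x with hg
  have act : ∀ p, g * p * g⁻¹ = a * (x * p * x) * a := fun p => by
    rw [hg, mul_inv_rev, inv hD h.mem, inv hD hx]; group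
  have h1 : g * b * g⁻¹ = d := by
    rw [act, hxbx, show a * (b * d) * a = a * b * a * (a * d * a) by
      rw [show a * b * a * (a * d * a) = a * b * (a * a) * d * a by group, haa, mul_one]; group,
      hab, hada, ← mul_assoc, hbb, one_mul]
  have h2 : g * d * g⁻¹ = b * d := by rw [act, hxdx, hada]
  have h3 : g * (b * d) * g⁻¹ = b := by
    rw [show g * (b * d) * g⁻¹ = (g * b * g⁻¹) * (g * d * g⁻¹) by group, h1, h2, hdb.symm.eq,
      ← mul_assoc, sq hD hd, one_mul]
  have hbd : b ≠ d := fun e => line_ne hD hline e.symm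
  have hbbd : b ≠ b * d := fun e => ne_one hD hd (mul_eq_left.1 e.symm)
  have hodd : Odd (orderOf g) := odd_of_cycle hD h.mem hx hbd hbbd h1 h2 h3
  have hg1 : g ≠ 1 := fun e => hbd (by rw [← h1, e]; group)
  have hcube : g ^ 3 * b * (g ^ 3)⁻¹ = b := by
    rw [show g ^ 3 * b * (g ^ 3)⁻¹ = g * (g * (g * b * g⁻¹) * g⁻¹) * g⁻¹ by
      simp only [pow_succ, pow_zero, one_mul]; group, h1, h2, h3]
  have hg3 : g ^ 3 = 1 := by
    by_contra hne3
    obtain ⟨m, hm⟩ := hodd
    set r := g ^ 3 * a with hr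
    have hag : a * g * a⁻¹ = g⁻¹ := by
      rw [hg, mul_inv_rev, inv hD h.mem, inv hD hx, ← mul_assoc a a x, haa, one_mul]
    -- a reflection
    have hrD : r ∈ D := by
      set l := 3 * (m + 1)
      have hl : g ^ l * g ^ l = g ^ 3 := by
        rw [← pow_add, show l + l = orderOf g * 3 + 3 by simp only [l]; rw [hm]; ring, pow_add, pow_mul,
          pow_orderOf_eq_one, one_pow, one_mul]
      have e : g ^ l * a * (g ^ l)⁻¹ = r := by
        rw [← inv_pow, ← hag, conj_pow, hr, ← hl, inv hD h.mem,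
          show g ^ l * a * (a * g ^ l * a) = g ^ l * (a * a) * g ^ l * a by group, haa, mul_one]
      rw [← e]; exact hD.conj_mem a h.mem _
    have hra : r * a = g ^ 3 := by rw [hr, mul_assoc, haa, mul_one]
    refine line_not_commute hD h hrD (fun e => hne3 (by rw [← hra, e, haa])) ?_ ?_
    · rw [hra]
      exact Odd.of_dvd_nat (⟨m, hm⟩ : Odd (orderOf g)) (orderOf_pow_dvd 3)
    · rw [hr, mul_assoc, h.comm.eq, ← mul_assoc]
      rw [show g ^ 3 * b = b * g ^ 3 from mul_inv_eq_iff_eq_mul.1 hcube, mul_assoc]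
  haveI : Fact (Nat.Prime 3) := ⟨Nat.prime_three⟩
  exact orderOf_eq_prime hg3 hg1

end CfsgLib.RootInv
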