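import Cfsg.Agent.RootSubgroups.InvolutionGeneration
import Cfsg.Agent.RootSubgroups.OrderThree

/-!
# Blocks of a non-degenerate class of root involutions

Components of the graph of lines (`ProdAdj`), the relation "same component or commuting" between
members, and the stabiliser of a block, under the hypothesis that two members with product of order
four and a member with odd product with them generate.
-/

set_option autoImplicit false
set_option linter.unusedSectionVars false

namespace CfsgLib.RootBlock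

open Cfsg CfsgLib.RootInv Subgroup

variable {G : Type*} [Group G] [Finite G] {D : Set G}

/-- The component relation of the graph of lines. -/
abbrev Comp (D : Set G) (a b : G) : Prop := Relation.ReflTransGen (ProdAdj D) a b

/-- Same component or commuting. -/
def Bl (D : Set G) (a b : G) : Prop := a ∈ D ∧ b ∈ D ∧ (Comp D a b ∨ Commute a b)

section Root

variable (hD : IsRootInvolutionSet D)
include hD

theorem comp_symm {a b : G} (h : Comp D a b) : Comp D b a := by
  induction h with
  | refl => exact .refl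
  | tail _ h ih => exact .head (prodAdj_symm hD h) ih

theorem comp_conj {a b : G} (g : G) (h : Comp D a b) : Comp D (g * a * g⁻¹) (g * b * g⁻¹) := by
  induction h with
  | refl => exact .refl
  | tail _ h ih =>
    exact ih.tail (prodAdj_of_line hD (line_conj hD ⟨h.1, h.2.1, h.2.2.2.1, h.2.2.2.2⟩ g))

theorem comp_of_four {a b : G} (ha : a ∈ D) (hb : b ∈ D) (h4 : orderOf (a * b) = 4) :
    Comp D a ((a * b) ^ 2) ∧ Comp D a b :=
  have h1 : Comp D a ((a * b) ^ 2) := .single (prodAdj_of_line hD (four hD ha hb h4).2.2.2.2)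
  ⟨h1, h1.tail (prodAdj_symm hD (prodAdj_of_line hD (line_second hD ha hb h4)))⟩

/-- Members of different components commute or have odd product. -/
theorem far_pair {a x : G} (ha : a ∈ D) (hx : x ∈ D) (h : ¬ Comp D a x) :
    Commute a x ∨ Odd (orderOf (a * x)) := by
  rcases hD.pair a ha x hx with e | e | ⟨e, -⟩
  · exact Or.inl e
  · exact Or.inr e
  · exact absurd (comp_of_four hD ha hx e).2 h

theorem comp_mem {a b : G} (ha : a ∈ D) (h : Comp D a b) : b ∈ D := by
  rcases h.cases_tail with rfl | ⟨c, -, hc⟩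
  · exact ha
  · exact hc.2.1

/-- Commuting with one member of another component is commuting with all. -/
theorem commute_comp {a a' x : G} (hx : x ∈ D) (hxa : Commute x a) (hfar : ¬ Comp D a x)
    (h : Comp D a a') : Commute x a' := by
  induction h with
  | refl => exact hxa
  | @tail p q hap hpq ih =>
    have hne : ¬ Comp D q x := fun h => hfar ((hap.tail hpq).trans h)
    rcases far_pair hD hpq.2.1 hx hne with h | h
    · exact h.symm
    · refine absurd ih ?_
      rw [orderOf_mul_comm] at h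
      have hl : Line D q p := line_symm hD ⟨hpq.1, hpq.2.1, hpq.2.2.2.1, hpq.2.2.2.2⟩
      exact fun hc => line_not_commute hD hl hx (fun e => hne (e ▸ .refl)) h hc.eq

theorem commute_comp₂ {a a' x x' : G} (ha : a ∈ D) (hx : x ∈ D) (hxa : Commute x a)
    (hfar : ¬ Comp D a x) (h : Comp D a a') (h' : Comp D x x') : Commute x' a' :=
  (commute_comp hD (comp_mem hD ha h) (commute_comp hD hx hxa hfar h).symm
    (fun e => hfar (h.trans (comp_symm hD e))) h').symm

theorem bl_refl {a : G} (ha : a ∈ D) : Bl D a a := ⟨ha, ha, Or.inl .refl⟩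

theorem bl_symm {a b : G} (h : Bl D a b) : Bl D b a :=
  ⟨h.2.1, h.1, h.2.2.imp (comp_symm hD) Commute.symm⟩

theorem bl_conj {a b : G} (g : G) (h : Bl D a b) : Bl D (g * a * g⁻¹) (g * b * g⁻¹) :=
  ⟨hD.conj_mem a h.1 g, hD.conj_mem b h.2.1 g, h.2.2.imp (comp_conj hD g)
    fun e => e.map (MulAut.conj g).toMonoidHom⟩

theorem bl_of_four {a b : G} (ha : a ∈ D) (hb : b ∈ D) (h4 : orderOf (a * b) = 4) : Bl D a b :=
  ⟨ha, hb, Or.inl (comp_of_four hD ha hb h4).2⟩

theorem not_bl_odd {a b : G} (ha : a ∈ D) (hb : b ∈ D) (h : ¬ Bl D a b) :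
    a ≠ b ∧ Odd (orderOf (a * b)) := by
  refine ⟨fun e => h (e ▸ bl_refl hD ha), ?_⟩
  exact (far_pair hD ha hb fun e => h ⟨ha, hb, Or.inl e⟩).resolve_left fun e => h ⟨ha, hb, Or.inr e⟩

/-- Members with odd product in a 2-group are equal. -/
theorem eq_of_odd_two {P : Subgroup G} (hP : IsPGroup 2 P) {u v : G} (hu : u ∈ P) (hv : v ∈ P)
    (hvD : v ∈ D) (h : Odd (orderOf (u * v))) : u = v := by
  obtain ⟨k, hk⟩ := hP ⟨_, mul_mem hu hv⟩
  have := odd_pow_two_pow h (congrArg Subtype.val hk)
  rw [mul_eq_one_iff_eq_inv, inv hD hvD] at this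
  exact this

theorem bl_of_two {P : Subgroup G} (hP : IsPGroup 2 P) {u v : G} (hu : u ∈ P) (hv : v ∈ P)
    (huD : u ∈ D) (hvD : v ∈ D) : Bl D u v :=
  by_contra fun h => (not_bl_odd hD huD hvD h).1
    (eq_of_odd_two hD hP hu hv hvD (not_bl_odd hD huD hvD h).2)

end Root

/-- The hypotheses: a non-degenerate class in which a pair with product of order four and a member
with odd product with them generate. -/
structure Ctx (D : Set G) : Prop where
  nd : IsNondegenerateRootInvolutionSet D
  cls : IsRootInvolutionClass D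
  gen : ∀ a ∈ D, ∀ b ∈ D, ∀ x ∈ D, orderOf (a * b) = 4 → ¬ Bl D a x → closure ({a, b, x} : Set G) = ⊤

namespace Ctx

variable (C : Ctx D)
include C

theorem root : IsRootInvolutionSet D := C.nd.1

theorem exists_four {a : G} (ha : a ∈ D) : ∃ b ∈ D, orderOf (a * b) = 4 := by
  obtain ⟨-, -, -, p, hp, q, hq, h4⟩ := C.nd
  obtain ⟨g, rfl⟩ := C.cls.2.2 p hp a ha
  exact ⟨g * q * g⁻¹, C.root.conj_mem q hq g, by
    rw [show g * p * g⁻¹ * (g * q * g⁻¹) = g * (p * q) * g⁻¹ by group, Invol.orderOf_conj_eq, h4]⟩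

/-- No member is central. -/
theorem not_central {a : G} (ha : a ∈ D) : ¬ ∀ g : G, Commute a g := by
  intro h
  obtain ⟨b, hb, h4⟩ := C.exists_four ha
  exact not_commute_of_four C.root ha hb h4 (h b).eq

theorem bl_trans {a b c : G} (h : Bl D a b) (h' : Bl D b c) : Bl D a c := by
  have hD := C.root
  obtain ⟨ha, hb, h⟩ := h
  obtain ⟨-, hc, h'⟩ := h'
  refine ⟨ha, hc, ?_⟩
  by_cases hab : Comp D a b
  · rcases h' with e | e
    · exact Or.inl (hab.trans e)
    · by_cases hbc : Comp D b c
      · exact Or.inl (hab.trans hbc)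
      · exact Or.inr (commute_comp hD hc e.symm hbc (comp_symm hD hab)).symm
  have hab' := h.resolve_left hab
  by_cases hbc : Comp D b c
  · exact Or.inr (commute_comp hD ha hab' (fun e => hab (comp_symm hD e)) hbc)
  have hbc' := h'.resolve_left hbc
  by_contra hne
  obtain ⟨hne1, hne2⟩ := not_or.1 hne
  obtain ⟨a', ha', h4⟩ := C.exists_four ha
  have htop := C.gen a ha a' ha' c hc h4 fun e => e.2.2.elim hne1 hne2
  refine C.not_central hb fun g => ?_
  have hle : closure ({a, a', c} : Set G) ≤ centralizer ({b} : Set G) := by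
    refine (closure_le _).2 ?_
    rintro y (rfl | rfl | rfl) <;> refine mem_centralizer_singleton_iff.2 ?_
    · exact hab'.eq
    · exact (commute_comp hD hb hab'.symm hab (comp_of_four hD ha ha' h4).2).symm.eq
    · exact hbc'.symm.eq
  rw [htop] at hle
  exact (mem_centralizer_singleton_iff.1 (hle (mem_top g)) : g * b = b * g).symm

/-- The stabiliser of the block of `a`. -/
def stab {a : G} (ha : a ∈ D) : Subgroup G where
  carrier := {g | Bl D a (g * a * g⁻¹)}
  one_mem' := by
    show Bl D a ((1 : G) * a * 1⁻¹)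
    rw [one_mul, inv_one, mul_one]
    exact bl_refl C.root ha
  mul_mem' := fun {g h} hg hh => by
    have h1 := C.bl_trans hg (bl_conj C.root g hh)
    rwa [show g * (h * a * h⁻¹) * g⁻¹ = g * h * a * (g * h)⁻¹ by group] at h1
  inv_mem' := fun {g} hg => by
    have h1 := bl_symm C.root (bl_conj C.root g⁻¹ hg)
    rwa [show g⁻¹ * (g * a * g⁻¹) * g⁻¹⁻¹ = a by group] at h1

theorem mem_stab {a g : G} (ha : a ∈ D) : g ∈ C.stab ha ↔ Bl D a (g * a * g⁻¹) := Iff.rfl

theorem mem_stab_of_commute {a g : G} (ha : a ∈ D) (h : Commute g a) : g ∈ C.stab ha := by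
  rw [C.mem_stab, h.eq, mul_inv_cancel_right]
  exact bl_refl C.root ha

theorem stab_eq {a b : G} (h : Bl D a b) : C.stab h.1 = C.stab h.2.1 := by
  suffices key : ∀ {a b : G} (h : Bl D a b), C.stab h.1 ≤ C.stab h.2.1 from
    le_antisymm (key h) (key (bl_symm C.root h))
  intro a b h g hg
  exact C.bl_trans (C.bl_trans (bl_symm C.root h) hg) (bl_conj C.root g h)

/-- The members stabilising a block are those of the block. -/
theorem mem_stab_iff {a b : G} (ha : a ∈ D) (hb : b ∈ D) : b ∈ C.stab ha ↔ Bl D a b := by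
  constructor
  · intro h
    by_contra hne
    obtain ⟨-, hodd⟩ := not_bl_odd C.root ha hb hne
    obtain ⟨d, hd, e⟩ := Invol.exists_conj_of_odd (C.root.orderOf_eq a ha) (C.root.orderOf_eq b hb) hodd
    have hle : closure ({a, b} : Set G) ≤ C.stab ha := by
      refine (closure_le _).2 ?_
      rintro y (rfl | rfl)
      exacts [C.mem_stab_of_commute ha (Commute.refl _), h]
    have := hle hd
    rw [C.mem_stab, e] at this
    exact hne this
  · intro h
    rw [C.stab_eq h]
    exact C.mem_stab_of_commute h.2.1 (Commute.refl b)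

/-- A member commuting with the product of two commuting members lies in their block. -/
theorem bl_of_commute_mul {u v x : G} (hu : u ∈ D) (hv : v ∈ D) (hx : x ∈ D) (hne : u ≠ v)
    (huv : Commute u v) (h : Commute x (u * v)) : Bl D u x := by
  by_contra hne'
  have hD := C.root
  obtain ⟨hux, hodd⟩ := not_bl_odd hD hu hx hne'
  refine not_mul_eq_invol_mul_odd hD hx hv (z := u * v) (g := x * u) ?_ ?_ ?_ ?_ ?_
  · refine Invol.orderOf_eq_two ?_ fun e => hne ?_
    · rw [huv.symm.mul_mul_mul_comm, sq hD hu, sq hD hv, one_mul]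
    · rwa [mul_eq_one_iff_eq_inv, inv hD hv] at e
  · exact h.symm.mul_right (((Commute.refl u).mul_right huv).symm)
  · intro e; rw [mul_eq_one_iff_eq_inv, inv hD hu] at e; exact hux e.symm
  · rwa [orderOf_mul_comm]
  · rw [(h.symm.mul_right (((Commute.refl u).mul_right huv).symm)).eq,
      show x * u * (u * v) = x * (u * u) * v by group, sq hD hu, mul_one]

/-- The centraliser of the product of two commuting members stabilises their block. -/
theorem mem_stab_of_commute_mul {u v g : G} (hu : u ∈ D) (hv : v ∈ D) (hne : u ≠ v)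
    (huv : Commute u v) (h : Commute g (u * v)) : g ∈ C.stab hu := by
  refine C.bl_of_commute_mul hu hv (C.root.conj_mem u hu g) hne huv ?_
  have h1 := (((Commute.refl u).mul_right huv)).map (MulAut.conj g).toMonoidHom
  simp only [MulEquiv.coe_toMonoidHom, MulAut.conj_apply] at h1
  rwa [show g * (u * v) * g⁻¹ = u * v by rw [h.eq, mul_inv_cancel_right]] at h1

/-- The members stabilising the block of `a` carried to that of `x` are unique per image. -/
theorem swap_unique {a w w' : G} (ha : a ∈ D) (hw : w ∈ D) (hw' : w' ∈ D) (hwa : ¬ Bl D a w)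
    (hwa' : ¬ Bl D a w') (h : w * a * w = w' * a * w') : w = w' := by
  have hD := C.root
  have h1 := (not_bl_odd hD ha hw hwa).2
  have h2 := (not_bl_odd hD ha hw' hwa').2
  rw [orderOf_mul_comm] at h1 h2
  have e : (w * a) ^ 2 = (w' * a) ^ 2 := by
    rw [pow_two, pow_two, ← mul_assoc, ← mul_assoc, h]
  have hco : ∀ {g : G}, Odd (orderOf g) → (g ^ 2) ^ ((orderOf g + 1) / 2) = g := fun {g} hg => by
    obtain ⟨j, hj⟩ := hg
    rw [← pow_mul, hj, show 2 * ((2 * j + 1 + 1) / 2) = (2 * j + 1) + 1 by omega, pow_succ, ← hj,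
      pow_orderOf_eq_one, one_mul]
  have ho : orderOf (w * a) = orderOf (w' * a) := by
    rw [← (h1.coprime_two_right).orderOf_pow, ← (h2.coprime_two_right).orderOf_pow, e]
  have h3 := hco h1
  rw [e, ho, hco h2] at h3
  exact (mul_right_cancel h3).symm

/-- Midpoints. -/
theorem exists_swap {a x : G} (ha : a ∈ D) (hx : x ∈ D) (h : ¬ Bl D a x) :
    ∃ w ∈ D, w * a * w = x := by
  have hD := C.root
  obtain ⟨-, hodd⟩ := not_bl_odd hD ha hx h
  rw [orderOf_mul_comm] at hodd
  obtain ⟨j, hj⟩ := hodd
  set s := x * a with hs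
  set k := (j + 1) ^ 2 with hk
  refine ⟨s ^ k * a * (s ^ k)⁻¹, hD.conj_mem a ha _, ?_⟩
  have hflip : a * s * a⁻¹ = s⁻¹ := by
    rw [hs, mul_inv_rev, inv hD hx, inv hD ha, show a * (x * a) * a = a * x * (a * a) by group,
      sq hD ha, mul_one]
  have hpow : ∀ i : ℕ, a * s ^ i = (s ^ i)⁻¹ * a := fun i => by
    rw [← inv_pow, ← hflip, conj_pow, inv_mul_cancel_right]
  have hw : s ^ k * a * (s ^ k)⁻¹ = s ^ (k + k) * a := by
    rw [pow_add, mul_assoc, mul_assoc]
    congr 1
    rw [eq_comm, eq_mul_inv_iff_mul_eq, mul_assoc, hpow k, mul_inv_cancel_left]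
  rw [hw]
  calc s ^ (k + k) * a * a * (s ^ (k + k) * a)
      = s ^ (k + k) * (a * a) * (s ^ (k + k) * a) := by group
    _ = s ^ (k + k + (k + k)) * a := by rw [sq hD ha, mul_one, ← mul_assoc, ← pow_add]
    _ = s * a := by
        congr 1
        have e : k + k + (k + k) = orderOf s * (2 * j + 3) + 1 := by rw [hj, hk]; ring
        rw [e, pow_succ, pow_mul, pow_orderOf_eq_one, one_pow, one_mul]
    _ = x := by rw [hs, mul_assoc, sq hD ha, mul_one]

/-- All blocks have as many members. -/
theorem ncard_block {a b : G} (ha : a ∈ D) (hb : b ∈ D) :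
    {y | Bl D a y}.ncard = {y | Bl D b y}.ncard := by
  obtain ⟨g, rfl⟩ := C.cls.2.2 a ha b hb
  have e : {y | Bl D (g * a * g⁻¹) y} = (fun y => g * y * g⁻¹) '' {y | Bl D a y} := by
    ext y
    refine ⟨fun h => ⟨g⁻¹ * y * g, ?_, by group⟩, ?_⟩
    · have h1 := bl_conj C.root g⁻¹ (h : Bl D _ y)
      rwa [show g⁻¹ * (g * a * g⁻¹) * g⁻¹⁻¹ = a by group, inv_inv] at h1
    · rintro ⟨z, hz, rfl⟩
      exact bl_conj C.root g hz
  rw [e, Set.ncard_image_of_injective]
  exact fun y z h => by simpa using h

/-- A disconnected graph of lines has two blocks. -/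
theorem exists_not_bl (h : ¬ IsConnectedSet (ProdAdj D) D) {a : G} (ha : a ∈ D) :
    ∃ x ∈ D, ¬ Bl D a x := by
  have hD := C.root
  by_contra! hall
  have hB : ∀ p ∈ D, ∀ q ∈ D, Bl D p q := fun p hp q hq =>
    C.bl_trans (bl_symm hD (hall p hp)) (hall q hq)
  refine h fun p hp q hq => ?_
  have hodd := odd_connected C.nd C.cls p hp q hq
  clear hq
  induction hodd with
  | refl => exact .refl
  | tail _ e ih =>
    refine ih.trans ?_
    rcases (hB _ e.1 _ e.2.1).2.2 with e' | e'
    · exact e'
    · exact absurd e'.eq (not_commute_of_odd hD e.1 e.2.1 e.2.2.1 e.2.2.2)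

end Ctx

end CfsgLib.RootBlock
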