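import Cfsg.Agent.RootSubgroups.Isolated
import Cfsg.Prelude.Def_QuasithinSetup
import Mathlib.GroupTheory.IsPerfect

set_option autoImplicit false

/-!
With lines, a normal subgroup avoiding the root involutions is central modulo the 2-core.
-/

namespace CfsgLib.RootInv

open Cfsg

variable {G : Type*} [Group G] [Finite G] {D : Set G} (hD : IsRootInvolutionSet D)

/-- The 2-core of a normal subgroup lies in the 2-core. -/
theorem pCore_normal_sub (N : Subgroup G) [N.Normal] :
    (Cfsg.pCore 2 N).map N.subtype ≤ Cfsg.pCore 2 G := by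
  have hp : IsPGroup 2 (Cfsg.pCore 2 N) := pCore_isPGroup
  have hn : (Cfsg.pCore 2 N).Normal := Subgroup.sSup_normal _ (fun _ h => h.1)
  refine le_sSup ⟨⟨fun x hx g => ?_⟩, hp.map _⟩
  obtain ⟨y, hy, rfl⟩ := hx
  refine ⟨MulAut.conjNormal g y, ?_, MulAut.conjNormal_apply g y⟩
  have hle : (Cfsg.pCore 2 N).map (MulAut.conjNormal g : MulAut N).toMonoidHom ≤ Cfsg.pCore 2 N :=
    le_sSup ⟨hn.map _ (MulAut.conjNormal g : MulAut N).surjective, hp.map _⟩
  exact hle ⟨y, hy, rfl⟩

include hD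

omit [Finite G] in
/-- Members in the cosets of two points of a line commute. -/
theorem coset_commute (N : Subgroup G) [N.Normal] (hN : ∀ d ∈ D, d ∉ N) {a c : G} (hl : Line D a c)
    {x y : G} (hx : x ∈ D) (hy : y ∈ D) (hxa : QuotientGroup.mk' N x = QuotientGroup.mk' N a)
    (hyc : QuotientGroup.mk' N y = QuotientGroup.mk' N c) : Commute x y := by
  set φ := QuotientGroup.mk' N
  have e : φ (x * y) = φ (a * c) := by rw [map_mul, map_mul, hxa, hyc]
  have h2 : φ (a * c) * φ (a * c) = 1 := by rw [← map_mul, sq hD hl.mul_mem, map_one]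
  have hker : ∀ z, φ z = 1 → z ∈ N := fun z => (QuotientGroup.eq_one_iff z).1
  rcases hD.pair x hx y hy with h | h | ⟨-, h4⟩
  · exact h
  · exfalso
    obtain ⟨k, hk⟩ := h
    have h1 : φ (a * c) ^ orderOf (x * y) = 1 := by rw [← e, ← map_pow, pow_orderOf_eq_one, map_one]
    rw [hk, pow_succ, pow_mul, pow_two, h2, one_pow, one_mul] at h1
    exact hN _ hl.mul_mem (hker _ h1)
  · exfalso
    refine hN _ h4 (hker _ ?_)
    rw [map_pow, e, pow_two, h2]

/-- For a point `a` of a line, the commutators of `a` with a normal subgroup avoiding `D` lie in the 2-core. -/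
theorem commutator_mem_pCore (N : Subgroup G) [N.Normal] (hN : ∀ d ∈ D, d ∉ N) {a c : G} (hl : Line D a c)
    {n : G} (hn : n ∈ N) : a * n * a⁻¹ * n⁻¹ ∈ Cfsg.pCore 2 G := by
  have ha := hl.mem
  have hmk : ∀ {d m : G}, m ∈ N → QuotientGroup.mk' N (m * d * m⁻¹) = QuotientGroup.mk' N d := fun {d m} hm => by
    have h1 : QuotientGroup.mk' N m = 1 := (QuotientGroup.eq_one_iff m).2 hm
    simp [map_mul, map_inv, h1]
  have hcom : ∀ m ∈ N, Commute a (m * a * m⁻¹) := by
    intro m hm
    have hx : m * a * m⁻¹ ∈ D := hD.conj_mem a ha m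
    have h1 : Commute c (m * a * m⁻¹) := (coset_commute hD N hN hl hx hl.mem' (hmk hm) rfl).symm
    have h2 : Commute (a * c) (m * a * m⁻¹) :=
      (coset_commute hD N hN (line_third hD hl) hx hl.mul_mem (hmk hm) rfl).symm
    have h3 := h2.mul_left h1
    rwa [mul_assoc, sq hD hl.mem', mul_one] at h3
  have hpair : ∀ m ∈ N, ∀ m' ∈ N, Commute (m * a * m⁻¹) (m' * a * m'⁻¹) := by
    intro m hm m' hm'
    have := (hcom (m⁻¹ * m') (mul_mem (inv_mem hm) hm')).map (MulAut.conj m).toMonoidHom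
    simp only [MulEquiv.coe_toMonoidHom, MulAut.conj_apply] at this
    convert this using 1
    group
  let O : Set G := {x | ∃ m ∈ N, m * a * m⁻¹ = x}
  let K := Subgroup.closure O
  have hKc : IsMulCommutative K := Subgroup.isMulCommutative_closure (by
    rintro _ ⟨m, hm, rfl⟩ _ ⟨m', hm', rfl⟩; exact hpair m hm m' hm')
  have hKsq : ∀ x ∈ K, x * x = 1 := by
    intro x hx
    induction hx using Subgroup.closure_induction with
    | mem v hv => obtain ⟨m, -, rfl⟩ := hv; exact sq hD (hD.conj_mem a ha m)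
    | one => exact one_mul 1
    | mul v w hv hw ihv ihw =>
      have hc : Commute w v := congrArg Subtype.val (hKc.is_comm.comm (⟨w, hw⟩ : K) ⟨v, hv⟩)
      rw [hc.mul_mul_mul_comm, ihv, ihw, one_mul]
    | inv v hv ihv => rw [← mul_inv_rev, ihv, inv_one]
  have hKN : ∀ g ∈ N, ∀ x ∈ K, g * x * g⁻¹ ∈ K := by
    intro g hg x hx
    induction hx using Subgroup.closure_induction with
    | mem v hv =>
      obtain ⟨m, hm, rfl⟩ := hv
      exact Subgroup.subset_closure ⟨g * m, mul_mem hg hm, by group⟩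
    | one => rw [mul_one, mul_inv_cancel]; exact one_mem K
    | mul v w _ _ ihv ihw => rw [← conj_mul]; exact mul_mem ihv ihw
    | inv v _ ihv => rw [← conj_inv]; exact inv_mem ihv
  have hle : K.subgroupOf N ≤ Cfsg.pCore 2 N := by
    refine le_sSup ⟨⟨fun x hx g => ?_⟩, fun x => ⟨1, ?_⟩⟩
    · exact hKN g g.2 x hx
    · apply Subtype.ext; apply Subtype.ext
      show (((x : N) : G)) ^ 2 ^ 1 = 1
      rw [pow_one, pow_two]; exact hKsq _ x.2
  have hw : a * n * a⁻¹ * n⁻¹ = a * (n * a * n⁻¹) := by rw [inv hD ha]; group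
  refine pCore_normal_sub N ⟨⟨a * n * a⁻¹ * n⁻¹, mul_mem (Subgroup.Normal.conj_mem inferInstance n hn a) (inv_mem hn)⟩, hle ?_, rfl⟩
  show a * n * a⁻¹ * n⁻¹ ∈ K
  rw [hw]
  exact mul_mem (Subgroup.subset_closure ⟨1, one_mem N, by group⟩) (Subgroup.subset_closure ⟨n, hn, rfl⟩)

omit [Finite G] in
/-- Every point lies on a line when some line exists and `D` is one class. -/
theorem exists_line (hcl : ∀ a ∈ D, ∀ b ∈ D, ∃ g : G, b = g * a * g⁻¹)
    (hDD : (D ∩ Cfsg.commutingProducts D).Nonempty) {a : G} (ha : a ∈ D) : ∃ c, Line D a c := by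
  obtain ⟨x, hx, u, hu, v, hv, huv, -, rfl⟩ := hDD
  obtain ⟨g, rfl⟩ := hcl u hu a ha
  exact ⟨_, line_conj hD ⟨hu, hv, huv, hx⟩ g⟩

/-- A normal subgroup avoiding `D` is central modulo the 2-core. -/
theorem le_twoZCore_of_avoid (hcl : ∀ a ∈ D, ∀ b ∈ D, ∃ g : G, b = g * a * g⁻¹)
    (hDD : (D ∩ Cfsg.commutingProducts D).Nonempty) (N : Subgroup G) [N.Normal] (hN : ∀ d ∈ D, d ∉ N) :
    N ≤ Cfsg.twoZCore G := by
  intro n hn
  let φ := QuotientGroup.mk' (Cfsg.pCore 2 G)
  refine Subgroup.mem_comap.2 (Subgroup.mem_center_iff.2 fun q => ?_)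
  obtain ⟨g, rfl⟩ := QuotientGroup.mk'_surjective (Cfsg.pCore 2 G) q
  have hg : g ∈ Subgroup.closure D := hD.generates ▸ Subgroup.mem_top g
  show φ g * φ n = φ n * φ g
  induction hg using Subgroup.closure_induction with
  | mem a ha =>
    obtain ⟨c, hl⟩ := exists_line hD hcl hDD ha
    have h := commutator_mem_pCore hD N hN hl hn
    have h1 : φ (a * n * a⁻¹ * n⁻¹) = 1 := (QuotientGroup.eq_one_iff _).2 h
    simp only [map_mul, map_inv] at h1
    exact mul_inv_eq_iff_eq_mul.1 (mul_inv_eq_one.1 h1)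
  | one => simp
  | mul v w _ _ ihv ihw =>
    simp only [map_mul]
    exact (Commute.mul_left (show Commute (φ v) (φ n) from ihv) ihw).eq
  | inv v _ ihv =>
    simp only [map_inv]
    exact (show Commute (φ v) (φ n) from ihv).inv_left.eq

/-- No odd pair is commuting modulo the 2-core. -/
theorem odd_pair_quotient {a b : G} (hb : b ∈ D) (ha : a ∈ D) (hne : a ≠ b) (hodd : Odd (orderOf (a * b))) :
    a * b * a⁻¹ * b⁻¹ ∉ Cfsg.pCore 2 G := by
  intro h
  rw [inv hD ha, inv hD hb, show a * b * a * b = (a * b) ^ 2 by rw [pow_two]; group] at h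
  obtain ⟨k, hk⟩ := pCore_isPGroup ⟨_, h⟩
  have h1 : ((a * b) ^ 2) ^ 2 ^ k = 1 := congrArg Subtype.val hk
  rw [← pow_mul, ← pow_succ'] at h1
  have := odd_pow_two_pow hodd h1
  rw [mul_eq_one_iff_eq_inv, inv hD hb] at this
  exact hne this

theorem radical_main (hc : IsConnectedSet (OddAdj D) D) (hDD : (D ∩ Cfsg.commutingProducts D).Nonempty) :
    Cfsg.solvableRadical G = Cfsg.twoZCore G ∧ IsSimpleGroup (G ⧸ Cfsg.twoZCore G) := by
  have hcl := class_of_connected hD hc
  have hnormal : (Cfsg.pCore 2 G).Normal := Subgroup.sSup_normal _ (fun _ h => h.1)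
  -- an odd pair
  obtain ⟨a, b, ha, hb, hne, hodd⟩ : ∃ a b, a ∈ D ∧ b ∈ D ∧ a ≠ b ∧ Odd (orderOf (a * b)) := by
    obtain ⟨x, hx, u, hu, v, hv, huv, -, rfl⟩ := hDD
    rcases (hc u hu v hv).cases_head with h | ⟨w, hw, -⟩
    · exact absurd h (line_ne hD ⟨hu, hv, huv, hx⟩)
    · exact ⟨u, w, hw⟩
  have hbig : ∀ N : Subgroup G, N.Normal → (∃ d ∈ D, d ∈ N) → N = ⊤ := by
    rintro N hN ⟨d, hd, hdN⟩
    rw [eq_top_iff, ← hD.generates, Subgroup.closure_le]
    intro e he
    obtain ⟨g, rfl⟩ := hcl d hd e he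
    exact hN.conj_mem d hdN g
  have hZne : Cfsg.twoZCore G ≠ ⊤ := by
    intro htop
    refine odd_pair_quotient hD hb ha hne hodd ?_
    rw [← QuotientGroup.eq_one_iff]
    have hz : QuotientGroup.mk' (Cfsg.pCore 2 G) a ∈ Subgroup.center _ :=
      Subgroup.mem_comap.1 (htop ▸ Subgroup.mem_top a : a ∈ Cfsg.twoZCore G)
    have := Subgroup.mem_center_iff.1 hz (QuotientGroup.mk' (Cfsg.pCore 2 G) b)
    simp only [QuotientGroup.mk'_apply] at this
    simp only [QuotientGroup.mk_mul, QuotientGroup.mk_inv]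
    rw [← this]; group
  have hZsol : Group.IsSolvable (Cfsg.twoZCore G) := by
    have : Fact (Nat.Prime 2) := ⟨Nat.prime_two⟩
    let φ := (QuotientGroup.mk' (Cfsg.pCore 2 G)).comp (Cfsg.twoZCore G).subtype
    have hker : φ.ker ≤ ((Cfsg.pCore 2 G).subgroupOf (Cfsg.twoZCore G)).subtype.range := by
      rw [Subgroup.range_subtype]
      intro x hx
      have h1 : ((x : G) : G ⧸ Cfsg.pCore 2 G) = 1 := hx
      exact (QuotientGroup.eq_one_iff (x : G)).1 h1
    have hp : IsPGroup 2 ((Cfsg.pCore 2 G).subgroupOf (Cfsg.twoZCore G)) :=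
      pCore_isPGroup.comap_of_injective _ (Subgroup.subtype_injective _)
    have := hp.isNilpotent
    let ψ : Cfsg.twoZCore G →* Subgroup.center (G ⧸ Cfsg.pCore 2 G) :=
      φ.codRestrict _ fun x => x.2
    have hψ : ψ.ker ≤ ((Cfsg.pCore 2 G).subgroupOf (Cfsg.twoZCore G)).subtype.range := fun x hx =>
      hker (congrArg Subtype.val hx)
    have : Group.IsSolvable (Subgroup.center (G ⧸ Cfsg.pCore 2 G)) :=
      ⟨⟨1, by rw [derivedSeries_one, commutator_eq_bot_iff_center_eq_top, eq_top_iff]; exact fun x _ =>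
        Subgroup.mem_center_iff.2 fun y => Subtype.ext (Subgroup.mem_center_iff.1 x.2 y)⟩⟩
    exact Group.isSolvable_of_ker_le_range _ ψ hψ
  refine ⟨le_antisymm (sSup_le fun N ⟨hN, hNs⟩ => ?_) (le_sSup ⟨inferInstance, hZsol⟩), ?_⟩
  · by_contra hle
    obtain ⟨d, hd, hdN⟩ : ∃ d ∈ D, d ∈ N := by
      by_contra hno; push Not at hno
      exact hle (le_twoZCore_of_avoid hD hcl hDD N hno)
    have hNt := hbig N hN ⟨d, hd, hdN⟩
    have : Group.IsSolvable G := by
      subst hNt
      exact Group.isSolvable_of_surjective (f := (⊤ : Subgroup G).subtype) fun x => ⟨⟨x, trivial⟩, rfl⟩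
    have hlt : commutator G < ⊤ := by
      have : Nontrivial G := ⟨⟨a, b, hne⟩⟩
      exact Group.IsSolvable.commutator_lt_top_of_nontrivial (G := G)
    have hC : commutator G ≤ Cfsg.twoZCore G := le_twoZCore_of_avoid hD hcl hDD _ fun e he heC =>
      hlt.ne (hbig _ inferInstance ⟨e, he, heC⟩)
    -- iterate once more: the commutator pair
    refine odd_pair_quotient hD hb ha hne hodd ?_
    have hcz : a * b * a⁻¹ * b⁻¹ ∈ Cfsg.twoZCore G :=
      hC (Subgroup.commutator_mem_commutator (Subgroup.mem_top a) (Subgroup.mem_top b))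
    rw [inv hD ha, inv hD hb] at hcz ⊢
    rw [← QuotientGroup.eq_one_iff]
    have hz := Subgroup.mem_center_iff.1 (Subgroup.mem_comap.1 hcz)
      (QuotientGroup.mk' (Cfsg.pCore 2 G) a)
    simp only [← map_mul] at hz
    have e1 : a * (a * b * a * b) * a⁻¹ = (a * b * a * b)⁻¹ := by
      simp only [mul_inv_rev, inv hD ha, inv hD hb]
      rw [show a * (a * b * a * b) * a = (a * a) * b * a * b * a by group, sq hD ha, one_mul]
      group
    set z := a * b * a * b
    have h2 : (QuotientGroup.mk' (Cfsg.pCore 2 G)) (z ^ 2) = 1 := by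
      have : (QuotientGroup.mk' (Cfsg.pCore 2 G)) (a * z * a⁻¹) = QuotientGroup.mk' (Cfsg.pCore 2 G) z := by
        rw [map_mul, hz, map_mul, map_inv, mul_inv_cancel_right]
      rw [e1, map_inv] at this
      rw [map_pow, pow_two]; nth_rewrite 1 [← this]; exact inv_mul_cancel _
    obtain ⟨k, hk⟩ := pCore_isPGroup ⟨_, (QuotientGroup.eq_one_iff _).1 h2⟩
    have h3 : (z ^ 2) ^ 2 ^ k = 1 := congrArg Subtype.val hk
    have hz2 : z = (a * b) ^ 2 := by rw [pow_two]; simp only [z]; group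
    rw [hz2, ← pow_mul, ← pow_mul] at h3
    have : a * b = 1 := odd_pow_two_pow hodd (k := k + 2) (by
      rw [show 2 ^ (k + 2) = 2 * (2 * 2 ^ k) by ring]; exact h3)
    exact absurd (by rw [mul_eq_one_iff_eq_inv, inv hD hb] at this; exact this) hne
  · have hnt : Nontrivial (G ⧸ Cfsg.twoZCore G) := QuotientGroup.nontrivial_iff.2 hZne
    refine ⟨fun N' hN' => ?_⟩
    let π := QuotientGroup.mk' (Cfsg.twoZCore G)
    by_cases h : ∃ d ∈ D, d ∈ N'.comap π
    · right
      have := hbig _ (hN'.comap π) h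
      rw [← Subgroup.map_comap_eq_self_of_surjective (f := π) (QuotientGroup.mk'_surjective _) N', this,
        Subgroup.map_top_of_surjective π (QuotientGroup.mk'_surjective _)]
    · left
      push Not at h
      have := hN'.comap π
      have hle := le_twoZCore_of_avoid hD hcl hDD (N'.comap π) h
      rw [← Subgroup.map_comap_eq_self_of_surjective (f := π) (QuotientGroup.mk'_surjective _) N',
        Subgroup.map_eq_bot_iff]
      exact hle.trans (QuotientGroup.ker_mk' _).ge

end CfsgLib.RootInv
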