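import Cfsg.Agent.RootSubgroups.BlockParity
import Cfsg.Agent.RootSubgroups.LineRadical
import Cfsg.Agent.Bender.StructureMain

/-!
The graph of lines of a non-degenerate class of root involutions is connected, given the criterion
for strong embedding.
-/

set_option autoImplicit false
set_option linter.unusedSectionVars false

namespace CfsgLib.RootBlock

open Cfsg CfsgLib.RootInv Subgroup

universe u

/-- The criterion for strong embedding. -/
def Criterion : Prop :=
  ∀ (G : Type u) [Group G] [Finite G] [IsSimpleGroup G] (M : Subgroup G), M ≠ ⊤ → ∀ z : G,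
    orderOf z = 2 → z ∈ M → (∃ S : Sylow 2 G, z ∈ S ∧ ∀ s ∈ S, Commute s z) →
    (∀ g : G, g * z * g⁻¹ ∈ M → g ∈ M) →
    (∀ g : G, Commute z (g * z * g⁻¹) → g * z * g⁻¹ ≠ z →
      centralizer ({z * (g * z * g⁻¹)} : Set G) ≤ M) →
    ∃ H : Subgroup G, Cfsg.IsStronglyEmbedded H

/-- The graph of lines is connected in groups of order below `n`. -/
def ConnBelow (n : ℕ) : Prop :=
  ∀ (H : Type u) [Group H] [Finite H] (E : Set H), Nat.card H < n →
    IsNondegenerateRootInvolutionSet E → IsRootInvolutionClass E → IsConnectedSet (ProdAdj E) E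

variable {G : Type u} [Group G] [Finite G] {D : Set G}

/-- A member with product of order four with a partner, and a member of another block, generate. -/
theorem gen_of_below (IH : ConnBelow.{u} (Nat.card G)) (hD : IsRootInvolutionSet D) {a b x : G}
    (ha : a ∈ D) (hb : b ∈ D) (hx : x ∈ D) (h4 : orderOf (a * b) = 4) (hax : ¬ Bl D a x) :
    closure ({a, b, x} : Set G) = ⊤ := by
  by_contra hne
  set K := closure ({a, b, x} : Set G) with hK
  have haK : a ∈ K := subset_closure (by simp)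
  have hbK : b ∈ K := subset_closure (by simp)
  have hxK : x ∈ K := subset_closure (by simp)
  have hfar : ¬ Comp D a x := fun h => hax ⟨ha, hx, Or.inl h⟩
  have hnax : ¬ Commute a x := fun h => hax ⟨ha, hx, Or.inr h⟩
  have hab : Comp D a b := (comp_of_four hD ha hb h4).2
  have hfarb : ¬ Comp D b x := fun h => hfar (hab.trans h)
  have hnbx : ¬ Commute b x := fun h =>
    hnax (commute_comp hD hx h.symm hfarb (comp_symm hD hab)).symm
  have hcen : ∀ y : G, y ∈ K → (Commute y a ∧ Commute y b ∧ Commute y x) → ∀ g ∈ K, Commute g y := by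
    intro y _ hy g hg
    have hle : K ≤ centralizer ({y} : Set G) := (closure_le _).2 (by
      rintro z (rfl | rfl | rfl) <;> refine mem_centralizer_singleton_iff.2 ?_
      exacts [hy.1.symm.eq, hy.2.1.symm.eq, hy.2.2.symm.eq])
    exact mem_centralizer_singleton_iff.1 (hle hg)
  -- members of `K` off the centre
  set E : Set K := {y | (y : G) ∈ D ∧ y ∉ center K} with hE
  have hmemE : ∀ y : K, (y : G) ∈ D → (∃ g : K, ¬ Commute (g : G) y) → y ∈ E := by
    rintro y hy ⟨g, hg⟩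
    exact ⟨hy, fun h => hg (congrArg Subtype.val (mem_center_iff.1 h g))⟩
  have haE : (⟨a, haK⟩ : K) ∈ E := hmemE _ ha ⟨⟨x, hxK⟩, fun h => hnax h.symm⟩
  have hbE : (⟨b, hbK⟩ : K) ∈ E := hmemE _ hb ⟨⟨x, hxK⟩, fun h => hnbx h.symm⟩
  have hxE : (⟨x, hxK⟩ : K) ∈ E := hmemE _ hx ⟨⟨a, haK⟩, hnax⟩
  have hnc : ∀ y ∈ E, ¬ (Commute (y : G) a ∧ Commute (y : G) b ∧ Commute (y : G) x) := fun y hy h =>
    hy.2 (mem_center_iff.2 fun g => Subtype.ext (hcen y y.2 h g g.2).eq)
  have hfour : ∀ y ∈ E, ∀ y' ∈ E, orderOf ((y : G) * y') = 4 → (y * y') ^ 2 ∈ E := by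
    intro y hy y' hy' h
    have hc : ((y : G) * y') ^ 2 ∈ D := (four hD hy.1 hy'.1 h).1
    refine ⟨by simpa using hc, fun hcc => hnc y hy ?_⟩
    have hcomp : Comp D (y : G) (((y : G) * y') ^ 2) := (comp_of_four hD hy.1 hy'.1 h).1
    have hcm : ∀ z ∈ K, Commute z (((y : G) * y') ^ 2) := fun z hz => by
      simpa [Commute, SemiconjBy] using congrArg Subtype.val (mem_center_iff.1 hcc ⟨z, hz⟩)
    have key : ∀ z ∈ D, z ∈ K → ¬ Comp D (y : G) z → Commute (y : G) z := fun z hz hzK hne =>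
      (commute_comp hD hz (hcm z hzK) (fun e => hne (hcomp.trans e)) (comp_symm hD hcomp)).symm
    have hya : ¬ Comp D (y : G) a := fun e => hnax
      (commute_comp hD hx (hcm x hxK) (fun e' => hfar ((comp_symm hD e).trans (hcomp.trans e')))
        ((comp_symm hD hcomp).trans e)).symm
    have hyb : ¬ Comp D (y : G) b := fun e => hya (e.trans (comp_symm hD hab))
    have hyx : ¬ Comp D (y : G) x := fun e => hnax
      (commute_comp hD ha (hcm a haK) (fun e' => hya (hcomp.trans e'))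
        ((comp_symm hD hcomp).trans e))
    exact ⟨key a ha haK hya, key b hb hbK hyb, key x hx hxK hyx⟩
  have hodd : ∀ y z : K, (y : G) ∈ D → (z : G) ∈ D → Odd (orderOf ((y : G) * z)) →
      ∃ g : K, z = g * y * g⁻¹ := by
    intro y z hy hz h
    obtain ⟨d, hd, e⟩ := Invol.exists_conj_of_odd (hD.orderOf_eq _ hy) (hD.orderOf_eq _ hz) h
    have hdK : d ∈ K := (closure_le K).2 (by rintro w (rfl | rfl); exacts [y.2, z.2]) hd
    exact ⟨⟨d, hdK⟩, Subtype.ext e.symm⟩
  have hax_ne : a ≠ x := by rintro rfl; exact hnax (Commute.refl a)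
  have hax_odd : Odd (orderOf (a * x)) := (far_pair hD ha hx hfar).resolve_left hnax
  have hbx_odd : Odd (orderOf (b * x)) := (far_pair hD hb hx hfarb).resolve_left hnbx
  have hroot : IsRootInvolutionSet E := by
    refine ⟨fun y hy => ?_, ?_, fun y hy g => ⟨hD.conj_mem _ hy.1 g, fun h => ?_⟩, fun y hy y' hy' => ?_⟩
    · rw [← orderOf_coe]; exact hD.orderOf_eq _ hy.1
    · rw [eq_top_iff, ← closure_closure_coe_preimage (k := ({a, b, x} : Set G))]
      refine closure_mono ?_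
      intro z hz
      rcases (hz : (z : G) ∈ ({a, b, x} : Set G)) with h | h | h
      · rwa [show z = ⟨a, haK⟩ from Subtype.ext h]
      · rwa [show z = ⟨b, hbK⟩ from Subtype.ext h]
      · rwa [show z = ⟨x, hxK⟩ from Subtype.ext h]
    · refine hy.2 ?_
      have := (inferInstance : (center K).Normal).conj_mem _ h g⁻¹
      rwa [show g⁻¹ * (g * y * g⁻¹) * g⁻¹⁻¹ = y by group] at this
    · rcases hD.pair _ hy.1 _ hy'.1 with h | h | ⟨h, -⟩
      · exact Or.inl (Subtype.ext h)
      · refine Or.inr (Or.inl ?_)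
        rw [← orderOf_coe]; exact h
      · refine Or.inr (Or.inr ⟨?_, hfour y hy y' hy' h⟩)
        rw [← orderOf_coe]; exact h
  have hclass : ∀ y ∈ E, ∃ g : K, y = g * (⟨x, hxK⟩ : K) * g⁻¹ := by
    intro y hy
    have hxy : Odd (orderOf (x * (y : G))) → ∃ g : K, y = g * (⟨x, hxK⟩ : K) * g⁻¹ :=
      hodd ⟨x, hxK⟩ y hx hy.1
    obtain ⟨k, hk⟩ : ∃ g : K, (⟨a, haK⟩ : K) = g * (⟨x, hxK⟩ : K) * g⁻¹ :=
      hodd ⟨x, hxK⟩ ⟨a, haK⟩ hx ha (orderOf_mul_comm a x ▸ hax_odd)
    obtain ⟨k', hk'⟩ : ∃ g : K, (⟨b, hbK⟩ : K) = g * (⟨x, hxK⟩ : K) * g⁻¹ :=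
      hodd ⟨x, hxK⟩ ⟨b, hbK⟩ hx hb (orderOf_mul_comm b x ▸ hbx_odd)
    have hay : Odd (orderOf (a * (y : G))) → ∃ g : K, y = g * (⟨x, hxK⟩ : K) * g⁻¹ := fun h => by
      obtain ⟨g, hg⟩ := hodd ⟨a, haK⟩ y ha hy.1 h
      exact ⟨g * k, by rw [hg, hk]; group⟩
    have hby : Odd (orderOf (b * (y : G))) → ∃ g : K, y = g * (⟨x, hxK⟩ : K) * g⁻¹ := fun h => by
      obtain ⟨g, hg⟩ := hodd ⟨b, hbK⟩ y hb hy.1 h
      exact ⟨g * k', by rw [hg, hk']; group⟩
    by_cases hya : Comp D a (y : G)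
    · have hne : ¬ Comp D (y : G) x := fun e => hfar (hya.trans e)
      refine hxy ((far_pair hD hx hy.1 fun e => hne (comp_symm hD e)).resolve_left fun h => ?_)
      exact hnax (commute_comp hD hx h hne (comp_symm hD hya)).symm
    by_cases hyx : Comp D x (y : G)
    · refine hay ((far_pair hD ha hy.1 hya).resolve_left fun h => ?_)
      exact hnax (commute_comp hD ha h (fun e => hya (comp_symm hD e)) (comp_symm hD hyx))
    have hyb : ¬ Comp D b (y : G) := fun e => hya (hab.trans e)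
    rcases far_pair hD ha hy.1 hya with h1 | h1
    · rcases far_pair hD hb hy.1 hyb with h2 | h2
      · rcases far_pair hD hx hy.1 hyx with h3 | h3
        · exact absurd ⟨h1.symm, h2.symm, h3.symm⟩ (hnc y hy)
        · exact hxy h3
      · exact hby h2
    · exact hay h1
  have hcls : IsRootInvolutionClass E := ⟨hroot, ⟨_, haE⟩, fun y hy z hz => by
    obtain ⟨g, rfl⟩ := hclass y hy
    obtain ⟨g', rfl⟩ := hclass z hz
    exact ⟨g' * g⁻¹, by group⟩⟩
  have hnd : IsNondegenerateRootInvolutionSet E := by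
    refine ⟨hroot, ⟨_, haE, _, hfour _ haE _ hbE h4, ?_, Subtype.ext ?_⟩,
      ⟨_, haE, _, hxE, fun e => hax_ne (congrArg Subtype.val e), ?_⟩,
      ⟨_, haE, _, hbE, ?_⟩⟩
    · intro e
      exact line_ne hD (four hD ha hb h4).2.2.2.2 (by simpa using congrArg Subtype.val e)
    · simpa using (four hD ha hb h4).2.1.eq
    · rw [← orderOf_coe]; exact hax_odd
    · rw [← orderOf_coe]; exact h4
  have hlt : Nat.card K < Nat.card G := by
    rw [← card_top (G := G)]
    refine lt_of_le_of_ne (card_le_card_group K |>.trans card_top.ge) fun e => hne ?_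
    exact eq_top_of_card_eq K (e.trans card_top)
  have hconn := IH K E hlt hnd hcls _ haE _ hxE
  refine hfar ?_
  exact hconn.lift Subtype.val fun y z h =>
    ⟨h.1.1, h.2.1.1, fun e => h.2.2.1 (Subtype.ext e), congrArg Subtype.val h.2.2.2.1, h.2.2.2.2.1⟩

theorem ctx_of_below (IH : ConnBelow.{u} (Nat.card G)) (hnd : IsNondegenerateRootInvolutionSet D)
    (hcl : IsRootInvolutionClass D) : Ctx D :=
  ⟨hnd, hcl, fun _ ha _ hb _ hx h4 h => gen_of_below IH hnd.1 ha hb hx h4 h⟩

theorem commutingProducts_nonempty (hnd : IsNondegenerateRootInvolutionSet D) :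
    (D ∩ Cfsg.commutingProducts D).Nonempty := by
  obtain ⟨hD, -, -, a, ha, b, hb, h4⟩ := hnd
  have hl := (four hD ha hb h4).2.2.2.2
  exact ⟨_, hl.mul_mem, a, ha, _, hl.mem', hl.comm.eq, ne_one hD hl.mul_mem, rfl⟩

/-- In a counterexample of least order the centre modulo the 2-core is trivial. -/
theorem twoZCore_eq_bot (IH : ConnBelow.{u} (Nat.card G)) (hnd : IsNondegenerateRootInvolutionSet D)
    (hcl : IsRootInvolutionClass D) (hbad : ¬ IsConnectedSet (ProdAdj D) D) :
    Cfsg.twoZCore G = ⊥ := by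
  by_contra hZ
  have hD := hnd.1
  have C := ctx_of_below IH hnd hcl
  set Z := Cfsg.twoZCore G
  set π := QuotientGroup.mk' Z with hπ
  have hker : ∀ g, π g = 1 ↔ g ∈ Z := fun g => QuotientGroup.eq_one_iff g
  have hpair : ∀ p ∈ D, ∀ q ∈ D, p ≠ q → Odd (orderOf (p * q)) → p * q ∉ Z := by
    intro p hp q hq hne hodd h
    refine odd_pair_quotient hD hq hp hne hodd ?_
    have := sSup_normal (G := G) {N | N.Normal ∧ IsPGroup 2 N} fun _ h => h.1
    rw [← QuotientGroup.eq_one_iff]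
    have h1 := mem_center_iff.1 (mem_comap.1 h) (QuotientGroup.mk' (Cfsg.pCore 2 G) p)
    rw [← map_mul, ← map_mul] at h1
    simp only [QuotientGroup.mk'_apply] at h1
    rw [← mul_assoc, sq hD hp, one_mul] at h1
    rw [inv hD hp, inv hD hq, QuotientGroup.mk_mul, ← h1, ← QuotientGroup.mk_mul, sq hD hq,
      QuotientGroup.mk_one]
  have hDZ : ∀ d ∈ D, d ∉ Z := by
    intro d hd h
    obtain ⟨p, hp, q, hq, hne, hodd⟩ := hnd.2.2.1
    obtain ⟨g, rfl⟩ := hcl.2.2 d hd p hp
    obtain ⟨g', rfl⟩ := hcl.2.2 d hd q hq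
    exact hpair _ hp _ hq hne hodd (mul_mem ((inferInstance : Z.Normal).conj_mem d h g)
      ((inferInstance : Z.Normal).conj_mem d h g'))
  have hsame : ∀ u ∈ D, ∀ v ∈ D, π u = π v → Bl D u v := by
    intro u hu v hv e
    by_contra h
    obtain ⟨hne, hodd⟩ := not_bl_odd hD hu hv h
    refine hpair u hu v hv hne hodd ((hker _).1 ?_)
    rw [map_mul, e, ← map_mul, sq hD hv, map_one]
  set E := π '' D with hE
  have hoE : ∀ d ∈ D, orderOf (π d) = 2 := fun d hd =>
    Invol.orderOf_eq_two (by rw [← map_mul, sq hD hd, map_one]) fun e => hDZ d hd ((hker _).1 e)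
  have hline : ∀ u v, Line D u v → π u ≠ π v := by
    intro u v hl e
    refine hDZ _ hl.mul_mem ((hker _).1 ?_)
    rw [map_mul, e, ← map_mul, sq hD hl.mem', map_one]
  have hfour : ∀ a ∈ D, ∀ b ∈ D, orderOf (a * b) = 4 → orderOf (π a * π b) = 4 := by
    intro a ha b hb h
    rw [← map_mul]
    have : Fact (Nat.Prime 2) := ⟨Nat.prime_two⟩
    refine orderOf_eq_prime_pow (p := 2) (n := 1) ?_ ?_
    · rw [pow_one, ← map_pow]
      exact fun e => hDZ _ (four hD ha hb h).1 ((hker _).1 e)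
    · rw [← map_pow, show (2 : ℕ) ^ (1 + 1) = 4 by norm_num, ← h, pow_orderOf_eq_one, map_one]
  have hroot : IsRootInvolutionSet E := by
    refine ⟨?_, ?_, ?_, ?_⟩
    · rintro _ ⟨d, hd, rfl⟩; exact hoE d hd
    · rw [hE, ← MonoidHom.map_closure, hD.generates,
        map_top_of_surjective π (QuotientGroup.mk'_surjective Z)]
    · rintro _ ⟨d, hd, rfl⟩ g
      obtain ⟨k, rfl⟩ := QuotientGroup.mk'_surjective Z g
      exact ⟨k * d * k⁻¹, hD.conj_mem d hd k, by simp [hπ]⟩
    · rintro _ ⟨a, ha, rfl⟩ _ ⟨b, hb, rfl⟩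
      rcases hD.pair a ha b hb with h | h | ⟨h, hc⟩
      · left; rw [← map_mul, h, map_mul]
      · right; left
        rw [← map_mul]
        exact h.of_dvd_nat (orderOf_map_dvd π _)
      · right; right
        exact ⟨hfour a ha b hb h, _, hc, by rw [map_pow, map_mul]⟩
  have hcls : IsRootInvolutionClass E := by
    refine ⟨hroot, hcl.2.1.image π, ?_⟩
    rintro _ ⟨a, ha, rfl⟩ _ ⟨b, hb, rfl⟩
    obtain ⟨g, rfl⟩ := hcl.2.2 a ha b hb
    exact ⟨π g, by simp⟩
  have hndE : IsNondegenerateRootInvolutionSet E := by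
    obtain ⟨-, -, ⟨p, hp, q, hq, hne, hodd⟩, a, ha, b, hb, h4⟩ := hnd
    have hl := (four hD ha hb h4).2.2.2.2
    refine ⟨hroot, ⟨_, ⟨a, ha, rfl⟩, _, ⟨_, hl.mem', rfl⟩, hline _ _ hl, ?_⟩,
      ⟨_, ⟨p, hp, rfl⟩, _, ⟨q, hq, rfl⟩, fun e => ?_, ?_⟩, _, ⟨a, ha, rfl⟩, _, ⟨b, hb, rfl⟩, hfour a ha b hb h4⟩
    · rw [← map_mul, hl.comm.eq, map_mul]
    · refine hpair p hp q hq hne hodd ((hker _).1 ?_)
      rw [map_mul, e, ← map_mul, sq hD hq, map_one]
    · rw [← map_mul]; exact hodd.of_dvd_nat (orderOf_map_dvd π _)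
  have hlt : Nat.card (G ⧸ Z) < Nat.card G := by
    have h1 := Z.card_eq_card_quotient_mul_card_subgroup
    have h2 : 1 < Nat.card Z := Subgroup.one_lt_card_iff_ne_bot Z |>.2 hZ
    have h3 : 0 < Nat.card (G ⧸ Z) := Nat.card_pos
    rw [h1]
    exact lt_mul_of_one_lt_right h3 h2
  have hconn := IH (G ⧸ Z) E hlt hndE hcls
  -- all members are in one block
  obtain ⟨a, ha⟩ := hcl.2.1
  obtain ⟨x, hx, hax⟩ := C.exists_not_bl hbad ha
  refine hax ?_
  have key : ∀ y, Relation.ReflTransGen (ProdAdj E) (π a) y → ∀ v ∈ D, π v = y → Bl D a v := by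
    intro y hy
    induction hy with
    | refl => exact fun v hv e => hsame a ha v hv e.symm
    | tail _ hpq ih =>
      intro v hv e
      obtain ⟨u, hu, hu'⟩ := hpq.1
      refine C.bl_trans (ih u hu hu') ?_
      by_contra h
      obtain ⟨-, hodd⟩ := not_bl_odd hD hu hv h
      have h2 : (π (u * v)) ^ 2 = 1 := by
        rw [map_mul, hu', e, pow_two]
        have hc : Commute (_ : G ⧸ Z) _ := hpq.2.2.2.1
        rw [hc.symm.mul_mul_mul_comm, Invol.mul_self_eq_one (hroot.orderOf_eq _ hpq.1),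
          Invol.mul_self_eq_one (hroot.orderOf_eq _ hpq.2.1), one_mul]
      have h3 : π (u * v) = 1 :=
        odd_pow_two_pow (hodd.of_dvd_nat (orderOf_map_dvd π _)) (k := 1) (by rw [pow_one]; exact h2)
      refine hpq.2.2.1 ?_
      rw [map_mul, hu', e] at h3
      rw [eq_inv_of_mul_eq_one_left h3, Invol.inv_eq_self (hroot.orderOf_eq _ hpq.2.1)]
  exact key _ (hconn _ ⟨a, ha, rfl⟩ _ ⟨x, hx, rfl⟩) x hx rfl

/-- A Sylow 2-subgroup of the group inside the stabiliser of a block, with a member of the block in its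
centre. -/
theorem Ctx.exists_central (C : Ctx D) (hcore : Cfsg.pCore 2 G = ⊥) {a : G} (ha : a ∈ D)
    (hex : ∃ x ∈ D, ¬ Bl D a x) :
    ∃ b, Bl D a b ∧ ∃ S : Sylow 2 G, b ∈ S ∧ ∀ s ∈ S, Commute s b := by
  have hD := C.root
  have : Fact (Nat.Prime 2) := ⟨Nat.prime_two⟩
  obtain ⟨T, hT, -, hTM, hTmax, -⟩ := exists_sylow_in (C.stab ha) ⊥ IsPGroup.of_bot bot_le
  set B : Set G := {y | Bl D a y} with hB
  have hTB : ∀ t ∈ T, ∀ y ∈ B, t * y * t⁻¹ ∈ B := fun t ht y hy =>
    C.bl_trans (hTM ht) (bl_conj hD t hy)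
  let : MulAction T B :=
    { smul := fun g v => ⟨g * v * (g : G)⁻¹, hTB g g.2 v v.2⟩
      one_smul := fun v => Subtype.ext (show ((1 : T) : G) * v * ((1 : T) : G)⁻¹ = v by simp)
      mul_smul := fun g h v => Subtype.ext
        (show ((g * h : T) : G) * v * ((g * h : T) : G)⁻¹ = g * (h * v * (h : G)⁻¹) * (g : G)⁻¹ by
          simp [mul_assoc]) }
  have hmod := hT.card_modEq_card_fixedPoints (B : Set G)
  have hodd : Odd B.ncard := C.odd_block hcore ha hex
  obtain ⟨⟨b, hbfix⟩⟩ : Nonempty (MulAction.fixedPoints T B) := by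
    by_contra h
    rw [not_nonempty_iff] at h
    have h0 : Nat.card (MulAction.fixedPoints T B) = 0 := Nat.card_of_isEmpty
    rw [h0, Nat.card_coe_set_eq] at hmod
    rw [Nat.odd_iff] at hodd
    unfold Nat.ModEq at hmod
    omega
  have hab : Bl D a (b : G) := b.2
  have hbD : (b : G) ∈ D := hab.2.1
  have hcomm : ∀ t ∈ T, Commute t (b : G) := fun t ht =>
    mul_inv_eq_iff_eq_mul.1 (congrArg Subtype.val (hbfix ⟨t, ht⟩) : t * b * t⁻¹ = b)
  have hbT : (b : G) ∈ T := by
    have hvp : IsPGroup 2 (zpowers (b : G)) := by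
      refine IsPGroup.of_card (n := 1) ?_
      rw [Nat.card_zpowers, hD.orderOf_eq _ hbD, pow_one]
    have hle : T ≤ normalizer (zpowers (b : G) : Set G) := fun t ht => by
      refine mem_normalizer_iff.2 fun g => ?_
      have key : ∀ k : ℤ, t * (b : G) ^ k * t⁻¹ = (b : G) ^ k := fun k => by
        rw [((hcomm t ht).zpow_right k).eq, mul_inv_cancel_right]
      constructor
      · rintro ⟨k, rfl⟩
        exact ⟨k, (key k).symm⟩
      · rintro ⟨k, hk⟩
        refine ⟨k, ?_⟩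
        have h1 : (b : G) ^ k = t * g * t⁻¹ := hk
        show (b : G) ^ k = g
        conv_lhs at h1 => rw [← key k]
        exact mul_left_cancel (mul_right_cancel h1)
    have h2 := hT.to_sup_of_normal_right' hvp hle
    rw [← hTmax _ h2 (sup_le hTM (zpowers_le.2 ((C.mem_stab_iff ha hbD).2 hab))) le_sup_left]
    exact mem_sup_right (mem_zpowers _)
  obtain ⟨P, hP⟩ := hT.exists_le_sylow
  refine ⟨b, hab, P, hP hbT, ?_⟩
  suffices hPT : (P : Subgroup G) ≤ T from fun s hs => hcomm s (hPT hs)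
  by_contra hne
  have := P.isPGroup'.isNilpotent
  have hlt : T.subgroupOf P < ⊤ := lt_top_iff_ne_top.2 fun e => hne (subgroupOf_eq_top.1 e)
  obtain ⟨z, hz, hzT⟩ := SetLike.exists_of_lt
    (Group.normalizerCondition_of_isNilpotent (G := (P : Subgroup G)) _ hlt)
  have hzT' : (z : G) ∉ T := hzT
  have hzb : (z : G) * b * (z : G)⁻¹ ∈ T :=
    (mem_normalizer_iff.1 hz ⟨b, hP hbT⟩).1 (show (⟨b, hP hbT⟩ : P) ∈ T.subgroupOf P from hbT)
  have hzM : (z : G) ∈ C.stab ha := by
    rw [C.stab_eq hab, C.mem_stab]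
    exact C.bl_trans (bl_symm hD hab) ((C.mem_stab_iff ha (hD.conj_mem _ hbD _)).1 (hTM hzb))
  have hle : T ⊔ zpowers (z : G) ≤ (P : Subgroup G) := sup_le hP (zpowers_le.2 z.2)
  have := hTmax _ (P.isPGroup'.to_le hle) (sup_le hTM (zpowers_le.2 hzM)) le_sup_left
  exact hzT' (this ▸ mem_sup_right (mem_zpowers _))

/-- No simple group with a strongly embedded subgroup has a non-degenerate class of root involutions
with a proper line. -/
theorem not_stronglyEmbedded [IsSimpleGroup G] (hnd : IsNondegenerateRootInvolutionSet D)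
    (hcl : IsRootInvolutionClass D) {H : Subgroup G} (hse : Cfsg.IsStronglyEmbedded H) : False := by
  have hD := hnd.1
  obtain ⟨d, hd⟩ := hcl.2.1
  obtain ⟨u, hl, x, ⟨hx, hxd, hodd⟩, hux⟩ := exists_proper_line hnd hcl hd
  have ho : ∀ {e}, e ∈ D → orderOf e = 2 := fun he => hD.orderOf_eq _ he
  obtain ⟨y, hy⟩ := StrongEmbed.exists_fix hse (ho hd)
  have step : ∀ {p q : G}, p ∈ D → q ∈ D → Commute p q → p • y = y → q • y = y := by
    intro p q hp hq hc h
    obtain ⟨w, hw⟩ := StrongEmbed.exists_fix hse (ho hq)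
    have h1 : q • (p • w) = p • w := by rw [← mul_smul, ← hc.eq, mul_smul, hw]
    have h2 : p • w = w := StrongEmbed.fix_unique hse (ho hq) h1 hw
    rwa [← StrongEmbed.fix_unique hse (ho hp) h2 h]
  have huy : u • y = y := step hd hl.mem hl.comm.symm hy
  obtain ⟨hc, huc, hxc, -, -⟩ := four hD hl.mem hx hux
  have hxy : x • y = y := step hc hx hxc.symm (step hl.mem hc huc huy)
  obtain ⟨g, rfl⟩ := QuotientGroup.mk_surjective y
  rw [StrongEmbed.smul_mk_iff] at hy hxy
  obtain ⟨T, hTH, hn, hT2, htr⟩ :=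
    Bender.Consumers.shape_of_simple Bender.Consumers.structure_all hse
  have hmem : ∀ {e : G}, e ∈ D → g⁻¹ * e * g ∈ H → g⁻¹ * e * g ∈ T := fun {e} he heH =>
    Bender.Consumers.two_mem_of_shape hse hTH hn htr heH (i := 1) (by
      rw [pow_one, pow_two,
        show g⁻¹ * e * g * (g⁻¹ * e * g) = g⁻¹ * (e * e) * g by group, sq hD he, mul_one,
        inv_mul_cancel])
  have hxg : g⁻¹ * x * g ∈ D := by simpa using hD.conj_mem x hx g⁻¹
  have h := eq_of_odd_two hD hT2 (hmem hd hy) (hmem hx hxy) hxg (by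
    rw [show g⁻¹ * d * g * (g⁻¹ * x * g) = g⁻¹ * (d * x) * g⁻¹⁻¹ by group, Invol.orderOf_conj_eq]
    exact hodd)
  exact hxd (mul_left_cancel (mul_right_cancel h)).symm

/-- The induction step. -/
theorem connected_step (hcrit : Criterion.{u}) (IH : ConnBelow.{u} (Nat.card G))
    (hnd : IsNondegenerateRootInvolutionSet D) (hcl : IsRootInvolutionClass D) :
    IsConnectedSet (ProdAdj D) D := by
  by_contra hbad
  have hD := hnd.1
  have C := ctx_of_below IH hnd hcl
  have hZ := twoZCore_eq_bot IH hnd hcl hbad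
  obtain ⟨-, hsimple⟩ := radical_main hD (odd_connected hnd hcl) (commutingProducts_nonempty hnd)
  have : IsSimpleGroup G :=
    ((QuotientGroup.quotientBot.symm).trans (QuotientGroup.quotientMulEquivOfEq hZ.symm)).isSimpleGroup
  have hcore : Cfsg.pCore 2 G = ⊥ := by
    rw [eq_bot_iff, ← hZ]
    intro g hg
    refine mem_comap.2 ?_
    have := sSup_normal (G := G) {N | N.Normal ∧ IsPGroup 2 N} fun _ h => h.1
    rw [show QuotientGroup.mk' (Cfsg.pCore 2 G) g = 1 from (QuotientGroup.eq_one_iff g).2 hg]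
    exact one_mem _
  obtain ⟨a, ha⟩ := hcl.2.1
  obtain ⟨x, hx, hax⟩ := C.exists_not_bl hbad ha
  obtain ⟨b, hab, hS⟩ := C.exists_central hcore ha ⟨x, hx, hax⟩
  have hb := hab.2.1
  have hMtop : C.stab ha ≠ ⊤ := fun e => hax ((C.mem_stab_iff ha hx).1 (e ▸ mem_top x))
  obtain ⟨H, hH⟩ := hcrit G (C.stab ha) hMtop b (hD.orderOf_eq b hb) ((C.mem_stab_iff ha hb).2 hab) hS
    (fun g hg => by
      rw [C.stab_eq hab, C.mem_stab]
      exact C.bl_trans (bl_symm hD hab) ((C.mem_stab_iff ha (hD.conj_mem b hb g)).1 hg))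
    (fun g hc hne k hk => by
      rw [C.stab_eq hab]
      exact C.mem_stab_of_commute_mul hb (hD.conj_mem b hb g) hne.symm hc
        (mem_centralizer_singleton_iff.1 hk))
  exact not_stronglyEmbedded hnd hcl hH

/-- The graph of lines of a non-degenerate class of root involutions is connected. -/
theorem connected_below (hcrit : Criterion.{u}) (n : ℕ) : ConnBelow.{u} n := by
  induction n with
  | zero => exact fun H _ _ E h => absurd h (Nat.not_lt_zero _)
  | succ n ih =>
    intro H _ _ E h hnd hcl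
    exact connected_step hcrit (fun K _ _ F hK => ih K F (lt_of_lt_of_le hK (Nat.lt_succ_iff.1 h))) hnd hcl

theorem prodAdj_connected (hcrit : Criterion.{u}) (hnd : IsNondegenerateRootInvolutionSet D)
    (hcl : IsRootInvolutionClass D) : IsConnectedSet (ProdAdj D) D :=
  connected_step hcrit (connected_below hcrit _) hnd hcl

end CfsgLib.RootBlock
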