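import Cfsg.Agent.RootSubgroups.BlockRows
import Cfsg.Agent.Criterion.Action.Bridge

/-!
The criterion used for the graph of lines follows from the local-data criterion.
-/

set_option autoImplicit false

namespace CfsgLib.RootBlock

universe u

theorem criterion_of_localData (h : CfsgLib.Criterion.Consumers.LocalData.{u}) : Criterion.{u} :=
  fun _ _ _ _ M hM z hz hzM h1 h2 h3 =>
    CfsgLib.Criterion.Act.aschbacher_of_localData h M hM z hz hzM h1 h2 h3

end CfsgLib.RootBlock
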