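import Cfsg.Agent.RootSubgroups.BlockBasic

/-!
A block of a non-degenerate class of root involutions has an odd number of members when the 2-core
is trivial.
-/

set_option autoImplicit false
set_option linter.unusedSectionVars false

namespace CfsgLib.RootBlock

open Cfsg CfsgLib.RootInv Subgroup

variable {G : Type*} [Group G] [Finite G] {D : Set G}

/-- Two members with product of order dividing four generate a 2-group. -/
theorem two_group_pair (hD : IsRootInvolutionSet D) {a b : G} (ha : a ∈ D) (hb : b ∈ D)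
    (h : (a * b) ^ 4 = 1) : IsPGroup 2 (closure ({a, b} : Set G)) := by
  intro ⟨z, hz⟩
  have hao := hD.orderOf_eq a ha
  have hbo := hD.orderOf_eq b hb
  rcases (Invol.mem_closure_pair_iff hao hbo).1 hz with ⟨k, hk⟩ | ⟨k, hk⟩
  · refine ⟨2, Subtype.ext ?_⟩
    show z ^ 2 ^ 2 = 1
    have hk' : z = (a * b) ^ k := hk
    rw [hk', show (2 : ℕ) ^ 2 = 4 by norm_num, ← zpow_natCast, ← zpow_mul, mul_comm, zpow_mul,
      zpow_natCast, h, one_zpow]
  · refine ⟨1, Subtype.ext ?_⟩
    show z ^ 2 ^ 1 = 1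
    have hk' : z = a * (a * b) ^ k := hk
    rw [hk', pow_one, pow_two]
    exact Invol.mul_zpow_mul_self (Invol.mul_self_eq_one hao) (Invol.conj_mul_inv hao hbo) k

/-- A 2-subgroup of `K` lies in a Sylow 2-subgroup of `K`, and every 2-subgroup of `K` is conjugate
into that one. -/
theorem exists_sylow_in (K R0 : Subgroup G) (hR0 : IsPGroup 2 R0) (hle : R0 ≤ K) :
    ∃ R : Subgroup G, IsPGroup 2 R ∧ R0 ≤ R ∧ R ≤ K ∧
      (∀ Q : Subgroup G, IsPGroup 2 Q → Q ≤ K → R ≤ Q → Q = R) ∧
      ∀ Q : Subgroup G, IsPGroup 2 Q → Q ≤ K → ∃ k ∈ K, ∀ x ∈ Q, k * x * k⁻¹ ∈ R := by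
  have : Fact (Nat.Prime 2) := ⟨Nat.prime_two⟩
  obtain ⟨P, hP⟩ := (hR0.comap_subtype (K := K)).exists_le_sylow
  refine ⟨(P : Subgroup K).map K.subtype, P.isPGroup'.map _,
    fun x hx => ⟨⟨x, hle hx⟩, hP hx, rfl⟩, map_subtype_le _, fun Q hQ hQK hRQ => ?_, fun Q hQ hQK => ?_⟩
  · have h := P.is_maximal' (hQ.comap_subtype (K := K))
      (fun x hx => hRQ (mem_map_of_mem K.subtype hx))
    refine le_antisymm (fun x hx => ⟨⟨x, hQK hx⟩, ?_, rfl⟩) hRQ
    rw [← h]
    exact hx
  · obtain ⟨P', hP'⟩ := (hQ.comap_subtype (K := K)).exists_le_sylow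
    obtain ⟨k, hk⟩ := MulAction.exists_smul_eq K P' P
    refine ⟨k, k.2, fun x hx => ⟨k * ⟨x, hQK hx⟩ * k⁻¹, ?_, rfl⟩⟩
    rw [← hk]
    show k * ⟨x, hQK hx⟩ * k⁻¹ ∈ ((k • P' : Sylow 2 K) : Subgroup K)
    rw [Sylow.coe_subgroup_smul, Subgroup.mem_pointwise_smul_iff_inv_smul_mem]
    apply hP'
    show ((MulAut.conj k)⁻¹ • (k * (⟨x, hQK hx⟩ : K) * k⁻¹) : K).1 ∈ Q
    simpa [MulAut.conj_symm_apply, mul_assoc] using hx

/-- The setwise stabiliser of the union of two blocks. -/
def pairStab (D : Set G) (p q : G) : Subgroup G where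
  carrier := {g | ∀ y, (Bl D p (g * y * g⁻¹) ∨ Bl D q (g * y * g⁻¹)) ↔ (Bl D p y ∨ Bl D q y)}
  one_mem' := fun y => by rw [one_mul, inv_one, mul_one]
  mul_mem' := fun {g h} hg hh y => by
    rw [show g * h * y * (g * h)⁻¹ = g * (h * y * h⁻¹) * g⁻¹ by group]
    exact (hg _).trans (hh y)
  inv_mem' := fun {g} hg y => by
    have h1 := hg (g⁻¹ * y * g⁻¹⁻¹)
    rw [show g * (g⁻¹ * y * g⁻¹⁻¹) * g⁻¹ = y by group] at h1
    exact h1.symm

namespace Ctx

variable (C : Ctx D)
include C

/-- An element carries the blocks of two members onto the blocks it carries the members to. -/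
theorem bl_conj_iff {u y : G} (g : G) : Bl D (g * u * g⁻¹) (g * y * g⁻¹) ↔ Bl D u y := by
  refine ⟨fun h => ?_, bl_conj C.root g⟩
  have h1 := bl_conj C.root g⁻¹ h
  rwa [show g⁻¹ * (g * u * g⁻¹) * g⁻¹⁻¹ = u by group,
    show g⁻¹ * (g * y * g⁻¹) * g⁻¹⁻¹ = y by group] at h1

theorem mem_pairStab_of_fix {p q g : G} (hp : p ∈ D) (hq : q ∈ D) (h1 : g ∈ C.stab hp)
    (h2 : g ∈ C.stab hq) : g ∈ pairStab D p q := by
  have key : ∀ {u : G} (hu : u ∈ D), g ∈ C.stab hu →
      ∀ y, Bl D u (g * y * g⁻¹) ↔ Bl D u y := by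
    intro u hu hg y
    refine ⟨fun h => ?_, fun h => C.bl_trans hg (bl_conj C.root g h)⟩
    exact (C.bl_conj_iff g).1 (C.bl_trans (bl_symm C.root hg) h)
  exact fun y => or_congr (key hp h1 y) (key hq h2 y)

/-- The members carrying one block onto another carry it back. -/
theorem swapper_props {p q w : G} (hp : p ∈ D) (hw : w ∈ D) (hwK : w ∈ pairStab D p q)
    (hpw : ¬ Bl D p w) : Bl D q (w * p * w) ∧ ¬ Bl D q w ∧ Bl D p (w * q * w) := by
  have hD := C.root
  have hwp : Bl D q (w * p * w) := by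
    have h1 := (hwK p).2 (Or.inl (bl_refl hD hp))
    rw [inv hD hw] at h1
    refine h1.resolve_left fun h => hpw ((C.mem_stab_iff hp hw).1 ?_)
    rw [C.mem_stab, inv hD hw]
    exact h
  have hwq : Bl D p (w * q * w) := by
    have h1 := bl_conj hD w hwp
    rw [inv hD hw, show w * (w * p * w) * w = (w * w) * p * (w * w) by group, sq hD hw, one_mul,
      mul_one] at h1
    exact bl_symm hD h1
  refine ⟨hwp, fun h => hpw (C.bl_trans hwq ?_), hwq⟩
  have h1 := bl_conj hD w h
  rwa [inv hD hw, sq hD hw, one_mul] at h1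

/-- Conjugation by the stabiliser of two blocks preserves the members exchanging them. -/
theorem swapper_conj {p q w g : G} (hp : p ∈ D) (hw : w ∈ D) (hwK : w ∈ pairStab D p q)
    (hpw : ¬ Bl D p w) (hg : g ∈ pairStab D p q) : ¬ Bl D p (g * w * g⁻¹) := by
  intro h
  obtain ⟨-, hqw, -⟩ := C.swapper_props hp hw hwK hpw
  rcases (hg w).1 (Or.inl h) with e | e
  exacts [hpw e, hqw e]

/-- As many members exchange two blocks as lie in one of them. -/
theorem ncard_swappers {p q : G} (hp : p ∈ D) (hq : q ∈ D) (hpq : ¬ Bl D p q) :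
    {w | w ∈ D ∧ w ∈ pairStab D p q ∧ ¬ Bl D p w}.ncard = {y | Bl D q y}.ncard := by
  have hD := C.root
  refine Set.ncard_congr (fun w _ => w * p * w) (fun w hw => (C.swapper_props hp hw.1 hw.2.1 hw.2.2).1)
    (fun w w' hw hw' h => C.swap_unique hp hw.1 hw'.1 hw.2.2 hw'.2.2 h) fun y hy => ?_
  have hy' : Bl D q y := hy
  have hpy : ¬ Bl D p y := fun h => hpq (C.bl_trans h (bl_symm hD hy'))
  obtain ⟨w, hw, rfl⟩ := C.exists_swap hp hy'.2.1 hpy
  have hpw : ¬ Bl D p w := by
    intro h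
    refine hpy ?_
    have h1 := bl_conj hD w (bl_symm hD h)
    rw [inv hD hw, sq hD hw, one_mul] at h1
    exact C.bl_trans h h1
  refine ⟨w, ⟨hw, fun z => ?_, hpw⟩, rfl⟩
  have e1 : ∀ u : G, w * (w * u * w) * w = u := fun u => by
    rw [show w * (w * u * w) * w = (w * w) * u * (w * w) by group, sq hD hw, one_mul, mul_one]
  have k1 : ∀ u : G, Bl D p u → Bl D q (w * u * w) := fun u hu => by
    have h1 := bl_conj hD w hu
    rw [inv hD hw] at h1
    exact C.bl_trans hy' h1
  have k2 : ∀ u : G, Bl D q u → Bl D p (w * u * w) := fun u hu => by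
    have h1 := bl_conj hD w (C.bl_trans (bl_symm hD hy') hu)
    rw [inv hD hw, e1] at h1
    exact h1
  rw [inv hD hw]
  constructor
  · rintro (h | h)
    · have h1 := k1 _ h
      rw [e1] at h1
      exact Or.inr h1
    · have h1 := k2 _ h
      rw [e1] at h1
      exact Or.inl h1
  · rintro (h | h)
    exacts [Or.inr (k1 z h), Or.inl (k2 z h)]

/-- Two members exchanging two blocks and lying in one 2-subgroup of their stabiliser commute. -/
theorem swappers_commute {p q w w' : G} {R : Subgroup G} (hp : p ∈ D) (hR : IsPGroup 2 R)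
    (hw : w ∈ D) (hw' : w' ∈ D) (hwK : w ∈ pairStab D p q) (hw'K : w' ∈ pairStab D p q)
    (hpw : ¬ Bl D p w) (hpw' : ¬ Bl D p w') (hwR : w ∈ R) (hw'R : w' ∈ R) : Commute w w' := by
  have hD := C.root
  rcases hD.pair w hw w' hw' with h | h | ⟨h4, hc⟩
  · exact h
  · rw [eq_of_odd_two hD hR hwR hw'R hw' h]
  exfalso
  have hst : w * w' ∈ C.stab hp := by
    rw [C.mem_stab, show w * w' * p * (w * w')⁻¹ = w * (w' * p * w'⁻¹) * w⁻¹ by group, inv hD hw,
      inv hD hw']
    obtain ⟨-, -, h1⟩ := C.swapper_props hp hw hwK hpw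
    have h2 := bl_conj hD w (C.swapper_props hp hw' hw'K hpw').1
    rw [inv hD hw] at h2
    exact C.bl_trans h1 h2
  have hb : Bl D p ((w * w') ^ 2) := (C.mem_stab_iff hp hc).1 (pow_mem hst 2)
  exact hpw (C.bl_trans hb (bl_symm hD ⟨hw, hc, Or.inl (comp_of_four hD hw hw' h4).1⟩))

/-- Products of two commuting members of blocks stabilised by `R0`. -/
def gens (D : Set G) (R0 : Subgroup G) : Set G :=
  {j | j ∈ R0 ∧ ∃ u ∈ D, ∃ u' ∈ D, u ≠ u' ∧ Commute u u' ∧ (∀ r ∈ R0, Bl D u (r * u * r⁻¹)) ∧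
    j = u * u'}

theorem gens_sq {R0 : Subgroup G} {j : G} (h : j ∈ gens D R0) : j * j = 1 := by
  obtain ⟨-, u, hu, u', hu', -, hc, -, rfl⟩ := h
  rw [hc.symm.mul_mul_mul_comm, sq C.root hu, sq C.root hu', one_mul]

/-- A member normalising `R0` permutes the products. -/
theorem gens_conj {R0 : Subgroup G} {w j : G} (hw : w ∈ D) (hnorm : ∀ r ∈ R0, w * r * w ∈ R0)
    (h : j ∈ gens D R0) : w * j * w ∈ gens D R0 := by
  have hD := C.root
  obtain ⟨hj, u, hu, u', hu', hne, hc, hst, rfl⟩ := h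
  refine ⟨hnorm _ hj, w * u * w, conj hD hu hw, w * u' * w, conj hD hu' hw,
    fun e => hne (by simpa using e), ?_, fun r hr => ?_, ?_⟩
  · have h1 := hc.map (MulAut.conj w).toMonoidHom
    simpa [inv hD hw] using h1
  · have h1 := bl_conj hD w (hst _ (hnorm r hr))
    rw [inv hD hw] at h1
    refine (congrArg (Bl D (w * u * w)) ?_).mp h1
    rw [mul_inv_rev, mul_inv_rev, inv hD hw,
      show w * (w * r * w * u * (w * (r⁻¹ * w))) * w = (w * w) * (r * (w * u * w) * r⁻¹) * (w * w) by group,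
      sq hD hw, one_mul, mul_one]
  · rw [show w * u * w * (w * u' * w) = w * u * (w * w) * u' * w by group, sq hD hw, mul_one]
    group

/-- The number of members of a block is odd when the 2-core is trivial. -/
theorem odd_block (hcore : Cfsg.pCore 2 G = ⊥) {a : G} (ha : a ∈ D)
    (hex : ∃ x ∈ D, ¬ Bl D a x) : Odd {y | Bl D a y}.ncard := by
  have hD := C.root
  have : Fact (Nat.Prime 2) := ⟨Nat.prime_two⟩
  rw [← Nat.not_even_iff_odd]
  intro heven
  -- a largest 2-subgroup stabilising two blocks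
  obtain ⟨x₀, hx₀, hx₀'⟩ := hex
  obtain ⟨R0, ⟨hR0, p, hp, q, hq, hpq, hR0p, hR0q⟩, hmax⟩ := Set.exists_max_image
    {R : Subgroup G | IsPGroup 2 R ∧ ∃ p : G, ∃ hp : p ∈ D, ∃ q : G, ∃ hq : q ∈ D,
      ¬ Bl D p q ∧ R ≤ C.stab hp ∧ R ≤ C.stab hq}
    (fun R => Nat.card R) (Set.toFinite _) ⟨⊥, IsPGroup.of_bot, a, ha, x₀, hx₀, hx₀', bot_le, bot_le⟩
  set K := pairStab D p q with hKdef
  obtain ⟨R, hR, hR0R, hRK, hRmax, hRconj⟩ := exists_sylow_in K R0 hR0
    fun g hg => C.mem_pairStab_of_fix hp hq (hR0p hg) (hR0q hg)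
  have hmeet : ∀ g ∈ R, g ∈ C.stab hp → g ∈ C.stab hq → g ∈ R0 := by
    intro g hg hgp hgq
    have hle : R0 ≤ R ⊓ (C.stab hp ⊓ C.stab hq) := le_inf hR0R (le_inf hR0p hR0q)
    have := eq_of_le_of_card_ge hle (hmax _ ⟨hR.to_le inf_le_left, p, hp, q, hq, hpq,
      inf_le_right.trans inf_le_left, inf_le_right.trans inf_le_right⟩)
    rw [this]
    exact ⟨hg, hgp, hgq⟩
  -- the members exchanging the two blocks
  set Sw : Set G := {w | w ∈ D ∧ w ∈ K ∧ ¬ Bl D p w} with hSw
  have hSwEven : Even Sw.ncard := by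
    rw [hSw, C.ncard_swappers hp hq hpq, C.ncard_block hq ha]
    exact heven
  obtain ⟨w, hwS, hwR⟩ : ∃ w ∈ Sw, w ∈ R := by
    obtain ⟨w, hwD, hwe⟩ := C.exists_swap hp hq hpq
    have hne : Sw.Nonempty := by
      rw [← Set.ncard_pos, hSw, C.ncard_swappers hp hq hpq, Set.ncard_pos]
      exact ⟨q, bl_refl hD hq⟩
    obtain ⟨v, hv⟩ := hne
    have hvp : IsPGroup 2 (zpowers v) := by
      refine IsPGroup.of_card (n := 1) ?_
      rw [Nat.card_zpowers, hD.orderOf_eq v hv.1, pow_one]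
    obtain ⟨k, hk, hkR⟩ := hRconj (zpowers v) hvp (zpowers_le.2 hv.2.1)
    exact ⟨k * v * k⁻¹, ⟨hD.conj_mem v hv.1 k, mul_mem (mul_mem hk hv.2.1) (inv_mem hk),
      C.swapper_conj hp hv.1 hv.2.1 hv.2.2 hk⟩, hkR v (mem_zpowers v)⟩
  obtain ⟨hw, hwK, hpw⟩ := hwS
  obtain ⟨hwp, hqw, hwq⟩ := C.swapper_props hp hw hwK hpw
  have hconjS : ∀ g ∈ R, ∀ v ∈ Sw, g * v * g⁻¹ ∈ Sw := fun g hg v hv =>
    ⟨hD.conj_mem v hv.1 g, mul_mem (mul_mem (hRK hg) hv.2.1) (inv_mem (hRK hg)),
      C.swapper_conj hp hv.1 hv.2.1 hv.2.2 (hRK hg)⟩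
  obtain ⟨w', hw'S, hw'R, hne⟩ : ∃ w' ∈ Sw, w' ∈ R ∧ w' ≠ w := by
    by_cases hmove : ∃ g ∈ R, g * w * g⁻¹ ≠ w
    · obtain ⟨g, hg, hg'⟩ := hmove
      exact ⟨_, hconjS g hg w ⟨hw, hwK, hpw⟩, mul_mem (mul_mem hg hwR) (inv_mem hg), hg'⟩
    push Not at hmove
    let : MulAction R Sw :=
      { smul := fun g v => ⟨g * v * (g : G)⁻¹, hconjS g g.2 v v.2⟩
        one_smul := fun v => Subtype.ext (show ((1 : R) : G) * v * ((1 : R) : G)⁻¹ = v by simp)
        mul_smul := fun g h v => Subtype.ext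
          (show ((g * h : R) : G) * v * ((g * h : R) : G)⁻¹ = g * (h * v * (h : G)⁻¹) * (g : G)⁻¹ by
            simp [mul_assoc]) }
    have hsmul : ∀ (g : R) (v : Sw), ((g • v : Sw) : G) = g * v * (g : G)⁻¹ := fun g v => rfl
    have hmod := hR.card_modEq_card_fixedPoints (Sw : Set G)
    rw [Nat.card_coe_set_eq] at hmod
    have hfix : Even (Nat.card (MulAction.fixedPoints R Sw)) := by
      rw [Nat.even_iff] at hSwEven ⊢
      unfold Nat.ModEq at hmod
      omega
    let w₀ : MulAction.fixedPoints R Sw :=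
      ⟨⟨w, hw, hwK, hpw⟩, fun g => Subtype.ext (hmove g g.2)⟩
    have : Nontrivial (MulAction.fixedPoints R Sw) := by
      rw [← Finite.one_lt_card_iff_nontrivial]
      have : Nonempty (MulAction.fixedPoints R Sw) := ⟨w₀⟩
      have h0 : 0 < Nat.card (MulAction.fixedPoints R Sw) := Nat.card_pos
      obtain ⟨m, hm⟩ := hfix
      omega
    obtain ⟨⟨v, hvfix⟩, hv⟩ := exists_ne w₀
    refine ⟨v, v.2, ?_, fun e => hv (Subtype.ext (Subtype.ext e))⟩
    -- a fixed member joins the maximal 2-subgroup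
    have hcomm : ∀ g ∈ R, g * (v : G) = v * g := fun g hg => by
      have h1 := congrArg Subtype.val (hvfix ⟨g, hg⟩)
      rw [hsmul] at h1
      exact mul_inv_eq_iff_eq_mul.1 h1
    have hnorm : zpowers (v : G) ≤ normalizer (R : Set G) := by
      refine zpowers_le.2 (mem_normalizer_iff.2 fun g => ?_)
      have hvv := inv hD v.2.1
      constructor
      · intro hg
        rwa [hvv, ← hcomm g hg, mul_assoc, sq hD v.2.1, mul_one]
      · intro hg
        have h1 := hcomm _ hg
        rw [hvv, mul_assoc ((v : G) * g) (v : G) (v : G), sq hD v.2.1, mul_one,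
          show (v : G) * ((v : G) * g * v) = (v : G) * v * g * v by group, sq hD v.2.1, one_mul] at h1
        rwa [hvv, h1, mul_assoc, sq hD v.2.1, mul_one] at hg
    have hvp : IsPGroup 2 (zpowers (v : G)) := by
      refine IsPGroup.of_card (n := 1) ?_
      rw [Nat.card_zpowers, hD.orderOf_eq _ v.2.1, pow_one]
    have h2 := hR.to_sup_of_normal_left' hvp hnorm
    rw [← hRmax _ h2 (sup_le hRK (zpowers_le.2 v.2.2.1)) le_sup_left]
    exact mem_sup_right (mem_zpowers _)
  obtain ⟨hw', hw'K, hpw'⟩ := hw'S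
  have hcomm : ∀ {u v : G}, u ∈ Sw → v ∈ Sw → u ∈ R → v ∈ R → Commute u v := fun hu hv huR hvR =>
    C.swappers_commute hp hR hu.1 hv.1 hu.2.1 hv.2.1 hu.2.2 hv.2.2 huR hvR
  -- `w` normalises `R0`, and `R0` stabilises the block of `w`
  have hR0w : ∀ r ∈ R0, Bl D w (r * w * r⁻¹) := fun r hr => by
    refine bl_of_two hD hR hwR (mul_mem (mul_mem (hR0R hr) hwR) (inv_mem (hR0R hr))) hw
      (hD.conj_mem w hw r)
  have hnorm : ∀ r ∈ R0, w * r * w ∈ R0 := fun r hr => by
    refine hmeet _ (mul_mem (mul_mem hwR (hR0R hr)) hwR) ?_ ?_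
    · rw [C.mem_stab, mul_inv_rev, mul_inv_rev, inv hD hw,
        show w * r * w * p * (w * (r⁻¹ * w)) = w * (r * (w * p * w) * r⁻¹) * w by group]
      have h1 : Bl D q (r * (w * p * w) * r⁻¹) :=
        C.bl_trans (hR0q hr) (bl_conj hD r hwp)
      have h2 := bl_conj hD w h1
      rw [inv hD hw] at h2
      exact C.bl_trans hwq h2
    · rw [C.mem_stab, mul_inv_rev, mul_inv_rev, inv hD hw,
        show w * r * w * q * (w * (r⁻¹ * w)) = w * (r * (w * q * w) * r⁻¹) * w by group]
      have h1 : Bl D p (r * (w * q * w) * r⁻¹) :=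
        C.bl_trans (hR0p hr) (bl_conj hD r hwq)
      have h2 := bl_conj hD w h1
      rw [inv hD hw] at h2
      exact C.bl_trans hwp h2
  -- the product of the two exchanging members
  set W : Subgroup G := closure (gens D R0) with hWdef
  have hj0 : w * w' ∈ gens D R0 := by
    refine ⟨hmeet _ (mul_mem hwR hw'R) ?_ ?_, w, hw, w', hw', hne.symm,
      hcomm ⟨hw, hwK, hpw⟩ ⟨hw', hw'K, hpw'⟩ hwR hw'R, hR0w, rfl⟩
    · rw [C.mem_stab, mul_inv_rev, inv hD hw, inv hD hw',
        show w * w' * p * (w' * w) = w * (w' * p * w') * w by group]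
      have h1 := bl_conj hD w (C.swapper_props hp hw' hw'K hpw').1
      rw [inv hD hw] at h1
      exact C.bl_trans hwq h1
    · rw [C.mem_stab, mul_inv_rev, inv hD hw, inv hD hw',
        show w * w' * q * (w' * w) = w * (w' * q * w') * w by group]
      have h1 := bl_conj hD w (C.swapper_props hp hw' hw'K hpw').2.2
      rw [inv hD hw] at h1
      exact C.bl_trans hwp h1
  have hWR0 : W ≤ R0 := (closure_le _).2 fun j hj => hj.1
  have hwW : ∀ i ∈ W, w * i * w ∈ W := by
    have hle : W ≤ W.comap (MulAut.conj w).toMonoidHom := (closure_le _).2 fun j hj => by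
      show w * j * w⁻¹ ∈ W
      rw [inv hD hw]
      exact subset_closure (C.gens_conj hw hnorm hj)
    intro i hi
    have := hle hi
    rwa [mem_comap, MulEquiv.coe_toMonoidHom, MulAut.conj_apply, inv hD hw] at this
  -- products whose block differs from that of `p` suffice
  set J' : Set G := {j | j ∈ gens D R0 ∧ ∃ u ∈ D, ∃ u' ∈ D, u ≠ u' ∧ Commute u u' ∧
    (∀ r ∈ R0, Bl D u (r * u * r⁻¹)) ∧ ¬ Bl D p u ∧ j = u * u'} with hJ'
  have hgen : W = closure J' := by
    refine le_antisymm ((closure_le _).2 fun i hi => ?_) (closure_mono fun j hj => hj.1)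
    obtain ⟨hi0, u, hu, u', hu', hne', hc, hst, rfl⟩ := hi
    by_cases hpu : Bl D p u
    swap
    · exact subset_closure ⟨⟨hi0, u, hu, u', hu', hne', hc, hst, rfl⟩,
        u, hu, u', hu', hne', hc, hst, hpu, rfl⟩
    set i := u * u' with hidef
    have hii : i * i = 1 := C.gens_sq ⟨hi0, u, hu, u', hu', hne', hc, hst, hidef⟩
    have hinv : i⁻¹ = i := inv_eq_of_mul_eq_one_right hii
    have h1 : w * i * w ∈ closure J' := by
      refine subset_closure ⟨C.gens_conj hw hnorm ⟨hi0, u, hu, u', hu', hne', hc, hst, hidef⟩, ?_⟩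
      refine ⟨w * u * w, conj hD hu hw, w * u' * w, conj hD hu' hw,
        fun e => hne' (by simpa using e), ?_, fun r hr => ?_, ?_, ?_⟩
      · have h1 := hc.map (MulAut.conj w).toMonoidHom
        simpa [inv hD hw] using h1
      · have h1 := bl_conj hD w (hst _ (hnorm r hr))
        rw [inv hD hw] at h1
        refine (congrArg (Bl D (w * u * w)) ?_).mp h1
        rw [mul_inv_rev, mul_inv_rev, inv hD hw,
          show w * (w * r * w * u * (w * (r⁻¹ * w))) * w = (w * w) * (r * (w * u * w) * r⁻¹) * (w * w)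
            by group,
          sq hD hw, one_mul, mul_one]
      · intro h
        have h2 := bl_conj hD w hpu
        rw [inv hD hw] at h2
        exact hpq (C.bl_trans h (bl_symm hD (C.bl_trans hwp h2)))
      · rw [hidef, show w * u * w * (w * u' * w) = w * u * (w * w) * u' * w by group, sq hD hw,
          mul_one]
        group
    have hv : i * w * i ∈ D := by
      have := hD.conj_mem w hw i
      rwa [hinv] at this
    have hvS : i * w * i ∈ Sw := by
      have := hconjS i (hR0R hi0) w ⟨hw, hwK, hpw⟩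
      rwa [hinv] at this
    have h2 : w * (i * w * i) ∈ closure J' := by
      refine subset_closure ⟨⟨?_, w, hw, i * w * i, hv, ?_, ?_, hR0w, rfl⟩,
        w, hw, i * w * i, hv, ?_, ?_, hR0w, hpw, rfl⟩
      rotate_right 2
      · intro e
        refine hpw (C.bl_trans hpu (C.bl_of_commute_mul hu hu' hw hne' hc ?_))
        show w * i = i * w
        nth_rw 1 [e]
        rw [mul_assoc (i * w), hii, mul_one]
      · exact hcomm ⟨hw, hwK, hpw⟩
          hvS hwR (mul_mem (mul_mem (hR0R hi0) hwR) (hR0R hi0))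
      · rw [show w * (i * w * i) = w * i * w * i by group]
        exact mul_mem (hnorm i hi0) hi0
      · intro e
        refine hpw (C.bl_trans hpu (C.bl_of_commute_mul hu hu' hw hne' hc ?_))
        show w * i = i * w
        nth_rw 1 [e]
        rw [mul_assoc (i * w), hii, mul_one]
      · exact hcomm ⟨hw, hwK, hpw⟩
          hvS hwR (mul_mem (mul_mem (hR0R hi0) hwR) (hR0R hi0))
    have h3 := mul_mem h1 h2
    rwa [show w * i * w * (w * (i * w * i)) = w * i * (w * w) * i * w * i by group, sq hD hw, mul_one,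
      mul_assoc w i i, hii, mul_one, sq hD hw, one_mul] at h3
  -- a 2-subgroup of the stabiliser of the block of `p`
  obtain ⟨S, hS, hR0S, hSp, -, hSconj⟩ := exists_sylow_in (C.stab hp) R0 hR0 hR0p
  obtain ⟨b, hb, hb4⟩ := C.exists_four hp
  obtain ⟨k, hk, hkS⟩ := hSconj (closure {p, b})
    (two_group_pair hD hp hb (by rw [← hb4]; exact pow_orderOf_eq_one _))
    ((closure_le _).2 (by
      rintro y (rfl | rfl)
      exacts [C.mem_stab_of_commute hp (Commute.refl _),
        (C.mem_stab_iff hp hb).2 (bl_of_four hD hp hb hb4)]))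
  set b1 := k * p * k⁻¹ with hb1def
  set b2 := k * b * k⁻¹ with hb2def
  have hb1 : b1 ∈ D := hD.conj_mem p hp k
  have hb2 : b2 ∈ D := hD.conj_mem b hb k
  have hb12 : orderOf (b1 * b2) = 4 := by
    rw [hb1def, hb2def, show k * p * k⁻¹ * (k * b * k⁻¹) = k * (p * b) * k⁻¹ by group,
      Invol.orderOf_conj_eq, hb4]
  have hb1S : b1 ∈ S := hkS p (subset_closure (Or.inl rfl))
  have hb2S : b2 ∈ S := hkS b (subset_closure (Or.inr rfl))
  have hSW : ∀ b ∈ D, b ∈ S → ∀ i ∈ W, b * i * b ∈ W := by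
    intro b hb hbS
    have hpb : Bl D p b := (C.mem_stab_iff hp hb).1 (hSp hbS)
    suffices hle : W ≤ W.comap (MulAut.conj b).toMonoidHom by
      intro i hi
      have := hle hi
      rwa [mem_comap, MulEquiv.coe_toMonoidHom, MulAut.conj_apply, inv hD hb] at this
    conv_lhs => rw [hgen]
    refine (closure_le _).2 fun j hj => ?_
    show b * j * b⁻¹ ∈ W
    rw [inv hD hb]
    obtain ⟨hjW, u, hu, u', hu', hne', hc, hst, hpu, rfl⟩ := hj
    set j := u * u' with hjdef
    have hjj : j * j = 1 := C.gens_sq hjW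
    have hjinv : j⁻¹ = j := inv_eq_of_mul_eq_one_right hjj
    have hjS : j ∈ S := hR0S hjW.1
    set b' := j * b * j with hb'def
    have hb' : b' ∈ D := by
      have := hD.conj_mem b hb j
      rwa [hjinv] at this
    have hb'S : b' ∈ S := mul_mem (mul_mem hjS hbS) hjS
    have hnc : ∀ y ∈ D, Bl D p y → ¬ Commute y j := fun y hy hpy h =>
      hpu (C.bl_trans hpy (bl_symm hD (C.bl_of_commute_mul hu hu' hy hne' hc h)))
    have hbb' : b ≠ b' := fun e => hnc b hb hpb (by
      show b * j = j * b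
      nth_rw 1 [e]
      rw [hb'def, mul_assoc (j * b), hjj, mul_one])
    have hflip : j * (b * b') * j = b' * b := by
      rw [hb'def, show j * (b * (j * b * j)) * j = j * b * j * b * (j * j) by group, hjj, mul_one]
    have hcb : Commute b b' := by
      rcases hD.pair b hb b' hb' with h | h | ⟨h4, hc4⟩
      · exact h
      · exact absurd (eq_of_odd_two hD hS hbS hb'S hb' h) hbb'
      exfalso
      refine hnc _ hc4 ((C.mem_stab_iff hp hc4).1 (hSp (pow_mem (mul_mem hbS hb'S) 2))) ?_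
      have h1 : j * (b * b') ^ 2 * j = (b * b') ^ 2 := by
        rw [pow_two, show j * (b * b' * (b * b')) * j = (j * (b * b') * j) * (j * (b * b') * j) by
          rw [show (j * (b * b') * j) * (j * (b * b') * j) = j * (b * b') * (j * j) * (b * b') * j by
            group, hjj, mul_one]
          group, hflip]
        calc b' * b * (b' * b) = ((b * b') ^ 2)⁻¹ := by
              rw [pow_two, mul_inv_rev, mul_inv_rev, inv hD hb, inv hD hb']
          _ = _ := by rw [inv hD hc4, pow_two]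
      show (b * b') ^ 2 * j = j * (b * b') ^ 2
      nth_rw 1 [← h1]
      rw [mul_assoc, hjj, mul_one]
    have hφj : Commute (b * b') j := by
      show b * b' * j = j * (b * b')
      have h1 : j * (b * b') * j = b * b' := by rw [hflip, hcb.eq]
      nth_rw 1 [← h1]
      rw [mul_assoc, hjj, mul_one]
    have hφ0 : b * b' ∈ R0 := by
      have hφu : b * b' ∈ C.stab hu := C.mem_stab_of_commute_mul hu hu' hne' hc hφj
      have hle : R0 ≤ S ⊓ C.stab hu := le_inf hR0S fun r hr => hst r hr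
      have := eq_of_le_of_card_ge hle (hmax _ ⟨hS.to_le inf_le_left, p, hp, u, hu, hpu,
        inf_le_left.trans hSp, inf_le_right⟩)
      rw [this]
      exact ⟨mul_mem hbS hb'S, hφu⟩
    have hφW : b * b' ∈ W := subset_closure ⟨hφ0, b, hb, b', hb', hbb', hcb, fun r hr => by
      have h1 := hR0p hr
      rw [C.stab_eq hpb] at h1
      exact h1, rfl⟩
    have e : b * j * b = b * b' * j := by
      rw [hb'def, show b * (j * b * j) * j = b * j * b * (j * j) by group, hjj, mul_one]
    rw [e]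
    exact mul_mem hφW (subset_closure hjW)
  -- so the subgroup of products is normal
  have hnormal : W.Normal := by
    rw [← normalizer_eq_top_iff, eq_top_iff,
      ← C.gen b1 hb1 b2 hb2 w hw hb12 (fun h => hpw (C.bl_trans hk h)), closure_le]
    have key : ∀ y ∈ D, (∀ i ∈ W, y * i * y ∈ W) → y ∈ normalizer (W : Set G) := by
      intro y hy h
      refine mem_normalizer_iff.2 fun i => ⟨fun hi => ?_, fun hi => ?_⟩
      · rw [inv hD hy]; exact h i hi
      · have := h _ hi
        rwa [inv hD hy, show y * (y * i * y) * y = (y * y) * i * (y * y) by group, sq hD hy, one_mul,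
          mul_one] at this
    rintro y (rfl | rfl | rfl)
    exacts [key _ hb1 (hSW _ hb1 hb1S), key _ hb2 (hSW _ hb2 hb2S), key _ hw hwW]
  have hbot : W ≤ ⊥ := hcore ▸ le_sSup ⟨hnormal, hR0.to_le hWR0⟩
  have h1 : w * w' = 1 := mem_bot.1 (hbot (subset_closure hj0))
  rw [mul_eq_one_iff_eq_inv, inv hD hw'] at h1
  exact hne h1.symm

end Ctx

end CfsgLib.RootBlock
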