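import Cfsg.Agent.RootSubgroups.StructureBasic

set_option autoImplicit false
set_option linter.unusedSectionVars false

/-!
Pivots of order three.
-/

namespace CfsgLib.RootStructure

open Cfsg CfsgLib.RootInv

variable {G : Type*} [Group G] {D : Set G}

theorem braid (hD : IsRootInvolutionSet D) {a b : G} (ha : a ∈ D) (hb : b ∈ D)
    (h3 : orderOf (a * b) = 3) : a * b * a = b * a * b := by
  have h : (a * b) ^ 3 = 1 := by rw [← h3]; exact pow_orderOf_eq_one _
  calc a * b * a = (a * b) ^ 3 * (b * a * b)⁻¹⁻¹ := by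
        rw [show (a * b) ^ 3 = a * b * a * (b * a * b) by simp only [pow_succ, pow_zero, one_mul]; group,
          inv_inv, mul_assoc (a * b * a),
          show b * a * b * (b * a * b) = b * a * (b * b) * a * b by group, sq hD hb, mul_one,
          show b * a * a * b = b * (a * a) * b by group, sq hD ha, mul_one, sq hD hb, mul_one]
    _ = b * a * b := by rw [h, one_mul, inv_inv]

theorem odd_of_three {a b : G} (h3 : orderOf (a * b) = 3) : Odd (orderOf (b * a)) := by
  rw [orderOf_mul_comm, h3]; decide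

theorem ne_of_three (hD : IsRootInvolutionSet D) {a b : G} (hb : b ∈ D)
    (h3 : orderOf (a * b) = 3) : a ≠ b := by
  rintro rfl
  rw [sq hD hb, orderOf_one] at h3
  omega

theorem not_commute_of_three (hD : IsRootInvolutionSet D) {a b : G} (ha : a ∈ D) (hb : b ∈ D)
    (h3 : orderOf (a * b) = 3) : ¬ Commute a b := fun h => by
  have h2 := orderOf_dvd_of_pow_eq_one ((sq_mul_eq_one_iff hD ha hb).2 h.eq)
  rw [h3] at h2
  omega

/-- If `{u, e, ue}` is a line and `ex` has order three, the orbit of `u` is `u, uσ, σ` with `σ = (ux)²`. -/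
theorem orbit (hD : IsRootInvolutionSet D) {u e x : G} (hue : Line D u e) (hx : x ∈ D)
    (h3 : orderOf (e * x) = 3) (h4 : orderOf (u * x) = 4) :
    e * (u * x) ^ 2 * e = u * (u * x) ^ 2 ∧ e * (u * (u * x) ^ 2) * e = (u * x) ^ 2 := by
  have hu := hue.mem
  have he := hue.mem'
  obtain ⟨hσ, huσ, hxσ, hxux, -⟩ := four hD hu hx h4
  have hee := sq hD he
  have hxx := sq hD hx
  have hbr := braid hD he hx h3
  set σ := (u * x) ^ 2
  set u1 := x * u * x with hu1
  set u2 := e * u1 * e with hu2
  have heu : e * u * e = u := conj_of_commute hD he hue.comm.symm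
  have c01 : Commute u u1 := by rw [hxux]; exact (Commute.refl u).mul_right huσ
  have c02 : Commute u u2 := by
    have := commute_conj hD he c01
    rwa [heu] at this
  have hxu2 : x * u2 * x = u2 := by
    rw [hu2, hu1, show x * (e * (x * u * x) * e) * x = (x * e * x) * u * (x * e * x) by group, ← hbr,
      show e * x * e * u * (e * x * e) = e * x * (e * u * e) * x * e by group, heu]
    group
  have c12 : Commute u1 u2 := by
    have := commute_conj hD hx c02
    rwa [hxu2] at this
  set g := x * e with hg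
  have hg3 : g ^ 3 = 1 := by
    rw [hg, ← show orderOf (x * e) = 3 by rw [orderOf_mul_comm]; exact h3]
    exact pow_orderOf_eq_one _
  have hgi : g⁻¹ = e * x := by rw [hg, mul_inv_rev, inv hD he, inv hD hx]
  have hgu : g * u * g⁻¹ = u1 := by
    rw [hgi, hg, show x * e * u * (e * x) = x * (e * u * e) * x by group, heu]
  have hgu1 : g * u1 * g⁻¹ = u2 := by
    rw [hgi, hg, show x * e * u1 * (e * x) = x * (e * u1 * e) * x by group, ← hu2, hxu2]
  have hug : (u * g) ^ 3 = u * u1 * u2 := by
    rw [show (u * g) ^ 3 = u * (g * u * g⁻¹) * (g * (g * u * g⁻¹) * g⁻¹) * g ^ 3 by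
      simp only [pow_succ, pow_zero, one_mul]; group, hgu, hgu1, hg3, mul_one]
  have hu1D : u1 ∈ D := conj hD hu hx
  have hu2D : u2 ∈ D := conj hD hu1D he
  have hN2 : (u * u1 * u2) * (u * u1 * u2) = 1 := by
    have hc : Commute (u * u1) u2 := c02.mul_left c12
    rw [hc.symm.mul_mul_mul_comm, c01.symm.mul_mul_mul_comm, sq hD hu, sq hD hu1D, sq hD hu2D,
      one_mul, one_mul]
  have h6 : (u * g) ^ 6 = 1 := by
    rw [show (6 : ℕ) = 3 * 2 by norm_num, pow_mul, hug, pow_two, hN2]
  have heuD : e * u ∈ D := (line_symm hD hue).mul_mem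
  have hconj : e * (u * g) * e⁻¹ = e * u * x := by
    rw [hg, inv hD he, show e * (u * (x * e)) * e = e * u * x * (e * e) by group, hee, mul_one]
  have ho : orderOf (e * u * x) ∣ 6 := by
    rw [← hconj, Invol.orderOf_conj_eq]; exact orderOf_dvd_of_pow_eq_one h6
  have hN : u * u1 * u2 = 1 := by
    rw [← hug]
    rcases hD.pair _ heuD x hx with e' | e' | ⟨e', -⟩
    · exact absurd e'.symm
        (line_not_commute hD (line_third hD (line_symm hD hue)) hx (ne_of_three hD hx h3).symm
          (odd_of_three h3))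
    · have hd3 : orderOf (e * u * x) ∣ 3 :=
        Nat.Coprime.dvd_of_dvd_mul_left e'.coprime_two_right (show orderOf (e * u * x) ∣ 2 * 3 from ho)
      rw [← hconj, Invol.orderOf_conj_eq] at hd3
      exact orderOf_dvd_iff_pow_eq_one.1 hd3
    · rw [e'] at ho; omega
  have hu2σ : u2 = σ := by
    rw [eq_inv_of_mul_eq_one_right hN, hxux, show u * (u * σ) = u * u * σ by group, sq hD hu, one_mul,
      inv hD hσ]
  have h2 : e * (u * σ) * e = σ := by rw [← hxux]; exact hu2σ
  exact ⟨by conv_lhs => rw [← h2]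
            exact conj_conj hD he _, h2⟩

/-- The three-cycle produced by a shift. -/
theorem three_of_shift [Finite G] (hD : IsRootInvolutionSet D) {a b d x : G} (h : Line D a b) (hdb : Commute d b)
    (hd : d ∈ D) (hne : b ≠ d) (hadsq : (a * d) ^ 2 = b) (hx : x ∈ D) (hxd : Commute x d)
    (hxbx : x * b * x = b * d) : orderOf (a * x) = 3 := by
  have haa := sq hD h.mem
  have hxx := sq hD hx
  have hbb := sq hD h.mem'
  have hab : a * b * a = b := by rw [h.comm.eq, mul_assoc, haa, mul_one]
  have hada : a * d * a = b * d := by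
    rw [← hadsq, pow_two, show a * d * (a * d) * d = a * d * a * (d * d) by group, sq hD hd, mul_one]
  have hxdx : x * d * x = d := by rw [hxd.eq, mul_assoc, hxx, mul_one]
  set g := a * x with hg
  have act : ∀ p, g * p * g⁻¹ = a * (x * p * x) * a := fun p => by
    rw [hg, mul_inv_rev, inv hD h.mem, inv hD hx]; group
  have h1 : g * b * g⁻¹ = d := by
    rw [act, hxbx, show a * (b * d) * a = a * b * a * (a * d * a) by
      rw [show a * b * a * (a * d * a) = a * b * (a * a) * d * a by group, haa, mul_one]; group,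
      hab, hada, ← mul_assoc, hbb, one_mul]
  have h2 : g * d * g⁻¹ = b * d := by rw [act, hxdx, hada]
  have h3 : g * (b * d) * g⁻¹ = b := by
    rw [show g * (b * d) * g⁻¹ = (g * b * g⁻¹) * (g * d * g⁻¹) by group, h1, h2, hdb.symm.eq,
      ← mul_assoc, sq hD hd, one_mul]
  have hbbd : b ≠ b * d := fun e => ne_one hD hd (mul_eq_left.1 e.symm)
  have hodd : Odd (orderOf g) := odd_of_cycle hD h.mem hx hne hbbd h1 h2 h3
  have hg1 : g ≠ 1 := fun e => hne (by rw [← h1, e]; group)
  have hcube : g ^ 3 * b * (g ^ 3)⁻¹ = b := by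
    rw [show g ^ 3 * b * (g ^ 3)⁻¹ = g * (g * (g * b * g⁻¹) * g⁻¹) * g⁻¹ by
      simp only [pow_succ, pow_zero, one_mul]; group, h1, h2, h3]
  have hg3 : g ^ 3 = 1 := by
    by_contra hne3
    obtain ⟨m, hm⟩ := hodd
    set r := g ^ 3 * a with hr
    have hag : a * g * a⁻¹ = g⁻¹ := by
      rw [hg, mul_inv_rev, inv hD h.mem, inv hD hx, ← mul_assoc a a x, haa, one_mul]
    have hrD : r ∈ D := by
      set l := 3 * (m + 1)
      have hl : g ^ l * g ^ l = g ^ 3 := by
        rw [← pow_add, show l + l = orderOf g * 3 + 3 by simp only [l]; rw [hm]; ring, pow_add, pow_mul,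
          pow_orderOf_eq_one, one_pow, one_mul]
      have e : g ^ l * a * (g ^ l)⁻¹ = r := by
        rw [← inv_pow, ← hag, conj_pow, hr, ← hl, inv hD h.mem,
          show g ^ l * a * (a * g ^ l * a) = g ^ l * (a * a) * g ^ l * a by group, haa, mul_one]
      rw [← e]; exact hD.conj_mem a h.mem _
    have hra : r * a = g ^ 3 := by rw [hr, mul_assoc, haa, mul_one]
    refine line_not_commute hD h hrD (fun e => hne3 (by rw [← hra, e, haa])) ?_ ?_
    · rw [hra]
      exact Odd.of_dvd_nat (⟨m, hm⟩ : Odd (orderOf g)) (orderOf_pow_dvd 3)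
    · rw [hr, mul_assoc, h.comm.eq, ← mul_assoc]
      rw [show g ^ 3 * b = b * g ^ 3 from mul_inv_eq_iff_eq_mul.1 hcube, mul_assoc]
  haveI : Fact (Nat.Prime 3) := ⟨Nat.prime_three⟩
  exact orderOf_eq_prime hg3 hg1

variable [Finite G] (K : Ctx D)

include K

/-- For `wv` of order four with square `k`, some member commutes with `v`, moves `k` to `kv` and has product of
order three with `w`. -/
theorem exists_three {w v k : G} (hw : w ∈ D) (hv : v ∈ D) (hk : k ∈ D) (hsq : (w * v) ^ 2 = k)
    (hne : commutingMembers D k ≠ commutingMembers D v) :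
    ∃ a ∈ D, Commute a v ∧ a * k * a = k * v ∧ orderOf (w * a) = 3 ∧ orderOf (k * a) = 4 ∧
      (k * a) ^ 2 = v := by
  have hD := K.root
  have h4 := four_of_sq hD hk hsq
  have hwk : Line D w k := hsq ▸ (four hD hw hv h4).2.2.2.2
  have hvk : Line D v k := hsq ▸ line_second hD hw hv h4
  obtain ⟨z, hz, hzk, hodd, hvz⟩ := exists_odd_four hD K.conjClass (line_symm hD hvk) hne
  obtain ⟨a, ha, hav, haka, hka, hkasq, -⟩ := exists_shift hD hvk hz hzk hodd hvz
  exact ⟨a, ha, hav, haka, three_of_shift hD hwk hvk.comm hv (line_ne hD hvk).symm hsq ha hav haka, hka,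
    hkasq⟩

/-- A pivot: an isolated member `e` with central commutators, and `x` with `ex` of order three and `dx` of order
four. -/
structure Pivot (D : Set G) (d e x : G) : Prop where
  md : d ∈ D
  me : e ∈ lam D d
  mx : x ∈ D
  three : orderOf (e * x) = 3
  four : orderOf (d * x) = 4
  ec : ∀ u ∈ lam D d, (e * u) ^ 2 ∈ sameCommutingSubgroup D d

theorem Pivot.change {d e x k : G} (P : Pivot D d e x) (hk : k ∈ sameCommutingClass D d) : Pivot D k e x := by
  refine ⟨hk.1, ?_, P.mx, P.three, four_class K P.md hk.1 P.mx hk.2 P.four, fun u hu => ?_⟩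
  · rw [← lam_eq hk.2]; exact P.me
  · rw [← lam_eq hk.2] at hu
    rw [← group_eq hk.2]
    exact P.ec u hu

variable {d e x : G} (P : Pivot D d e x)

include P

theorem pivot_not_commute : ¬ Commute x d := fun h =>
  not_commute_of_four K.root P.md P.mx P.four h.symm.eq

/-- The basic facts about the companion `(kx)²` of a member `k` of the class of `d`. -/
theorem companion {k : G} (hk : k ∈ sameCommutingClass D d) :
    orderOf (k * x) = 4 ∧ Line D k ((k * x) ^ 2) ∧ Line D x ((k * x) ^ 2) ∧
      x * k * x = k * (k * x) ^ 2 ∧ (k * x) ^ 2 ∈ lam D d ∧ ¬ Commute e ((k * x) ^ 2) := by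
  have hD := K.root
  have hkx := four_class K P.md hk.1 P.mx hk.2 P.four
  obtain ⟨ho, hko, hxo, hxkx, hl⟩ := RootInv.four hD hk.1 P.mx hkx
  have hl' : Line D x ((k * x) ^ 2) := line_second hD hk.1 P.mx hkx
  set o := (k * x) ^ 2
  refine ⟨hkx, hl, hl', hxkx, ?_, fun h => ?_⟩
  swap
  · refine line_not_commute hD hl' (lam_sub P.me).1 (ne_of_three hD P.mx P.three) ?_ h.eq
    rw [P.three]; decide
  obtain ⟨hy, hdy, -, hxdx, hldy⟩ := RootInv.four hD P.md P.mx P.four
  -- the conjugates commute with `d`
  have hxdD : x * d * x ∈ D := conj hD P.md P.mx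
  have hxd_lam : x * d * x ∈ lam D d := line_lam K (hxdx ▸ line_third hD hldy)
  have hxk : x * k * x ∈ commutingMembers D d := by
    have h1 : Commute k (x * d * x) := class_commute_members K hk (lam_sub hxd_lam)
    have h2 := commute_conj hD P.mx h1
    rw [conj_conj hD P.mx] at h2
    exact ⟨conj hD hk.1 P.mx, h2.eq⟩
  have hxk_lam : x * k * x ∈ lam D d :=
    lam_of_class K hxk hxd_lam (class_conj_invol hD P.mx hk.2.symm)
  refine lam_of_mem K P.md ?_ ho
  have e1 : o = k * (x * k * x) := by rw [hxkx, ← mul_assoc, sq hD hk.1, one_mul]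
  rw [e1]
  exact mul_mem (Subgroup.subset_closure (class_lam K P.md hk)) (Subgroup.subset_closure hxk_lam)

/-- The pivot maps companions back. -/
theorem pivot_shift {k : G} (hk : k ∈ sameCommutingClass D d) :
    orderOf (e * (k * x) ^ 2) = 4 ∧ (e * (k * x) ^ 2) ^ 2 = k ∧
      e * (k * x) ^ 2 * e = k * (k * x) ^ 2 ∧ Line D e k := by
  have hD := K.root
  have he := (lam_sub P.me).1
  obtain ⟨hkx, hl, -, hxkx, ho, hnc⟩ := companion K P hk
  obtain ⟨-, hko, hxo, -, -⟩ := RootInv.four hD hk.1 P.mx hkx
  set o := (k * x) ^ 2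
  have h4 := lam_pair K P.me (lam_sub ho) hnc
  obtain ⟨hk'D, hek', hok', hoeo, hlek⟩ := RootInv.four hD he (lam_sub ho).1 h4
  have hk'E := P.ec o ho
  set k' := (e * o) ^ 2
  have hek : e * k * e = k :=
    conj_of_commute hD he (class_commute_members K hk (lam_sub P.me)).symm
  have heoe : e * o * e = k' * o := by
    show _ = (e * o) ^ 2 * o
    rw [pow_two, show e * o * (e * o) * o = e * o * e * (o * o) by group, sq hD (lam_sub ho).1, mul_one]
  have hbr := braid hD he P.mx P.three
  have hfix : x * (e * (x * k * x) * e) * x = e * (x * k * x) * e := by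
    rw [show x * (e * (x * k * x) * e) * x = (x * e * x) * k * (x * e * x) by group, ← hbr,
      show e * x * e * k * (e * x * e) = e * x * (e * k * e) * x * e by group, hek]
    group
  have hk2 : e * (x * k * x) * e = k * k' * o := by
    rw [hxkx, conj_mul hD he, hek, heoe, mul_assoc]
  rw [hk2, conj_mul hD P.mx, conj_of_commute hD P.mx hxo] at hfix
  have hN : Commute x (k * k') := commute_of_conj hD P.mx (mul_right_cancel hfix)
  have hN1 := group_eq_one K P.md P.mx (pivot_not_commute K P)
    (mul_mem (Subgroup.subset_closure hk) hk'E) hN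
  have hk'k : k' = k := by rw [eq_inv_of_mul_eq_one_right hN1, inv hD hk.1]
  exact ⟨h4, hk'k, by rw [heoe, hk'k], hk'k ▸ hlek⟩

/-- All companions lie in one class. -/
theorem companion_class {k : G} (hk : k ∈ sameCommutingClass D d) :
    commutingMembers D ((k * x) ^ 2) = commutingMembers D ((d * x) ^ 2) := by
  have hD := K.root
  have he := (lam_sub P.me).1
  have key : ∀ k ∈ sameCommutingClass D d, (k * x) ^ 2 = (e * x * e) * k * (e * x * e) := by
    intro k hk
    obtain ⟨-, -, heo, hlek⟩ := pivot_shift K P hk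
    obtain ⟨hkx, -, -, hxkx, -, -⟩ := companion K P hk
    set o := (k * x) ^ 2
    have e1 : e * k * e = k := conj_of_commute hD he hlek.comm
    have e2 : e * (k * o) * e = o := by
      rw [conj_mul hD he, e1, heo, ← mul_assoc, sq hD hk.1, one_mul]
    rw [show e * x * e * k * (e * x * e) = e * (x * (e * k * e) * x) * e by group, e1, hxkx, e2]
  rw [key k hk, key d (class_self P.md)]
  exact class_conj_invol hD (conj hD P.mx he) hk.2.symm

end CfsgLib.RootStructure
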