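import Cfsg.Agent.RootSubgroups.BlockEnd
import Cfsg.Agent.RootSubgroups.StructurePivot

/-!
Generation by line partners and weak TI subsets, given connectivity of the graph of lines.
-/

set_option autoImplicit false
set_option linter.unusedSectionVars false

namespace CfsgLib.RootBlock

open Cfsg CfsgLib.RootInv Subgroup

universe u

variable {G : Type u} [Group G] [Finite G] {D : Set G}

/-- With a connected graph of lines, the line partners of a member and one odd partner generate. -/
theorem generation_of_connected (hnd : IsNondegenerateRootInvolutionSet D) (hcl : IsRootInvolutionClass D)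
    (hconn : IsConnectedSet (ProdAdj D) D) {d x : G} (hd : d ∈ D) (hx : x ∈ oddPartners D d) :
    closure (productPartners D d ∪ {x}) = ⊤ := by
  have hD := hnd.1
  set U := closure (productPartners D d ∪ {x})
  have hdU : d ∈ U := by
    obtain ⟨C, hl, -⟩ := exists_proper_line hnd hcl hd
    have h1 : C * d ∈ productPartners D d := by
      refine mem_productPartners_of_line hD ?_
      rw [hl.comm.eq]
      exact line_symm hD (line_third hD (line_symm hD hl))
    have h2 := mul_mem (subset_closure (Or.inl (mem_productPartners_of_line hD hl)) : C ∈ U)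
      (subset_closure (Or.inl h1) : C * d ∈ U)
    rwa [← mul_assoc, sq hD hl.mem, one_mul] at h2
  have key : ∀ e, Relation.ReflTransGen (ProdAdj D) d e → ∃ h ∈ U, e = h * d * h⁻¹ := by
    intro e he
    induction he with
    | refl => exact ⟨1, one_mem _, by group⟩
    | @tail p q _ hpq ih =>
      obtain ⟨h, hh, rfl⟩ := ih
      have hadj : Line D q (h * d * h⁻¹) :=
        line_symm hD ⟨hpq.1, hpq.2.1, hpq.2.2.2.1, hpq.2.2.2.2⟩
      have hl := line_conj hD hadj h⁻¹
      rw [show h⁻¹ * (h * d * h⁻¹) * h⁻¹⁻¹ = d by group] at hl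
      obtain ⟨g, hg, e⟩ := line_partner_conjugate hD hcl hd hx (mem_productPartners_of_line hD hl)
      refine ⟨h * g, mul_mem hh hg, ?_⟩
      calc q = h * (h⁻¹ * q * h⁻¹⁻¹) * h⁻¹ := by group
        _ = _ := by rw [e]; group
  rw [eq_top_iff, ← hD.generates, closure_le]
  intro e he
  obtain ⟨h, hh, rfl⟩ := key e (hconn d hd e he)
  exact mul_mem (mul_mem hh hdU) (inv_mem hh)

/-- Weak TI subsets generate abelian subgroups. -/
theorem weakTI_abelian (hnd : IsNondegenerateRootInvolutionSet D) (hcl : IsRootInvolutionClass D)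
    (hgen : ∀ d ∈ D, ∀ x ∈ oddPartners D d, closure (productPartners D d ∪ {x}) = ⊤)
    {T : Set G} (hT : IsWeakTISubsetOfElements D T) : IsMulCommutative (closure T) := by
  have hD := hnd.1
  obtain ⟨hsub, ⟨t, ht, -⟩, hne, hTI⟩ := hT
  let H : Subgroup G :=
    { carrier := {g | (fun y => g * y * g⁻¹) '' T = T}
      one_mem' := by
        show (fun y => (1 : G) * y * 1⁻¹) '' T = T
        simp
      mul_mem' := fun {g h} hg hh => by
        show (fun y => g * h * y * (g * h)⁻¹) '' T = T
        calc (fun y => g * h * y * (g * h)⁻¹) '' T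
            = (fun y => g * y * g⁻¹) '' ((fun y => h * y * h⁻¹) '' T) := by
              rw [Set.image_image]; congr 1; funext y; group
          _ = T := by
              rw [show (fun y => h * y * h⁻¹) '' T = T from hh,
                show (fun y => g * y * g⁻¹) '' T = T from hg]
      inv_mem' := fun {g} hg => by
        show (fun y => g⁻¹ * y * g⁻¹⁻¹) '' T = T
        conv_lhs => rw [← show (fun y => g * y * g⁻¹) '' T = T from hg]
        rw [Set.image_image]
        simp [mul_assoc] }
  -- members commuting with a member of `T` fix it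
  have hfix : ∀ a ∈ T, ∀ m ∈ D, Commute m a → m ∈ H := fun a ha m hm hc => by
    rcases hTI m hm with h | h
    · exact h
    · exact absurd ha (Set.disjoint_left.1 h ⟨a, ha, by
        show m * a * m⁻¹ = a
        rw [hc.eq, mul_inv_cancel_right]⟩)
  have hnot : H ≠ ⊤ := fun htop => hne (Set.Subset.antisymm hsub fun y hy => by
    obtain ⟨g, rfl⟩ := hcl.2.2 t (hsub ht) y hy
    have hg : (fun y => g * y * g⁻¹) '' T = T := (htop ▸ mem_top g : g ∈ H)
    exact hg ▸ ⟨t, ht, rfl⟩)
  have big : ∀ a ∈ T, ∀ z ∈ oddPartners D a, z ∈ H → False := fun a ha z hz hzH =>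
    hnot (eq_top_iff.2 ((hgen a (hsub ha) z hz).symm.le.trans ((closure_le H).2 (by
      rintro m (hm | rfl)
      exacts [hfix a ha m hm.1.1 hm.1.2.1, hzH]))))
  refine isMulCommutative_closure fun a ha b hb => ?_
  have haD := hsub ha
  have hbD := hsub hb
  by_cases hc : a * b = b * a
  · exact hc
  exfalso
  rcases hD.pair a haD b hbD with h | h | ⟨h4, -⟩
  · exact hc h
  · exact big a ha b ⟨hbD, (ne_of_not_commute hD hc).symm, h⟩ (hfix b hb b hbD (Commute.refl b))
  · obtain ⟨hcD, hac, hbc, -, hla⟩ := four hD haD hbD h4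
    have hlb : Line D b ((a * b) ^ 2) := line_second hD haD hbD h4
    have hsq : (b * a) ^ 2 = (a * b) ^ 2 := by
      rw [show b * a = (a * b)⁻¹ by rw [mul_inv_rev, inv hD haD, inv hD hbD], inv_pow, inv hD hcD]
    have hne' : commutingMembers D ((a * b) ^ 2) ≠ commutingMembers D a := fun e =>
      not_commute_of_four hD haD hbD h4
        ((e ▸ ⟨hbD, hbc.eq⟩ : b ∈ commutingMembers D a).2).symm
    obtain ⟨z, hz, hzc, hodd, haz⟩ := exists_odd_four hD hcl.2.2 (line_symm hD hla) hne'
    obtain ⟨v, hv, hva, hvcv, -⟩ := exists_shift hD hla hz hzc hodd haz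
    have h3 := RootStructure.three_of_shift hD hlb hla.comm haD (line_ne hD hla).symm hsq hv hva hvcv
    exact big b hb v ⟨hv, (RootStructure.ne_of_three hD hv h3).symm, by rw [h3]; decide⟩ (hfix a ha v hv hva)

/-- The generation statement and the connectivity, given the criterion. -/
theorem nondegenerate_generation_row (hcrit : Criterion.{u}) (hnd : IsNondegenerateRootInvolutionSet D)
    (hcl : IsRootInvolutionClass D) :
    (∀ d ∈ D, ∀ x ∈ oddPartners D d, closure (productPartners D d ∪ {x}) = ⊤) ∧
      IsConnectedSet (ProdAdj D) D :=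
  have hconn := prodAdj_connected hcrit hnd hcl
  ⟨fun _ hd _ hx => generation_of_connected hnd hcl hconn hd hx, hconn⟩

/-- The weak TI statement, given the criterion. -/
theorem weakTI_row (hcrit : Criterion.{u}) (hnd : IsNondegenerateRootInvolutionSet D)
    (hcl : IsRootInvolutionClass D) {T : Set G} (hT : IsWeakTISubsetOfElements D T) :
    IsMulCommutative (closure T) :=
  weakTI_abelian hnd hcl (nondegenerate_generation_row hcrit hnd hcl).1 hT

end CfsgLib.RootBlock
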