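import Cfsg.Agent.RootSubgroups.Perfect

set_option autoImplicit false

/-!
Braided pairs in a special rank one group with abelian unipotent subgroups.
-/

namespace CfsgLib.RankOne

open Cfsg

variable {G : Type*} [Group G] {A B : Subgroup G}

/-- Non-identity `a ∈ A`, `c ∈ B` satisfying the braid relation. -/
structure Braid (A B : Subgroup G) (a c : G) : Prop where
  memA : a ∈ A
  neA : a ≠ 1
  memB : c ∈ B
  neB : c ≠ 1
  eq : a * c * a = c * a * c

variable {a a' c c' d x v : G}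

theorem Braid.symm (hb : Braid A B a c) : Braid B A c a := ⟨hb.memB, hb.neB, hb.memA, hb.neA, hb.eq.symm⟩

theorem Braid.inv (hb : Braid A B a c) : Braid A B a⁻¹ c⁻¹ := by
  refine ⟨inv_mem hb.memA, inv_ne_one.2 hb.neA, inv_mem hb.memB, inv_ne_one.2 hb.neB, ?_⟩
  have := congrArg (fun g : G => g⁻¹) hb.eq
  simpa [mul_assoc] using this

theorem Braid.conj_left (hb : Braid A B a c) : (a * c * a) * a * (a * c * a)⁻¹ = c := by
  rw [mul_inv_eq_iff_eq_mul]
  calc a * c * a * a = c * a * c * a := by rw [hb.eq]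
    _ = c * (a * c * a) := by group

theorem Braid.conj_right (hb : Braid A B a c) : (a * c * a) * c * (a * c * a)⁻¹ = a := by
  rw [mul_inv_eq_iff_eq_mul]
  calc a * c * a * c = a * (c * a * c) := by group
    _ = a * (a * c * a) := by rw [hb.eq]

theorem Braid.swaps (h : IsRankOnePair A B) (hb : Braid A B a c) : Swaps A B (a * c * a) := by
  have hmem : a * c * a ∈ A ⊔ B := mul_mem (mul_mem (Subgroup.mem_sup_left hb.memA) (Subgroup.mem_sup_right hb.memB))
    (Subgroup.mem_sup_left hb.memA)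
  refine ⟨hmem, ?_, ?_⟩
  · refine eq_of_common_mem h (conjBy_mem_unipotent (left_mem_unipotent A B) hmem) (right_mem_unipotent h) ?_
      hb.memB hb.neB
    have hm := conj_mem_conjBy (g := a * c * a) hb.memA
    rwa [hb.conj_left] at hm
  · refine eq_of_common_mem h (conjBy_mem_unipotent (right_mem_unipotent h) hmem) (left_mem_unipotent A B) ?_
      hb.memA hb.neA
    have hm := conj_mem_conjBy (g := a * c * a) hb.memB
    rwa [hb.conj_right] at hm

theorem Braid.conjBy_left (h : IsRankOnePair A B) (hb : Braid A B a c) : conjBy A c = conjBy B a⁻¹ := by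
  have e := congrArg (fun R => conjBy R a⁻¹) (hb.swaps h).left
  simp only [conjBy_conjBy] at e
  rw [show a⁻¹ * (a * c * a) = c * a by group, ← conjBy_conjBy, conjBy_of_mem hb.memA] at e
  exact e

theorem Braid.unique_right (h : IsRankOnePair A B) (hb : Braid A B a c) (hb' : Braid A B a c') : c = c' :=
  eq_of_conjBy_right_eq (RankOnePair_symm h) hb.memB hb'.memB ((hb.conjBy_left h).trans (hb'.conjBy_left h).symm)

theorem Braid.unique_left (h : IsRankOnePair A B) (hb : Braid A B a c) (hb' : Braid A B a' c) : a = a' :=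
  inv_injective (eq_of_conjBy_right_eq h (inv_mem hb.memA) (inv_mem hb'.memA)
    ((hb.conjBy_left h).symm.trans (hb'.conjBy_left h)))

theorem exists_braid (h : IsSpecialRankOnePair A B) (ha : a ∈ A) (ha1 : a ≠ 1) : ∃ c, Braid A B a c := by
  obtain ⟨b, hb, hb1, he⟩ := h.1.cond_left a ha ha1
  have hrel : b⁻¹ * a * b = a⁻¹ * b⁻¹ * a := h.2 a ha ha1 b hb hb1 he
  refine ⟨b⁻¹, ha, ha1, inv_mem hb, inv_ne_one.2 hb1, ?_⟩
  calc a * b⁻¹ * a = (a * (b⁻¹ * a * b)) * b⁻¹ := by group
    _ = b⁻¹ * a * b⁻¹ := by rw [hrel]; group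

theorem Braid.map_swap (hb : Braid A B a c) {n : G} (hn : Swaps A B n) :
    Braid A B (n * c * n⁻¹) (n * a * n⁻¹) :=
  ⟨hn.right.le (conj_mem_conjBy hb.memB), fun e => hb.neB (conj_eq_one_iff.1 e),
    hn.left.le (conj_mem_conjBy hb.memA), fun e => hb.neA (conj_eq_one_iff.1 e), by
      simp only [conj_mul, hb.eq]⟩

theorem comm_of_abelian (hA : IsMulCommutative A) {p q : G} (hp : p ∈ A) (hq : q ∈ A) : p * q = q * p :=
  congrArg Subtype.val (hA.is_comm.comm (⟨p, hp⟩ : A) ⟨q, hq⟩)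

/-- The two readings of the image of the point `B ^ x` under `a c a`. -/
theorem Braid.relation (h : IsSpecialRankOnePair A B) (hA : IsMulCommutative A) (hac : Braid A B a c)
    (hx : x ∈ A) (hd : Braid A B (a * x) d) (hv : Braid A B v ((a * c * a) * x * (a * c * a)⁻¹)) :
    Braid A B (a * v) (c * d⁻¹) := by
  have hs := hac.swaps h.1
  have hd' : conjBy A d⁻¹ = conjBy B (a * x) := by rw [hd.inv.conjBy_left h.1, inv_inv]
  have e1 : conjBy (conjBy B x) (a * c * a) = conjBy B v⁻¹ := by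
    rw [← hv.conjBy_left h.1, ← hs.right, conjBy_conjBy, conjBy_conjBy]
    congr 1; group
  rw [show a * c * a = a * (c * a) from mul_assoc _ _ _, ← conjBy_conjBy, ← conjBy_conjBy, conjBy_conjBy B x a,
    ← hd', conjBy_conjBy A d⁻¹ c] at e1
  have e2 : conjBy A (c * d⁻¹) = conjBy B (a * v)⁻¹ := by
    have e := congrArg (fun R => conjBy R a⁻¹) e1
    simp only [conjBy_conjBy] at e
    rw [inv_mul_cancel_left] at e
    rw [e, comm_of_abelian hA hac.memA hv.memA, mul_inv_rev]
  have hne : a * v ≠ 1 := fun e => conjBy_right_ne_left (RankOnePair_symm h.1)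
    (mul_mem hac.memB (inv_mem hd.memB)) (by rw [e2, e, inv_one, conjBy_one])
  obtain ⟨r, hr⟩ := exists_braid h (mul_mem hac.memA hv.memA) hne
  have he : r = c * d⁻¹ := eq_of_conjBy_right_eq (RankOnePair_symm h.1) hr.memB
    (mul_mem hac.memB (inv_mem hd.memB)) ((hr.conjBy_left h.1).trans e2.symm)
  exact he ▸ hr

theorem Braid.conj_pow (hb : Braid A B a c) (n : ℕ) : (a * c * a) * a ^ n * (a * c * a)⁻¹ = c ^ n := by
  rw [← _root_.conj_pow, hb.conj_left]

theorem Braid.pow_eq_one_iff (hb : Braid A B a c) {n : ℕ} : a ^ n = 1 ↔ c ^ n = 1 := by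
  rw [← hb.conj_pow n, conj_eq_one_iff]

/-- `n · f (n a) = f a` for the braid map `f`. -/
theorem Braid.pow (h : IsSpecialRankOnePair A B) (hA : IsMulCommutative A) :
    ∀ (n : ℕ) {a c d : G}, Braid A B a c → Braid A B (a ^ n) d → d ^ n = c := by
  intro n
  induction n with
  | zero => intro a c d _ hd; exact absurd (pow_zero a) hd.neA
  | succ n ih =>
    intro a c d hac hd
    by_cases han : a ^ n = 1
    · rw [pow_succ, han, one_mul] at hd
      rw [← hac.unique_right h.1 hd, pow_succ, hac.pow_eq_one_iff.1 han, one_mul]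
    · obtain ⟨u, hu⟩ := exists_braid h (pow_mem hac.memA n) han
      have hun : u ^ n = c := ih hac hu
      have hv := hu.map_swap (hac.swaps h.1)
      rw [pow_succ'] at hd
      have hr := hac.relation h hA (pow_mem hac.memA n) hd hv
      have hpow : (a * ((a * c * a) * u * (a * c * a)⁻¹)) ^ n = a * a ^ n := by
        rw [(show Commute a _ from comm_of_abelian hA hac.memA hv.memA).mul_pow, _root_.conj_pow, hun,
          hac.conj_right, ← pow_succ, pow_succ']
      rw [← hpow] at hd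
      rw [pow_succ, ih hr hd, inv_mul_cancel_right]

theorem prime_orderOf (h : IsSpecialRankOnePair A B) (hA : IsMulCommutative A) (ha : a ∈ A) (ha1 : a ≠ 1)
    (hfin : IsOfFinOrder a) : (orderOf a).Prime := by
  obtain ⟨c, hc⟩ := exists_braid h ha ha1
  rw [Nat.prime_def_lt]
  refine ⟨Nat.one_lt_iff_ne_zero_and_ne_one.2 ⟨hfin.orderOf_pos.ne', fun e => ha1 (orderOf_eq_one_iff.1 e)⟩,
    fun k hk hdvd => ?_⟩
  have hk0 : k ≠ 0 := fun e => hfin.orderOf_pos.ne' (Nat.eq_zero_of_zero_dvd (e ▸ hdvd))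
  have hak : a ^ k ≠ 1 := pow_ne_one_of_lt_orderOf hk0 hk
  obtain ⟨d, hd⟩ := exists_braid h (pow_mem ha k) hak
  obtain ⟨m, hm⟩ := hdvd
  have h1 : a ^ m = 1 := by
    rw [hc.pow_eq_one_iff, ← Braid.pow h hA k hc hd, ← pow_mul]
    have : (a ^ k) ^ m = 1 := by rw [← pow_mul, ← hm, pow_orderOf_eq_one]
    rw [mul_comm, pow_mul, hd.pow_eq_one_iff.1 this, one_pow]
  have hm0 : 0 < m := Nat.pos_of_ne_zero fun e => hfin.orderOf_pos.ne' (by rw [hm, e, mul_zero])
  have hle := Nat.le_of_dvd hm0 (orderOf_dvd_of_pow_eq_one h1)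
  rcases Nat.lt_or_ge k 2 with h2 | h2
  · omega
  · exfalso
    have : 2 * m ≤ k * m := Nat.mul_le_mul_right m h2
    omega

theorem pow_prime_eq_one (h : IsSpecialRankOnePair A B) (hA : IsMulCommutative A) (ha : a ∈ A) (ha1 : a ≠ 1)
    {p : ℕ} (hp : a ^ p = 1) (hx : x ∈ A) : x ^ p = 1 := by
  by_contra hxp
  have hx1 : x ≠ 1 := fun e => hxp (by rw [e, one_pow])
  have hax1 : a * x ≠ 1 := fun e => hxp (by rw [eq_inv_of_mul_eq_one_right e, inv_pow, hp, inv_one])
  obtain ⟨f, hf⟩ := exists_braid h hx hx1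
  obtain ⟨e, he⟩ := exists_braid h (mul_mem ha hx) hax1
  obtain ⟨d, hd⟩ := exists_braid h (pow_mem hx p) hxp
  have hd' : Braid A B ((a * x) ^ p) d := by
    rwa [(show Commute a x from comm_of_abelian hA ha hx).mul_pow, hp, one_mul]
  have hef : e = f := (Braid.pow h hA p he hd').symm.trans (Braid.pow h hA p hf hd)
  exact ha1 (mul_eq_right.1 ((hef ▸ he).unique_left h.1 hf))

theorem elementary_or_divisible (h : IsSpecialRankOnePair A B) (hA : IsMulCommutative A) :
    (∃ p : ℕ, p.Prime ∧ ∀ a ∈ A, a ^ p = 1) ∨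
    ((∀ a ∈ A, a ≠ 1 → ¬ IsOfFinOrder a) ∧ ∀ a ∈ A, ∀ n : ℕ, 0 < n → ∃ y ∈ A, y ^ n = a) := by
  by_cases htor : ∃ a ∈ A, a ≠ 1 ∧ IsOfFinOrder a
  · obtain ⟨a, ha, ha1, hfin⟩ := htor
    exact Or.inl ⟨orderOf a, prime_orderOf h hA ha ha1 hfin, fun x hx =>
      pow_prime_eq_one h hA ha ha1 (pow_orderOf_eq_one a) hx⟩
  · push Not at htor
    refine Or.inr ⟨htor, fun a ha n hn => ?_⟩
    by_cases ha1 : a = 1
    · exact ⟨1, one_mem _, by rw [one_pow, ha1]⟩
    obtain ⟨c, hc⟩ := exists_braid h ha ha1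
    have han : a ^ n ≠ 1 := fun e => htor a ha ha1 (isOfFinOrder_iff_pow_eq_one.2 ⟨n, hn, e⟩)
    obtain ⟨d, hd⟩ := exists_braid h (pow_mem ha n) han
    refine ⟨(a * c * a) * d * (a * c * a)⁻¹, (hc.swaps h.1).right.le (conj_mem_conjBy hd.memB), ?_⟩
    rw [_root_.conj_pow, Braid.pow h hA n hc hd, hc.conj_right]

end CfsgLib.RankOne
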