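import Cfsg.Agent.RootSubgroups.Lines

set_option autoImplicit false

/-!
Three members `A`, `B`, `C` with commutator members `⁅A, B⁆`, `⁅B, C⁆` and commuting `A`, `C`.
-/

namespace CfsgLib.RootSubgroups

open Cfsg CfsgLib.RankOne commutatorElement

variable {G : Type*} [Group G] {S : Set (Subgroup G)} {A B C D : Subgroup G} {b : G}

theorem comm_of_mulCommutative {K : Subgroup G} (h : IsMulCommutative K) {x y : G} (hx : x ∈ K) (hy : y ∈ K) :
    x * y = y * x :=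
  congrArg Subtype.val (h.is_comm.comm (⟨x, hx⟩ : K) ⟨y, hy⟩)

theorem commutator_mem_of_gen {s : Set G} {Z : Subgroup G} (hZ : ∀ z ∈ Z, ∀ g ∈ Subgroup.closure s, g * z * g⁻¹ ∈ Z)
    {x : G} (h : ∀ t ∈ s, ⁅x, t⁆ ∈ Z) {y : G} (hy : y ∈ Subgroup.closure s) : ⁅x, y⁆ ∈ Z := by
  induction hy using Subgroup.closure_induction with
  | mem t ht => exact h t ht
  | one => rw [commutatorElement_one_right]; exact one_mem _
  | mul u v hu _ ihu ihv => rw [commutator_mul_right]; exact mul_mem ihu (hZ _ ihv u hu)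
  | inv u hu ihu =>
    have e : ⁅x, u⁻¹⁆ = u⁻¹ * ⁅x, u⁆⁻¹ * u⁻¹⁻¹ := by simp only [commutatorElement_def]; group
    rw [e]; exact hZ _ (inv_mem ihu) _ (inv_mem hu)

/-- Commutators of a generated subgroup lie in a central subgroup containing those of the generators. -/
theorem commutator_le_of_central {X Y Z : Subgroup G} (hZ : ∀ z ∈ Z, ∀ g ∈ X ⊔ Y, z * g = g * z)
    (hXX : ∀ x ∈ X, ∀ y ∈ X, ⁅x, y⁆ ∈ Z) (hYY : ∀ x ∈ Y, ∀ y ∈ Y, ⁅x, y⁆ ∈ Z)
    (hXY : ∀ x ∈ X, ∀ y ∈ Y, ⁅x, y⁆ ∈ Z) : ⁅X ⊔ Y, X ⊔ Y⁆ ≤ Z := by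
  have hcl : Subgroup.closure ((X : Set G) ∪ Y) = X ⊔ Y := by
    rw [Subgroup.closure_union, Subgroup.closure_eq, Subgroup.closure_eq]
  have hZ' : ∀ z ∈ Z, ∀ g ∈ Subgroup.closure ((X : Set G) ∪ Y), g * z * g⁻¹ ∈ Z := fun z hz g hg => by
    rw [← hZ z hz g (hcl ▸ hg), mul_inv_cancel_right]; exact hz
  have h1 : ∀ x ∈ (X : Set G) ∪ Y, ∀ y ∈ X ⊔ Y, ⁅x, y⁆ ∈ Z := fun x hx y hy =>
    commutator_mem_of_gen hZ' (fun t ht => by
      rcases hx with hx | hx <;> rcases ht with ht | ht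
      · exact hXX x hx t ht
      · exact hXY x hx t ht
      · rw [← commutatorElement_inv]; exact inv_mem (hXY t ht x hx)
      · exact hYY x hx t ht) (hcl.symm ▸ hy)
  refine Subgroup.commutator_le.2 fun x hx y hy => ?_
  rw [← commutatorElement_inv]
  refine inv_mem (commutator_mem_of_gen hZ' (fun t ht => ?_) (hcl.symm ▸ hx))
  rw [← commutatorElement_inv]
  exact inv_mem (h1 t ht y hy)

theorem mem_upperCentralSeries_of_gen {s : Set G} (hs : Subgroup.closure s = ⊤) {n : ℕ} {x : G}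
    (h : ∀ t ∈ s, ⁅x, t⁆ ∈ Subgroup.upperCentralSeries G n) : x ∈ Subgroup.upperCentralSeries G (n + 1) := by
  rw [Subgroup.mem_upperCentralSeries_succ_iff]
  intro y
  exact commutator_mem_of_gen (Z := Subgroup.upperCentralSeries G n)
    (fun z hz g _ => (inferInstance : (Subgroup.upperCentralSeries G n).Normal).conj_mem z hz g) h
    (y := y) (hs ▸ Subgroup.mem_top y)

/-- The hypotheses of the chain configuration. -/
structure Chain (S : Set (Subgroup G)) (A B C : Subgroup G) : Prop where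
  root : IsRootSubgroupSet S
  left : A ∈ S
  mid : B ∈ S
  right : C ∈ S
  first : RootCommutatorCase S A B
  second : RootCommutatorCase S C B
  comm : ⁅A, C⁆ = ⊥

theorem Chain.mk' (hS : IsRootSubgroupSet S) (hA : A ∈ S) (hB : B ∈ S) (hC : C ∈ S) (hAB : ⁅A, B⁆ ∈ S)
    (hBC : ⁅B, C⁆ ∈ S) (hAC : ⁅A, C⁆ = ⊥) : Chain S A B C :=
  ⟨hS, hA, hB, hC, commutatorCase_of_mem hS hA hB hAB,
    commutatorCase_of_mem hS hC hB (Subgroup.commutator_comm B C ▸ hBC), hAC⟩

theorem Chain.symm (H : Chain S A B C) : Chain S C B A :=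
  ⟨H.root, H.right, H.mid, H.left, H.second, H.first, (Subgroup.commutator_comm C A).trans H.comm⟩

theorem not_rankOne_conj (H : Chain S A B C) (hb : b ∈ B) (hb1 : b ≠ 1) : ¬ IsRankOnePair A (conjBy C b) := by
  intro hr
  obtain ⟨c, hc, hc1⟩ := (Subgroup.bot_or_exists_ne_one C).resolve_left (H.root.ne_bot C H.right)
  have hd : b * c * b⁻¹ ∈ conjBy C b := conj_mem_conjBy hc
  have hd1 : b * c * b⁻¹ ≠ 1 := fun e => hc1 (conj_eq_one_iff.1 e)
  have hne : c⁻¹ * (b * c * b⁻¹) ≠ 1 := by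
    intro e
    -- otherwise `c` would lie in the opposite member
    have hcD : c ∈ conjBy C b := by rw [inv_mul_eq_one.1 e]; exact conj_mem_conjBy hc
    obtain ⟨a, ha, ha1⟩ := exists_ne_one_left hr
    exact ha1 (eq_one_of_commute (RankOnePair_symm hr) hcD hc1 ha (commute_of_commutator_eq_bot H.comm ha hc).symm)
  have hm : c⁻¹ * (b * c * b⁻¹) ∈ ⁅C, B⁆ := by
    rw [show c⁻¹ * (b * c * b⁻¹) = ⁅c⁻¹, b⁆ by rw [commutatorElement_def]; group]
    exact Subgroup.commutator_mem_commutator (inv_mem hc) hb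
  have hCD : ⁅conjBy C b, C⁆ = ⊥ := CommCase.conj_commute H.root H.right H.second hb
  refine hc1 (inv_eq_one.1 (eq_one_of_translate H.root (H.root.conj_mem C H.right b) H.left (RankOnePair_symm hr)
    ?_ hd hd1 H.second.1 hm hne))
  intro y hy
  have hle : conjBy C b ⊔ A ≤ Subgroup.centralizer {c⁻¹} := sup_le
    (fun z hz => Subgroup.mem_centralizer_singleton_iff.2 (commute_of_commutator_eq_bot hCD hz (inv_mem hc)))
    (fun z hz => Subgroup.mem_centralizer_singleton_iff.2 (commute_of_commutator_eq_bot H.comm hz (inv_mem hc)))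
  exact (Subgroup.mem_centralizer_singleton_iff.1 (hle hy)).symm

theorem Chain.commutator_of_conj (H : Chain S A B C) (hb : b ∈ B) (hb1 : b ≠ 1) (h : ⁅A, conjBy C b⁆ = ⊥)
    {b' : G} (hb' : b' ∈ B) : ⁅conjBy A b', C⁆ = ⊥ := by
  have hAF : ∀ a ∈ A, ∀ f ∈ ⁅C, B⁆, a * f = f * a := by
    intro a ha f hf
    obtain ⟨c, hc, rfl⟩ := CommCase.surj' H.second hb hb1 hf
    rw [show ⁅c, b⁆ = c * (b * c⁻¹ * b⁻¹) by rw [commutatorElement_def]; group]
    exact ((show Commute a c from commute_of_commutator_eq_bot H.comm ha hc).mul_right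
      (show Commute a (b * c⁻¹ * b⁻¹) from commute_of_commutator_eq_bot h ha (conj_mem_conjBy (inv_mem hc)))).eq
  refine eq_bot_iff.2 (Subgroup.commutator_le.2 fun x hx c hc => Subgroup.mem_bot.2 ?_)
  rw [commutatorElement_eq_one_iff_commute]
  obtain ⟨a, ha, rfl⟩ := hx
  show Commute (b' * a * b'⁻¹) c
  have hm : b'⁻¹ * c * b' = c * ⁅c, b'⁆ := by
    rw [← CommCase.neg_neg H.second hc hb', commutatorElement_def]; group
  have h2 : Commute a (b'⁻¹ * c * b') := by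
    rw [hm]
    exact (show Commute a c from commute_of_commutator_eq_bot H.comm ha hc).mul_right
      (hAF a ha _ (Subgroup.commutator_mem_commutator hc hb'))
  have h3 := h2.map (MulAut.conj b').toMonoidHom
  simpa [mul_assoc] using h3

theorem Chain.two_cases (H : Chain S A B C) (hb : b ∈ B) (hb1 : b ≠ 1) :
    (⁅A, conjBy C b⁆ = ⊥ ∧ ⁅conjBy A b, C⁆ = ⊥) ∨
    (RootCommutatorCase S A (conjBy C b) ∧ RootCommutatorCase S (conjBy A b) C) := by
  have h1 := not_rankOne_conj H hb hb1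
  have h2 := not_rankOne_conj H.symm hb hb1
  rcases H.root.pair A H.left _ (H.root.conj_mem C H.right b) with h | h | h
  · exact Or.inl ⟨h, H.commutator_of_conj hb hb1 h hb⟩
  · exact absurd h h1
  · rcases H.root.pair _ (H.root.conj_mem A H.left b) C H.right with h' | h' | h'
    · have := H.symm.commutator_of_conj hb hb1 ((Subgroup.commutator_comm C (conjBy A b)).trans h') hb
      exact absurd ((Subgroup.commutator_comm A (conjBy C b)).trans this) (H.root.ne_bot _ h.1)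
    · exact absurd (RankOnePair_symm h') h2
    · exact Or.inr ⟨h, h'⟩

theorem isMulCommutative_sup (hS : IsRootSubgroupSet S) (hA : A ∈ S) (hD : D ∈ S) (h : ⁅A, D⁆ = ⊥) :
    IsMulCommutative ↥(A ⊔ D) := by
  refine ⟨⟨fun x y => Subtype.ext ?_⟩⟩
  obtain ⟨a, ha, d, hd, e⟩ := mem_sup_of_commute (fun a ha d hd => commute_of_commutator_eq_bot h ha hd) y.2
  show (x : G) * y = y * x
  rw [e]
  obtain ⟨a', ha', d', hd', e'⟩ := mem_sup_of_commute (fun a ha d hd => commute_of_commutator_eq_bot h ha hd) x.2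
  rw [e']
  exact (((show Commute a' a from abelian_comm hS hA ha' ha).mul_right
    (show Commute a' d from commute_of_commutator_eq_bot h ha' hd)).mul_left
    ((show Commute d' a from (commute_of_commutator_eq_bot h ha hd').symm).mul_right
      (show Commute d' d from abelian_comm hS hD hd' hd))).eq

theorem CommCase.class_two (hS : IsRootSubgroupSet S) (hA : A ∈ S) (hD : D ∈ S) (h : RootCommutatorCase S A D) :
    ¬ IsMulCommutative ↥(A ⊔ D) ∧ ⁅⁅A ⊔ D, A ⊔ D⁆, A ⊔ D⁆ = ⊥ ∧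
      ⁅A ⊔ D, A ⊔ D⁆ ≤ ⁅A, D⁆ := by
  have hle : ⁅A ⊔ D, A ⊔ D⁆ ≤ ⁅A, D⁆ := commutator_le_of_central h.2.1
    (fun x hx y hy => by
      rw [commutatorElement_eq_one_iff_commute.2 (abelian_comm hS hA hx hy)]; exact one_mem _)
    (fun x hx y hy => by
      rw [commutatorElement_eq_one_iff_commute.2 (abelian_comm hS hD hx hy)]; exact one_mem _)
    (fun x hx y hy => Subgroup.commutator_mem_commutator hx hy)
  refine ⟨fun hc => hS.ne_bot _ h.1 (eq_bot_iff.2 (Subgroup.commutator_le.2 fun x hx y hy => Subgroup.mem_bot.2 ?_)),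
    eq_bot_iff.2 (Subgroup.commutator_le.2 fun z hz g hg => Subgroup.mem_bot.2 ?_), hle⟩
  · exact commutatorElement_eq_one_iff_commute.2
      (comm_of_mulCommutative hc (Subgroup.mem_sup_left hx) (Subgroup.mem_sup_right hy))
  · exact commutatorElement_eq_one_iff_commute.2 (h.2.1 z (hle hz) g hg)

theorem Chain.commutes (H : Chain S A B C) (hb : b ∈ B) : ⁅A ⊔ conjBy C b, conjBy A b ⊔ C⁆ = ⊥ := by
  rw [Subgroup.commutator_eq_bot_iff_le_centralizer]
  have h1 : ⁅conjBy A b, A⁆ = ⊥ := CommCase.conj_commute H.root H.left H.first hb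
  have h2 : ⁅conjBy C b, C⁆ = ⊥ := CommCase.conj_commute H.root H.right H.second hb
  have h3 : ⁅conjBy C b, conjBy A b⁆ = ⊥ := by
    rw [conjBy, conjBy, ← Subgroup.map_commutator, Subgroup.commutator_comm C A, H.comm, Subgroup.map_bot]
  rw [Subgroup.commutator_comm] at h1
  have h4 := H.comm
  rw [Subgroup.commutator_eq_bot_iff_le_centralizer] at h1 h2 h3 h4
  refine sup_le ?_ ?_ <;> rw [Subgroup.le_centralizer_iff] <;> refine sup_le ?_ ?_ <;>
    rw [Subgroup.le_centralizer_iff] <;> assumption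

/-- The product `XY` of the chain. -/
theorem Chain.core_eq (H : Chain S A B C) (hb : b ∈ B) (hb1 : b ≠ 1) :
    (A ⊔ conjBy C b) ⊔ (conjBy A b ⊔ C) = (A ⊔ ⁅A, B⁆) ⊔ (C ⊔ ⁅C, B⁆) := by
  have key : ∀ {P : Subgroup G}, RootCommutatorCase S P B → P ⊔ conjBy P b = P ⊔ ⁅P, B⁆ := by
    intro P hP
    refine le_antisymm (sup_le le_sup_left (CommCase.conj_le hP hb)) (sup_le le_sup_left fun e he => ?_)
    obtain ⟨p, hp, rfl⟩ := CommCase.surj' hP hb hb1 he
    rw [show ⁅p, b⁆ = p * (b * p⁻¹ * b⁻¹) by rw [commutatorElement_def]; group]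
    exact mul_mem (Subgroup.mem_sup_left hp) (Subgroup.mem_sup_right (conj_mem_conjBy (inv_mem hp)))
  rw [← key H.first, ← key H.second]
  ac_rfl

theorem Chain.le_all (H : Chain S A B C) : (A ⊔ ⁅A, B⁆) ⊔ (C ⊔ ⁅C, B⁆) ≤ A ⊔ B ⊔ C := by
  have hA : A ≤ A ⊔ B ⊔ C := le_sup_left.trans le_sup_left
  have hB : B ≤ A ⊔ B ⊔ C := le_sup_right.trans le_sup_left
  have hC : C ≤ A ⊔ B ⊔ C := le_sup_right
  refine sup_le (sup_le hA ?_) (sup_le hC ?_) <;> refine Subgroup.commutator_le.2 fun x hx y hy => ?_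
  · exact mul_mem (mul_mem (mul_mem (hA hx) (hB hy)) (inv_mem (hA hx))) (inv_mem (hB hy))
  · exact mul_mem (mul_mem (mul_mem (hC hx) (hB hy)) (inv_mem (hC hx))) (inv_mem (hB hy))

theorem Chain.core_normal (H : Chain S A B C) {r : G} (hr : r ∈ A ⊔ B ⊔ C) :
    conjBy ((A ⊔ ⁅A, B⁆) ⊔ (C ⊔ ⁅C, B⁆)) r = (A ⊔ ⁅A, B⁆) ⊔ (C ⊔ ⁅C, B⁆) := by
  obtain ⟨N, hN⟩ : ∃ N, N = (A ⊔ ⁅A, B⁆) ⊔ (C ⊔ ⁅C, B⁆) := ⟨_, rfl⟩
  rw [← hN]
  have hB : B ≤ Subgroup.normalizer (N : Set G) := by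
    have hle : ∀ {g : G}, g ∈ B → conjBy N g ≤ N := fun {g} hg => by
      rw [hN, conjBy, Subgroup.map_sup, Subgroup.map_sup, Subgroup.map_sup]
      refine sup_le_sup (sup_le (CommCase.conj_le H.first hg) ?_) (sup_le (CommCase.conj_le H.second hg) ?_) <;>
        refine (le_of_eq (conjBy_eq_of_commute ?_ hg)).trans le_sup_right <;>
        refine eq_bot_iff.2 (Subgroup.commutator_le.2 fun c hc q hq => Subgroup.mem_bot.2
          (commutatorElement_eq_one_iff_commute.2 ?_))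
      · exact CommCase.central_right H.first hc hq
      · exact CommCase.central_right H.second hc hq
    intro g hg
    refine conjBy_eq_self_iff.1 (le_antisymm (hle hg) fun y hy => ?_)
    rw [mem_conjBy]
    have := hle (inv_mem hg) (conj_mem_conjBy (g := g⁻¹) hy)
    rwa [inv_inv] at this
  have hN' : N ≤ Subgroup.normalizer (N : Set G) := Subgroup.le_normalizer
  refine conjBy_eq_self_iff.2 ((sup_le (sup_le ?_ hB) ?_ : A ⊔ B ⊔ C ≤ Subgroup.normalizer (N : Set G)) hr)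
  · exact le_trans (by rw [hN]; exact le_sup_left.trans le_sup_left) hN'
  · exact le_trans (by rw [hN]; exact le_sup_left.trans le_sup_right) hN'

theorem Chain.isNilpotent (H : Chain S A B C) : Group.IsNilpotent ↥(A ⊔ B ⊔ C) := by
  obtain ⟨b, hb, hb1⟩ := (Subgroup.bot_or_exists_ne_one B).resolve_left (H.root.ne_bot B H.mid)
  obtain ⟨X, hX⟩ : ∃ X, X = A ⊔ conjBy C b := ⟨_, rfl⟩
  obtain ⟨Y, hY⟩ : ∃ Y, Y = conjBy A b ⊔ C := ⟨_, rfl⟩
  have hXY : X ⊔ Y = (A ⊔ ⁅A, B⁆) ⊔ (C ⊔ ⁅C, B⁆) := by rw [hX, hY]; exact H.core_eq hb hb1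
  have hcom : ∀ x ∈ X, ∀ y ∈ Y, x * y = y * x := fun x hx y hy =>
    commute_of_commutator_eq_bot (H.commutes hb) (hX ▸ hx) (hY ▸ hy)
  -- commutators of the core are central in it
  have hcen : ∀ z ∈ ⁅X ⊔ Y, X ⊔ Y⁆, ∀ g ∈ X ⊔ Y, z * g = g * z := by
    obtain ⟨hX2, hY2⟩ : (∀ z ∈ ⁅X, X⁆, ∀ g ∈ X, z * g = g * z) ∧ (∀ z ∈ ⁅Y, Y⁆, ∀ g ∈ Y, z * g = g * z) := by
      rcases H.two_cases hb hb1 with ⟨h1, h2⟩ | ⟨h1, h2⟩
      · have a1 := isMulCommutative_sup H.root H.left (H.root.conj_mem C H.right b) h1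
        have a2 := isMulCommutative_sup H.root (H.root.conj_mem A H.left b) H.right h2
        rw [← hX] at a1; rw [← hY] at a2
        have hle : ∀ P : Subgroup G, ⁅P, P⁆ ≤ P := fun P => Subgroup.commutator_le.2 fun x hx y hy =>
          mul_mem (mul_mem (mul_mem hx hy) (inv_mem hx)) (inv_mem hy)
        exact ⟨fun z hz g hg => comm_of_mulCommutative a1 (hle X hz) hg, fun z hz g hg => comm_of_mulCommutative a2 (hle Y hz) hg⟩
      · obtain ⟨-, e1, -⟩ := CommCase.class_two H.root H.left (H.root.conj_mem C H.right b) h1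
        obtain ⟨-, e2, -⟩ := CommCase.class_two H.root (H.root.conj_mem A H.left b) H.right h2
        rw [← hX] at e1; rw [← hY] at e2
        exact ⟨fun z hz g hg => commute_of_commutator_eq_bot e1 hz hg,
          fun z hz g hg => commute_of_commutator_eq_bot e2 hz hg⟩
    have hleX : ⁅X, X⁆ ≤ X := Subgroup.commutator_le.2 fun x hx y hy =>
      mul_mem (mul_mem (mul_mem hx hy) (inv_mem hx)) (inv_mem hy)
    have hleY : ⁅Y, Y⁆ ≤ Y := Subgroup.commutator_le.2 fun x hx y hy =>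
      mul_mem (mul_mem (mul_mem hx hy) (inv_mem hx)) (inv_mem hy)
    have hZ : ∀ z ∈ ⁅X, X⁆ ⊔ ⁅Y, Y⁆, ∀ g ∈ X ⊔ Y, z * g = g * z := by
      intro z hz g hg
      have hle : ⁅X, X⁆ ⊔ ⁅Y, Y⁆ ≤ Subgroup.centralizer ((X ⊔ Y : Subgroup G) : Set G) := by
        refine sup_le ?_ ?_ <;> rw [Subgroup.le_centralizer_iff] <;> refine sup_le ?_ ?_ <;>
          intro p hp <;> rw [Subgroup.mem_centralizer_iff] <;> intro q hq
        · exact hX2 q hq p hp
        · exact hcom q (hleX hq) p hp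
        · exact (hcom p hp q (hleY hq)).symm
        · exact hY2 q hq p hp
      exact (Subgroup.mem_centralizer_iff.1 (hle hz) g hg).symm
    have hle := commutator_le_of_central hZ
      (fun x hx y hy => Subgroup.mem_sup_left (Subgroup.commutator_mem_commutator hx hy))
      (fun x hx y hy => Subgroup.mem_sup_right (Subgroup.commutator_mem_commutator hx hy))
      (fun x hx y hy => by rw [commutatorElement_eq_one_iff_commute.2 (hcom x hx y hy)]; exact one_mem _)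
    exact fun z hz => hZ z (hle hz)
  rw [hXY] at hcen
  obtain ⟨N, hN⟩ : ∃ N, N = (A ⊔ ⁅A, B⁆) ⊔ (C ⊔ ⁅C, B⁆) := ⟨_, rfl⟩
  rw [← hN] at hcen
  have hAN : A ≤ N := hN ▸ le_sup_left.trans le_sup_left
  have hCN : C ≤ N := hN ▸ le_sup_left.trans le_sup_right
  have hEN : ⁅A, B⁆ ≤ N := hN ▸ le_sup_right.trans le_sup_left
  have hFN : ⁅C, B⁆ ≤ N := hN ▸ le_sup_right.trans le_sup_right
  have hNR : N ≤ A ⊔ B ⊔ C := hN ▸ H.le_all
  have hcc : ∀ {z g : G}, (∃ x ∈ N, ∃ y ∈ N, z = ⁅x, y⁆) → g ∈ N → Commute z g := by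
    rintro z g ⟨x, hx, y, hy, rfl⟩ hg
    exact hcen _ (Subgroup.commutator_mem_commutator hx hy) g hg
  let R := A ⊔ B ⊔ C
  let s : Set ↥R := {r | (r : G) ∈ A ∨ (r : G) ∈ B ∨ (r : G) ∈ C}
  have hgen : Subgroup.closure s = ⊤ := by
    rw [eq_top_iff]
    have hle : R ≤ (Subgroup.closure s).map R.subtype := sup_le (sup_le
      (fun x hx => ⟨⟨x, (le_sup_left.trans le_sup_left : A ≤ R) hx⟩, Subgroup.subset_closure (Or.inl hx), rfl⟩)
      (fun x hx => ⟨⟨x, (le_sup_right.trans le_sup_left : B ≤ R) hx⟩, Subgroup.subset_closure (Or.inr (Or.inl hx)), rfl⟩))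
      (fun x hx => ⟨⟨x, (le_sup_right : C ≤ R) hx⟩, Subgroup.subset_closure (Or.inr (Or.inr hx)), rfl⟩)
    intro r _
    obtain ⟨r', hr', e⟩ := hle r.2
    rwa [← Subtype.ext e]
  have hcommE : ∀ {e q : G}, e ∈ ⁅A, B⁆ → q ∈ B → Commute e q := fun he hq => CommCase.central_right H.first he hq
  have hcommF : ∀ {f q : G}, f ∈ ⁅C, B⁆ → q ∈ B → Commute f q := fun hf hq => CommCase.central_right H.second hf hq
  have hcoe : ∀ r t : ↥R, ((⁅r, t⁆ : ↥R) : G) = ⁅(r : G), (t : G)⁆ := fun r t => rfl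
  have hone : ∀ {n : ℕ} {r t : ↥R}, Commute (r : G) (t : G) → ⁅r, t⁆ ∈ Subgroup.upperCentralSeries ↥R n := by
    intro n r t h
    rw [show ⁅r, t⁆ = 1 from Subtype.ext ((hcoe r t).trans (commutatorElement_eq_one_iff_commute.2 h))]
    exact one_mem _
  -- `⁅⁅A, B⁆, ⁅C, B⁆⁆` is central
  have L1 : ∀ r : ↥R, (∃ e ∈ ⁅A, B⁆, ∃ f ∈ ⁅C, B⁆, (r : G) = ⁅e, f⁆) → r ∈ Subgroup.upperCentralSeries ↥R 1 := by
    rintro r ⟨e, he, f, hf, hr⟩
    refine mem_upperCentralSeries_of_gen hgen fun t ht => hone ?_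
    rw [hr]
    rcases ht with ht | ht | ht
    · exact hcc ⟨e, hEN he, f, hFN hf, rfl⟩ (hAN ht)
    · exact ((((hcommE he ht).mul_left (hcommF hf ht)).mul_left (hcommE he ht).inv_left).mul_left
        (hcommF hf ht).inv_left)
    · exact hcc ⟨e, hEN he, f, hFN hf, rfl⟩ (hCN ht)
  have L2 : ∀ r : ↥R, ((∃ a ∈ A, ∃ f ∈ ⁅C, B⁆, (r : G) = ⁅a, f⁆) ∨ (∃ c ∈ C, ∃ e ∈ ⁅A, B⁆, (r : G) = ⁅c, e⁆)) →
      r ∈ Subgroup.upperCentralSeries ↥R 2 := by
    intro r hr
    refine mem_upperCentralSeries_of_gen hgen fun t ht => ?_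
    rcases hr with ⟨a, ha, f, hf, hr⟩ | ⟨c, hc, e, he, hr⟩
    · rcases ht with ht | ht | ht
      · exact hone (hr ▸ hcc ⟨a, hAN ha, f, hFN hf, rfl⟩ (hAN ht))
      · obtain ⟨y, hy⟩ : ∃ y, y = ⁅(a : G), (t : G)⁆⁻¹ := ⟨_, rfl⟩
        have hyE : y ∈ ⁅A, B⁆ := hy ▸ inv_mem (Subgroup.commutator_mem_commutator ha ht)
        have hval : ((⁅r, t⁆ : ↥R) : G) = ⁅a, f⁆ * (y * ⁅a, f⁆ * y⁻¹ * ⁅y, f⁆)⁻¹ := by
          rw [hcoe, hr, commutatorElement_def ⁅a, f⁆ (t : G)]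
          have h1 : (t : G) * ⁅a, f⁆ * (t : G)⁻¹ = ⁅y * a, f⁆ := by
            have h2 : (t : G) * f * (t : G)⁻¹ = f := by rw [← (hcommF hf ht).eq, mul_inv_cancel_right]
            have h3 : (t : G) * a * (t : G)⁻¹ = y * a := by rw [hy, commutatorElement_def]; group
            rw [show ⁅y * a, f⁆ = (y * a) * f * (y * a)⁻¹ * f⁻¹ from commutatorElement_def _ _, ← h3]
            conv_rhs => rw [← h2]
            rw [commutatorElement_def]; group
          rw [← commutator_mul_left, ← h1]; group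
        have hmem : ⁅a, f⁆ * (y * ⁅a, f⁆ * y⁻¹ * ⁅y, f⁆)⁻¹ = ⁅y, f⁆⁻¹ := by
          rw [← (hcc ⟨a, hAN ha, f, hFN hf, rfl⟩ (hEN hyE)).eq, mul_inv_cancel_right, mul_inv_rev,
            ← mul_assoc, ((hcc ⟨a, hAN ha, f, hFN hf, rfl⟩
              (show ⁅y, f⁆⁻¹ ∈ N from inv_mem (mul_mem (mul_mem (mul_mem (hEN hyE) (hFN hf)) (inv_mem (hEN hyE)))
                (inv_mem (hFN hf)))))).eq, mul_inv_cancel_right]
        have hYR : ⁅y, f⁆ ∈ R := mul_mem (mul_mem (mul_mem (hNR (hEN hyE)) (hNR (hFN hf))) (inv_mem (hNR (hEN hyE))))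
          (inv_mem (hNR (hFN hf)))
        rw [show ⁅r, t⁆ = (⟨⁅y, f⁆, hYR⟩ : ↥R)⁻¹ from Subtype.ext (hval.trans hmem)]
        exact inv_mem (L1 _ ⟨y, hyE, f, hf, rfl⟩)
      · exact hone (hr ▸ hcc ⟨a, hAN ha, f, hFN hf, rfl⟩ (hCN ht))
    · rcases ht with ht | ht | ht
      · exact hone (hr ▸ hcc ⟨c, hCN hc, e, hEN he, rfl⟩ (hAN ht))
      · obtain ⟨y, hy⟩ : ∃ y, y = ⁅(c : G), (t : G)⁆⁻¹ := ⟨_, rfl⟩
        have hyF : y ∈ ⁅C, B⁆ := hy ▸ inv_mem (Subgroup.commutator_mem_commutator hc ht)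
        have hval : ((⁅r, t⁆ : ↥R) : G) = ⁅c, e⁆ * (y * ⁅c, e⁆ * y⁻¹ * ⁅y, e⁆)⁻¹ := by
          rw [hcoe, hr, commutatorElement_def ⁅c, e⁆ (t : G)]
          have h1 : (t : G) * ⁅c, e⁆ * (t : G)⁻¹ = ⁅y * c, e⁆ := by
            have h2 : (t : G) * e * (t : G)⁻¹ = e := by rw [← (hcommE he ht).eq, mul_inv_cancel_right]
            have h3 : (t : G) * c * (t : G)⁻¹ = y * c := by rw [hy, commutatorElement_def]; group
            rw [show ⁅y * c, e⁆ = (y * c) * e * (y * c)⁻¹ * e⁻¹ from commutatorElement_def _ _, ← h3]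
            conv_rhs => rw [← h2]
            rw [commutatorElement_def]; group
          rw [← commutator_mul_left, ← h1]; group
        have hmem : ⁅c, e⁆ * (y * ⁅c, e⁆ * y⁻¹ * ⁅y, e⁆)⁻¹ = ⁅y, e⁆⁻¹ := by
          rw [← (hcc ⟨c, hCN hc, e, hEN he, rfl⟩ (hFN hyF)).eq, mul_inv_cancel_right, mul_inv_rev,
            ← mul_assoc, ((hcc ⟨c, hCN hc, e, hEN he, rfl⟩
              (show ⁅y, e⁆⁻¹ ∈ N from inv_mem (mul_mem (mul_mem (mul_mem (hFN hyF) (hEN he)) (inv_mem (hFN hyF)))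
                (inv_mem (hEN he)))))).eq, mul_inv_cancel_right]
        have hYR : ⁅e, y⁆ ∈ R := mul_mem (mul_mem (mul_mem (hNR (hEN he)) (hNR (hFN hyF))) (inv_mem (hNR (hEN he))))
          (inv_mem (hNR (hFN hyF)))
        rw [show ⁅r, t⁆ = (⟨⁅e, y⁆, hYR⟩ : ↥R) from
          Subtype.ext (hval.trans (hmem.trans (commutatorElement_inv y e)))]
        exact L1 _ ⟨e, he, y, hyF, rfl⟩
      · exact hone (hr ▸ hcc ⟨c, hCN hc, e, hEN he, rfl⟩ (hCN ht))
  have L3 : ∀ r : ↥R, ((r : G) ∈ ⁅A, B⁆ ∨ (r : G) ∈ ⁅C, B⁆) → r ∈ Subgroup.upperCentralSeries ↥R 3 := by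
    intro r hr
    refine mem_upperCentralSeries_of_gen hgen fun t ht => ?_
    rcases hr with he | hf <;> rcases ht with ht | ht | ht
    · exact hone (CommCase.central_left H.first he ht)
    · exact hone (hcommE he ht)
    · rw [← commutatorElement_inv]; exact inv_mem (L2 _ (Or.inr ⟨_, ht, _, he, hcoe t r⟩))
    · rw [← commutatorElement_inv]; exact inv_mem (L2 _ (Or.inl ⟨_, ht, _, hf, hcoe t r⟩))
    · exact hone (hcommF hf ht)
    · exact hone (CommCase.central_left H.second hf ht)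
  have L4 : ∀ r : ↥R, ((r : G) ∈ A ∨ (r : G) ∈ C) → r ∈ Subgroup.upperCentralSeries ↥R 4 := by
    intro r hr
    refine mem_upperCentralSeries_of_gen hgen fun t ht => ?_
    rcases hr with ha | hc <;> rcases ht with ht | ht | ht
    · exact hone (abelian_comm H.root H.left ha ht)
    · exact L3 _ (Or.inl ((hcoe r t).symm ▸ Subgroup.commutator_mem_commutator ha ht))
    · exact hone (commute_of_commutator_eq_bot H.comm ha ht)
    · exact hone (commute_of_commutator_eq_bot H.comm ht hc).symm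
    · exact L3 _ (Or.inr ((hcoe r t).symm ▸ Subgroup.commutator_mem_commutator hc ht))
    · exact hone (abelian_comm H.root H.right hc ht)
  have L5 : ∀ r ∈ s, r ∈ Subgroup.upperCentralSeries ↥R 5 := by
    intro r hr
    refine mem_upperCentralSeries_of_gen hgen fun t ht => ?_
    have hmono := Subgroup.upperCentralSeries_mono ↥R (show 3 ≤ 4 by norm_num)
    rcases hr with ha | hb' | hc <;> rcases ht with ht | ht | ht
    · exact hone (abelian_comm H.root H.left ha ht)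
    · exact hmono (L3 _ (Or.inl ((hcoe r t).symm ▸ Subgroup.commutator_mem_commutator ha ht)))
    · exact hone (commute_of_commutator_eq_bot H.comm ha ht)
    · rw [← commutatorElement_inv]
      exact inv_mem (hmono (L3 _ (Or.inl ((hcoe t r).symm ▸ Subgroup.commutator_mem_commutator ht hb'))))
    · exact hone (abelian_comm H.root H.mid hb' ht)
    · rw [← commutatorElement_inv]
      exact inv_mem (hmono (L3 _ (Or.inr ((hcoe t r).symm ▸ Subgroup.commutator_mem_commutator ht hb'))))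
    · exact hone (commute_of_commutator_eq_bot H.comm ht hc).symm
    · exact hmono (L3 _ (Or.inr ((hcoe r t).symm ▸ Subgroup.commutator_mem_commutator hc ht)))
    · exact hone (abelian_comm H.root H.right hc ht)
  exact ⟨⟨5, by rw [eq_top_iff, ← hgen, Subgroup.closure_le]; exact L5⟩⟩

end CfsgLib.RootSubgroups
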