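import Cfsg.Agent.RootSubgroups.NaturalLine

set_option autoImplicit false

/-!
Classes of abstract root subgroups: members on a line opposite to a given one, incomparability of centralizer sets,
special rank one pairs.
-/

namespace CfsgLib.RootSubgroups

open Cfsg CfsgLib.RankOne commutatorElement

variable {G : Type*} [Group G] {S : Set (Subgroup G)} {A B C D E M U V : Subgroup G}

theorem partner_of_class (hS : IsRootSubgroupClass S) (h : ∃ A ∈ S, ∃ B ∈ S, IsRankOnePair A B) (hA : A ∈ S) :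
    ∃ P ∈ S, IsRankOnePair A P := by
  obtain ⟨A₀, hA₀, B₀, hB₀, h₀⟩ := h
  obtain ⟨g, rfl⟩ := hS.2.2 A₀ hA₀ A hA
  exact exists_partner_conj hS.1 hB₀ h₀ g

theorem exists_rankOne_of_class (hS : IsRootSubgroupClass S)
    (hdn : IsDegenerateRootSet S ∨ IsNondegenerateRootSet S) (h2 : ∃ A ∈ S, ∃ B ∈ S, A ≠ B) :
    ∃ A ∈ S, ∃ B ∈ S, IsRankOnePair A B := by
  rcases hdn with hdeg | hnd
  swap
  · exact hnd.2.1
  by_contra hcon
  push Not at hcon
  obtain ⟨A, hA, B, hB, hAB⟩ := h2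
  obtain ⟨g, rfl⟩ := hS.2.2 A hA B hB
  apply hAB
  have hle : (⨆ R ∈ S, R) ≤ Subgroup.centralizer (A : Set G) := iSup₂_le fun R hR => by
    rcases hS.1.pair R hR A hA with h | h | h
    · exact Subgroup.commutator_eq_bot_iff_le_centralizer.1 h
    · exact absurd h (hcon R hR A hA)
    · exact absurd h (hdeg R hR A hA)
  exact (conjBy_eq_self_iff.2 (Subgroup.centralizer_le_normalizer _ (hle (hS.1.generates ▸ Subgroup.mem_top g)))).symm

theorem not_rankOne_of_commute (h : ⁅A, B⁆ = ⊥) : ¬ IsRankOnePair A B :=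
  fun hr => eq_bot_of_commutator_of_rankOne hr h

theorem not_rankOne_of_commCase (hS : IsRootSubgroupSet S) (hA : A ∈ S) (hB : B ∈ S)
    (h : RootCommutatorCase S A B) : ¬ IsRankOnePair A B := by
  intro hr
  obtain ⟨b, hb, hb1⟩ := exists_ne_one_left (RankOnePair_symm hr)
  have hne : conjBy A b ≠ A := fun e => hb1 (eq_one_of_mem_of_fix (RankOnePair_symm hr) hb e)
  exact eq_bot_of_commutator_of_rankOne (isRankOnePair_of_unipotent hr
    (conjBy_mem_unipotent (left_mem_unipotent A B) (Subgroup.mem_sup_right hb)) (left_mem_unipotent A B) hne)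
    (CommCase.conj_commute hS hA h hb)

theorem conjBy_ne_of_rankOne (h : IsRankOnePair A B) {b : G} (hb : b ∈ B) (hb1 : b ≠ 1) :
    IsRankOnePair A (conjBy A b) :=
  isRankOnePair_of_unipotent h (left_mem_unipotent A B)
    (conjBy_mem_unipotent (left_mem_unipotent A B) (Subgroup.mem_sup_right hb))
    (fun e => hb1 (eq_one_of_mem_of_fix (RankOnePair_symm h) hb e.symm))

/-- On a line through two members opposite to `B` a third member is in the commutator case with `B`. -/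
theorem exists_commCase_on_line' (hS : IsRootSubgroupSet S) (hB : B ∈ S) (hAB : IsRankOnePair A B)
    (hUB : IsRankOnePair U B) (hAU : A ≠ U) (hcomm : ⁅A, U⁆ = ⊥) (P : Subgroup G → Prop)
    (hcover : ∀ x ∈ A ⊔ U, x ≠ 1 → ∃ D ∈ S, P D ∧ x ∈ D) :
    ∃ D ∈ S, P D ∧ RootCommutatorCase S D B ∧ ∃ a ∈ A, ∃ u ∈ U, u ≠ 1 ∧ a * u ∈ D := by
  obtain ⟨b, hb, hb1⟩ := exists_ne_one_left (RankOnePair_symm hAB)
  obtain ⟨a, ha, ha1, hea⟩ := hAB.cond_right b⁻¹ (inv_mem hb) (inv_ne_one.2 hb1)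
  obtain ⟨u, hu, hu1, heu⟩ := hUB.cond_right b⁻¹ (inv_mem hb) (inv_ne_one.2 hb1)
  rw [inv_inv] at hea heu
  have hne : conjBy B (a * u⁻¹) ≠ B := fun e => by
    have h1 : conjBy B u⁻¹ = conjBy B a⁻¹ := by
      have h2 := congrArg (fun R => conjBy R a⁻¹) e
      simp only [conjBy_conjBy, inv_mul_cancel_left] at h2
      exact h2
    exact hAU (conjBy_injective b (hea.symm.trans (h1.symm.trans heu)))
  have hx1 : a * u⁻¹ ≠ 1 := fun e => hne (by rw [e, conjBy_one])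
  obtain ⟨D, hD, hle, hxD⟩ := hcover _ (mul_mem (Subgroup.mem_sup_left ha) (inv_mem (Subgroup.mem_sup_right hu))) hx1
  refine ⟨D, hD, hle, ?_, a, ha, u⁻¹, inv_mem hu, inv_ne_one.2 hu1, hxD⟩
  rcases hS.pair D hD B hB with h | h | h
  · exact absurd (conjBy_eq_of_commute (Subgroup.commutator_comm D B ▸ h) hxD) hne
  · exfalso
    refine eq_bot_of_commutator_of_rankOne (conjBy_ne_of_rankOne (RankOnePair_symm h) hxD hx1) ?_
    have h1 : ⁅conjBy B a⁻¹, conjBy B u⁻¹⁆ = ⊥ := by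
      rw [hea, heu, conjBy, ← Subgroup.map_commutator, hcomm, Subgroup.map_bot]
    have h2 : conjBy ⁅conjBy B a⁻¹, conjBy B u⁻¹⁆ a = ⊥ := by rw [h1, conjBy_bot]
    have h3 : ⁅conjBy (conjBy B a⁻¹) a, conjBy (conjBy B u⁻¹) a⁆ = ⊥ := (Subgroup.map_commutator _ _ _).symm.trans h2
    rwa [conjBy_conjBy, conjBy_conjBy, mul_inv_cancel, conjBy_one] at h3
  · exact h

theorem exists_commCase_on_line (hS : IsRootSubgroupSet S) (hB : B ∈ S) (hA : A ∈ S) (hAB : IsRankOnePair A B)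
    (hUB : IsRankOnePair U B) (hAU : A ≠ U) (hcomm : ⁅A, U⁆ = ⊥)
    (hcover : ∀ x ∈ A ⊔ U, x ≠ 1 → ∃ D ∈ S, D ≤ A ⊔ U ∧ x ∈ D) :
    ∃ D ∈ S, D ≤ A ⊔ U ∧ RootCommutatorCase S D B :=
  let ⟨D, hD, hle, h, _⟩ := exists_commCase_on_line' hS hB hAB hUB hAU hcomm (· ≤ A ⊔ U) hcover
  ⟨D, hD, hle, h⟩

theorem CommCase.line_cover (hS : IsRootSubgroupSet S) (hA : A ∈ S) (h : RootCommutatorCase S A B) :
    ∀ x ∈ A ⊔ ⁅A, B⁆, x ≠ 1 → ∃ D ∈ S, D ≤ A ⊔ ⁅A, B⁆ ∧ x ∈ D := fun x hx _ => by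
  rcases CommCase.cover h hx with hc | ⟨b, hb, hc⟩
  · exact ⟨_, h.1, le_sup_right, hc⟩
  · exact ⟨_, hS.conj_mem A hA b, CommCase.conj_le h hb, hc⟩

theorem CommCase.commute_left (h : RootCommutatorCase S A B) : ⁅⁅A, B⁆, A⁆ = ⊥ :=
  eq_bot_iff.2 (Subgroup.commutator_le.2 fun c hc a ha => Subgroup.mem_bot.2
    (commutatorElement_eq_one_iff_commute.2 (CommCase.central_left h hc ha)))

theorem CommCase.commute_right (h : RootCommutatorCase S A B) : ⁅⁅A, B⁆, B⁆ = ⊥ :=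
  eq_bot_iff.2 (Subgroup.commutator_le.2 fun c hc b hb => Subgroup.mem_bot.2
    (commutatorElement_eq_one_iff_commute.2 (CommCase.central_right h hc hb)))

/-- A partner of `A` that is also opposite to `⁅A, C⁆`. -/
theorem exists_common_partner_commutator (hS : IsRootSubgroupSet S) (hA : A ∈ S) (h : RootCommutatorCase S A C)
    (hC : C ∈ S) {Q : Subgroup G} (hQ : Q ∈ S) (hEQ : IsRankOnePair ⁅A, C⁆ Q) :
    ∃ R ∈ S, IsRankOnePair A R ∧ IsRankOnePair ⁅A, C⁆ R := by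
  by_cases hQA : IsRankOnePair Q A
  · exact ⟨Q, hQ, RankOnePair_symm hQA, hEQ⟩
  obtain ⟨c, hc, hc1⟩ := (Subgroup.bot_or_exists_ne_one C).resolve_left (hS.ne_bot C hC)
  obtain ⟨a, ha, ha1⟩ := (Subgroup.bot_or_exists_ne_one A).resolve_left (hS.ne_bot A hA)
  obtain ⟨e, he, he1⟩ := exists_ne_one_left hEQ
  obtain ⟨a', ha', he'⟩ := CommCase.surj' h hc hc1 (inv_mem he)
  have hac : c * a' * c⁻¹ = e * a' := by
    rw [show c * a' * c⁻¹ = ⁅a', c⁆⁻¹ * a' by rw [commutatorElement_def]; group, he', inv_inv]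
  have hr := rankOne_of_mul_mem hS hQ hA (hS.conj_mem A hA c) hEQ (CommCase.commute_left h) hQA he he1 ha'
    (hac ▸ conj_mem_conjBy ha')
  refine ⟨conjBy Q c⁻¹, hS.conj_mem Q hQ _, ?_, ?_⟩
  · have := isRankOnePair_conj (RankOnePair_symm hr) c⁻¹
    rwa [conjBy_conjBy, inv_mul_cancel, conjBy_one] at this
  · have := isRankOnePair_conj hEQ c⁻¹
    rwa [conjBy_eq_of_commute (CommCase.commute_right h) (inv_mem hc)] at this

theorem commute_of_partners_subset (hS : IsRootSubgroupClass S) (h1 : ∃ A ∈ S, ∃ B ∈ S, IsRankOnePair A B)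
    (hA : A ∈ S) (hC : C ∈ S) (hsub : rankOnePartners S A ⊆ rankOnePartners S C) : ⁅A, C⁆ = ⊥ := by
  rcases hS.1.pair A hA C hC with h | h | h
  · exact h
  · exact absurd rfl (hsub ⟨hC, h⟩).2.ne
  · exfalso
    obtain ⟨Q, hQ, hEQ⟩ := partner_of_class hS h1 h.1
    obtain ⟨R, hR, hAR, hER⟩ := exists_common_partner_commutator hS.1 hA h hC hQ hEQ
    have hCR := (hsub ⟨hR, hAR⟩).2
    have hsymm := CommCase.symm h
    have hle : ⁅C, A⁆ = ⁅A, C⁆ := Subgroup.commutator_comm C A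
    have hne : C ≠ ⁅C, A⁆ := (CommCase.ne_left hS.1 hsymm).symm
    obtain ⟨D, hD, hDle, hDR⟩ := exists_commCase_on_line hS.1 hR hC hCR (hle ▸ hER) hne
      ((Subgroup.commutator_comm C ⁅C, A⁆).trans (CommCase.commute_left hsymm)) (CommCase.line_cover hS.1 hC hsymm)
    obtain ⟨P, hP, hCP⟩ := partner_of_class hS h1 hC
    rcases member_cases hS.1 hC hP hCP hsymm hD hDle with e | ⟨a, ha, e⟩
    · exact not_rankOne_of_commCase hS.1 hD hR hDR (e.symm ▸ hle.symm ▸ hER)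
    · refine not_rankOne_of_commCase hS.1 hD hR hDR ?_
      have h2 : IsRankOnePair A (conjBy R a⁻¹) := by
        have := isRankOnePair_conj hAR a⁻¹
        rwa [conjBy_of_mem (inv_mem ha)] at this
      have h3 := isRankOnePair_conj (hsub ⟨hS.1.conj_mem R hR _, h2⟩).2 a
      rwa [conjBy_conjBy, mul_inv_cancel, conjBy_one, ← e] at h3

/-- If `P` is preserved by conjugation and `P A ⊆ P C` for commuting `A`, `C` with a common partner, then equality. -/
theorem eq_of_subset_of_common_partner (hS : IsRootSubgroupSet S) (P : Subgroup G → Set (Subgroup G))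
    (hconj : ∀ (X : Subgroup G) (g : G), P (conjBy X g) = (fun Y => conjBy Y g) '' P X)
    (hA : A ∈ S) (hC : C ∈ S) (hM : M ∈ S) (hAM : IsRankOnePair A M) (hCM : IsRankOnePair C M)
    (hcomm : ⁅A, C⁆ = ⊥) (hsub : P A ⊆ P C)
    (htrans : ∀ z y : G, P (conjBy M y) ⊆ P (conjBy M z) → P (conjBy M z) ⊆ P M →
      ⁅conjBy M z, M⁆ = ⊥ → ⁅conjBy M y, conjBy M z⁆ = ⊥ → ¬ IsRankOnePair (conjBy M y) M) :
    P A = P C := by
  have hmono : ∀ {X Y : Subgroup G} (g : G), P X ⊆ P Y → P (conjBy X g) ⊆ P (conjBy Y g) := fun g h => by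
    rw [hconj, hconj]; exact Set.image_mono h
  have hac : ∀ {a c : G}, a ∈ A → c ∈ C → a * c = c * a := fun ha hc => commute_of_commutator_eq_bot hcomm ha hc
  have hdata : ∀ a ∈ A, a ≠ 1 → ∃ b ∈ M, ∃ c ∈ C, conjBy A b = conjBy M a ∧ conjBy C b = conjBy M c := by
    intro a ha ha1
    obtain ⟨b, hb, hb1, e⟩ := hAM.cond_left a⁻¹ (inv_mem ha) (inv_ne_one.2 ha1)
    obtain ⟨c, hc, -, e'⟩ := hCM.cond_right b (hb) hb1
    rw [inv_inv] at e
    exact ⟨b⁻¹, inv_mem hb, c⁻¹, inv_mem hc, e, e'.symm⟩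
  have hz : ∀ {a b c : G}, conjBy A b = conjBy M a → conjBy C b = conjBy M c →
      P (conjBy M (c⁻¹ * a)) ⊆ P M ∧ ⁅conjBy M (c⁻¹ * a), M⁆ = ⊥ := by
    intro a b c e e'
    have h1 := hmono c⁻¹ (hmono b hsub)
    rw [e, e', conjBy_conjBy, conjBy_conjBy, inv_mul_cancel, conjBy_one] at h1
    refine ⟨h1, ?_⟩
    have h2 : conjBy (conjBy ⁅A, C⁆ b) c⁻¹ = ⊥ := by rw [hcomm, conjBy_bot, conjBy_bot]
    have h3 : ⁅conjBy (conjBy A b) c⁻¹, conjBy (conjBy C b) c⁻¹⁆ = ⊥ :=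
      (Subgroup.map_commutator (conjBy A b) (conjBy C b) _).symm.trans
        ((congrArg (fun R => conjBy R c⁻¹) (Subgroup.map_commutator A C _).symm).trans h2)
    rwa [e, e', conjBy_conjBy, conjBy_conjBy, inv_mul_cancel, conjBy_one] at h3
  obtain ⟨a, ha, ha1⟩ := exists_ne_one_left hAM
  obtain ⟨b, -, c, hc, e, e'⟩ := hdata a ha ha1
  obtain ⟨b₂, -, c₂, hc₂, e₂, e₂'⟩ := hdata a⁻¹ (inv_mem ha) (inv_ne_one.2 ha1)
  obtain ⟨h1, h1c⟩ := hz e e'
  obtain ⟨h2, h2c⟩ := hz e₂ e₂'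
  have h2' := hmono (c⁻¹ * a) h2
  have h2c' : ⁅conjBy (conjBy M (c₂⁻¹ * a⁻¹)) (c⁻¹ * a), conjBy M (c⁻¹ * a)⁆ = ⊥ :=
    (Subgroup.map_commutator _ _ _).symm.trans ((congrArg (fun R => conjBy R (c⁻¹ * a)) h2c).trans (conjBy_bot _))
  rw [conjBy_conjBy] at h2' h2c'
  have hy : c⁻¹ * a * (c₂⁻¹ * a⁻¹) = c⁻¹ * c₂⁻¹ := by
    rw [← mul_assoc, mul_assoc c⁻¹ a c₂⁻¹, hac ha (inv_mem hc₂)]; group
  have hnot := htrans (c⁻¹ * a) _ h2' h1 h1c h2c'
  have hcc : c⁻¹ * c₂⁻¹ = 1 := by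
    by_contra hne
    refine hnot ?_
    rw [hy]
    exact RankOnePair_symm (conjBy_ne_of_rankOne (RankOnePair_symm hCM) (mul_mem (inv_mem hc) (inv_mem hc₂)) hne)
  rw [hy, hcc, conjBy_one] at h2'
  have heq : P (conjBy M (c⁻¹ * a)) = P M := h1.antisymm h2'
  have h3 := congrArg (fun T => (fun Y => conjBy Y c) '' T) heq
  simp only [← hconj] at h3
  rw [conjBy_conjBy, mul_inv_cancel_left, ← e, ← e'] at h3
  have h4 := congrArg (fun T => (fun Y => conjBy Y b⁻¹) '' T) h3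
  simp only [← hconj] at h4
  rwa [conjBy_conjBy, conjBy_conjBy, inv_mul_cancel, conjBy_one, conjBy_one] at h4

theorem rankOnePartners_conj (hS : IsRootSubgroupSet S) (X : Subgroup G) (g : G) :
    rankOnePartners S (conjBy X g) = (fun Y => conjBy Y g) '' rankOnePartners S X := by
  ext Y
  constructor
  · rintro ⟨hY, hXY⟩
    refine ⟨conjBy Y g⁻¹, ⟨hS.conj_mem Y hY _, ?_⟩, by simp only [conjBy_conjBy, mul_inv_cancel, conjBy_one]⟩
    have := isRankOnePair_conj hXY g⁻¹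
    rwa [conjBy_conjBy, inv_mul_cancel, conjBy_one] at this
  · rintro ⟨Y, ⟨hY, hXY⟩, rfl⟩
    exact ⟨hS.conj_mem Y hY g, isRankOnePair_conj hXY g⟩

theorem mem_centralizingMembers {X Y : Subgroup G} :
    Y ∈ centralizingMembers S X ↔ Y ∈ S ∧ ⁅Y, X⁆ = ⊥ := by
  rw [Subgroup.commutator_eq_bot_iff_le_centralizer]; rfl

theorem centralizingMembers_conj (hS : IsRootSubgroupSet S) (X : Subgroup G) (g : G) :
    centralizingMembers S (conjBy X g) = (fun Y => conjBy Y g) '' centralizingMembers S X := by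
  ext Y
  constructor
  · intro hY
    obtain ⟨hY, hXY⟩ := mem_centralizingMembers.1 hY
    refine ⟨conjBy Y g⁻¹, mem_centralizingMembers.2 ⟨hS.conj_mem Y hY _, ?_⟩,
      by simp only [conjBy_conjBy, mul_inv_cancel, conjBy_one]⟩
    have h1 : conjBy ⁅Y, conjBy X g⁆ g⁻¹ = ⊥ := by rw [hXY, conjBy_bot]
    have h2 : ⁅conjBy Y g⁻¹, conjBy (conjBy X g) g⁻¹⁆ = ⊥ := (Subgroup.map_commutator _ _ _).symm.trans h1
    rwa [conjBy_conjBy X, inv_mul_cancel, conjBy_one] at h2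
  · rintro ⟨Y, hY, rfl⟩
    obtain ⟨hY, hXY⟩ := mem_centralizingMembers.1 hY
    exact mem_centralizingMembers.2 ⟨hS.conj_mem Y hY g,
      (Subgroup.map_commutator _ _ _).symm.trans ((congrArg (fun R => conjBy R g) hXY).trans (conjBy_bot g))⟩

theorem partners_eq_of_subset (hS : IsRootSubgroupClass S) (h1 : ∃ A ∈ S, ∃ B ∈ S, IsRankOnePair A B)
    (hA : A ∈ S) (hC : C ∈ S) (hsub : rankOnePartners S A ⊆ rankOnePartners S C) :
    ⁅A, C⁆ = ⊥ ∧ rankOnePartners S A = rankOnePartners S C := by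
  have hc := commute_of_partners_subset hS h1 hA hC hsub
  obtain ⟨M, hM, hAM⟩ := partner_of_class hS h1 hA
  refine ⟨hc, eq_of_subset_of_common_partner hS.1 _ (rankOnePartners_conj hS.1) hA hC hM hAM (hsub ⟨hM, hAM⟩).2
    hc hsub fun z y hyz _ hzM _ hyM => ?_⟩
  exact not_rankOne_of_commute hzM (hyz ⟨hM, hyM⟩).2

theorem centralizing_eq_of_subset (hS : IsRootSubgroupClass S) (h1 : ∃ A ∈ S, ∃ B ∈ S, IsRankOnePair A B)
    (hA : A ∈ S) (hC : C ∈ S) (hsub : centralizingMembers S A ⊆ centralizingMembers S C) :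
    centralizingMembers S A = centralizingMembers S C := by
  have hself : ∀ X ∈ S, X ∈ centralizingMembers S X := fun X hX => mem_centralizingMembers.2 ⟨hX,
    eq_bot_iff.2 (Subgroup.commutator_le.2 fun p hp q hq => Subgroup.mem_bot.2
      (commutatorElement_eq_one_iff_commute.2 (abelian_comm hS.1 hX hp hq)))⟩
  have hc : ⁅A, C⁆ = ⊥ := (mem_centralizingMembers.1 (hsub (hself A hA))).2
  obtain ⟨M, hM, hCM⟩ := partner_of_class hS h1 hC
  obtain ⟨hM', hAM⟩ : M ∈ S ∧ IsRankOnePair A M := by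
    refine ⟨hM, ?_⟩
    rcases hS.1.pair A hA M hM with h | h | h
    · refine absurd ?_ (not_rankOne_of_commute (A := M) (B := C)
        (mem_centralizingMembers.1 (hsub (mem_centralizingMembers.2 ⟨hM, Subgroup.commutator_comm A M ▸ h⟩))).2)
      exact RankOnePair_symm hCM
    · exact h
    · exfalso
      have hEC : ⁅⁅A, M⁆, C⁆ = ⊥ :=
        (mem_centralizingMembers.1 (hsub (mem_centralizingMembers.2 ⟨h.1, CommCase.commute_left h⟩))).2
      obtain ⟨m, hm, hm1⟩ := exists_ne_one_left (RankOnePair_symm hCM)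
      rw [Subgroup.commutator_eq_bot_iff_le_centralizer] at hEC
      have hle : A ⊔ ⁅A, M⁆ ≤ Subgroup.centralizer (C : Set G) :=
        sup_le (Subgroup.commutator_eq_bot_iff_le_centralizer.1 hc) hEC
      have h2 : ⁅conjBy A m, C⁆ = ⊥ :=
        Subgroup.commutator_eq_bot_iff_le_centralizer.2 ((CommCase.conj_le h hm).trans hle)
      have h3 : ⁅A, conjBy C m⁻¹⁆ = ⊥ := by
        have : ⁅conjBy (conjBy A m) m⁻¹, conjBy C m⁻¹⁆ = ⊥ :=
          (Subgroup.map_commutator _ _ _).symm.trans ((congrArg (fun R => conjBy R m⁻¹) h2).trans (conjBy_bot _))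
        rwa [conjBy_conjBy, inv_mul_cancel, conjBy_one] at this
      refine hS.1.ne_bot _ h.1 (Subgroup.commutator_eq_bot_iff_le_centralizer.2 ?_)
      rw [Subgroup.commutator_eq_bot_iff_le_centralizer] at hc h3
      rw [Subgroup.le_centralizer_iff] at hc h3 ⊢
      refine le_trans ?_ (sup_le hc h3)
      have hne : conjBy C m⁻¹ ≠ C := fun e =>
        hm1 (inv_eq_one.1 (eq_one_of_mem_of_fix (RankOnePair_symm hCM) (inv_mem hm) e))
      rw [unipotent_sup_eq hCM (left_mem_unipotent C M)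
        (conjBy_mem_unipotent (left_mem_unipotent C M) (Subgroup.mem_sup_right (inv_mem hm))) hne.symm]
      exact le_sup_right
  refine eq_of_subset_of_common_partner hS.1 _ (centralizingMembers_conj hS.1) hA hC hM hAM hCM hc hsub
    fun z y hyz hzM _ _ hyM => ?_
  exact not_rankOne_of_commute (mem_centralizingMembers.1
    (hzM (hyz (hself _ (hS.1.conj_mem M hM y))))).2 hyM

theorem exists_line_commCase (hS : IsRootSubgroupClass S) (hnd : IsNondegenerateRootSet S) (hA : A ∈ S) (hB : B ∈ S)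
    (hAB : IsRankOnePair A B) : ∃ C ∈ linePartners S A, RootCommutatorCase S C B := by
  obtain ⟨P, hP, Q, hQ, hPQ⟩ := hnd.2.2
  obtain ⟨g, hg⟩ := hS.2.2 _ hPQ.1 A hA
  have hg' : ⁅conjBy P g, conjBy Q g⁆ = A := by rw [hg]; exact (Subgroup.map_commutator _ _ _).symm
  have key : ∀ {U V : Subgroup G}, U ∈ S → V ∈ S → ⁅U, V⁆ = A → ⁅U, B⁆ ≠ ⊥ →
      ∃ C ∈ linePartners S A, RootCommutatorCase S C B := by
    intro U V hU hV hUV hUB
    have h := commutatorCase_of_mem hS.1 hU hV (hUV.symm ▸ hA)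
    obtain ⟨PU, hPU, hUP⟩ := partner_of_class hS hnd.2.1 hU
    obtain ⟨D, hD, hle, hDB⟩ : ∃ D ∈ S, D ≤ U ⊔ A ∧ RootCommutatorCase S D B := by
      rcases hS.1.pair U hU B hB with h' | h' | h'
      · exact absurd h' hUB
      · rw [sup_comm U A]
        have hne : A ≠ U := hUV ▸ CommCase.ne_left hS.1 h
        refine exists_commCase_on_line hS.1 hB hA hAB h' hne (hUV ▸ CommCase.commute_left h) fun x hx hx1 => ?_
        obtain ⟨R, hR, hle, hxR⟩ := CommCase.line_cover hS.1 hU h x (by rw [hUV, sup_comm]; exact hx) hx1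
        exact ⟨R, hR, by rw [hUV, sup_comm] at hle; exact hle, hxR⟩
      · exact ⟨U, hU, le_sup_left, h'⟩
    have hDA : D ≠ A := fun e => not_rankOne_of_commCase hS.1 hD hB hDB (e ▸ hAB)
    obtain ⟨v, hv, rfl⟩ := (member_cases hS.1 hU hPU hUP h hD (hUV.symm ▸ hle)).resolve_left
      fun e => hDA (e.trans hUV)
    have hAv : conjBy A v = A := hUV ▸ conjBy_eq_of_commute (CommCase.commute_right h) hv
    have hsup : A ⊔ conjBy U v = U ⊔ A := by
      refine le_antisymm (sup_le le_sup_right hle) ?_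
      have hinv : conjBy (U ⊔ A) v⁻¹ ≤ U ⊔ A := by
        rw [conjBy, Subgroup.map_sup]
        refine sup_le (by have := CommCase.conj_le h (inv_mem hv); rwa [hUV] at this) ?_
        refine (le_of_eq ?_).trans le_sup_right
        exact hUV ▸ conjBy_eq_of_commute (CommCase.commute_right h) (inv_mem hv)
      have := Subgroup.map_mono (f := (MulAut.conj v).toMonoidHom) hinv
      change conjBy (conjBy (U ⊔ A) v⁻¹) v ≤ conjBy (U ⊔ A) v at this
      rw [conjBy_conjBy, mul_inv_cancel, conjBy_one] at this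
      refine this.trans ?_
      rw [conjBy, Subgroup.map_sup]
      exact sup_le le_sup_right (hAv.le.trans le_sup_left)
    refine ⟨conjBy U v, ⟨⟨hD, hDA, ?_⟩, ?_⟩, hDB⟩
    · have := CommCase.commute_left h
      rw [hUV] at this
      rw [← hAv]
      exact (Subgroup.map_commutator _ _ _).symm.trans ((congrArg (fun R => conjBy R v) this).trans (conjBy_bot v))
    · rw [hsup]
      have := members_partition hS.1 hU hPU hUP h
      rwa [hUV] at this
  by_cases hU : ⁅conjBy P g, B⁆ = ⊥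
  · refine key (hS.1.conj_mem Q hQ g) (hS.1.conj_mem P hP g) ((Subgroup.commutator_comm _ _).trans hg') fun hV => ?_
    refine eq_bot_of_commutator_of_rankOne hAB (Subgroup.commutator_eq_bot_iff_le_centralizer.2 ?_)
    rw [← hg', Subgroup.commutator_le]
    intro p hp q hq
    have h1 := Subgroup.commutator_eq_bot_iff_le_centralizer.1 hU hp
    have h2 := Subgroup.commutator_eq_bot_iff_le_centralizer.1 hV hq
    exact mul_mem (mul_mem (mul_mem h1 h2) (inv_mem h1)) (inv_mem h2)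
  · exact key (hS.1.conj_mem P hP g) (hS.1.conj_mem Q hQ g) hg' hU

theorem NaturalLine.special (H : NaturalLine S A B D) : IsSpecialRankOnePair D B := by
  refine ⟨RankOnePair_symm H.rankOne, fun d hd hd1 b hb hb1 he => ?_⟩
  have hzN : ∀ n ∈ A ⊔ ⁅A, B⁆, (b⁻¹ * d * b) * n * (b⁻¹ * d * b)⁻¹ =
      (d⁻¹ * b⁻¹ * d) * n * (d⁻¹ * b⁻¹ * d)⁻¹ := by
    -- the coordinate maps
    have hα : ∀ {e : G}, e ∈ ⁅A, B⁆ → ⁅d, e⁆ ∈ A := fun he => H.back.le (Subgroup.commutator_mem_commutator hd he)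
    have hβ : ∀ {f : G}, f ∈ A → ⁅b, f⁆ ∈ ⁅A, B⁆ := fun hf =>
      (Subgroup.commutator_comm B A).le (Subgroup.commutator_mem_commutator hb hf)
    have hde : ∀ {e : G}, d * e * d⁻¹ = ⁅d, e⁆ * e := fun {e} => by rw [commutatorElement_def]; group
    have hbf : ∀ {f : G}, b * f * b⁻¹ = ⁅b, f⁆ * f := fun {f} => by rw [commutatorElement_def]; group
    have hde' : ∀ {e : G}, e ∈ ⁅A, B⁆ → d⁻¹ * e * d = ⁅d, e⁆⁻¹ * e := fun {e} he => by
      have := CommCase.inv_left H.high hd he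
      rw [← this, commutatorElement_def]; group
    have hbf' : ∀ {f : G}, f ∈ A → b⁻¹ * f * b = ⁅b, f⁆⁻¹ * f := fun {f} hf => by
      have := CommCase.inv_left (CommCase.symm H.low) hb hf
      rw [← this, commutatorElement_def]; group
    have hdf : ∀ {f : G}, f ∈ A → d * f * d⁻¹ = f ∧ d⁻¹ * f * d = f := fun {f} hf =>
      ⟨by rw [← H.aD hf hd, mul_inv_cancel_right], by rw [mul_assoc, H.aD hf hd, inv_mul_cancel_left]⟩
    have hbe : ∀ {e : G}, e ∈ ⁅A, B⁆ → b * e * b⁻¹ = e ∧ b⁻¹ * e * b = e := fun {e} he => by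
      have := CommCase.central_right H.low he hb
      exact ⟨by rw [← this, mul_inv_cancel_right], by rw [mul_assoc, this, inv_mul_cancel_left]⟩
    have hαβ : ∀ {f : G}, f ∈ A → ⁅d, ⁅b, f⁆⁆ = f := fun {f} hf => by
      have hx : d * (b⁻¹ * f * b) * d⁻¹ ∈ conjBy ⁅A, B⁆ 1 := by
        rw [H.mem_conj_low (one_mem _), conjBy_one]
        have hmN : d * (b⁻¹ * f * b) * d⁻¹ ∈ A ⊔ ⁅A, B⁆ := by
          rw [← H.line_invariant (x := d * b⁻¹) (mul_mem (Subgroup.mem_sup_right hd)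
            (inv_mem (Subgroup.mem_sup_left hb))), mem_conjBy]
          refine Subgroup.mem_sup_left (T := ⁅A, B⁆) ?_
          convert hf using 1; group
        refine ⟨hmN, fun q hq => ?_⟩
        have hq' : d⁻¹ * q * d ∈ conjBy D b⁻¹ := by
          rw [he, mem_conjBy]
          convert hq using 1; group
        rw [mem_conjBy, inv_inv] at hq'
        have := H.aD hf hq'
        calc d * (b⁻¹ * f * b) * d⁻¹ * q = d * b⁻¹ * (f * (b * (d⁻¹ * q * d) * b⁻¹)) * b * d⁻¹ := by group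
          _ = q * (d * (b⁻¹ * f * b) * d⁻¹) := by rw [this]; group
      rw [conjBy_one] at hx
      have hval : d * (b⁻¹ * f * b) * d⁻¹ = ⁅b, f⁆⁻¹ * (⁅d, ⁅b, f⁆⁆⁻¹ * f) := by
        have hAE := H.aC (inv_mem (hα (hβ hf))) (inv_mem (hβ hf))
        calc d * (b⁻¹ * f * b) * d⁻¹ = (d * ⁅b, f⁆ * d⁻¹)⁻¹ * (d * f * d⁻¹) := by rw [hbf' hf]; group
          _ = ⁅b, f⁆⁻¹ * (⁅d, ⁅b, f⁆⁆⁻¹ * f) := by rw [hde, (hdf hf).1, mul_inv_rev, mul_assoc]
      rw [hval] at hx
      have hm : ⁅d, ⁅b, f⁆⁆⁻¹ * f ∈ ⁅A, B⁆ := by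
        have := mul_mem (hβ hf) hx
        rwa [mul_inv_cancel_left] at this
      have h1 := H.eq_one_of_fix_mid (mul_mem (inv_mem (hα (hβ hf))) hf)
        fun q hq => CommCase.central_right H.low hm hq
      exact inv_mul_eq_one.1 h1
    have hβα : ∀ {e : G}, e ∈ ⁅A, B⁆ → ⁅b, ⁅d, e⁆⁆ = e := fun {e} he' => by
      have h1 : ⁅d, e⁻¹ * ⁅b, ⁅d, e⁆⁆⁆ = 1 := by
        rw [CommCase.bilin H.high hd (inv_mem he') (hβ (hα he')), CommCase.inv_right H.high hd he',
          hαβ (hα he'), inv_mul_cancel]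
      have h2 := H.eq_one_of_fix_right (mul_mem (inv_mem he') (hβ (hα he')))
      by_contra hne
      refine hd1 ?_
      obtain ⟨x, hx⟩ : ∃ x, x = e⁻¹ * ⁅b, ⁅d, e⁆⁆ := ⟨_, rfl⟩
      rw [← hx] at h1
      have hx1 : x ≠ 1 := fun h => hne (inv_mul_eq_one.1 (hx ▸ h)).symm
      have hxE : x ∈ ⁅A, B⁆ := hx ▸ mul_mem (inv_mem he') (hβ (hα he'))
      obtain ⟨y, hy, hy1⟩ := (Subgroup.bot_or_exists_ne_one A).resolve_left (H.root.ne_bot A H.left)
      by_contra hd1'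
      -- `x` is fixed by `d`, so it lies in `A` as well
      obtain ⟨d₀, hd₀, hd₀x⟩ := CommCase.surj' H.high hxE hx1 (H.back.symm ▸ hy)
      obtain ⟨w, hw, hwB, hwC⟩ := H.exists_swap'
      have hfix : conjBy B d = B := by
        by_contra hBd
        have hbot := H.meet_eq_bot (Subgroup.mem_sup_right hd) (one_mem _) (by rwa [conjBy_one])
        refine hx1 ?_
        rw [← Subgroup.mem_bot, ← hbot]
        refine ⟨?_, by rw [conjBy_one]; exact hxE⟩
        show x ∈ conjBy ⁅A, B⁆ d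
        rw [mem_conjBy, mul_assoc, ← (commutatorElement_eq_one_iff_commute.1 h1).eq, inv_mul_cancel_left]
        exact hxE
      exact hd1 (eq_one_of_mem_of_fix (RankOnePair_symm H.rankOne) hd hfix)
    have hcomm : ∀ {f e : G}, f ∈ A → e ∈ ⁅A, B⁆ → f * e = e * f := fun hf he => H.aC hf he
    intro n hn
    obtain ⟨f, hf, e, he', rfl⟩ := mem_sup_of_commute (fun a ha c hc => H.aC ha hc) hn
    have zf : (b⁻¹ * d * b) * f * (b⁻¹ * d * b)⁻¹ = ⁅b, f⁆⁻¹ * f * f := by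
      have hE := hβ hf
      calc _ = b⁻¹ * ((d * ⁅b, f⁆ * d⁻¹) * (d * f * d⁻¹)) * b := by
            rw [show (b⁻¹ * d * b) * f * (b⁻¹ * d * b)⁻¹ = b⁻¹ * (d * (b * f * b⁻¹) * d⁻¹) * b by group, hbf]; group
        _ = (b⁻¹ * f * b) * (b⁻¹ * ⁅b, f⁆ * b) * (b⁻¹ * f * b) := by
            rw [hde, hαβ hf, (hdf hf).1]; group
        _ = ⁅b, f⁆⁻¹ * f * f := by
            rw [(hbe hE).2, hbf' hf, mul_assoc (⁅b, f⁆⁻¹ * f), mul_inv_cancel_left]
    have zf' : (d⁻¹ * b⁻¹ * d) * f * (d⁻¹ * b⁻¹ * d)⁻¹ = ⁅b, f⁆⁻¹ * f * f := by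
      have hE := hβ hf
      calc _ = (d⁻¹ * ⁅b, f⁆ * d)⁻¹ * (d⁻¹ * f * d) := by
            rw [show (d⁻¹ * b⁻¹ * d) * f * (d⁻¹ * b⁻¹ * d)⁻¹ = d⁻¹ * (b⁻¹ * (d * f * d⁻¹) * b) * d by group,
              (hdf hf).1, hbf' hf]; group
        _ = _ := by rw [hde' hE, hαβ hf, (hdf hf).2, mul_inv_rev, inv_inv]
    have ze : (b⁻¹ * d * b) * e * (b⁻¹ * d * b)⁻¹ = ⁅d, e⁆ := by
      calc _ = (b⁻¹ * ⁅d, e⁆ * b) * (b⁻¹ * e * b) := by
            rw [show (b⁻¹ * d * b) * e * (b⁻¹ * d * b)⁻¹ = b⁻¹ * (d * (b * e * b⁻¹) * d⁻¹) * b by group,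
              (hbe he').1, hde]; group
        _ = ⁅d, e⁆ := by
            rw [hbf' (hα he'), hβα he', (hbe he').2, mul_assoc, hcomm (hα he') he', inv_mul_cancel_left]
    have ze' : (d⁻¹ * b⁻¹ * d) * e * (d⁻¹ * b⁻¹ * d)⁻¹ = ⁅d, e⁆ := by
      calc _ = d⁻¹ * ((b⁻¹ * ⁅d, e⁆ * b) * (b⁻¹ * e * b)) * d := by
            rw [show (d⁻¹ * b⁻¹ * d) * e * (d⁻¹ * b⁻¹ * d)⁻¹ = d⁻¹ * (b⁻¹ * (d * e * d⁻¹) * b) * d by group, hde]
            group
        _ = d⁻¹ * ⁅d, e⁆ * d := by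
            rw [hbf' (hα he'), hβα he', (hbe he').2, mul_assoc e⁻¹, hcomm (hα he') he', inv_mul_cancel_left]
        _ = ⁅d, e⁆ := (hdf (hα he')).2
    rw [show ∀ g : G, g * (f * e) * g⁻¹ = (g * f * g⁻¹) * (g * e * g⁻¹) from fun g => by group,
      show ∀ g : G, g * (f * e) * g⁻¹ = (g * f * g⁻¹) * (g * e * g⁻¹) from fun g => by group, zf, ze, zf', ze']
  have hm1 : b⁻¹ * d * b ∈ conjBy D b⁻¹ := by
    have := conj_mem_conjBy (g := b⁻¹) hd; rwa [inv_inv] at this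
  have hm2 : d⁻¹ * b⁻¹ * d ∈ conjBy D b⁻¹ := by
    rw [he]
    have := conj_mem_conjBy (g := d⁻¹) (inv_mem hb); rwa [inv_inv] at this
  obtain ⟨k, hk⟩ : ∃ k, k = (b⁻¹ * d * b)⁻¹ * (d⁻¹ * b⁻¹ * d) := ⟨_, rfl⟩
  have hkm : k ∈ conjBy D b⁻¹ := hk ▸ mul_mem (inv_mem hm1) hm2
  rw [mem_conjBy, inv_inv] at hkm
  have hkX : k ∈ B ⊔ D := by
    have : k = b⁻¹ * (b * k * b⁻¹) * b := by group
    rw [this]
    exact mul_mem (mul_mem (inv_mem (Subgroup.mem_sup_left hb)) (Subgroup.mem_sup_right hkm)) (Subgroup.mem_sup_left hb)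
  have hkN : k ∈ Subgroup.centralizer ((A ⊔ ⁅A, B⁆ : Subgroup G) : Set G) := by
    rw [Subgroup.mem_centralizer_iff]
    intro n hn
    have := hzN n hn
    calc n * k = (b⁻¹ * d * b)⁻¹ * ((b⁻¹ * d * b) * n * (b⁻¹ * d * b)⁻¹) * (d⁻¹ * b⁻¹ * d) := by rw [hk]; group
      _ = k * n := by rw [this, hk]; group
  have hcen := H.centralizer_central hkX hkN
  have hk1 : k = 1 := by
    have e1 : b * k * b⁻¹ = k := by
      rw [← hcen b (Subgroup.mem_sup_left hb), mul_inv_cancel_right]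
    rw [e1] at hkm
    by_contra hk1
    exact hb1 (eq_one_of_commute (RankOnePair_symm H.rankOne) hkm hk1 hb (hcen b (Subgroup.mem_sup_left hb)))
  exact inv_mul_eq_one.1 (hk ▸ hk1)

/-- The natural line through an opposite pair attached to a commutator partner. -/
theorem naturalLine_of_line (hS : IsRootSubgroupSet S) (hpart : ∀ R ∈ S, ∃ P ∈ S, IsRankOnePair R P)
    (hA : A ∈ S) (hB : B ∈ S) (hC : C ∈ S) (hAB : IsRankOnePair A B) (hAC : ⁅A, C⁆ = ⊥)
    (hCB : RootCommutatorCase S C B) :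
    ∃ F, NaturalLine S F B A ∧
      ∃ c ∈ C, c ≠ 1 ∧ ∃ γ ∈ F, γ ≠ 1 ∧ ∀ q ∈ B, (c * γ) * q = q * (c * γ) := by
  obtain ⟨PC, hPC, hCP⟩ := hpart _ hC
  obtain ⟨PE, hPE, hEP⟩ := hpart _ hCB.1
  obtain ⟨b, hb, hb1⟩ := exists_ne_one_left (RankOnePair_symm hAB)
  obtain ⟨c, hc, hc1⟩ := exists_ne_one_left hCP
  obtain ⟨a, ha, ha1, hae⟩ := hAB.cond_right b hb hb1
  obtain ⟨e, he⟩ : ∃ e, e = ⁅c, b⁆ := ⟨_, rfl⟩
  have heE : e ∈ ⁅C, B⁆ := he ▸ Subgroup.commutator_mem_commutator hc hb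
  have he1 : e ≠ 1 := fun h => hb1 (CommCase.injective hS hC hPC hCP hCB hc hc1 hb (he ▸ h))
  have hca : ∀ {x y : G}, x ∈ A → y ∈ C → x * y = y * x := fun hx hy => commute_of_commutator_eq_bot hAC hx hy
  -- `c γ` centralises `B` for `γ = ⁅a, e⁆`
  have hbc : b⁻¹ * c * b = c * e := by
    rw [he, ← CommCase.neg_neg hCB hc hb, commutatorElement_def]; group
  have hcen : ∀ q ∈ B, (c * ⁅a, e⁆) * q = q * (c * ⁅a, e⁆) := by
    intro q hq
    have hq' : a⁻¹ * q * a ∈ conjBy A b⁻¹ := by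
      rw [← hae, mem_conjBy]
      convert hq using 1; group
    rw [mem_conjBy, inv_inv] at hq'
    have h2 : Commute (a * (b⁻¹ * c * b) * a⁻¹) q := by
      show a * (b⁻¹ * c * b) * a⁻¹ * q = q * (a * (b⁻¹ * c * b) * a⁻¹)
      calc a * (b⁻¹ * c * b) * a⁻¹ * q = a * b⁻¹ * (c * (b * (a⁻¹ * q * a) * b⁻¹)) * b * a⁻¹ := by group
        _ = q * (a * (b⁻¹ * c * b) * a⁻¹) := by rw [← hca hq' hc]; group
    have h3 : a * (b⁻¹ * c * b) * a⁻¹ = c * ⁅a, e⁆ * e := by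
      rw [hbc, ← mul_assoc a c e, hca ha hc, commutatorElement_def]; group
    rw [h3] at h2
    have h4 := h2.mul_left (Commute.inv_left (CommCase.central_right hCB heE hq : Commute e q))
    rw [mul_inv_cancel_right] at h4
    exact h4.eq
  have hcne : ∀ {q : G}, q ∈ B → q ≠ 1 → ⁅q, c⁻¹⁆ ≠ 1 := fun {q} hq hq1 h =>
    hq1 (CommCase.injective hS hC hPC hCP hCB (inv_mem hc) (inv_ne_one.2 hc1) hq
      (by rw [← commutatorElement_inv, h, inv_one]))
  rcases hS.pair A hA ⁅C, B⁆ hCB.1 with h | h | h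
  · exfalso
    have h0 : ⁅a, e⁆ = 1 := commutatorElement_eq_one_iff_commute.2 (commute_of_commutator_eq_bot h ha heE)
    rw [h0, mul_one] at hcen
    exact hb1 (CommCase.injective hS hC hPC hCP hCB hc hc1 hb
      (commutatorElement_eq_one_iff_commute.2 (hcen b hb)))
  · exfalso
    -- some member of the line other than `C` would be non-opposite to `A`
    have hD := hS.conj_mem C hC b
    have hDne : conjBy C b ≠ C := fun e' => by
      have := member_eq_of_common hS hCB.1 hPE hEP hC (x := ⁅c, b⁆)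
        (Subgroup.commutator_mem_commutator hc hb) ?_ (he ▸ he1)
      · exact CommCase.ne_left hS hCB this.symm
      · rw [commutatorElement_def, mul_assoc c, mul_assoc c]
        exact mul_mem hc (e'.le (conj_mem_conjBy (inv_mem hc)))
    have hopp : ∀ {b' : G}, b' ∈ B → conjBy C b' ≠ C → IsRankOnePair A (conjBy C b') := by
      intro b' hb' hne'
      have hCC : ¬ IsRankOnePair A C := not_rankOne_of_commute hAC
      have hb'1 : b' ≠ 1 := fun e' => hne' (by rw [e', conjBy_one])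
      have hec : ⁅c, b'⁆⁻¹ * c = b' * c * b'⁻¹ := by rw [commutatorElement_def]; group
      exact rankOne_of_mul_mem hS hA hC (hS.conj_mem C hC b') (RankOnePair_symm h) (CommCase.commute_left hCB) hCC
        (inv_mem (Subgroup.commutator_mem_commutator hc hb'))
        (inv_ne_one.2 fun h0 => hb'1 (CommCase.injective hS hC hPC hCP hCB hc hc1 hb' h0)) hc
        (hec ▸ conj_mem_conjBy hc)
    have hDA : IsRankOnePair (conjBy C b) A := RankOnePair_symm (hopp hb hDne)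
    have hne2 : ⁅C, B⁆ ≠ conjBy C b := by
      intro e'
      have := conjBy_eq_of_commute (CommCase.commute_right hCB) (inv_mem hb)
      rw [e', conjBy_conjBy, inv_mul_cancel, conjBy_one] at this
      exact hDne this.symm
    have hcc : ⁅⁅C, B⁆, conjBy C b⁆ = ⊥ := by
      have h1 := (congrArg (fun R => conjBy R b) (CommCase.commute_left hCB)).trans (conjBy_bot b)
      have h2 : ⁅conjBy ⁅C, B⁆ b, conjBy C b⁆ = ⊥ := (Subgroup.map_commutator _ _ _).symm.trans h1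
      rwa [conjBy_eq_of_commute (CommCase.commute_right hCB) hb] at h2
    obtain ⟨R, hR, hRle, hRA⟩ := exists_commCase_on_line hS hA hCB.1 (RankOnePair_symm h) hDA hne2 hcc
      fun x hx hx1 => by
        have hle : ⁅C, B⁆ ⊔ conjBy C b ≤ C ⊔ ⁅C, B⁆ := sup_le le_sup_right (CommCase.conj_le hCB hb)
        obtain ⟨R, hR, -, hxR⟩ := CommCase.line_cover hS hC hCB x (hle hx) hx1
        refine ⟨R, hR, ?_, hxR⟩
        have hEbig : C ⊔ ⁅C, B⁆ ≤ ⁅C, B⁆ ⊔ conjBy C b := by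
          refine sup_le (fun y hy => ?_) le_sup_left
          rw [show y = ⁅y, b⁆ * (b * y * b⁻¹) by rw [commutatorElement_def]; group]
          exact mul_mem (Subgroup.mem_sup_left (Subgroup.commutator_mem_commutator hy hb))
            (Subgroup.mem_sup_right (conj_mem_conjBy hy))
        refine le_trans ?_ hEbig
        obtain ⟨R', hR', hR'le, hxR'⟩ := CommCase.line_cover hS hC hCB x (hle hx) hx1
        obtain ⟨PR, hPR, hRP⟩ := hpart _ hR
        exact (member_eq_of_common hS hR hPR hRP hR' hxR hxR' hx1) ▸ hR'le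
    have hRle' : R ≤ C ⊔ ⁅C, B⁆ := hRle.trans (sup_le le_sup_right (CommCase.conj_le hCB hb))
    rcases member_cases hS hC hPC hCP hCB hR hRle' with rfl | ⟨b', hb', rfl⟩
    · exact not_rankOne_of_commCase hS hR hA hRA (RankOnePair_symm h)
    · by_cases hne' : conjBy C b' = C
      · rw [hne'] at hRA
        exact hS.ne_bot _ hRA.1 (Subgroup.commutator_comm C A ▸ hAC)
      · exact not_rankOne_of_commCase hS hR hA hRA (RankOnePair_symm (hopp hb' hne'))
  · obtain ⟨γ, hγ⟩ : ∃ γ, γ = ⁅a, e⁆ := ⟨_, rfl⟩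
    rw [← hγ] at hcen
    have hγF : γ ∈ ⁅A, ⁅C, B⁆⁆ := hγ ▸ Subgroup.commutator_mem_commutator ha heE
    have hγ1 : γ ≠ 1 := fun h0 => he1 (CommCase.injective hS hA hB hAB h ha ha1 heE (hγ ▸ h0))
    refine ⟨⁅A, ⁅C, B⁆⁆, ?_⟩
    have hconj : ∀ {q : G}, q ∈ B → q * γ * q⁻¹ = ⁅q, c⁻¹⁆ * γ := fun {q} hq => by
      calc q * γ * q⁻¹ = (q * c⁻¹ * q⁻¹) * (q * (c * γ) * q⁻¹) := by group
        _ = ⁅q, c⁻¹⁆ * γ := by rw [← hcen q hq, mul_inv_cancel_right, commutatorElement_def]; group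
    have hqE : ∀ {q : G}, q ∈ B → ⁅q, c⁻¹⁆ ∈ ⁅C, B⁆ := fun hq =>
      (Subgroup.commutator_comm B C).le (Subgroup.commutator_mem_commutator hq (inv_mem hc))
    rcases hS.pair ⁅A, ⁅C, B⁆⁆ h.1 B hB with h' | h' | h'
    · exfalso
      refine hcne hb hb1 ?_
      have := hconj hb
      rw [← commute_of_commutator_eq_bot h' hγF hb, mul_inv_cancel_right] at this
      exact (mul_eq_right.1 this.symm)
    · exfalso
      have hp := conjBy_ne_of_rankOne h' hb hb1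
      have hm : ⁅b, c⁻¹⁆ * γ ∈ conjBy ⁅A, ⁅C, B⁆⁆ b := hconj hb ▸ conj_mem_conjBy hγF
      have hm1 : ⁅b, c⁻¹⁆ * γ ≠ 1 := hconj hb ▸ fun e' => hγ1 (conj_eq_one_iff.1 e')
      refine hm1 (eq_one_of_commute hp hγF hγ1 hm ?_)
      exact (Commute.mul_right ((CommCase.central_right h hγF (hqE hb) : Commute γ _)) (Commute.refl γ)).eq
    · have hback : ⁅⁅A, ⁅C, B⁆⁆, B⁆ = ⁅C, B⁆ := by
        refine member_eq_of_common hS hCB.1 hPE hEP h'.1 (hqE hb) ?_ (hcne hb hb1)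
        rw [show ⁅b, c⁻¹⁆ = ⁅b, γ⁆ by
          rw [commutatorElement_def b γ, hconj hb, mul_inv_cancel_right]]
        exact (Subgroup.commutator_comm B _).le (Subgroup.commutator_mem_commutator hb hγF)
      exact ⟨NaturalLine.mk' hS h.1 hB h'.1 hA (by rw [hback]), c, hc, hc1, γ, hγF, hγ1, hcen⟩

theorem special_of_nondegenerate (hS : IsRootSubgroupClass S) (hnd : IsNondegenerateRootSet S) (hA : A ∈ S)
    (hB : B ∈ S) (hAB : IsRankOnePair A B) : IsSpecialRankOnePair A B := by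
  obtain ⟨C, hC, hCB⟩ := exists_line_commCase hS hnd hA hB hAB
  obtain ⟨F, hF, -⟩ := naturalLine_of_line hS.1 (fun R hR => partner_of_class hS hnd.2.1 hR) hA hB hC.1.1 hAB hC.1.2.2 hCB
  exact hF.special

end CfsgLib.RootSubgroups
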