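import Cfsg.Agent.RootSubgroups.Containment

set_option autoImplicit false

/-!
The commutator case for two members of a set of abstract root subgroups.
-/

namespace CfsgLib.RootSubgroups

open Cfsg CfsgLib.RankOne commutatorElement

variable {G : Type*} [Group G] {S : Set (Subgroup G)} {A B C D : Subgroup G}

theorem abelian_comm (hS : IsRootSubgroupSet S) (hA : A ∈ S) {p q : G} (hp : p ∈ A) (hq : q ∈ A) :
    p * q = q * p :=
  congrArg Subtype.val ((hS.commutative A hA).is_comm.comm (⟨p, hp⟩ : A) ⟨q, hq⟩)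

theorem commutator_mul_right (a b b' : G) : ⁅a, b * b'⁆ = ⁅a, b⁆ * (b * ⁅a, b'⁆ * b⁻¹) := by
  simp only [commutatorElement_def]; group

theorem commutator_mul_left (a a' b : G) : ⁅a * a', b⁆ = a * ⁅a', b⁆ * a⁻¹ * ⁅a, b⁆ := by
  simp only [commutatorElement_def]; group

theorem conjBy_commutator_right (A B : Subgroup G) {b : G} (hb : b ∈ B) : conjBy ⁅A, B⁆ b ≤ ⁅A, B⁆ := by
  rw [Subgroup.map_le_iff_le_comap, Subgroup.commutator_le]
  intro p hp q hq
  show b * ⁅p, q⁆ * b⁻¹ ∈ ⁅A, B⁆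
  have e := commutator_mul_right p b q
  rw [show b * ⁅p, q⁆ * b⁻¹ = ⁅p, b⁆⁻¹ * ⁅p, b * q⁆ by rw [e]; group]
  exact mul_mem (inv_mem (Subgroup.commutator_mem_commutator hp hb))
    (Subgroup.commutator_mem_commutator hp (mul_mem hb hq))

theorem conjBy_commutator_sup (A B : Subgroup G) {x : G} (hx : x ∈ A ⊔ B) : conjBy ⁅A, B⁆ x = ⁅A, B⁆ := by
  have hle : A ⊔ B ≤ Subgroup.normalizer ((⁅A, B⁆ : Subgroup G) : Set G) := by
    have key : ∀ P Q : Subgroup G, ⁅P, Q⁆ = ⁅A, B⁆ → Q ≤ Subgroup.normalizer ((⁅A, B⁆ : Subgroup G) : Set G) := by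
      intro P Q e q hq
      refine conjBy_eq_self_iff.1 (le_antisymm ?_ fun y hy => ?_)
      · rw [← e]; exact conjBy_commutator_right P Q hq
      · rw [mem_conjBy]
        have := conjBy_commutator_right P Q (inv_mem hq) (conj_mem_conjBy (g := q⁻¹) (e.symm ▸ hy))
        rwa [e, inv_inv] at this
    exact sup_le (key B A (Subgroup.commutator_comm B A)) (key A B rfl)
  exact conjBy_eq_self_iff.2 (hle hx)

/-- A pair of members whose commutator subgroup is a member is in the commutator case. -/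
theorem commutatorCase_of_mem (hS : IsRootSubgroupSet S) (hA : A ∈ S) (hB : B ∈ S) (hC : ⁅A, B⁆ ∈ S) :
    RootCommutatorCase S A B := by
  rcases hS.pair A hA B hB with h | h | h
  · exact absurd h (hS.ne_bot _ hC)
  · exfalso
    have hle : ⁅A, B⁆ ≤ A ⊔ B := Subgroup.commutator_le.2 fun a ha b hb =>
      mul_mem (mul_mem (mul_mem (Subgroup.mem_sup_left ha) (Subgroup.mem_sup_right hb))
        (inv_mem (Subgroup.mem_sup_left ha))) (inv_mem (Subgroup.mem_sup_right hb))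
    rcases mem_unipotent_or_central hS hA hB h hC hle with hu | hcen
    · have hfix : ∀ {x : G}, x ∈ A ⊔ B → conjBy ⁅A, B⁆ x = ⁅A, B⁆ := fun hx => conjBy_commutator_sup A B hx
      have hnot : ∀ {P Q : Subgroup G}, IsRankOnePair P Q → ⁅A, B⁆ ∈ unipotentSubgroups P Q →
          (∀ p ∈ P, conjBy ⁅A, B⁆ p = ⁅A, B⁆) → ⁅A, B⁆ = P := by
        intro P Q hPQ hm hp
        by_contra hne
        obtain ⟨p, hpP, hp1⟩ := exists_ne_one_left hPQ
        obtain ⟨y, -, hu⟩ := regular hPQ hm hm hne hne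
        exact hp1 ((hu p ⟨hpP, hp p hpP⟩).trans (hu 1 ⟨one_mem _, conjBy_one _⟩).symm)
      have e1 := hnot h hu fun p hp => hfix (Subgroup.mem_sup_left hp)
      have e2 := hnot (RankOnePair_symm h) (by
        obtain ⟨x, hx, ex⟩ := hu
        obtain ⟨y, hy, ey⟩ := right_mem_unipotent h
        refine ⟨x * y⁻¹, sup_comm A B ▸ mul_mem hx (inv_mem hy), ?_⟩
        rw [ex, ey, conjBy_conjBy, inv_mul_cancel_right]) fun p hp => hfix (Subgroup.mem_sup_right hp)
      exact h.ne (e1.symm.trans e2)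
    · refine hS.ne_bot _ hC (eq_bot_iff.2 (Subgroup.commutator_le.2 fun a ha b hb => Subgroup.mem_bot.2 ?_))
      by_cases hb1 : b = 1
      · rw [hb1, commutatorElement_one_right]
      have hm : ⁅a, b⁆ * b = a * b * a⁻¹ := by rw [commutatorElement_def, inv_mul_cancel_right]
      refine eq_one_of_translate hS hB hA (RankOnePair_symm h) ?_ hb hb1 (hS.conj_mem B hB a)
        (hm ▸ conj_mem_conjBy hb) (hm ▸ fun e => hb1 (conj_eq_one_iff.1 e))
      intro y hy
      exact hcen _ (Subgroup.commutator_mem_commutator ha hb) y (sup_comm B A ▸ hy)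
  · exact h

theorem CommCase.symm (h : RootCommutatorCase S A B) : RootCommutatorCase S B A := by
  obtain ⟨h1, hz, ha, hb⟩ := h
  rw [RootCommutatorCase, Subgroup.commutator_comm B A, sup_comm B A]
  refine ⟨h1, hz, fun b hbB hb1 => ?_, fun a haA ha1 => ?_⟩
  · rw [← hb b hbB hb1]
    refine le_antisymm ?_ ?_ <;> rw [Subgroup.closure_le] <;> rintro _ ⟨a, haA, rfl⟩ <;> simp only [SetLike.mem_coe]
    · rw [show b * a * b⁻¹ * a⁻¹ = (a * b * a⁻¹ * b⁻¹)⁻¹ by group]
      exact inv_mem (Subgroup.subset_closure ⟨a, haA, rfl⟩)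
    · rw [show a * b * a⁻¹ * b⁻¹ = (b * a * b⁻¹ * a⁻¹)⁻¹ by group]
      exact inv_mem (Subgroup.subset_closure ⟨a, haA, rfl⟩)
  · rw [← ha a haA ha1]
    refine le_antisymm ?_ ?_ <;> rw [Subgroup.closure_le] <;> rintro _ ⟨b, hbB, rfl⟩ <;> simp only [SetLike.mem_coe]
    · rw [show b * a * b⁻¹ * a⁻¹ = (a * b * a⁻¹ * b⁻¹)⁻¹ by group]
      exact inv_mem (Subgroup.subset_closure ⟨b, hbB, rfl⟩)
    · rw [show a * b * a⁻¹ * b⁻¹ = (b * a * b⁻¹ * a⁻¹)⁻¹ by group]
      exact inv_mem (Subgroup.subset_closure ⟨b, hbB, rfl⟩)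

theorem CommCase.central_left (h : RootCommutatorCase S A B) {c a : G} (hc : c ∈ ⁅A, B⁆) (ha : a ∈ A) :
    c * a = a * c := h.2.1 c hc a (Subgroup.mem_sup_left ha)

theorem CommCase.central_right (h : RootCommutatorCase S A B) {c b : G} (hc : c ∈ ⁅A, B⁆) (hb : b ∈ B) :
    c * b = b * c := h.2.1 c hc b (Subgroup.mem_sup_right hb)

theorem CommCase.bilin (h : RootCommutatorCase S A B) {a b b' : G} (ha : a ∈ A) (hb : b ∈ B) (hb' : b' ∈ B) :
    ⁅a, b * b'⁆ = ⁅a, b⁆ * ⁅a, b'⁆ := by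
  rw [commutator_mul_right, ← CommCase.central_right h (Subgroup.commutator_mem_commutator ha hb') hb,
    mul_inv_cancel_right]

/-- The homomorphism `b ↦ ⁅a, b⁆` of the commutator case. -/
def commHom (h : RootCommutatorCase S A B) {a : G} (ha : a ∈ A) : B →* G :=
  MonoidHom.mk' (fun b => ⁅a, (b : G)⁆) fun b b' => CommCase.bilin h ha b.2 b'.2

theorem commHom_range (h : RootCommutatorCase S A B) {a : G} (ha : a ∈ A) (ha1 : a ≠ 1) :
    (commHom h ha).range = ⁅A, B⁆ := by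
  refine le_antisymm ?_ ?_
  · rintro _ ⟨b, rfl⟩
    exact Subgroup.commutator_mem_commutator ha b.2
  · conv_lhs => rw [← h.2.2.1 a ha ha1]
    rw [Subgroup.closure_le]
    rintro _ ⟨b, hb, rfl⟩
    exact ⟨⟨b, hb⟩, commutatorElement_def a b⟩

theorem CommCase.surj (h : RootCommutatorCase S A B) {a c : G} (ha : a ∈ A) (ha1 : a ≠ 1) (hc : c ∈ ⁅A, B⁆) :
    ∃ b ∈ B, ⁅a, b⁆ = c := by
  rw [← commHom_range h ha ha1] at hc
  obtain ⟨b, hb⟩ := hc
  exact ⟨b, b.2, hb⟩

theorem CommCase.surj' (h : RootCommutatorCase S A B) {b c : G} (hb : b ∈ B) (hb1 : b ≠ 1) (hc : c ∈ ⁅A, B⁆) :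
    ∃ a ∈ A, ⁅a, b⁆ = c := by
  obtain ⟨a, ha, e⟩ := CommCase.surj (CommCase.symm h) hb hb1 (Subgroup.commutator_comm A B ▸ inv_mem hc)
  exact ⟨a, ha, by rw [← commutatorElement_inv, e, inv_inv]⟩

theorem CommCase.inv_right (h : RootCommutatorCase S A B) {a b : G} (ha : a ∈ A) (hb : b ∈ B) :
    ⁅a, b⁻¹⁆ = ⁅a, b⁆⁻¹ := by
  refine eq_inv_of_mul_eq_one_left ?_
  rw [← CommCase.bilin h ha (inv_mem hb) hb, inv_mul_cancel, commutatorElement_one_right]

theorem CommCase.inv_left (h : RootCommutatorCase S A B) {a b : G} (ha : a ∈ A) (hb : b ∈ B) :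
    ⁅a⁻¹, b⁆ = ⁅a, b⁆⁻¹ := by
  rw [← commutatorElement_inv, CommCase.inv_right (CommCase.symm h) hb ha, commutatorElement_inv]

theorem CommCase.neg_neg (h : RootCommutatorCase S A B) {a b : G} (ha : a ∈ A) (hb : b ∈ B) :
    ⁅a⁻¹, b⁻¹⁆ = ⁅a, b⁆ := by
  rw [CommCase.inv_right h (inv_mem ha) hb, CommCase.inv_left h ha hb, inv_inv]

theorem CommCase.conj_commute (hS : IsRootSubgroupSet S) (hA : A ∈ S) (h : RootCommutatorCase S A B) {b : G}
    (hb : b ∈ B) : ⁅conjBy A b, A⁆ = ⊥ := by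
  refine eq_bot_iff.2 (Subgroup.commutator_le.2 fun x hx a ha => Subgroup.mem_bot.2 ?_)
  rw [mem_conjBy] at hx
  have e : x = ⁅b⁻¹ * x * b, b⁆⁻¹ * (b⁻¹ * x * b) := by rw [commutatorElement_def]; group
  rw [commutatorElement_eq_one_iff_commute, e]
  exact Commute.mul_left (Commute.inv_left (CommCase.central_left h (Subgroup.commutator_mem_commutator hx hb) ha))
    (abelian_comm hS hA hx ha)

theorem unipotent_sup_eq (h : IsRankOnePair A B) (hC : C ∈ unipotentSubgroups A B)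
    (hD : D ∈ unipotentSubgroups A B) (hne : C ≠ D) : C ⊔ D = A ⊔ B := by
  obtain ⟨g, hg, rfl, rfl⟩ := two_transitive h hC hD hne
  exact (Subgroup.map_sup A B _).symm.trans (conjBy_of_mem hg)

theorem eq_bot_of_commutator_of_rankOne (h : IsRankOnePair A B) : ⁅A, B⁆ ≠ ⊥ := by
  intro e
  obtain ⟨a, ha, ha1⟩ := exists_ne_one_left h
  obtain ⟨b, hb, hb1⟩ := exists_ne_one_left (RankOnePair_symm h)
  exact hb1 (eq_one_of_commute h ha ha1 hb (commute_of_commutator_eq_bot e ha hb))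

end CfsgLib.RootSubgroups
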