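import Cfsg.Agent.RootSubgroups.Criterion

set_option autoImplicit false

/-!
Members of a set of abstract root subgroups inside a rank one group of the set.
-/

namespace CfsgLib.RootSubgroups

open Cfsg CfsgLib.RankOne commutatorElement

variable {G : Type*} [Group G] {S : Set (Subgroup G)} {A B C D P : Subgroup G}

theorem exists_partner_of_not_isolated (hAS : A ∈ S) (hA : ¬ IsIsolatedIn (FAdj S) S A) :
    ∃ B ∈ S, IsRankOnePair A B := by
  by_contra hcon
  push Not at hcon
  exact hA ⟨hAS, fun B => ⟨fun h => hcon B h.2.1 h.2.2, fun h => hcon B h.1 (RankOnePair_symm h.2.2)⟩⟩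

theorem member_eq_of_common (hS : IsRootSubgroupSet S) (hA : A ∈ S) (hB : B ∈ S) (h : IsRankOnePair A B)
    (hD : D ∈ S) {x : G} (hxA : x ∈ A) (hxD : x ∈ D) (hx : x ≠ 1) : D = A :=
  eq_of_translate hS hA hB h (z := 1) (fun y _ => by rw [one_mul, mul_one]) hxA hx hD
    (by rwa [one_mul]) (by rwa [one_mul])

/-- A member of `S` in a rank one group of `S` commuting with one of its unipotent subgroups. -/
theorem eq_or_central_of_commute (hS : IsRootSubgroupSet S) (hC : C ∈ S) (hD : D ∈ S) (h : IsRankOnePair C D)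
    (hP : P ∈ S) (hle : P ≤ C ⊔ D) (hcomm : ⁅P, C⁆ = ⊥) :
    P = C ∨ ∀ x ∈ P, ∀ y ∈ C ⊔ D, x * y = y * x := by
  refine or_iff_not_imp_left.2 fun hne x hx => ?_
  have hCab : ∀ {p q : G}, p ∈ C → q ∈ C → p * q = q * p := fun {p q} hp hq =>
    congrArg Subtype.val ((hS.commutative C hC).is_comm.comm (⟨p, hp⟩ : C) ⟨q, hq⟩)
  have hxc : ∀ c ∈ C, x * c = c * x := fun c hc => commute_of_commutator_eq_bot hcomm hx hc
  have hxC : conjBy C x = C := by
    refine le_antisymm ?_ fun c hc => ?_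
    · rintro _ ⟨c, hc, rfl⟩
      show x * c * x⁻¹ ∈ C
      rwa [hxc c hc, mul_inv_cancel_right]
    · rw [mem_conjBy, mul_assoc, ← hxc c hc, inv_mul_cancel_left]
      exact hc
  have hD' : conjBy D x ∈ unipotentSubgroups C D := conjBy_mem_unipotent (right_mem_unipotent h) (hle hx)
  have hne' : conjBy D x ≠ C := fun e => h.ne.symm (conjBy_injective x (e.trans hxC.symm))
  obtain ⟨c, ⟨hc, hcD⟩, -⟩ := regular h (right_mem_unipotent h) hD' h.ne.symm hne'
  obtain ⟨z, hzdef⟩ : ∃ z, z = c⁻¹ * x := ⟨_, rfl⟩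
  have hzD : conjBy D z = D := by rw [hzdef, ← conjBy_conjBy, ← hcD, conjBy_conjBy, inv_mul_cancel, conjBy_one]
  have hzc : ∀ c' ∈ C, z * c' = c' * z := fun c' hc' => by
    rw [hzdef, mul_assoc, hxc c' hc', ← mul_assoc, hCab (inv_mem hc) hc', mul_assoc]
  have hzC : conjBy C z = C := by
    rw [hzdef, ← conjBy_conjBy, hxC, conjBy_of_mem (inv_mem hc)]
  have hfix : ∀ Q ∈ unipotentSubgroups C D, conjBy Q z = Q := by
    intro Q hQ
    rcases unipotent_cases h hQ with rfl | ⟨c', hc', rfl⟩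
    · exact hzC
    · rw [conjBy_conjBy, hzc c' hc', ← conjBy_conjBy, hzD]
  have hzX : ∀ y ∈ C ⊔ D, z * y = y * z := by
    intro y hy
    have : C ⊔ D ≤ Subgroup.centralizer {z} := by
      refine sup_le (fun c' hc' => Subgroup.mem_centralizer_singleton_iff.2 (hzc c' hc').symm) fun d hd => ?_
      rw [Subgroup.mem_centralizer_singleton_iff]
      have hdm : z * d * z⁻¹ ∈ D := hzD.le (conj_mem_conjBy hd)
      have hzC' : conjBy C z⁻¹ = C := by
        conv_lhs => rw [← hzC, conjBy_conjBy, inv_mul_cancel, conjBy_one]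
      have e : conjBy C (z * d * z⁻¹) = conjBy C d := by
        rw [← conjBy_conjBy, hzC', ← conjBy_conjBy,
          hfix _ (conjBy_mem_unipotent (left_mem_unipotent C D) (Subgroup.mem_sup_right hd))]
      have := eq_of_conjBy_right_eq (RankOnePair_symm h) hdm hd e
      calc d * z = (z * d * z⁻¹) * z := by rw [this]
        _ = z * d := by group
    exact (Subgroup.mem_centralizer_singleton_iff.1 (this hy)).symm
  by_cases hc1 : c = 1
  · rw [show x = z by rw [hzdef, hc1, inv_one, one_mul]]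
    exact hzX
  · by_cases hx1 : x = 1
    · subst hx1; intro y _; rw [one_mul, mul_one]
    · have hza : z * c = x := by rw [hzc c hc, hzdef, mul_inv_cancel_left]
      exact absurd (eq_of_translate hS hC hD h hzX hc hc1 hP (hza ▸ hx) (hza ▸ hx1)) hne

/-- A member of `S` in a rank one group of `S` is one of its unipotent subgroups or central in it. -/
theorem mem_unipotent_or_central (hS : IsRootSubgroupSet S) (hC : C ∈ S) (hD : D ∈ S) (h : IsRankOnePair C D)
    (hP : P ∈ S) (hle : P ≤ C ⊔ D) :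
    P ∈ unipotentSubgroups C D ∨ ∀ x ∈ P, ∀ y ∈ C ⊔ D, x * y = y * x := by
  rcases hS.pair P hP C hC with hb | hr | hcc
  · exact (eq_or_central_of_commute hS hC hD h hP hle hb).imp_left fun (e : P = C) => e ▸ left_mem_unipotent C D
  · obtain ⟨p, hp, hp1⟩ := exists_ne_one_left hr
    obtain ⟨c, hc, -, he⟩ := hr.cond_left p hp hp1
    refine Or.inl ?_
    have := conjBy_mem_unipotent (conjBy_mem_unipotent (left_mem_unipotent C D) (hle (inv_mem hp)))
      (Subgroup.mem_sup_left (T := D) hc)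
    rwa [← he, conjBy_conjBy, mul_inv_cancel, conjBy_one] at this
  · exfalso
    have hE : ⁅P, C⁆ ∈ S := hcc.1
    have hEle : ⁅P, C⁆ ≤ C ⊔ D := Subgroup.commutator_le.2 fun p hp c hc =>
      mul_mem (mul_mem (mul_mem (hle hp) (Subgroup.mem_sup_left hc)) (inv_mem (hle hp)))
        (inv_mem (Subgroup.mem_sup_left hc))
    have hEC : ⁅⁅P, C⁆, C⁆ = ⊥ := eq_bot_iff.2 (Subgroup.commutator_le.2 fun e he c hc => Subgroup.mem_bot.2
      (commutatorElement_eq_one_iff_commute.2 (hcc.2.1 e he c (Subgroup.mem_sup_right hc))))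
    rcases eq_or_central_of_commute hS hC hD h hE hEle hEC with e | hcen
    · refine hS.ne_bot _ hE (eq_bot_iff.2 (Subgroup.commutator_le.2 fun p hp c hc => Subgroup.mem_bot.2 ?_))
      exact commutatorElement_eq_one_iff_commute.2
        (hcc.2.1 c (e.symm ▸ hc) p (Subgroup.mem_sup_left hp)).symm
    · refine hS.ne_bot _ hE (eq_bot_iff.2 (Subgroup.commutator_le.2 fun p hp c hc => Subgroup.mem_bot.2 ?_))
      by_cases hc1 : c = 1
      · rw [hc1, commutatorElement_one_right]
      have hm : ⁅p, c⁆ * c = p * c * p⁻¹ := by rw [commutatorElement_def, inv_mul_cancel_right]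
      exact eq_one_of_translate hS hC hD h (hcen _ (Subgroup.commutator_mem_commutator hp hc)) hc hc1
        (hS.conj_mem C hC p) (hm ▸ conj_mem_conjBy hc) (hm ▸ fun e => hc1 (conj_eq_one_iff.1 e))

theorem containment (hS : IsRootSubgroupSet S) (hA : A ∈ S) (hB : B ∈ S) (hC : C ∈ S) (hD : D ∈ S)
    (hAB : IsRankOnePair A B) (hCD : IsRankOnePair C D) (hle : A ⊔ B ≤ C ⊔ D) :
    A ⊔ B = C ⊔ D ∧ C ∈ unipotentSubgroups A B ∧ D ∈ unipotentSubgroups A B := by
  have key : ∀ {P Q : Subgroup G}, P ∈ S → IsRankOnePair P Q → P ⊔ Q ≤ C ⊔ D →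
      P ∈ unipotentSubgroups C D := by
    intro P Q hP hPQ hPQle
    refine (mem_unipotent_or_central hS hC hD hCD hP (le_sup_left.trans hPQle)).resolve_right fun hcen => ?_
    obtain ⟨p, hp, hp1⟩ := exists_ne_one_left hPQ
    obtain ⟨q, hq, hq1⟩ := exists_ne_one_left (RankOnePair_symm hPQ)
    exact hq1 (eq_one_of_commute hPQ hp hp1 hq (hcen p hp q (hPQle (Subgroup.mem_sup_right hq))))
  obtain ⟨g, hg, eA, eB⟩ := two_transitive hCD (key hA hAB hle)
    (key hB (RankOnePair_symm hAB) (sup_comm A B ▸ hle)) hAB.ne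
  have hXg : conjBy (C ⊔ D) g = C ⊔ D := conjBy_of_mem hg
  have hX : A ⊔ B = C ⊔ D := by
    rw [← hXg, ← eA, ← eB]
    exact (Subgroup.map_sup C D _).symm
  refine ⟨hX, ⟨g⁻¹, hX ▸ inv_mem hg, ?_⟩, ?_⟩
  · rw [← eA, conjBy_conjBy, inv_mul_cancel, conjBy_one]
  · obtain ⟨x, hx, ex⟩ := right_mem_unipotent hCD
    refine ⟨x * g⁻¹, hX ▸ mul_mem hx (inv_mem hg), ?_⟩
    rw [← eA, conjBy_conjBy, inv_mul_cancel_right]
    exact ex

/-- In the degenerate case, a member centralising a product of commuting root elements centralises both. -/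
theorem commute_of_commute_mul (hS : IsRootSubgroupSet S) (hdeg : IsDegenerateRootSet S) (hA : A ∈ S) (hB : B ∈ S)
    {a b : G} (ha : a ∈ A) (ha1 : a ≠ 1) (hb : b ∈ B) (hab : a * b = b * a) (hab1 : a * b ≠ 1) (hC : C ∈ S)
    (hc : ∀ c ∈ C, c * (a * b) = a * b * c) : ∀ c ∈ C, c * a = a * c := by
  rcases hS.pair A hA C hC with h | h | h
  · exact fun c hcC => (commute_of_commutator_eq_bot h ha hcC).symm
  swap
  · exact absurd h (hdeg A hA C hC)
  exfalso
  have hb1 : b ≠ 1 := by
    rintro rfl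
    obtain ⟨c, hcC, hc1⟩ := exists_ne_one_left (RankOnePair_symm h)
    refine hc1 (eq_one_of_commute h ha ha1 hcC ?_)
    simpa using (hc c hcC).symm
  have hcomm : ⁅A, B⁆ = ⊥ := by
    rcases hS.pair A hA B hB with h' | h' | h'
    · exact h'
    · exact absurd (eq_one_of_commute h' ha ha1 hb hab) hb1
    · exact absurd h' (hdeg A hA B hB)
  have hCb : IsRankOnePair B C := by
    rcases hS.pair B hB C hC with h' | h' | h'
    · exfalso
      obtain ⟨c, hcC, hc1⟩ := exists_ne_one_left (RankOnePair_symm h)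
      refine hc1 (eq_one_of_commute h ha ha1 hcC (mul_right_cancel (b := b) ?_))
      calc a * c * b = a * (c * b) := mul_assoc _ _ _
        _ = a * b * c := by rw [← commute_of_commutator_eq_bot h' hb hcC, mul_assoc]
        _ = c * (a * b) := (hc c hcC).symm
        _ = c * a * b := (mul_assoc _ _ _).symm
    · exact h'
    · exact absurd h' (hdeg B hB C hC)
  obtain ⟨c₀, hc₀, -, he⟩ := h.cond_left a ha ha1
  have hCab : conjBy C (a * b) = C := by
    refine le_antisymm ?_ fun c hcC => ?_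
    · rintro _ ⟨c, hcC, rfl⟩
      show a * b * c * (a * b)⁻¹ ∈ C
      rwa [← hc c hcC, mul_inv_cancel_right]
    · rw [mem_conjBy, mul_assoc, hc c hcC, inv_mul_cancel_left]
      exact hcC
  have hA' : A ∈ unipotentSubgroups B C := by
    have : conjBy C b = conjBy C a⁻¹ := by
      conv_rhs => rw [← hCab, conjBy_conjBy, inv_mul_cancel_left]
    have hm := conjBy_mem_unipotent (conjBy_mem_unipotent (right_mem_unipotent hCb)
      (Subgroup.mem_sup_left (T := C) hb)) (Subgroup.mem_sup_right (S := B) hc₀)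
    rwa [this, ← he, conjBy_conjBy, mul_inv_cancel, conjBy_one] at hm
  by_cases hAB : A = B
  · subst hAB
    obtain ⟨c, hcC, hc1⟩ := exists_ne_one_left (RankOnePair_symm h)
    exact hc1 (eq_one_of_commute h (mul_mem ha hb) hab1 hcC (hc c hcC).symm)
  · obtain ⟨b', hb', hb'1⟩ := exists_ne_one_left hCb
    exact hb'1 (eq_one_of_commute (isRankOnePair_of_unipotent hCb hA' (left_mem_unipotent B C) hAB) ha ha1 hb'
      (commute_of_commutator_eq_bot hcomm ha hb'))

end CfsgLib.RootSubgroups
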