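import Cfsg.Agent.RootSubgroups.Perfect

set_option autoImplicit false

/-!
Root elements and central translates; the quasisimplicity criterion for groups generated by abstract
root subgroups.
-/

namespace CfsgLib.RootSubgroups

open Cfsg CfsgLib.RankOne commutatorElement

variable {G : Type*} [Group G] {S : Set (Subgroup G)} {A B C D E : Subgroup G}

theorem commute_of_commutator_eq_bot (h : ⁅A, B⁆ = ⊥) {a b : G} (ha : a ∈ A) (hb : b ∈ B) : a * b = b * a := by
  rw [← commute_iff_eq, ← commutatorElement_eq_one_iff_commute, ← Subgroup.mem_bot, ← h]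
  exact Subgroup.commutator_mem_commutator ha hb

theorem eq_one_of_commute (h : IsRankOnePair A B) {a b : G} (ha : a ∈ A) (ha1 : a ≠ 1) (hb : b ∈ B)
    (hab : a * b = b * a) : b = 1 := by
  have hm : a ∈ conjBy A b := by
    rw [mem_conjBy]
    rwa [mul_assoc, hab, inv_mul_cancel_left]
  exact eq_one_of_mem_of_fix (RankOnePair_symm h) hb
    (eq_of_common_mem h (conjBy_mem_unipotent (left_mem_unipotent A B) (Subgroup.mem_sup_right hb))
      (left_mem_unipotent A B) hm ha ha1)

/-- A member containing a central translate of a root element of a rank one pair is that root subgroup. -/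
theorem eq_of_translate (hS : IsRootSubgroupSet S) (hA : A ∈ S) (hB : B ∈ S) (h : IsRankOnePair A B)
    {z a : G} (hz : ∀ x ∈ A ⊔ B, z * x = x * z) (ha : a ∈ A) (ha1 : a ≠ 1) (hD : D ∈ S) (hza : z * a ∈ D)
    (hza1 : z * a ≠ 1) : D = A := by
  obtain ⟨b₀, hb₀, hb₀1⟩ := exists_ne_one_left (RankOnePair_symm h)
  have hzc : ∀ {x : G}, x ∈ A ⊔ B → z⁻¹ * x = x * z⁻¹ := fun {x} hx => by
    rw [inv_mul_eq_iff_eq_mul, ← mul_assoc, hz x hx, mul_inv_cancel_right]
  have hconj : ∀ y ∈ A ⊔ B, (z * a) * y * (z * a)⁻¹ = a * y * a⁻¹ := fun y hy => by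
    have hm : a * y * a⁻¹ ∈ A ⊔ B :=
      mul_mem (mul_mem (Subgroup.mem_sup_left ha) hy) (inv_mem (Subgroup.mem_sup_left ha))
    rw [show (z * a) * y * (z * a)⁻¹ = z * (a * y * a⁻¹) * z⁻¹ by group, hz _ hm, mul_inv_cancel_right]
  have hconjX : ∀ P : Subgroup G, P ≤ A ⊔ B → conjBy P (z * a) = conjBy P a := fun P hP => by
    ext x
    constructor
    · rintro ⟨y, hy, rfl⟩
      exact ⟨y, hy, (hconj y (hP hy)).symm⟩
    · rintro ⟨y, hy, rfl⟩
      exact ⟨y, hy, hconj y (hP hy)⟩
  have hne : (z * a) * b₀ ≠ b₀ * (z * a) := by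
    intro e
    refine hb₀1 (eq_one_of_commute h ha ha1 hb₀ ?_)
    have e1 : (z * a) * b₀ = z * (a * b₀) := mul_assoc _ _ _
    have e2 : b₀ * (z * a) = z * (b₀ * a) := by
      rw [← mul_assoc, ← hz b₀ (Subgroup.mem_sup_right hb₀), mul_assoc]
    rw [e1, e2] at e
    exact mul_left_cancel e
  rcases hS.pair D hD B hB with hc | hr | ⟨-, hcent, -, -⟩
  · exact absurd (commute_of_commutator_eq_bot hc hza hb₀) hne
  swap
  · exfalso
    have hcm : ⁅z * a, b₀⁆ ∈ ⁅D, B⁆ := Subgroup.commutator_mem_commutator hza hb₀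
    rw [commutatorElement_def, hconj b₀ (Subgroup.mem_sup_right hb₀)] at hcm
    have hcc := hcent _ hcm b₀ (Subgroup.mem_sup_right hb₀)
    have hy : a * b₀ * a⁻¹ * b₀ = b₀ * (a * b₀ * a⁻¹) := by
      calc a * b₀ * a⁻¹ * b₀ = (a * b₀ * a⁻¹ * b₀⁻¹ * b₀) * b₀ := by group
        _ = (b₀ * (a * b₀ * a⁻¹ * b₀⁻¹)) * b₀ := by rw [hcc]
        _ = b₀ * (a * b₀ * a⁻¹) := by group
    have hfix : conjBy B a = conjBy (conjBy B a) b₀ := by
      refine eq_of_common_mem h (conjBy_mem_unipotent (right_mem_unipotent h) (Subgroup.mem_sup_left ha))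
        (conjBy_mem_unipotent (conjBy_mem_unipotent (right_mem_unipotent h) (Subgroup.mem_sup_left ha))
          (Subgroup.mem_sup_right hb₀)) (x := a * b₀ * a⁻¹) (conj_mem_conjBy hb₀) ?_
        (fun e => hb₀1 (conj_eq_one_iff.1 e))
      have hm := conj_mem_conjBy (g := b₀) (conj_mem_conjBy (g := a) hb₀)
      rwa [← hy, mul_inv_cancel_right] at hm
    have hBaB : conjBy B a ≠ B := fun e => ha1 (eq_one_of_mem_of_fix h ha e)
    have hBam : conjBy B a ∈ unipotentSubgroups B A := ⟨a, Subgroup.mem_sup_right ha, rfl⟩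
    obtain ⟨b', -, hu⟩ := regular (RankOnePair_symm h) hBam hBam hBaB hBaB
    exact hb₀1 ((hu b₀ ⟨hb₀, hfix.symm⟩).trans (hu 1 ⟨one_mem _, conjBy_one _⟩).symm)
  · -- `(D, B)` is a rank one pair
    obtain ⟨b', hb', -, he⟩ := hr.cond_left _ hza hza1
    have hX : ∀ P : Subgroup G, P ≤ A ⊔ B → conjBy P (z * a)⁻¹ = conjBy P a⁻¹ := fun P hP => by
      ext x
      have key : ∀ y ∈ A ⊔ B, (z * a)⁻¹ * y * (z * a) = a⁻¹ * y * a := fun y hy => by
        rw [show (z * a)⁻¹ * y * (z * a) = a⁻¹ * (z⁻¹ * y * z) * a by group, hzc hy, inv_mul_cancel_right]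
      constructor
      · rintro ⟨y, hy, rfl⟩
        exact ⟨y, hy, by simp only [MulEquiv.coe_toMonoidHom, MulAut.conj_apply, inv_inv]; exact (key y (hP hy)).symm⟩
      · rintro ⟨y, hy, rfl⟩
        exact ⟨y, hy, by simp only [MulEquiv.coe_toMonoidHom, MulAut.conj_apply, inv_inv]; exact key y (hP hy)⟩
    obtain ⟨b'', hb'', -, he''⟩ := h.cond_left a ha ha1
    rw [hX B le_sup_right, ← he''] at he
    have hDeq : D = conjBy A (b' * b''⁻¹) := by
      rw [← conjBy_conjBy, ← he, conjBy_conjBy, mul_inv_cancel, conjBy_one]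
    have hbm : b' * b''⁻¹ ∈ B := mul_mem hb' (inv_mem hb'')
    have hDX : D ≤ A ⊔ B := by
      rw [hDeq]
      rintro _ ⟨y, hy, rfl⟩
      exact mul_mem (mul_mem (Subgroup.mem_sup_right hbm) (Subgroup.mem_sup_left hy))
        (inv_mem (Subgroup.mem_sup_right hbm))
    have hfix : conjBy D a = D := by rw [← hconjX D hDX, conjBy_of_mem hza]
    by_cases hDA : D = A
    · exact hDA
    · exfalso
      have hDmem : D ∈ unipotentSubgroups A B := ⟨_, Subgroup.mem_sup_right hbm, hDeq⟩
      obtain ⟨b₁, -, hu⟩ := regular h hDmem hDmem hDA hDA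
      exact ha1 ((hu a ⟨ha, hfix⟩).trans (hu 1 ⟨one_mem _, conjBy_one _⟩).symm)

/-- A non-identity central translate of a root element of a rank one pair is no root element. -/
theorem eq_one_of_translate (hS : IsRootSubgroupSet S) (hA : A ∈ S) (hB : B ∈ S) (h : IsRankOnePair A B)
    {z a : G} (hz : ∀ x ∈ A ⊔ B, z * x = x * z) (ha : a ∈ A) (ha1 : a ≠ 1) (hD : D ∈ S) (hza : z * a ∈ D)
    (hza1 : z * a ≠ 1) : z = 1 := by
  obtain ⟨b₀, hb₀, hb₀1⟩ := exists_ne_one_left (RankOnePair_symm h)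
  have hDA := eq_of_translate hS hA hB h hz ha ha1 hD hza hza1
  subst hDA
  have hzA : z ∈ D := by
    have := mul_mem hza (inv_mem ha)
    rwa [mul_inv_cancel_right] at this
  by_contra hz1
  exact hb₀1 (eq_one_of_commute h hzA hz1 hb₀ (hz b₀ (Subgroup.mem_sup_right hb₀)))

theorem isRankOnePair_conj (h : IsRankOnePair A B) (g : G) : IsRankOnePair (conjBy A g) (conjBy B g) := by
  have hcond : ∀ {P Q : Subgroup G}, RankOneCondition P Q → RankOneCondition (conjBy P g) (conjBy Q g) := by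
    intro P Q hPQ x hx hx1
    rw [mem_conjBy] at hx
    obtain ⟨y, hy, hy1, he⟩ := hPQ _ hx (fun e => hx1 (by
      calc x = g * (g⁻¹ * x * g) * g⁻¹ := by group
        _ = 1 := by rw [e, mul_one, mul_inv_cancel]))
    refine ⟨g * y * g⁻¹, conj_mem_conjBy hy, fun e => hy1 (conj_eq_one_iff.1 e), ?_⟩
    have := congrArg (fun R => conjBy R g) he
    simp only [conjBy_conjBy] at this ⊢
    convert this using 2 <;> group
  refine ⟨fun e => h.ne (conjBy_injective g e), ?_, ?_, hcond h.cond_left, hcond h.cond_right⟩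
  · have := h.nilpotent_left
    exact Group.nilpotent_of_mulEquiv ((MulAut.conj g).subgroupMap A)
  · have := h.nilpotent_right
    exact Group.nilpotent_of_mulEquiv ((MulAut.conj g).subgroupMap B)

theorem isRankOnePair_of_unipotent (h : IsRankOnePair A B) (hC : C ∈ unipotentSubgroups A B)
    (hD : D ∈ unipotentSubgroups A B) (hne : C ≠ D) : IsRankOnePair C D := by
  obtain ⟨g, -, rfl, rfl⟩ := two_transitive h hC hD hne
  exact isRankOnePair_conj h g

theorem conjugate_of_connected (hc : IsConnectedFamily (FAdj S) S) (hA : A ∈ S) (hB : B ∈ S) :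
    ∃ g : G, B = conjBy A g := by
  have h := hc A hA B hB
  induction h with
  | refl => exact ⟨1, (conjBy_one A).symm⟩
  | tail _ hCD ih =>
    obtain ⟨g, hg⟩ := ih hCD.1
    obtain ⟨x, -, hx⟩ := exists_swap hCD.2.2
    exact ⟨x * g, by rw [← conjBy_conjBy, ← hg, hx]⟩

theorem exists_partner (h2 : ∃ A ∈ S, ∃ B ∈ S, A ≠ B) (hc : IsConnectedFamily (FAdj S) S) (hA : A ∈ S) :
    ∃ B ∈ S, IsRankOnePair A B := by
  obtain ⟨P, hP, Q, hQ, hPQ⟩ := h2
  have key : ∀ R ∈ S, R ≠ A → ∃ B ∈ S, IsRankOnePair A B := by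
    intro R hR hRA
    rcases (hc A hA R hR).cases_head with e | ⟨B, hAB, -⟩
    · exact absurd e.symm hRA
    · exact ⟨B, hAB.2.1, hAB.2.2⟩
  by_cases h : P = A
  · exact key Q hQ (fun e => hPQ (h.trans e.symm))
  · exact key P hP h

theorem normal_eq_top_of_member_le (hS : IsRootSubgroupSet S) (hc : IsConnectedFamily (FAdj S) S)
    (K : Subgroup G) [hK : K.Normal] (hA : A ∈ S) (hle : A ≤ K) : K = ⊤ := by
  rw [eq_top_iff, ← hS.generates]
  refine iSup₂_le fun B hB => ?_
  obtain ⟨g, rfl⟩ := conjugate_of_connected hc hA hB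
  rintro _ ⟨y, hy, rfl⟩
  exact hK.conj_mem y (hle hy) g

theorem members_le_commutator (hS : IsRootSubgroupSet S) (h2 : ∃ A ∈ S, ∃ B ∈ S, A ≠ B)
    (hc : IsConnectedFamily (FAdj S) S) (h3 : IsDegenerateRootSet S → ∀ A ∈ S, 3 < ENat.card A)
    (h4 : ∀ A ∈ S, ∀ B ∈ rankOnePartners S A, IsSpecialRankOnePair A B) : commutator G = ⊤ := by
  by_cases hdeg : IsDegenerateRootSet S
  · obtain ⟨A, hA, -⟩ := id h2
    obtain ⟨B, hB, hAB⟩ := exists_partner h2 hc hA
    refine normal_eq_top_of_member_le hS hc _ hA ?_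
    exact (left_le_commutator (h4 A hA B ⟨hB, hAB⟩) (hS.commutative A hA) (h3 hdeg A hA)).trans
      (Subgroup.commutator_mono le_top le_top)
  · simp only [IsDegenerateRootSet, not_forall, not_not] at hdeg
    obtain ⟨P, hP, Q, hQ, hPQ⟩ := hdeg
    exact normal_eq_top_of_member_le hS hc _ hPQ.1 (Subgroup.commutator_mono le_top le_top)

theorem normal_eq_top_or_central (hS : IsRootSubgroupSet S) (h2 : ∃ A ∈ S, ∃ B ∈ S, A ≠ B)
    (hc : IsConnectedFamily (FAdj S) S)
    (h2' : ∀ A ∈ S, ∀ C ∈ S, A ≠ C → centralizingMembers S A ≠ centralizingMembers S C)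
    (h3 : IsDegenerateRootSet S → ∀ A ∈ S, 3 < ENat.card A)
    (h4 : ∀ A ∈ S, ∀ B ∈ rankOnePartners S A, IsSpecialRankOnePair A B)
    (K : Subgroup G) [hK : K.Normal] : K = ⊤ ∨ K ≤ Subgroup.center G := by
  by_contra hcon
  push Not at hcon
  obtain ⟨hKtop, hKc⟩ := hcon
  let f := QuotientGroup.mk' K
  have hker : ∀ {x : G}, f x = 1 → x ∈ K := fun h => (QuotientGroup.eq_one_iff _).1 h
  have hf1 : ∀ {x : G}, x ∈ K → f x = 1 := fun h => (QuotientGroup.eq_one_iff _).2 h
  have hbad : ∀ P ∈ S, ¬ P ≤ K := fun P hP h => hKtop (normal_eq_top_of_member_le hS hc K hP h)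
  -- the commutator case for two members with commuting images
  have hcase : ∀ {P Q : Subgroup G}, RootCommutatorCase S P Q →
      (∀ p ∈ P, ∀ q ∈ Q, Commute (f p) (f q)) → False := by
    intro P Q hPQ hcomm
    refine hbad _ hPQ.1 (Subgroup.commutator_le.2 fun p hp q hq => hker ?_)
    rw [map_commutatorElement, commutatorElement_eq_one_iff_commute]
    exact hcomm p hp q hq
  have hmeet : ∀ {P Q C : Subgroup G}, RootCommutatorCase S P Q → P ∈ S → Q ∈ S → C ∈ S →
      ∀ c ∈ C, c ≠ 1 → c ∈ K → False := by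
    intro P Q C hPQ hP hQ hC c hcC hc1 hcK
    obtain ⟨g, rfl⟩ := conjugate_of_connected hc hP hC
    rw [mem_conjBy] at hcC
    refine hbad _ hPQ.1 ?_
    rw [← hPQ.2.2.1 _ hcC (fun e => hc1 (by
      calc c = g * (g⁻¹ * c * g) * g⁻¹ := by group
        _ = 1 := by rw [e, mul_one, mul_inv_cancel])), Subgroup.closure_le]
    rintro _ ⟨q, -, rfl⟩
    have hp : g⁻¹ * c * g ∈ K := by simpa using hK.conj_mem c hcK g⁻¹
    show g⁻¹ * c * g * q * (g⁻¹ * c * g)⁻¹ * q⁻¹ ∈ K
    rw [show g⁻¹ * c * g * q * (g⁻¹ * c * g)⁻¹ * q⁻¹ = (g⁻¹ * c * g) * (q * (g⁻¹ * c * g)⁻¹ * q⁻¹) by group]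
    exact mul_mem hp (hK.conj_mem _ (inv_mem hp) q)
  have himg : ∀ {P : Subgroup G} {k : G}, k ∈ K → ∀ p' ∈ conjBy P k, ∃ p ∈ P, f p' = f p := by
    rintro P k hk _ ⟨p, hp, rfl⟩
    refine ⟨p, hp, ?_⟩
    simp only [MulEquiv.coe_toMonoidHom, MulAut.conj_apply, map_mul, map_inv, hf1 hk, one_mul, inv_one, mul_one]
  have habel : ∀ {P : Subgroup G}, P ∈ S → ∀ {p q : G}, p ∈ P → q ∈ P → Commute (f p) (f q) :=
    fun {P} hP {p q} hp hq => by
      have := (hS.commutative _ hP).is_comm.comm (⟨p, hp⟩ : P) ⟨q, hq⟩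
      exact (Commute.map (show Commute p q from congrArg Subtype.val this) f)
  -- a member and a rank one conjugate under `K`
  have hrank : ∀ {A : Subgroup G}, A ∈ S → ∀ k ∈ K, ¬ IsRankOnePair A (conjBy A k) := by
    intro A hA k hk hr
    have hA' : conjBy A k ∈ S := hS.conj_mem A hA k
    by_cases hdeg : IsDegenerateRootSet S
    · apply hbad A hA
      refine (left_le_commutator (h4 A hA _ ⟨hA', hr⟩) (hS.commutative A hA) (h3 hdeg A hA)).trans
        (Subgroup.commutator_le.2 fun x hx y hy => hker ?_)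
      have hmap : ∀ x ∈ A ⊔ conjBy A k, ∃ a ∈ A, f x = f a := by
        intro x hx
        have : f x ∈ (A ⊔ conjBy A k).map f := ⟨x, hx, rfl⟩
        rw [Subgroup.map_sup, sup_eq_left.2 (by
          rintro _ ⟨p, hp, rfl⟩
          obtain ⟨a, ha, e⟩ := himg hk p hp
          exact ⟨a, ha, e.symm⟩)] at this
        obtain ⟨a, ha, e⟩ := this
        exact ⟨a, ha, e.symm⟩
      obtain ⟨a, ha, ea⟩ := hmap x hx
      obtain ⟨b, hb, eb⟩ := hmap y hy
      rw [map_commutatorElement, commutatorElement_eq_one_iff_commute, ea, eb]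
      exact habel hA ha hb
    · simp only [IsDegenerateRootSet, not_forall, not_not] at hdeg
      obtain ⟨P, hP, Q, hQ, hPQ⟩ := hdeg
      obtain ⟨g, hg⟩ := conjugate_of_connected hc hP hA
      -- a member `E` in the commutator case with `A`
      obtain ⟨E, hE, hAE⟩ : ∃ E ∈ S, RootCommutatorCase S A E := by
        refine ⟨conjBy Q g, hS.conj_mem Q hQ g, ?_⟩
        subst hg
        obtain ⟨h1, hz, ha, hb⟩ := hPQ
        have hcm : ⁅conjBy P g, conjBy Q g⁆ = conjBy ⁅P, Q⁆ g := (Subgroup.map_commutator _ _ _).symm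
        rw [RootCommutatorCase, hcm]
        refine ⟨hS.conj_mem _ h1 g, ?_, ?_, ?_⟩
        · intro c hc x hx
          rw [mem_conjBy] at hc
          rw [show conjBy P g ⊔ conjBy Q g = conjBy (P ⊔ Q) g from (Subgroup.map_sup P Q _).symm, mem_conjBy] at hx
          have := hz _ hc _ hx
          calc c * x = g * ((g⁻¹ * c * g) * (g⁻¹ * x * g)) * g⁻¹ := by group
            _ = x * c := by rw [this]; group
        · intro a haP ha1
          rw [mem_conjBy] at haP
          have e := ha _ haP (fun e => ha1 (by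
            calc a = g * (g⁻¹ * a * g) * g⁻¹ := by group
              _ = 1 := by rw [e, mul_one, mul_inv_cancel]))
          rw [← e]
          show _ = Subgroup.map (MulAut.conj g).toMonoidHom _
          rw [MonoidHom.map_closure]
          congr 1
          ext y
          constructor
          · rintro ⟨b, hb, rfl⟩
            rw [SetLike.mem_coe, mem_conjBy] at hb
            exact ⟨_, ⟨_, hb, rfl⟩, by simp only [MulEquiv.coe_toMonoidHom, MulAut.conj_apply]; group⟩
          · rintro ⟨_, ⟨b, hb, rfl⟩, rfl⟩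
            exact ⟨g * b * g⁻¹, conj_mem_conjBy hb, by
              simp only [MulEquiv.coe_toMonoidHom, MulAut.conj_apply]; group⟩
        · intro b hbQ hb1
          rw [mem_conjBy] at hbQ
          have e := hb _ hbQ (fun e => hb1 (by
            calc b = g * (g⁻¹ * b * g) * g⁻¹ := by group
              _ = 1 := by rw [e, mul_one, mul_inv_cancel]))
          rw [← e]
          show _ = Subgroup.map (MulAut.conj g).toMonoidHom _
          rw [MonoidHom.map_closure]
          congr 1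
          ext y
          constructor
          · rintro ⟨a, ha, rfl⟩
            rw [SetLike.mem_coe, mem_conjBy] at ha
            exact ⟨_, ⟨_, ha, rfl⟩, by simp only [MulEquiv.coe_toMonoidHom, MulAut.conj_apply]; group⟩
          · rintro ⟨_, ⟨a, ha, rfl⟩, rfl⟩
            exact ⟨g * a * g⁻¹, conj_mem_conjBy ha, by
              simp only [MulEquiv.coe_toMonoidHom, MulAut.conj_apply]; group⟩
      have hCS : ⁅A, E⁆ ∈ S := hAE.1
      have hCA : ∀ c ∈ ⁅A, E⁆, ∀ a ∈ A, c * a = a * c := fun c hc a ha =>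
        hAE.2.1 c hc a (Subgroup.mem_sup_left ha)
      rcases hS.pair (conjBy A k) hA' ⁅A, E⁆ hCS with h | h | h
      · -- `[A, E]` centralises the rank one group
        obtain ⟨a, ha, ha1⟩ := exists_ne_one_left hr
        obtain ⟨e, he, hce⟩ : ∃ e ∈ E, ⁅a, e⁆ ≠ 1 := by
          by_contra hcon
          push Not at hcon
          refine hS.ne_bot _ hCS ?_
          rw [← hAE.2.2.1 a ha ha1, Subgroup.closure_eq_bot_iff]
          rintro _ ⟨e, he, rfl⟩
          exact hcon e he
        have hcC : ⁅a, e⁆⁻¹ ∈ ⁅A, E⁆ := inv_mem (Subgroup.commutator_mem_commutator ha he)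
        have hzX : ∀ x ∈ A ⊔ conjBy A k, ⁅a, e⁆⁻¹ * x = x * ⁅a, e⁆⁻¹ := by
          intro x hx
          have hle : A ⊔ conjBy A k ≤ Subgroup.centralizer {⁅a, e⁆⁻¹} := sup_le
            (fun y hy => Subgroup.mem_centralizer_singleton_iff.2 (hCA _ hcC y hy).symm)
            (fun y hy => Subgroup.mem_centralizer_singleton_iff.2 (commute_of_commutator_eq_bot h hy hcC))
          exact (Subgroup.mem_centralizer_singleton_iff.1 (hle hx)).symm
        have hmem : ⁅a, e⁆⁻¹ * a ∈ conjBy A e := by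
          rw [show ⁅a, e⁆⁻¹ * a = e * a * e⁻¹ by rw [commutatorElement_def]; group]
          exact conj_mem_conjBy ha
        have hne1 : ⁅a, e⁆⁻¹ * a ≠ 1 := fun h1 => ha1 (conj_eq_one_iff.1
          (show e * a * e⁻¹ = 1 by rw [show e * a * e⁻¹ = ⁅a, e⁆⁻¹ * a by rw [commutatorElement_def]; group]; exact h1))
        exact hce (inv_eq_one.1 (eq_one_of_translate hS hA hA' hr hzX ha ha1 (hS.conj_mem A hA e) hmem hne1))
      · -- `[A, E]` and `A` have the same image
        refine hcase hAE fun a ha e he => ?_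
        obtain ⟨x, hx, hxe⟩ := exists_swap h
        have hfx : ∀ y ∈ conjBy A k ⊔ ⁅A, E⁆, Commute (f y) (f a) := by
          intro y hy
          have hle : (conjBy A k ⊔ ⁅A, E⁆).map f ≤ Subgroup.centralizer {f a} := by
            rw [Subgroup.map_sup]
            refine sup_le ?_ ?_
            · rintro _ ⟨p, hp, rfl⟩
              obtain ⟨a', ha', e'⟩ := himg hk p hp
              rw [Subgroup.mem_centralizer_singleton_iff, e']
              exact habel hA ha' ha
            · rintro _ ⟨p, hp, rfl⟩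
              rw [Subgroup.mem_centralizer_singleton_iff]
              exact Commute.map (show Commute p a from hCA p hp a ha) f
          exact Subgroup.mem_centralizer_singleton_iff.1 (hle ⟨y, hy, rfl⟩)
        obtain ⟨c, hcC, hfc⟩ : ∃ c ∈ ⁅A, E⁆, f c = f a := by
          refine ⟨x * (k * a * k⁻¹) * x⁻¹, hxe.le (conj_mem_conjBy (conj_mem_conjBy ha)), ?_⟩
          simp only [map_mul, map_inv, hf1 hk, one_mul, inv_one, mul_one]
          rw [(hfx x hx).eq, mul_inv_cancel_right]
        rw [← hfc]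
        exact Commute.map (show Commute c e from hAE.2.1 c hcC e (Subgroup.mem_sup_right he)) f
      · refine hcase h fun p hp q hq => ?_
        obtain ⟨a', ha', e'⟩ := himg hk p hp
        rw [e']
        exact (Commute.map (show Commute q a' from hCA q hq a' ha') f).symm
  -- two members with different centralisers
  have hdiff : ∀ {A D : Subgroup G}, A ∈ S → D ∈ S → ∀ k ∈ K, ⁅conjBy A k, D⁆ = ⊥ → ⁅A, D⁆ ≠ ⊥ → False := by
    intro A D hA hD k hk hA'D hAD
    have hmemK : ∀ a ∈ A, ∀ d ∈ D, ⁅a, d⁆ ∈ K := fun a ha d hd => hker (by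
      rw [map_commutatorElement, commutatorElement_eq_one_iff_commute]
      have h := Commute.map (show Commute (k * a * k⁻¹) d from
        commute_of_commutator_eq_bot hA'D (conj_mem_conjBy ha) hd) f
      simpa [hf1 hk] using h)
    obtain ⟨a, ha, d, hd, hne⟩ : ∃ a ∈ A, ∃ d ∈ D, ⁅a, d⁆ ≠ 1 := by
      by_contra hcon
      push Not at hcon
      exact hAD (eq_bot_iff.2 (Subgroup.commutator_le.2 fun a ha d hd => Subgroup.mem_bot.2 (hcon a ha d hd)))
    rcases hS.pair A hA D hD with h | h | h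
    · exact hAD h
    · have ha1 : a ≠ 1 := fun e => hne (by rw [e, commutatorElement_one_left])
      have hd1 : d ≠ 1 := fun e => hne (by rw [e, commutatorElement_one_right])
      have hmem : ⁅a, d⁆ ∈ A ⊔ D := mul_mem (mul_mem (mul_mem (Subgroup.mem_sup_left ha) (Subgroup.mem_sup_right hd))
        (inv_mem (Subgroup.mem_sup_left ha))) (inv_mem (Subgroup.mem_sup_right hd))
      refine hrank hA _ (hmemK a ha d hd) (isRankOnePair_of_unipotent h (left_mem_unipotent A D)
        (conjBy_mem_unipotent (left_mem_unipotent A D) hmem) fun e => ?_)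
      have hfix : conjBy (conjBy A d⁻¹) a⁻¹ = conjBy A d⁻¹ := by
        rw [conjBy_conjBy]
        have e' := congrArg (fun R => conjBy R (d⁻¹ * a⁻¹)) e.symm
        rw [conjBy_conjBy, commutatorElement_def,
          show d⁻¹ * a⁻¹ * (a * d * a⁻¹ * d⁻¹) = a⁻¹ * d⁻¹ by group] at e'
        rw [e', ← conjBy_conjBy, conjBy_of_mem (inv_mem ha)]
      have hne' : conjBy A d⁻¹ ≠ A := fun e' => hd1 (inv_eq_one.1
        (eq_one_of_mem_of_fix (RankOnePair_symm h) (inv_mem hd) e'))
      have hmem' : conjBy A d⁻¹ ∈ unipotentSubgroups A D :=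
        ⟨d⁻¹, Subgroup.mem_sup_right (inv_mem hd), rfl⟩
      obtain ⟨y, -, hu⟩ := regular h hmem' hmem' hne' hne'
      exact ha1 (inv_eq_one.1 ((hu a⁻¹ ⟨inv_mem ha, hfix⟩).trans (hu 1 ⟨one_mem _, conjBy_one _⟩).symm))
    · exact hmeet h hA hD h.1 _ (Subgroup.commutator_mem_commutator ha hd) hne (hmemK a ha d hd)
  apply hKc
  -- every element of `K` normalises, hence centralises, every member
  have hnorm : ∀ A ∈ S, ∀ k ∈ K, conjBy A k = A := by
    intro A hA k hk
    by_contra hne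
    have hA' := hS.conj_mem A hA k
    rcases hS.pair A hA _ hA' with h | h | h
    · obtain ⟨D, hD⟩ : ∃ D, ¬ (D ∈ centralizingMembers S A ↔ D ∈ centralizingMembers S (conjBy A k)) := by
        by_contra hcon
        push Not at hcon
        exact h2' A hA _ hA' (Ne.symm hne) (Set.ext hcon)
      have hcm : ∀ P : Subgroup G, D ∈ centralizingMembers S P ↔ D ∈ S ∧ ⁅P, D⁆ = ⊥ := fun P => by
        rw [Subgroup.commutator_comm P D, Subgroup.commutator_eq_bot_iff_le_centralizer]; rfl
      rw [hcm, hcm] at hD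
      by_cases hDS : D ∈ S
      · simp only [hDS, true_and] at hD
        by_cases h1 : ⁅A, D⁆ = ⊥
        · refine hdiff hA' hDS k⁻¹ (inv_mem hk) ?_ fun e => hD (iff_of_true h1 e)
          rwa [conjBy_conjBy, inv_mul_cancel, conjBy_one]
        · exact hdiff hA hDS k hk (by_contra fun e => hD (iff_of_false h1 e)) h1
      · exact hD ⟨fun h => absurd h.1 hDS, fun h => absurd h.1 hDS⟩
    · exact hrank hA k hk h
    · refine hcase h fun p hp q hq => ?_
      obtain ⟨a, ha, e⟩ := himg hk q hq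
      rw [e]; exact habel hA hp ha
  intro k hk
  rw [Subgroup.mem_center_iff]
  suffices hle : (⨆ A ∈ S, A) ≤ Subgroup.centralizer {k} by
    intro g
    exact Subgroup.mem_centralizer_singleton_iff.1 (hle (hS.generates ▸ Subgroup.mem_top g))
  refine iSup₂_le fun A hA a ha => ?_
  rw [Subgroup.mem_centralizer_singleton_iff]
  obtain ⟨B, hB, hAB⟩ := exists_partner h2 hc hA
  have hm : a * k * a⁻¹ * k⁻¹ ∈ A := by
    have := conj_mem_conjBy (g := k) (inv_mem ha)
    rw [hnorm A hA k hk] at this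
    rw [show a * k * a⁻¹ * k⁻¹ = a * (k * a⁻¹ * k⁻¹) by group]
    exact mul_mem ha this
  have := eq_one_of_mem_of_fix hAB hm (hnorm B hB _ (mul_mem (hK.conj_mem k hk a) (inv_mem hk)))
  calc a * k = (a * k * a⁻¹ * k⁻¹) * (k * a) := by group
    _ = k * a := by rw [this, one_mul]

theorem isQuasisimple_of_criterion (hS : IsRootSubgroupSet S) (h2 : ∃ A ∈ S, ∃ B ∈ S, A ≠ B)
    (hc : IsConnectedFamily (FAdj S) S)
    (h2' : ∀ A ∈ S, ∀ C ∈ S, A ≠ C → centralizingMembers S A ≠ centralizingMembers S C)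
    (h3 : IsDegenerateRootSet S → ∀ A ∈ S, 3 < ENat.card A)
    (h4 : ∀ A ∈ S, ∀ B ∈ rankOnePartners S A, IsSpecialRankOnePair A B) : IsQuasisimple G := by
  refine ⟨⟨members_le_commutator hS h2 hc h3 h4⟩, ?_⟩
  have hne : Subgroup.center G ≠ ⊤ := by
    intro e
    obtain ⟨A, hA, -⟩ := id h2
    obtain ⟨B, hB, hAB⟩ := exists_partner h2 hc hA
    obtain ⟨g, rfl⟩ := conjugate_of_connected hc hA hB
    exact hAB.ne (conjBy_eq_self_iff.2
      (Subgroup.center_le_normalizer _ (e ▸ Subgroup.mem_top g))).symm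
  have : Nontrivial (G ⧸ Subgroup.center G) := QuotientGroup.nontrivial_iff.2 hne
  refine ⟨fun N hN => ?_⟩
  have hsurj := QuotientGroup.mk'_surjective (Subgroup.center G)
  have : (N.comap (QuotientGroup.mk' (Subgroup.center G))).Normal := hN.comap _
  rw [← Subgroup.map_comap_eq_self_of_surjective hsurj N]
  rcases normal_eq_top_or_central hS h2 hc h2' h3 h4 (N.comap (QuotientGroup.mk' (Subgroup.center G))) with h | h
  · exact Or.inr (by rw [h, Subgroup.map_top_of_surjective _ hsurj])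
  · exact Or.inl (eq_bot_iff.2 ((Subgroup.map_mono h).trans (QuotientGroup.map_mk'_self _).le))

end CfsgLib.RootSubgroups
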