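import Mathlib

/-!
An automorphism of prime order `r`, with `r` primitive for `2 ^ n - 1`, of an abelian 2-group of order
at most `2 ^ n`: it is fixed-point-free and leaves no proper subgroup invariant.
-/

set_option autoImplicit false
set_option linter.unusedSectionVars false

namespace CfsgLib.FixedFree

variable {V : Type*} [Group V] [Finite V]

/-- The elements fixed by a set of automorphisms. -/
def fixed (S : Set (MulAut V)) : Subgroup V where
  carrier := {v | ∀ e ∈ S, e v = v}
  one_mem' := fun e _ => map_one e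
  mul_mem' := fun {u v} hu hv e he => by rw [map_mul, hu e he, hv e he]
  inv_mem' := fun {u} hu e he => by rw [map_inv, hu e he]

theorem mem_fixed {S : Set (MulAut V)} {v : V} : v ∈ fixed S ↔ ∀ e ∈ S, e v = v := Iff.rfl

theorem fixed_invariant {S : Set (MulAut V)} {h : MulAut V} (hS : ∀ e ∈ S, h⁻¹ * e * h ∈ S) :
    ∀ v ∈ fixed S, h v ∈ fixed S := fun v hv e he => by
  have h1 := hv _ (hS e he)
  rw [MulAut.mul_apply, MulAut.mul_apply] at h1
  calc e (h v) = h (h⁻¹ (e (h v))) := (MulAut.apply_inv_self V h _).symm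
    _ = h v := by rw [h1]

/-- A 2-group of automorphisms of a nontrivial 2-group fixes more than the identity. -/
theorem fixed_ne_bot (hV : IsPGroup 2 V) [Nontrivial V] {S : Subgroup (MulAut V)} (hS : IsPGroup 2 S) :
    fixed (S : Set (MulAut V)) ≠ ⊥ := by
  have : Fact (Nat.Prime 2) := ⟨Nat.prime_two⟩
  have h2 : 2 ∣ Nat.card V := by
    obtain ⟨n, hn⟩ := IsPGroup.iff_card.1 hV
    rw [hn]
    refine dvd_pow_self 2 fun e => ?_
    rw [e, pow_zero] at hn
    exact absurd hn (Finite.one_lt_card (α := V)).ne'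
  obtain ⟨v, hv, hv1⟩ := hS.exists_fixed_point_of_prime_dvd_card_of_fixed_point V h2
    (show (1 : V) ∈ MulAction.fixedPoints S V from fun e => map_one e.1)
  intro e
  have hmem : v ∈ fixed (S : Set (MulAut V)) := fun g hg => hv ⟨g, hg⟩
  rw [e, Subgroup.mem_bot] at hmem
  exact hv1 hmem.symm

variable {r n : ℕ} [Fact r.Prime] (hr2 : r ≠ 2) (hV : IsPGroup 2 V) (hcard : Nat.card V ≤ 2 ^ n)
  (hprim : ∀ j, r ∣ 2 ^ j - 1 → n ∣ j) {h : MulAut V} (hh : h ^ r = 1) (hne : h ≠ 1)
include hr2 hV hcard hprim hh hne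

/-- No proper nontrivial invariant subgroup. -/
theorem invariant_eq {P : Subgroup V} (hP : ∀ v ∈ P, h v ∈ P) : P = ⊥ ∨ P = ⊤ := by
  have : Fact (Nat.Prime 2) := ⟨Nat.prime_two⟩
  have hz : IsPGroup r (Subgroup.zpowers h) := by
    refine IsPGroup.of_card (n := 1) ?_
    rw [Nat.card_zpowers, orderOf_eq_prime hh hne, pow_one]
  have pow_fix : ∀ {v : V}, h v = v → ∀ g ∈ Subgroup.zpowers h, g v = v := fun {v} hv g hg => by
    obtain ⟨k, rfl⟩ := hg
    exact (Subgroup.zpowers_le.2 (show h ∈ MulAction.stabilizer (MulAut V) v from hv)) ⟨k, rfl⟩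
  -- the count for an invariant subgroup
  have count : ∀ P : Subgroup V, (∀ v ∈ P, h v ∈ P) →
      ∃ i j, Nat.card P = 2 ^ i ∧ Nat.card ↥(P ⊓ fixed {h}) = 2 ^ j ∧ j ≤ i ∧ i ≤ n ∧ r ∣ 2 ^ (i - j) - 1 := by
    intro P hP
    obtain ⟨i, hi⟩ := IsPGroup.iff_card.1 (hV.to_subgroup P)
    obtain ⟨j, hj⟩ := IsPGroup.iff_card.1 (hV.to_subgroup (P ⊓ fixed {h}))
    have hji : j ≤ i := by
      have := Subgroup.card_le_of_le (K := P) (inf_le_left (b := fixed {h}))
      rw [hi, hj] at this
      exact (Nat.pow_le_pow_iff_right (by norm_num)).1 this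
    have hin : i ≤ n := by
      have := (Subgroup.card_le_card_group P).trans hcard
      rw [hi] at this
      exact (Nat.pow_le_pow_iff_right (by norm_num)).1 this
    let S : SubMulAction (Subgroup.zpowers h) V :=
      { carrier := P
        smul_mem' := fun g v hv => by
          show g.1 v ∈ P
          have : ∀ k : ℕ, (h ^ k) v ∈ P := fun k => by
            induction k with
            | zero => exact hv
            | succ k ih => rw [pow_succ', MulAut.mul_apply]; exact hP _ ih
          obtain ⟨k, hk⟩ := (isOfFinOrder_of_finite h).mem_powers_iff_mem_zpowers.2 g.2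
          show g.1 v ∈ P
          rw [← show h ^ k = g.1 from hk]
          exact this k }
    have hm := hz.card_modEq_card_fixedPoints S
    have e1 : Nat.card S = 2 ^ i := hi
    have e2 : Nat.card (MulAction.fixedPoints (Subgroup.zpowers h) S) = 2 ^ j := by
      rw [← hj]
      refine Nat.card_congr
        { toFun := fun v => ⟨v.1.1, v.1.2, fun e he => ?_⟩
          invFun := fun v => ⟨⟨v.1, v.2.1⟩, fun g => Subtype.ext (pow_fix (v.2.2 h rfl) g.1 g.2)⟩
          left_inv := fun v => rfl
          right_inv := fun v => rfl }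
      rw [Set.mem_singleton_iff] at he
      subst he
      exact congrArg Subtype.val (v.2 ⟨e, Subgroup.mem_zpowers e⟩)
    rw [e1, e2] at hm
    refine ⟨i, j, hi, hj, hji, hin, ?_⟩
    have h1 : r ∣ 2 ^ i - 2 ^ j :=
      (Nat.modEq_iff_dvd' (Nat.pow_le_pow_right (by norm_num) hji)).1 hm.symm
    rw [show 2 ^ i - 2 ^ j = 2 ^ j * (2 ^ (i - j) - 1) by
      rw [Nat.mul_sub, mul_one, ← pow_add, Nat.add_sub_cancel' hji]] at h1
    refine ((Nat.Coprime.pow_right j ?_).dvd_of_dvd_mul_left h1)
    exact (Nat.coprime_primes (Fact.out : r.Prime) Nat.prime_two).2 hr2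
  obtain ⟨i, j, hi, hj, hji, hin, hd⟩ := count ⊤ fun v _ => Subgroup.mem_top _
  have hij : i ≠ j := by
    rintro rfl
    refine hne (MulEquiv.ext fun v => ?_)
    have e : (⊤ : Subgroup V) ⊓ fixed {h} = ⊤ := Subgroup.eq_of_le_of_card_ge le_top (by rw [hi, hj])
    exact (e.ge (Subgroup.mem_top v)).2 h rfl
  have hdn := Nat.le_of_dvd (by omega) (hprim _ hd)
  have hj0 : j = 0 := by omega
  obtain ⟨i', j', hi', hj', hji', hin', hd'⟩ := count P hP
  have hj0' : j' = 0 := by
    have hle : P ⊓ fixed {h} ≤ ⊤ ⊓ fixed {h} := inf_le_inf_right _ le_top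
    have := Subgroup.card_le_of_le hle
    rw [hj, hj', hj0] at this
    exact Nat.le_zero.1 ((Nat.pow_le_pow_iff_right (by norm_num)).1 this)
  by_cases h0 : i' = 0
  · exact Or.inl (Subgroup.card_eq_one.1 (by rw [hi', h0, pow_zero]))
  · have := Nat.le_of_dvd (by omega) (hprim _ hd')
    rw [Subgroup.card_top] at hi
    refine Or.inr (Subgroup.eq_top_of_card_eq P ?_)
    rw [hi', hi]
    congr 1
    omega

/-- A 2-group of automorphisms normalised by `h` is trivial. -/
theorem two_group_trivial {S : Subgroup (MulAut V)} (hS : IsPGroup 2 S)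
    (hnorm : ∀ e ∈ S, h⁻¹ * e * h ∈ S) {e : MulAut V} (he : e ∈ S) : e = 1 := by
  have : Nontrivial V := by
    rw [← not_subsingleton_iff_nontrivial]
    intro hs
    exact hne (MulEquiv.ext fun v => Subsingleton.elim _ _)
  have h' := (invariant_eq hr2 hV hcard hprim hh hne (fixed_invariant hnorm)).resolve_left (fixed_ne_bot hV hS)
  exact MulEquiv.ext fun v => (h' ▸ Subgroup.mem_top v : v ∈ fixed (S : Set (MulAut V))) e he

end CfsgLib.FixedFree
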