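import Cfsg.Agent.RootSubgroups.Lines

set_option autoImplicit false

/-!
Homomorphic images of sets of abstract root subgroups.
-/

namespace CfsgLib.RootSubgroups

open Cfsg CfsgLib.RankOne commutatorElement

variable {G H : Type*} [Group G] [Group H] {S : Set (Subgroup G)} {A B : Subgroup G}

theorem map_conjBy (f : G →* H) (A : Subgroup G) (g : G) : (conjBy A g).map f = conjBy (A.map f) (f g) := by
  ext y
  constructor
  · rintro ⟨_, ⟨a, ha, rfl⟩, rfl⟩
    exact ⟨f a, ⟨a, ha, rfl⟩, by simp⟩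
  · rintro ⟨_, ⟨a, ha, rfl⟩, rfl⟩
    exact ⟨g * a * g⁻¹, conj_mem_conjBy ha, by simp⟩

theorem map_rankOne (f : G →* H) (h : IsRankOnePair A B) (hne : A.map f ≠ B.map f) :
    IsRankOnePair (A.map f) (B.map f) := by
  have hcond : ∀ {P Q : Subgroup G}, P.map f ≠ Q.map f → RankOneCondition P Q →
      RankOneCondition (P.map f) (Q.map f) := by
    rintro P Q hPQ hcd _ ⟨p, hp, rfl⟩ hp1
    obtain ⟨q, hq, -, e⟩ := hcd p hp (fun e => hp1 (by rw [e, map_one]))
    have e' : conjBy (P.map f) (f q)⁻¹ = conjBy (Q.map f) (f p)⁻¹ := by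
      rw [← map_inv, ← map_inv, ← map_conjBy, ← map_conjBy, e]
    refine ⟨f q, ⟨q, hq, rfl⟩, fun hq1 => ?_, e'⟩
    rw [hq1, inv_one, conjBy_one] at e'
    refine hPQ ?_
    have e2 := congrArg (fun R => conjBy R (f p)) e'
    simp only [conjBy_conjBy, mul_inv_cancel, conjBy_one] at e2
    rw [conjBy_of_mem (Subgroup.mem_map_of_mem f hp)] at e2
    exact e2
  have := h.nilpotent_left
  have := h.nilpotent_right
  exact ⟨hne, Group.nilpotent_of_surjective _ (f.subgroupMap_surjective A),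
    Group.nilpotent_of_surjective _ (f.subgroupMap_surjective B), hcond hne h.cond_left, hcond hne.symm h.cond_right⟩

theorem image_rootSet (hS : IsRootSubgroupSet S) (hc : IsConnectedFamily (FAdj S) S) (f : G →* H)
    (hf : Function.Surjective f) (hne : ∀ A ∈ S, A.map f ≠ ⊥) :
    IsRootSubgroupSet ((fun A : Subgroup G => A.map f) '' S) ∧
      IsConnectedFamily (FAdj ((fun A : Subgroup G => A.map f) '' S)) ((fun A : Subgroup G => A.map f) '' S) := by
  have hab : ∀ A ∈ S, ∀ x ∈ A.map f, ∀ y ∈ A.map f, x * y = y * x := by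
    rintro A hA _ ⟨p, hp, rfl⟩ _ ⟨q, hq, rfl⟩
    rw [← map_mul, ← map_mul, abelian_comm hS hA hp hq]
  refine ⟨⟨?_, ?_, ?_, ?_, ?_⟩, ?_⟩
  · rintro _ ⟨A, hA, rfl⟩
    exact ⟨⟨fun x y => Subtype.ext (hab A hA x x.2 y y.2)⟩⟩
  · rintro _ ⟨A, hA, rfl⟩; exact hne A hA
  · rw [eq_top_iff, ← Subgroup.map_top_of_surjective f hf, ← hS.generates, Subgroup.map_iSup]
    refine iSup_le fun A => ?_
    rw [Subgroup.map_iSup]
    exact iSup_le fun hA => le_iSup₂_of_le (A.map f) ⟨A, hA, rfl⟩ le_rfl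
  · rintro _ ⟨A, hA, rfl⟩ h
    obtain ⟨g, rfl⟩ := hf h
    exact ⟨conjBy A g, hS.conj_mem A hA g, map_conjBy f A g⟩
  · rintro _ ⟨A, hA, rfl⟩ _ ⟨B, hB, rfl⟩
    rcases hS.pair A hA B hB with h | h | ⟨h1, hz, ha, hb⟩
    · left; rw [← Subgroup.map_commutator, h, Subgroup.map_bot]
    · by_cases he : A.map f = B.map f
      · left
        refine eq_bot_iff.2 (Subgroup.commutator_le.2 fun x hx y hy => Subgroup.mem_bot.2 ?_)
        exact commutatorElement_eq_one_iff_commute.2 (hab A hA x hx y (he.symm ▸ hy))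
      · exact Or.inr (Or.inl (map_rankOne f h he))
    · refine Or.inr (Or.inr ?_)
      simp only [RootCommutatorCase]
      rw [← Subgroup.map_commutator, ← Subgroup.map_sup]
      refine ⟨⟨_, h1, rfl⟩, ?_, ?_, ?_⟩
      · rintro _ ⟨c, hc, rfl⟩ _ ⟨x, hx, rfl⟩
        rw [← map_mul, ← map_mul, hz c hc x hx]
      · rintro _ ⟨a, haA, rfl⟩ ha1
        rw [← ha a haA (fun e => ha1 (by rw [e, map_one])), MonoidHom.map_closure, Subgroup.coe_map,
          Set.image_image, Set.image_image]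
        simp only [map_mul, map_inv]
      · rintro _ ⟨b, hbB, rfl⟩ hb1
        rw [← hb b hbB (fun e => hb1 (by rw [e, map_one])), MonoidHom.map_closure, Subgroup.coe_map,
          Set.image_image, Set.image_image]
        simp only [map_mul, map_inv]
  · rintro _ ⟨A, hA, rfl⟩ _ ⟨B, hB, rfl⟩
    have h := hc A hA B hB
    clear hB
    induction h with
    | refl => exact .refl
    | @tail C D _ hCD ih =>
      by_cases he : C.map f = D.map f
      · show Relation.ReflTransGen _ _ (D.map f)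
        rw [← he]; exact ih
      · exact ih.tail ⟨⟨C, hCD.1, rfl⟩, ⟨D, hCD.2.1, rfl⟩, map_rankOne f hCD.2.2 he⟩

theorem image_cases (hS : IsRootSubgroupSet S) (hc : IsConnectedFamily (FAdj S) S) (f : G →* H)
    (hf : Function.Surjective f) :
    (IsRootSubgroupSet ((fun A : Subgroup G => A.map f) '' S) ∧
      IsConnectedFamily (FAdj ((fun A : Subgroup G => A.map f) '' S)) ((fun A : Subgroup G => A.map f) '' S)) ∨
    ∃ A ∈ S, A.map f = ⊤ := by
  by_cases h : ∀ A ∈ S, A.map f ≠ ⊥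
  · exact Or.inl (image_rootSet hS hc f hf h)
  · push Not at h
    obtain ⟨A, hA, e⟩ := h
    refine Or.inr ⟨A, hA, ?_⟩
    have hker : f.ker = ⊤ := normal_eq_top_of_member_le hS hc f.ker hA ((Subgroup.map_eq_bot_iff A).1 e)
    rw [eq_top_iff]
    intro y _
    obtain ⟨g, rfl⟩ := hf y
    rw [(MonoidHom.mem_ker).1 (hker ▸ Subgroup.mem_top g : g ∈ f.ker)]
    exact one_mem _

end CfsgLib.RootSubgroups
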