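import Cfsg.Agent.RootSubgroups.Involutions
import Cfsg.Agent.Invol.BaerSuzuki

set_option autoImplicit false

/-!
Classes of root involutions: odd-partner sets, the block lemma.
-/

namespace CfsgLib.RootInv

open Cfsg

variable {G : Type*} [Group G] {D : Set G} (hD : IsRootInvolutionSet D)

theorem orderOf_mul_comm (a b : G) : orderOf (a * b) = orderOf (b * a) := by
  rw [show b * a = a⁻¹ * (a * b) * a⁻¹⁻¹ by group, Invol.orderOf_conj_eq]

theorem oddPartners_conj {a : G} (g : G) (hD : IsRootInvolutionSet D) :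
    oddPartners D (g * a * g⁻¹) = (fun x => g * x * g⁻¹) '' oddPartners D a := by
  ext x
  constructor
  · rintro ⟨hx, hne, hodd⟩
    refine ⟨g⁻¹ * x * g, ⟨by simpa using hD.conj_mem x hx g⁻¹, ?_, ?_⟩, by group⟩
    · intro h; apply hne; rw [← h]; group
    · rw [show a * (g⁻¹ * x * g) = g⁻¹ * (g * a * g⁻¹ * x) * g⁻¹⁻¹ by group, Invol.orderOf_conj_eq]
      exact hodd
  · rintro ⟨y, ⟨hy, hne, hodd⟩, rfl⟩
    refine ⟨hD.conj_mem y hy g, ?_, ?_⟩
    · intro h; apply hne
      simpa using h
    · rw [show g * a * g⁻¹ * (g * y * g⁻¹) = g * (a * y) * g⁻¹ by group, Invol.orderOf_conj_eq]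
      exact hodd

theorem ncard_oddPartners_eq (hD : IsRootInvolutionSet D)
    (hcl : ∀ a ∈ D, ∀ b ∈ D, ∃ g : G, b = g * a * g⁻¹) {a b : G} (ha : a ∈ D) (hb : b ∈ D) :
    (oddPartners D a).ncard = (oddPartners D b).ncard := by
  obtain ⟨g, rfl⟩ := hcl a ha b hb
  rw [oddPartners_conj g hD, Set.ncard_image_of_injective]
  exact fun x y h => by simpa using h

theorem oddPartners_eq_of_subset [Finite G] (hD : IsRootInvolutionSet D)
    (hcl : ∀ a ∈ D, ∀ b ∈ D, ∃ g : G, b = g * a * g⁻¹) {a b : G} (ha : a ∈ D) (hb : b ∈ D)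
    (h : oddPartners D a ⊆ oddPartners D b) : oddPartners D a = oddPartners D b :=
  Set.eq_of_subset_of_ncard_le h (ncard_oddPartners_eq hD hcl hb ha).le (Set.toFinite _)

section

include hD

/-- Connected for odd products implies one class. -/
theorem class_of_connected (hc : IsConnectedSet (OddAdj D) D) :
    ∀ a ∈ D, ∀ b ∈ D, ∃ g : G, b = g * a * g⁻¹ := by
  intro a ha b hb
  have key : ∀ y, Relation.ReflTransGen (OddAdj D) a y → ∃ g : G, y = g * a * g⁻¹ := by
    intro y hy
    induction hy with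
    | refl => exact ⟨1, by simp⟩
    | tail _ h ih =>
      obtain ⟨g, hg⟩ := ih
      obtain ⟨hy, hz, -, hodd⟩ := h
      obtain ⟨d, -, hd⟩ := Invol.exists_conj_of_odd (hD.orderOf_eq _ hy) (hD.orderOf_eq _ hz) hodd
      exact ⟨d * g, by rw [← hd, hg]; group⟩
  exact key b (hc a ha b hb)

/-- The complement of the odd partners. -/
theorem mem_union_iff {d x : G} (hd : d ∈ D) :
    x ∈ commutingMembers D d ∪ fourPartners D d ↔ x ∈ D ∧ x ∉ oddPartners D d := by
  constructor
  · rintro (⟨hx, hc⟩ | ⟨hx, h4⟩)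
    · exact ⟨hx, fun ⟨_, hne, hodd⟩ => not_commute_of_odd hD hd hx hne.symm hodd hc.symm⟩
    · refine ⟨hx, fun ⟨_, _, hodd⟩ => ?_⟩
      rw [h4] at hodd; exact absurd hodd (by decide)
  · rintro ⟨hx, hno⟩
    by_cases hne : x = d
    · exact Or.inl ⟨hx, by rw [hne]⟩
    rcases hD.pair d hd x hx with h | h | h
    · exact Or.inl ⟨hx, h.symm⟩
    · exact absurd ⟨hx, hne, h⟩ hno
    · exact Or.inr ⟨hx, h.1⟩

theorem union_eq_iff {d e : G} (hd : d ∈ D) (he : e ∈ D) :
    commutingMembers D d ∪ fourPartners D d = commutingMembers D e ∪ fourPartners D e ↔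
      oddPartners D d = oddPartners D e := by
  constructor
  · intro h
    ext x
    have hx := Set.ext_iff.1 h x
    rw [mem_union_iff hD hd, mem_union_iff hD he] at hx
    by_cases hxD : x ∈ D
    · simp [hxD] at hx; exact not_iff_not.1 hx
    · exact iff_of_false (fun h => hxD h.1) (fun h => hxD h.1)
  · intro h
    ext x
    rw [mem_union_iff hD hd, mem_union_iff hD he, h]

/-- A block of members with equal odd-partner sets cannot contain `a, b, (ab)²` with `ab` of order
four. -/
theorem no_block [Finite G] (hcl : ∀ a ∈ D, ∀ b ∈ D, ∃ g : G, b = g * a * g⁻¹) {a b : G}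
    (ha : a ∈ D) (hb : b ∈ D) (h4 : orderOf (a * b) = 4)
    (hab : oddPartners D a = oddPartners D b)
    (hac : oddPartners D a = oddPartners D ((a * b) ^ 2)) : False := by
  classical
  set K : Set G := {e | e ∈ D ∧ oddPartners D e = oddPartners D a} with hK
  set P := Subgroup.closure K with hP
  have hKpair : ∀ e ∈ K, ∀ e' ∈ K, (e * e') ^ 4 = 1 := by
    intro e he e' he'
    rcases hD.pair e he.1 e' he'.1 with h | h | h
    · rw [show (4 : ℕ) = 2 * 2 by norm_num, pow_mul, (sq_mul_eq_one_iff hD he.1 he'.1).2 h, one_pow]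
    · by_cases hne : e' = e
      · rw [hne, sq hD he.1, one_pow]
      · have : e' ∈ oddPartners D e' := by
          have : e' ∈ oddPartners D e := ⟨he'.1, hne, h⟩
          rwa [he.2, ← he'.2] at this
        exact absurd rfl this.2.1
    · rw [← h.1]; exact pow_orderOf_eq_one _
  have hstab : ∀ g : G, ∀ e ∈ K, g * e * g⁻¹ ∈ K → ∀ e' ∈ K, g * e' * g⁻¹ ∈ K := by
    intro g e he hge e' he'
    refine ⟨hD.conj_mem e' he'.1 g, ?_⟩
    rw [oddPartners_conj g hD, he'.2, ← he.2, ← oddPartners_conj g hD, hge.2, he.2]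
  have hgenK : ∀ g ∈ K, ∀ e ∈ K, g * e * g⁻¹ ∈ K := fun g hg e he =>
    hstab g g hg (by rwa [mul_inv_cancel_right]) e he
  have hPK : ∀ g ∈ P, ∀ e ∈ K, g * e * g⁻¹ ∈ K := by
    intro g hg
    induction hg using Subgroup.closure_induction with
    | mem v hv => exact hgenK v hv
    | one => intro e he; simpa using he
    | mul v w _ _ ihv ihw =>
      intro e he
      rw [show v * w * e * (v * w)⁻¹ = v * (w * e * w⁻¹) * v⁻¹ by group]
      exact ihv _ (ihw e he)
    | inv v _ ihv =>
      intro e he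
      let f : K → K := fun x => ⟨v * x.1 * v⁻¹, ihv x.1 x.2⟩
      have hf : Function.Injective f := fun x y h => Subtype.ext (by simpa [f] using congrArg Subtype.val h)
      obtain ⟨y, hy⟩ := Finite.surjective_of_injective hf ⟨e, he⟩
      have e' : v * y.1 * v⁻¹ = e := congrArg Subtype.val hy
      rw [← e', inv_inv, show v⁻¹ * (v * y.1 * v⁻¹) * v = y.1 by group]
      exact y.2
  have : Fact (Nat.Prime 2) := ⟨Nat.prime_two⟩
  have hP2 : IsPGroup 2 P := by
    have hle : ∀ x : P, (x : G) ∈ K → x ∈ Cfsg.pCore 2 P := by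
      intro x hx
      refine Invol.mem_pCore_of_pairs x fun g => ?_
      set y := g * x * g⁻¹ with hy
      have hyK : (y : G) ∈ K := by simpa [hy] using hPK g g.2 x hx
      have hxo : orderOf x = 2 := by rw [← Subgroup.orderOf_coe]; exact hD.orderOf_eq _ hx.1
      have hyo : orderOf y = 2 := by rw [← Subgroup.orderOf_coe]; exact hD.orderOf_eq _ hyK.1
      intro ⟨w, hw⟩
      have h4' : (x * y) ^ 4 = 1 := Subtype.ext (by simpa using hKpair _ hx _ hyK)
      rcases (Invol.mem_closure_pair_iff hxo hyo).1 hw with ⟨k, hk⟩ | ⟨k, hk⟩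
      · refine ⟨2, Subtype.ext ?_⟩
        show w ^ 2 ^ 2 = 1
        have hk' : w = (x * y) ^ k := hk
        rw [hk', show (2 : ℕ) ^ 2 = 4 by norm_num, ← zpow_natCast, ← zpow_mul, mul_comm, zpow_mul, zpow_natCast,
          h4', one_zpow]
      · refine ⟨1, Subtype.ext ?_⟩
        show w ^ 2 ^ 1 = 1
        have hk' : w = x * (x * y) ^ k := hk
        rw [hk', pow_one, pow_two]
        exact Invol.mul_zpow_mul_self (Invol.mul_self_eq_one hxo) (Invol.conj_mul_inv hxo hyo) k
    obtain ⟨S⟩ : Nonempty (Sylow 2 P) := inferInstance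
    have htop : Subgroup.closure (((↑) : P → G) ⁻¹' K) = ⊤ := Subgroup.closure_closure_coe_preimage
    have hcore : (⊤ : Subgroup P) ≤ Cfsg.pCore 2 P := by
      rw [← htop, Subgroup.closure_le]; exact fun x hx => hle x hx
    have hN : (Cfsg.pCore 2 P) ≤ (S : Subgroup P) :=
      sSup_le fun N ⟨hN, hNp⟩ => by
        obtain ⟨T, hT⟩ := hNp.exists_le_sylow
        obtain ⟨g, rfl⟩ := MulAction.exists_smul_eq P T S
        intro z hz
        rw [Sylow.coe_subgroup_smul, Subgroup.mem_pointwise_smul_iff_inv_smul_mem]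
        apply hT
        have := hN.conj_mem z hz g⁻¹
        simpa [MulAut.conj_symm_apply, mul_assoc] using this
    exact IsPGroup.of_equiv S.isPGroup' ((MulEquiv.subgroupCongr (top_le_iff.1 (hcore.trans hN))).trans Subgroup.topEquiv)
  set c := (a * b) ^ 2 with hc
  have haK : a ∈ K := ⟨ha, rfl⟩
  have hbK : b ∈ K := ⟨hb, hab.symm⟩
  have hcK : c ∈ K := ⟨(four hD ha hb h4).1, hac.symm⟩
  have hcP : c ∈ ⁅P, P⁆ := by
    have := Subgroup.commutator_mem_commutator (Subgroup.subset_closure haK : a ∈ P)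
      (Subgroup.subset_closure hbK : b ∈ P)
    rwa [commutatorElement_def, inv hD ha, inv hD hb,
      show a * b * a * b = c by rw [hc, pow_two]; group] at this
  have hKP : P ≤ ⁅P, P⁆ := by
    rw [hP, Subgroup.closure_le]
    intro e he
    obtain ⟨g, rfl⟩ := hcl c hcK.1 e he.1
    have hnorm : P.map (MulAut.conj g).toMonoidHom ≤ P := by
      rw [hP, MonoidHom.map_closure, Subgroup.closure_le]
      rintro _ ⟨e', he', rfl⟩
      exact Subgroup.subset_closure (hstab g c hcK he e' he')
    have := Subgroup.mem_map_of_mem (MulAut.conj g).toMonoidHom hcP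
    rw [Subgroup.map_commutator] at this
    exact Subgroup.commutator_mono hnorm hnorm this
  have hne : Nontrivial P := ⟨⟨⟨a, Subgroup.subset_closure haK⟩, 1, fun h =>
    ne_one hD ha (congrArg Subtype.val h)⟩⟩
  have := hP2.isNilpotent
  have hlt := Group.IsSolvable.commutator_lt_top_of_nontrivial (G := P)
  refine hlt.ne (top_le_iff.1 fun x _ => ?_)
  have hx : (x : G) ∈ ⁅P, P⁆ := hKP x.2
  rw [← Subgroup.map_subtype_commutator] at hx
  obtain ⟨y, hy, hyx⟩ := hx
  exact Subtype.ext hyx ▸ hy

/-- A three-cycle on a line forces an odd product. -/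
theorem odd_of_cycle {u v p q r : G} (hu : u ∈ D) (hv : v ∈ D) (hne : p ≠ q) (hpr : p ≠ r)
    (h1 : (u * v) * p * (u * v)⁻¹ = q) (h2 : (u * v) * q * (u * v)⁻¹ = r)
    (h3 : (u * v) * r * (u * v)⁻¹ = p) : Odd (orderOf (u * v)) := by
  rcases hD.pair u hu v hv with h | h | ⟨h, -⟩
  · exfalso
    have e := (sq_mul_eq_one_iff hD hu hv).2 h
    apply hpr
    rw [← h2, ← h1, show u * v * (u * v * p * (u * v)⁻¹) * (u * v)⁻¹ = (u * v) ^ 2 * p * ((u * v) ^ 2)⁻¹ by
      rw [pow_two]; group, e]
    group
  · exact h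
  · exfalso
    have e : (u * v) ^ 4 = 1 := by rw [← h]; exact pow_orderOf_eq_one _
    apply hne
    have h' : (u * v) ^ 4 * p * ((u * v) ^ 4)⁻¹ = q := by
      rw [show (u * v) ^ 4 * p * ((u * v) ^ 4)⁻¹ =
        u * v * (u * v * (u * v * (u * v * p * (u * v)⁻¹) * (u * v)⁻¹) * (u * v)⁻¹) * (u * v)⁻¹ by
        simp only [pow_succ, pow_zero, one_mul]; group, h1, h2, h3, h1]
    rw [← h', e]; group

/-- With a connected odd graph, equal commuting sets and equal odd-partner sets agree. -/
theorem oddPartners_eq_of_commuting_eq {d e : G} (hd : d ∈ D) (he : e ∈ D)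
    (h : commutingMembers D d = commutingMembers D e) :
    oddPartners D d ⊆ oddPartners D e := by
  intro x ⟨hx, hne, hodd⟩
  have hde : Commute d e := by
    have : d ∈ commutingMembers D e := h ▸ ⟨hd, rfl⟩
    exact this.2
  have hnc := not_commute_of_odd hD hd hx hne.symm hodd
  by_contra hno
  have hmem := (mem_union_iff hD he).2 ⟨hx, hno⟩
  rcases hmem with hc | ⟨-, h4⟩
  · rw [← h] at hc; exact hnc hc.2.symm
  · have hf := four hD he hx h4
    have hz : Commute d ((e * x) ^ 2) := by
      have hm : (e * x) ^ 2 ∈ commutingMembers D e := ⟨hf.1, hf.2.1.symm.eq⟩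
      rw [← h] at hm
      exact (show Commute _ d from hm.2).symm
    have hdex : Commute d (x * e * x) := hf.2.2.2.1 ▸ hde.mul_right hz
    have hxdx : Commute (x * d * x) e := by
      have := hdex.map (MulAut.conj x).toMonoidHom
      simp only [MulEquiv.coe_toMonoidHom, MulAut.conj_apply, inv hD hx] at this
      rwa [show x * (x * e * x) * x = (x * x) * e * (x * x) by group, sq hD hx, one_mul, mul_one] at this
    have hm : x * d * x ∈ commutingMembers D e := ⟨conj hD hd hx, hxdx.eq⟩
    rw [← h] at hm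
    have h4' : ((x * d) ^ 2) ^ 2 = 1 := by
      rw [pow_two (x * d), show x * d * (x * d) = x * d * x * d by group]
      exact (sq_mul_eq_one_iff hD (conj hD hd hx) hd).2 hm.2
    have h2 : (d * x) ^ 4 = 1 := by
      rw [show d * x = (x * d)⁻¹ by rw [mul_inv_rev, inv hD hx, inv hD hd], inv_pow,
        show (4 : ℕ) = 2 * 2 by norm_num, pow_mul, h4', inv_one]
    have hco : (orderOf (d * x)).Coprime 4 := by
      rw [show (4 : ℕ) = 2 ^ 2 by norm_num]; exact Nat.Coprime.pow_right _ hodd.coprime_two_right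
    have h1 := Nat.dvd_one.1 (hco.gcd_eq_one ▸ Nat.dvd_gcd dvd_rfl (orderOf_dvd_of_pow_eq_one h2))
    rw [orderOf_eq_one_iff, mul_eq_one_iff_eq_inv, inv hD hx] at h1
    exact hne h1.symm

theorem sameCommuting_iff [Finite G] (hcl : ∀ a ∈ D, ∀ b ∈ D, ∃ g : G, b = g * a * g⁻¹)
    {d e : G} (hd : d ∈ D) (he : e ∈ D) :
    commutingMembers D d = commutingMembers D e ↔ oddPartners D d = oddPartners D e := by
  refine ⟨fun h => Set.Subset.antisymm (oddPartners_eq_of_commuting_eq hD hd he h)
    (oddPartners_eq_of_commuting_eq hD he hd h.symm), fun h => ?_⟩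
  suffices hk : ∀ d e, d ∈ D → e ∈ D → oddPartners D d = oddPartners D e →
      commutingMembers D e ⊆ commutingMembers D d from
    Set.Subset.antisymm (hk e d he hd h.symm) (hk d e hd he h)
  clear hd he h d e
  intro d e hd he h f ⟨hf, hfe⟩
  refine ⟨hf, ?_⟩
  by_contra hfd
  have hfd' : ¬ (d * f = f * d) := fun e => hfd e.symm
  have h4 : orderOf (d * f) = 4 := four_of hD hd hf hfd' (fun hodd => by
    have : f ∈ oddPartners D e := h ▸ ⟨hf, fun e => hfd (by rw [e]), hodd⟩
    exact not_commute_of_odd hD he hf this.2.1.symm this.2.2 hfe.symm)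
  obtain ⟨hg, hdg, hfg, hfdf, hline⟩ := four hD hd hf h4
  set g := (d * f) ^ 2 with hgdef
  -- the conjugate of `d` under `f` has the same odd partners
  have hd' : oddPartners D (d * g) = oddPartners D d := by
    have e1 : f * d * f⁻¹ = d * g := by rw [inv hD hf, hfdf]
    have e2 : f * e * f⁻¹ = e := by rw [hfe, mul_inv_cancel_right]
    calc oddPartners D (d * g) = (fun x => f * x * f⁻¹) '' oddPartners D d := by
          rw [← e1, oddPartners_conj f hD]
      _ = (fun x => f * x * f⁻¹) '' oddPartners D e := by rw [h]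
      _ = oddPartners D e := by rw [← oddPartners_conj f hD, e2]
      _ = oddPartners D d := h.symm
  have hgd : oddPartners D g = oddPartners D d := by
    refine oddPartners_eq_of_subset hD hcl hg hd fun x ⟨hx, hne, hodd⟩ => ?_
    have hodd' : Odd (orderOf (x * g)) := orderOf_mul_comm g x ▸ hodd
    have hl : Line D g d := line_symm hD hline
    rcases line_odd_or hD hl hx hne hodd' with h1 | h1
    · refine ⟨hx, fun e' => line_not_commute hD hl hx hne hodd' (by rw [e']), orderOf_mul_comm x d ▸ h1⟩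
    · rw [← hd']
      have e1 : g * d = d * g := hdg.eq.symm
      refine ⟨hx, fun e' => line_not_commute hD (line_third hD hl) hx hne hodd' (by rw [e', e1]), ?_⟩
      rw [orderOf_mul_comm, ← e1]; exact h1
  have hlf : Line D f g := by
    have h4' : orderOf (f * d) = 4 := by rw [orderOf_mul_comm]; exact h4
    have hsame : (f * d) ^ 2 = g := by
      have : g⁻¹ = g := inv hD hg
      rw [← this, hgdef, ← inv_pow, mul_inv_rev, inv hD hd, inv hD hf]
    exact hsame ▸ (four hD hf hd h4').2.2.2.2
  have hgf : oddPartners D g = oddPartners D f := by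
    refine oddPartners_eq_of_subset hD hcl hg hf fun x ⟨hx, hne, hodd⟩ => ?_
    have hodd' : Odd (orderOf (x * g)) := orderOf_mul_comm g x ▸ hodd
    have hl : Line D g f := line_symm hD hlf
    have hnc := line_not_commute hD hl hx hne hodd'
    refine ⟨hx, fun e' => hnc (by rw [e']), ?_⟩
    by_contra hno
    have h4x := four_of hD hf hx (fun e' => hnc e'.symm) hno
    obtain ⟨z, hz, hzf, hzg, h4z, hsqz, -⟩ := exists_shift hD hlf hx hne hodd' h4x
    have hzodd : Odd (orderOf (d * z)) := by
      have hdd := sq hD hd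
      have hdfd : d * f * d = f * g := by
        have h4' : orderOf (f * d) = 4 := by rw [orderOf_mul_comm]; exact h4
        have hsame : (f * d) ^ 2 = g := by
          have : g⁻¹ = g := inv hD hg
          rw [← this, hgdef, ← inv_pow, mul_inv_rev, inv hD hd, inv hD hf]
        exact hsame ▸ (four hD hf hd h4').2.2.2.1
      have hzfz : z * f * z = f := by rw [hzf.eq, mul_assoc, sq hD hz, mul_one]
      have hdgd : d * g * d = g := by rw [hdg.eq, mul_assoc, hdd, mul_one]
      have act : ∀ p, d * z * p * (d * z)⁻¹ = d * (z * p * z) * d := fun p => by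
        rw [mul_inv_rev, inv hD hd, inv hD hz]; group
      refine odd_of_cycle hD hd hz (p := f) (q := f * g) (r := g) ?_ ?_ ?_ ?_ ?_
      · intro e'; exact ne_one hD hg (mul_eq_left.1 e'.symm)
      · exact line_ne hD hlf
      · rw [act, hzfz, hdfd]
      · rw [act, show z * (f * g) * z = z * f * z * (z * g * z) by
          rw [show z * f * z * (z * g * z) = z * f * (z * z) * g * z by group, sq hD hz, mul_one]; group,
          hzfz, hzg, hlf.comm.symm.eq, show f * (f * g) = g by rw [← mul_assoc, sq hD hf, one_mul], hdgd]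
      · rw [act, hzg, show d * (g * f) * d = d * g * d * (d * f * d) by
          rw [show d * g * d * (d * f * d) = d * g * (d * d) * f * d by group, hdd, mul_one]; group,
          hdgd, hdfd, hlf.comm.eq, ← mul_assoc, sq hD hg, one_mul]
    have hzd : z ∈ oddPartners D d :=
      ⟨hz, fun e' => hfd' (by rw [← e', hzf.eq]), hzodd⟩
    rw [← hgd] at hzd
    have := hzd.2.2
    rw [h4z] at this
    exact absurd this (by decide)
  exact no_block hD hcl hd hf h4 (hgd.symm.trans hgf) hgd.symm

/-- For `ab` of order four, some odd partner of `(ab)²` is not an odd partner of `a` or of `b`. -/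
theorem exists_partner_four [Finite G] (hcl : ∀ a ∈ D, ∀ b ∈ D, ∃ g : G, b = g * a * g⁻¹) {a b : G}
    (ha : a ∈ D) (hb : b ∈ D) (h4 : orderOf (a * b) = 4) :
    ∃ x, x ∈ oddPartners D ((a * b) ^ 2) ∧ (orderOf (a * x) = 4 ∨ orderOf (b * x) = 4) := by
  obtain ⟨hc, hac, hbc, -, hline⟩ := four hD ha hb h4
  set c := (a * b) ^ 2 with hcdef
  by_contra hno
  push Not at hno
  have hsub : ∀ u, u ∈ D → Line D u c → (∀ x ∈ oddPartners D c, orderOf (u * x) ≠ 4) →
      oddPartners D c = oddPartners D u := by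
    intro u hu hl hne4
    refine oddPartners_eq_of_subset hD hcl hc hu fun x hxc => ?_
    obtain ⟨hx, hne, hodd⟩ := hxc
    have hnc := line_not_commute hD (line_symm hD hl) hx hne (orderOf_mul_comm c x ▸ hodd)
    refine ⟨hx, fun e' => hnc (by rw [e']), ?_⟩
    by_contra hno'
    exact hne4 x ⟨hx, hne, hodd⟩ (four_of hD hu hx (fun e' => hnc e'.symm) hno')
  have hlb : Line D b c := by
    have h4' : orderOf (b * a) = 4 := by rw [orderOf_mul_comm]; exact h4
    have hsame : (b * a) ^ 2 = c := by
      have : c⁻¹ = c := inv hD hc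
      rw [← this, hcdef, ← inv_pow, mul_inv_rev, inv hD ha, inv hD hb]
    exact hsame ▸ (four hD hb ha h4').2.2.2.2
  have e1 := hsub a ha hline fun x hx => (hno x hx).1
  have e2 := hsub b hb hlb fun x hx => (hno x hx).2
  exact no_block hD hcl ha hb h4 (e1.symm.trans e2) e1.symm

end

end CfsgLib.RootInv
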