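import Cfsg.Agent.RootSubgroups.Isolated

set_option autoImplicit false

/-!
Non-degenerate classes of root involutions: the generation lemma, connectivity of the graph of lines, weak TI
subsets.
-/

namespace CfsgLib.RootInv

open Cfsg

variable {G : Type*} [Group G] [Finite G] {D : Set G}

theorem mem_productPartners_of_line (hD : IsRootInvolutionSet D) {c d : G} (h : Line D c d) :
    c ∈ productPartners D d :=
  ⟨⟨h.mem, h.comm.eq, line_ne hD h⟩, h.mul_mem⟩

theorem line_of_mem_productPartners {c d : G} (hd : d ∈ D) (h : c ∈ productPartners D d) : Line D c d :=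
  ⟨h.1.1, hd, h.1.2.1, h.2⟩

theorem line_second (hD : IsRootInvolutionSet D) {a b : G} (ha : a ∈ D) (hb : b ∈ D) (h4 : orderOf (a * b) = 4) :
    Line D b ((a * b) ^ 2) := by
  have hc := (four hD ha hb h4).1
  have h4' : orderOf (b * a) = 4 := by rw [orderOf_mul_comm]; exact h4
  have hsame : (b * a) ^ 2 = (a * b) ^ 2 := by
    rw [show b * a = (a * b)⁻¹ by rw [mul_inv_rev, inv hD ha, inv hD hb], inv_pow, inv hD hc]
  exact hsame ▸ (four hD hb ha h4').2.2.2.2

/-- A proper line through every member. -/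
theorem exists_proper_line (hD : IsNondegenerateRootInvolutionSet D) (hcl : IsRootInvolutionClass D) {d : G}
    (hd : d ∈ D) : ∃ u, Line D u d ∧ ∃ x ∈ oddPartners D d, orderOf (u * x) = 4 := by
  obtain ⟨hD, -, -, a, ha, b, hb, h4⟩ := hD
  obtain ⟨hc, -, -, -, hl⟩ := four hD ha hb h4
  obtain ⟨u, hu, x, hx, hux⟩ : ∃ u, Line D u ((a * b) ^ 2) ∧
      ∃ x ∈ oddPartners D ((a * b) ^ 2), orderOf (u * x) = 4 := by
    obtain ⟨x, hx, h | h⟩ := exists_partner_four hD hcl.2.2 ha hb h4
    · exact ⟨a, hl, x, hx, h⟩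
    · exact ⟨b, line_second hD ha hb h4, x, hx, h⟩
  obtain ⟨g, rfl⟩ := hcl.2.2 _ hc d hd
  refine ⟨g * u * g⁻¹, line_conj hD hu g, g * x * g⁻¹, ?_, ?_⟩
  · rw [oddPartners_conj g hD]; exact ⟨x, hx, rfl⟩
  · rw [show g * u * g⁻¹ * (g * x * g⁻¹) = g * (u * x) * g⁻¹ by group, Invol.orderOf_conj_eq, hux]

theorem odd_connected (hD : IsNondegenerateRootInvolutionSet D) (hcl : IsRootInvolutionClass D) :
    IsConnectedSet (OddAdj D) D := by
  have hcn := hcl.2.2
  obtain ⟨hD, -, ⟨a₀, ha₀, b₀, hb₀, hne₀, hodd₀⟩, -⟩ := hD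
  have hni : ∀ a ∈ D, ¬ IsIsolatedElem (OddAdj D) D a := by
    intro a ha hiso
    obtain ⟨g, rfl⟩ := hcn a₀ ha₀ a ha
    refine (hiso.2 (g * b₀ * g⁻¹)).1 ⟨ha, hD.conj_mem b₀ hb₀ g, fun e => hne₀ (by simpa using e), ?_⟩
    rw [show g * a₀ * g⁻¹ * (g * b₀ * g⁻¹) = g * (a₀ * b₀) * g⁻¹ by group, Invol.orderOf_conj_eq]
    exact hodd₀
  have hW : {w | IsIsolatedElem (OddAdj D) D w} = ∅ :=
    Set.eq_empty_iff_forall_notMem.2 fun w hw => hni w hw.1 hw
  have hcomp : ∀ a ∈ D, ∃ a' ∈ elemComponentOf (OddAdj D) D a, a' ≠ a := by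
    intro a ha
    obtain ⟨x, hx⟩ := not_isolated hD ha (hni a ha)
    exact ⟨x, ⟨hx.1, .single (oddAdj_symm hD hx)⟩, hx.2.2.1⟩
  have hcomm := (isolated_main hD).2.2.2.2.1
  have hfix : ∀ g : G, g ∈ D → ∀ a ∈ D, Relation.ReflTransGen (OddAdj D) a (g * a * g⁻¹) := by
    intro g hg a ha
    by_cases hr : Relation.ReflTransGen (OddAdj D) a g
    · have h1 := reach_conj hD g (reach_symm hD hr)
      rw [mul_inv_cancel_right] at h1
      exact hr.trans h1
    · have hne : elemComponentOf (OddAdj D) D g ≠ elemComponentOf (OddAdj D) D a := fun e =>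
        hr (by
          have h0 : g ∈ elemComponentOf (OddAdj D) D g := ⟨hg, Relation.ReflTransGen.refl⟩
          rw [e] at h0
          exact h0.2)
      have h1 := hcomm g hg a ha (hcomp g hg) (hcomp a ha) hne
      rw [hW, Subgroup.closure_empty, Subgroup.mem_bot, mul_inv_eq_one] at h1
      rw [h1]
  let M : Subgroup G :=
    { carrier := {g | ∀ a ∈ D, Relation.ReflTransGen (OddAdj D) a (g * a * g⁻¹)}
      one_mem' := fun a _ => by rw [one_mul, inv_one, mul_one]
      mul_mem' := fun {g h} hg hh a ha => by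
        have := (hh a ha).trans (hg _ (hD.conj_mem a ha h))
        rwa [show g * (h * a * h⁻¹) * g⁻¹ = g * h * a * (g * h)⁻¹ by group] at this
      inv_mem' := fun {g} hg a ha => by
        have := reach_symm hD (hg _ (hD.conj_mem a ha g⁻¹))
        rwa [show g * (g⁻¹ * a * g⁻¹⁻¹) * g⁻¹ = a by group] at this }
  have hM : (⊤ : Subgroup G) ≤ M := hD.generates ▸ (Subgroup.closure_le M).2 hfix
  intro a ha b hb
  obtain ⟨g, rfl⟩ := hcn a ha b hb
  exact hM (Subgroup.mem_top g) a ha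

theorem prodAdj_symm (hD : IsRootInvolutionSet D) {a b : G} (h : ProdAdj D a b) : ProdAdj D b a :=
  ⟨h.2.1, h.1, h.2.2.1.symm, h.2.2.2.1.symm, h.2.2.2.1 ▸ h.2.2.2.2⟩

theorem prodAdj_of_line (hD : IsRootInvolutionSet D) {a p : G} (h : Line D a p) : ProdAdj D a p :=
  ⟨h.mem, h.mem', line_ne hD h, h.comm.eq, h.mul_mem⟩

/-- A subgroup containing the line partners of `d` and an odd partner contains all the line partners as conjugates
of `d`. -/
theorem line_partner_conjugate (hD : IsRootInvolutionSet D) (hcl : IsRootInvolutionClass D) {d x C : G}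
    (hd : d ∈ D) (hx : x ∈ oddPartners D d) (hC : C ∈ productPartners D d) :
    ∃ g ∈ Subgroup.closure (productPartners D d ∪ {x}), C = g * d * g⁻¹ := by
  set U := Subgroup.closure (productPartners D d ∪ {x})
  have hXU : ∀ {c : G}, c ∈ productPartners D d → c ∈ U := fun h => Subgroup.subset_closure (Or.inl h)
  have hxU : x ∈ U := Subgroup.subset_closure (Or.inr rfl)
  have hl := line_of_mem_productPartners hd hC
  have hdU : d ∈ U := by
    have h1 : C * d ∈ productPartners D d := by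
      refine mem_productPartners_of_line hD ?_
      have := line_third hD (line_symm hD hl)
      rw [hl.comm.eq]
      exact line_symm hD this
    have := mul_mem (hXU hC) (hXU h1)
    rwa [← mul_assoc, sq hD hl.mem, one_mul] at this
  obtain ⟨hxD, hxd, hodd⟩ := hx
  have hodd' : Odd (orderOf (x * d)) := orderOf_mul_comm d x ▸ hodd
  have hnc := line_not_commute hD (line_symm hD hl) hxD hxd hodd'
  by_cases hCx : Odd (orderOf (x * C))
  · obtain ⟨g, hg, hgd⟩ := Invol.exists_conj_of_odd (hD.orderOf_eq _ hd) (hD.orderOf_eq _ hxD) hodd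
    obtain ⟨h, hh, hhx⟩ := Invol.exists_conj_of_odd (hD.orderOf_eq _ hxD) (hD.orderOf_eq _ hl.mem) hCx
    have hle : ∀ {u v : G}, u ∈ U → v ∈ U → Subgroup.closure ({u, v} : Set G) ≤ U := fun hu hv =>
      (Subgroup.closure_le U).2 fun z hz => by
        rcases hz with rfl | rfl
        exacts [hu, hv]
    refine ⟨h * g, mul_mem (hle hxU (hXU hC) hh) (hle hdU hxU hg), ?_⟩
    rw [← hhx, ← hgd]; group
  · have h4 : orderOf (C * x) = 4 := four_of hD hl.mem hxD (fun e => hnc e.symm)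
      (fun e => hCx (orderOf_mul_comm C x ▸ e))
    obtain ⟨z, hz, -, hzd, -, -, k, -, hkd, -, rfl, -⟩ := exists_shift hD hl hxD hxd hodd' h4
    have hzU : (k * x) ^ 2 ∈ U := Subgroup.pow_mem _ (mul_mem (hXU (mem_productPartners_of_line hD hkd)) hxU) 2
    obtain ⟨x', hx'C, hx'd⟩ : ∃ x', x' ∈ oddPartners D C ∧ x' ∉ oddPartners D d := by
      by_contra hno
      push Not at hno
      have e := oddPartners_eq_of_subset hD hcl.2.2 hl.mem hd hno
      have : x ∈ oddPartners D C := e ▸ ⟨hxD, hxd, hodd⟩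
      exact hCx (orderOf_mul_comm C x ▸ this.2.2)
    obtain ⟨hx'D, hx'ne, hx'odd⟩ := hx'C
    have hx'odd' : Odd (orderOf (x' * C)) := orderOf_mul_comm C x' ▸ hx'odd
    have hnc' := line_not_commute hD hl hx'D hx'ne hx'odd'
    have h4' : orderOf (d * x') = 4 := four_of hD hd hx'D (fun e => hnc' e.symm)
      (fun e => hx'd ⟨hx'D, fun e' => hnc' (by rw [e']), e⟩)
    obtain ⟨V, hV, -, hVC, hCV, hCV2, -⟩ := exists_shift hD (line_symm hD hl) hx'D hx'ne hx'odd' h4'
    have hVU : V ∈ U := hXU (mem_productPartners_of_line hD (hCV2 ▸ line_second hD hl.mem hV hCV))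
    refine ⟨V * (k * x) ^ 2, mul_mem hVU hzU, ?_⟩
    have e1 : (k * x) ^ 2 * d * ((k * x) ^ 2)⁻¹ = d * C := by rw [inv hD hz, hzd]
    have e2 : V * (d * C) * V⁻¹ = C := by
      rw [← hl.comm.eq, ← hVC, inv hD hV,
        show V * (V * C * V) * V = (V * V) * C * (V * V) by group, sq hD hV, one_mul, mul_one]
    calc C = V * ((k * x) ^ 2 * d * ((k * x) ^ 2)⁻¹) * V⁻¹ := by rw [e1, e2]
      _ = _ := by group

end CfsgLib.RootInv
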