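import Cfsg.Prelude.Def_RootSubgroups
import Cfsg.Agent.Invol.Dihedral

set_option autoImplicit false

/-!
Elementary theory of root involutions: lines, the key commutator configuration.
-/

namespace CfsgLib.RootInv

open Cfsg

variable {G : Type*} [Group G] {D : Set G} (hD : IsRootInvolutionSet D)

/-- `a, p` commuting members of `D` with product in `D`. -/
structure Line (D : Set G) (a p : G) : Prop where
  mem : a ∈ D
  mem' : p ∈ D
  comm : Commute a p
  mul_mem : a * p ∈ D

section

include hD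

theorem sq {a : G} (ha : a ∈ D) : a * a = 1 := Invol.mul_self_eq_one (hD.orderOf_eq a ha)

theorem inv {a : G} (ha : a ∈ D) : a⁻¹ = a := Invol.inv_eq_self (hD.orderOf_eq a ha)

theorem ne_one {a : G} (ha : a ∈ D) : a ≠ 1 := Invol.ne_one (hD.orderOf_eq a ha)

theorem conj {a : G} (ha : a ∈ D) {b : G} (hb : b ∈ D) : b * a * b ∈ D := by
  have := hD.conj_mem a ha b
  rwa [inv hD hb] at this

theorem line_ne {a p : G} (h : Line D a p) : a ≠ p := fun e =>
  ne_one hD h.mul_mem (by rw [← e]; exact sq hD h.mem)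

theorem line_symm {a p : G} (h : Line D a p) : Line D p a :=
  ⟨h.mem', h.mem, h.comm.symm, h.comm.eq ▸ h.mul_mem⟩

theorem line_third {a p : G} (h : Line D a p) : Line D a (a * p) :=
  ⟨h.mem, h.mul_mem, (Commute.refl a).mul_right h.comm,
    by rw [← mul_assoc, sq hD h.mem, one_mul]; exact h.mem'⟩

theorem line_conj {a p : G} (h : Line D a p) (g : G) : Line D (g * a * g⁻¹) (g * p * g⁻¹) :=
  ⟨hD.conj_mem a h.mem g, hD.conj_mem p h.mem' g, by
    have := (SemiconjBy.conj_mk g a).symm
    exact h.comm.map (MulAut.conj g).toMonoidHom, by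
    rw [show g * a * g⁻¹ * (g * p * g⁻¹) = g * (a * p) * g⁻¹ by group]
    exact hD.conj_mem _ h.mul_mem g⟩

theorem sq_mul_eq_one_iff {a b : G} (ha : a ∈ D) (hb : b ∈ D) :
    (a * b) ^ 2 = 1 ↔ a * b = b * a := by
  rw [pow_two, mul_eq_one_iff_eq_inv, mul_inv_rev, inv hD ha, inv hD hb]

theorem not_commute_of_four {a b : G} (ha : a ∈ D) (hb : b ∈ D) (h : orderOf (a * b) = 4) :
    a * b ≠ b * a := fun e => by
  have := orderOf_dvd_of_pow_eq_one ((sq_mul_eq_one_iff hD ha hb).2 e)
  rw [h] at this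
  omega

theorem not_commute_of_odd {a b : G} (ha : a ∈ D) (hb : b ∈ D) (hne : a ≠ b)
    (h : Odd (orderOf (a * b))) : a * b ≠ b * a := fun e => by
  have h2 := orderOf_dvd_of_pow_eq_one ((sq_mul_eq_one_iff hD ha hb).2 e)
  rcases (Nat.dvd_prime Nat.prime_two).1 h2 with h' | h'
  · rw [orderOf_eq_one_iff, mul_eq_one_iff_eq_inv, inv hD hb] at h'
    exact hne h'
  · rw [h'] at h; exact absurd h (by decide)

/-- The three cases for a pair exclude each other; a convenient form. -/
theorem four_of {a b : G} (ha : a ∈ D) (hb : b ∈ D) (h1 : a * b ≠ b * a)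
    (h2 : ¬ Odd (orderOf (a * b))) : orderOf (a * b) = 4 := by
  rcases hD.pair a ha b hb with h | h | h
  · exact absurd h h1
  · exact absurd h h2
  · exact h.1

theorem ne_of_not_commute {a b : G} (h : a * b ≠ b * a) : a ≠ b := fun e => h (by rw [e])

/-- Facts about a pair with product of order four. -/
theorem four {a b : G} (ha : a ∈ D) (hb : b ∈ D) (h : orderOf (a * b) = 4) :
    (a * b) ^ 2 ∈ D ∧ Commute a ((a * b) ^ 2) ∧ Commute b ((a * b) ^ 2) ∧
      b * a * b = a * (a * b) ^ 2 ∧ Line D a ((a * b) ^ 2) := by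
  have hc : (a * b) ^ 2 ∈ D := by
    rcases hD.pair a ha b hb with e | e | e
    · exact absurd e (not_commute_of_four hD ha hb h)
    · rw [h] at e; exact absurd e (by decide)
    · exact e.2
  have h4 : (a * b) ^ 4 = 1 := by rw [← h]; exact pow_orderOf_eq_one _
  have hbab : b * a * b = a * (a * b) ^ 2 := by
    rw [pow_two, show a * (a * b * (a * b)) = a * a * b * a * b by group, sq hD ha, one_mul]
  have hinv : (a * b) ^ 2 = (b * a) ^ 2 := by
    have e : ((a * b) ^ 2)⁻¹ = (a * b) ^ 2 := inv hD hc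
    rw [← inv_pow, mul_inv_rev, inv hD ha, inv hD hb] at e
    exact e.symm
  have hca : Commute a ((a * b) ^ 2) := by
    show a * (a * b) ^ 2 = (a * b) ^ 2 * a
    conv_rhs => rw [hinv]
    rw [← hbab, pow_two, show b * a * (b * a) * a = b * a * b * (a * a) by group, sq hD ha, mul_one]
  refine ⟨hc, hca, ?_, hbab, ha, hc, hca, hbab ▸ conj hD ha hb⟩
  show b * (a * b) ^ 2 = (a * b) ^ 2 * b
  conv_lhs => rw [hinv]
  rw [pow_two, pow_two, show b * (b * a * (b * a)) = b * b * a * b * a by group, sq hD hb, one_mul,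
    show a * b * (a * b) * b = a * b * a * (b * b) by group, sq hD hb, mul_one]

/-- A product of two members of `D` is not `z g` with an involution `z` commuting with `g ≠ 1` of odd
order. -/
theorem not_mul_eq_invol_mul_odd {u v z g : G} (hu : u ∈ D) (hv : v ∈ D) (hz : orderOf z = 2)
    (hc : Commute z g) (hg : g ≠ 1) (hodd : Odd (orderOf g)) : u * v ≠ z * g := by
  intro e
  have hco : (orderOf z).Coprime (orderOf g) := by rw [hz]; exact hodd.coprime_two_left
  have ho := hc.orderOf_mul_eq_mul_orderOf_of_coprime hco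
  rw [hz, ← e] at ho
  rcases hD.pair u hu v hv with h | h | ⟨h, -⟩
  · have h2 := orderOf_dvd_of_pow_eq_one ((sq_mul_eq_one_iff hD hu hv).2 h)
    rw [ho] at h2
    have : orderOf g ∣ 1 := Nat.dvd_of_mul_dvd_mul_left (by norm_num : 0 < 2) (by simpa using h2)
    exact hg (orderOf_eq_one_iff.1 (Nat.dvd_one.1 this))
  · rw [ho] at h
    exact absurd h (Nat.not_odd_iff_even.2 (even_two_mul _))
  · rw [ho] at h
    obtain ⟨k, hk⟩ := hodd
    omega

/-- An odd partner of `a` commutes with no other point of a line through `a`. -/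
theorem line_not_commute {a p x : G} (h : Line D a p) (hx : x ∈ D) (hxa : x ≠ a)
    (hodd : Odd (orderOf (x * a))) : x * p ≠ p * x := by
  intro e
  refine not_mul_eq_invol_mul_odd hD hx h.mul_mem (hD.orderOf_eq p h.mem') (g := x * a)
    ((Commute.mul_left (show Commute x p from e) h.comm).symm) ?_ hodd ?_
  · intro h'
    rw [mul_eq_one_iff_eq_inv, inv hD h.mem] at h'
    exact hxa h'
  · rw [← mul_assoc]
    exact ((Commute.mul_left (show Commute x p from e) h.comm)).eq

/-- An odd partner of `a` is an odd partner of some other point of each line through `a`. -/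
theorem line_odd_or {a p x : G} (h : Line D a p) (hx : x ∈ D) (hxa : x ≠ a)
    (hodd : Odd (orderOf (x * a))) :
    Odd (orderOf (x * p)) ∨ Odd (orderOf (x * (a * p))) := by
  by_contra hno
  push Not at hno
  set c := a * p with hc
  have hcD : c ∈ D := h.mul_mem
  have hl : Line D p c := by
    refine ⟨h.mem', hcD, h.comm.symm.mul_right (Commute.refl p), ?_⟩
    rw [hc, h.comm.eq, ← mul_assoc, sq hD h.mem', one_mul]
    exact h.mem
  have hxp := four_of hD hx h.mem' (line_not_commute hD h hx hxa hodd) hno.1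
  have hxc := four_of hD hx hcD (line_not_commute hD (line_third hD h) hx hxa hodd) hno.2
  set p₁ := x * p * x with hp₁
  set c₁ := x * c * x with hc₁
  have hp₁D := conj hD h.mem' hx
  have hc₁D := conj hD hcD hx
  have hpp₁ : Commute p p₁ := by
    have h4 := four hD hx h.mem' hxp
    show p * p₁ = p₁ * p
    have e := (sq_mul_eq_one_iff hD hp₁D h.mem').1
      (by show (x * p * x * p) ^ 2 = 1
          rw [show x * p * x * p = (x * p) ^ 2 by rw [pow_two]; group, pow_two]
          exact sq hD h4.1)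
    exact e.symm
  have hcc₁ : Commute c c₁ := by
    have h4 := four hD hx hcD hxc
    show c * c₁ = c₁ * c
    have e := (sq_mul_eq_one_iff hD hc₁D hcD).1
      (by show (x * c * x * c) ^ 2 = 1
          rw [show x * c * x * c = (x * c) ^ 2 by rw [pow_two]; group, pow_two]
          exact sq hD h4.1)
    exact e.symm
  have hp₁c₁ : Commute p₁ c₁ := by
    show p₁ * c₁ = c₁ * p₁
    rw [hp₁, hc₁, show x * p * x * (x * c * x) = x * p * (x * x) * c * x by group, sq hD hx, mul_one,
      show x * c * x * (x * p * x) = x * c * (x * x) * p * x by group, sq hD hx, mul_one,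
      mul_assoc x p c, mul_assoc x c p, hl.comm.eq]
  have hpc₁ : (p * c₁) ^ 4 = 1 := by
    rcases hD.pair p h.mem' c₁ hc₁D with e | e | e
    · rw [show (4 : ℕ) = 2 * 2 by norm_num, pow_mul, (sq_mul_eq_one_iff hD h.mem' hc₁D).2 e, one_pow]
    · by_cases hpc : p = c₁
      · rw [← hpc, sq hD h.mem', one_pow]
      · exfalso
        have hpc' : p * c₁ ≠ 1 := fun h' => hpc (by
          rw [mul_eq_one_iff_eq_inv, inv hD hc₁D] at h'; exact h')
        refine not_mul_eq_invol_mul_odd hD h.mem' (u := p) (v := p₁ * c₁) ?_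
          (hD.orderOf_eq p₁ hp₁D) (g := p * c₁) ((hpp₁.symm).mul_right hp₁c₁) hpc' e ?_
        · rw [hp₁, hc₁, show x * p * x * (x * c * x) = x * p * (x * x) * c * x by group, sq hD hx, mul_one,
            mul_assoc x p c]
          exact conj hD hl.mul_mem hx
        · rw [← mul_assoc, hpp₁.eq, mul_assoc]
    · rw [← e.1]; exact pow_orderOf_eq_one _
  have hcp₁ : (c * p₁) ^ 4 = 1 := by
    have e : c * p₁ = x * (p * c₁)⁻¹ * x⁻¹ := by
      rw [mul_inv_rev, inv hD hc₁D, inv hD h.mem', inv hD hx]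
      show c * (x * p * x) = x * (x * c * x * p) * x
      rw [show x * (x * c * x * p) * x = (x * x) * c * x * p * x by group, sq hD hx, one_mul]
      group
    rw [e, conj_pow, inv_pow, hpc₁, inv_one, mul_one, mul_inv_cancel]
  have hax : (x * a * x) * a = (p₁ * c₁) * (p * c) := by
    have e : a = p * c := by rw [hc, ← mul_assoc, ← h.comm.eq, mul_assoc, sq hD h.mem', mul_one]
    rw [hp₁, hc₁, show x * p * x * (x * c * x) = x * p * (x * x) * c * x by group, sq hD hx, mul_one]
    conv_lhs => rw [e]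
    group
  have hcomm : Commute (p₁ * c) (c₁ * p) :=
    (hp₁c₁.mul_right hpp₁.symm).mul_left (hcc₁.mul_right hl.comm.symm)
  have hsplit : (p₁ * c₁) * (p * c) = (p₁ * c) * (c₁ * p) := by
    rw [hl.comm.eq, show p₁ * c₁ * (c * p) = p₁ * (c₁ * c) * p by group, ← hcc₁.eq]
    group
  have h4' : ((x * a) ^ 2) ^ 4 = 1 := by
    rw [pow_two, show x * a * (x * a) = x * a * x * a by group, hax, hsplit, hcomm.mul_pow]
    have e1 : (p₁ * c) ^ 4 = 1 := by
      rw [show p₁ * c = c⁻¹ * (c * p₁) * c by group, show c⁻¹ * (c * p₁) * c = c⁻¹ * (c * p₁) * c⁻¹⁻¹ by group,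
        conj_pow, hcp₁]
      group
    have e2 : (c₁ * p) ^ 4 = 1 := by
      rw [show c₁ * p = (p * c₁)⁻¹ by rw [mul_inv_rev, inv hD hc₁D, inv hD h.mem'], inv_pow, hpc₁,
        inv_one]
    rw [e1, e2, one_mul]
  rw [← pow_mul] at h4'
  have hd := orderOf_dvd_of_pow_eq_one h4'
  have : orderOf (x * a) = 1 := by
    have hco : (orderOf (x * a)).Coprime 8 := by
      rw [show (8 : ℕ) = 2 ^ 3 by norm_num]
      exact Nat.Coprime.pow_right _ hodd.coprime_two_right
    exact Nat.dvd_one.1 (hco.gcd_eq_one ▸ Nat.dvd_gcd dvd_rfl hd)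
  rw [orderOf_eq_one_iff, mul_eq_one_iff_eq_inv, inv hD h.mem] at this
  exact hxa this

end

/-! ### The key configuration -/

/-- Conjugates of `a` by powers of `g`. -/
def orbEl (g a : G) (i : ℕ) : G := g ^ i * a * (g ^ i)⁻¹

/-- The product of the first `m` conjugates. -/
def nrm (g u : G) : ℕ → G
  | 0 => 1
  | m + 1 => nrm g u m * orbEl g u m

theorem nrm_pow (g u : G) : ∀ m, (u * g) ^ m = nrm g u m * g ^ m
  | 0 => by simp [nrm]
  | m + 1 => by rw [pow_succ, nrm_pow g u m, nrm, orbEl, pow_succ]; group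

theorem nrm_conj (g u h : G) (hh : Commute h g) : ∀ m, nrm g (h * u * h⁻¹) m = h * nrm g u m * h⁻¹
  | 0 => by simp [nrm]
  | m + 1 => by
    have e : orbEl g (h * u * h⁻¹) m = h * orbEl g u m * h⁻¹ := by
      rw [orbEl, orbEl, show g ^ m * (h * u * h⁻¹) * (g ^ m)⁻¹ = (g ^ m * h) * u * (g ^ m * h)⁻¹ by group,
        ← (hh.pow_right m).eq]
      group
    rw [nrm, nrm, nrm_conj g u h hh m, e]; group

theorem nrm_fixed (g u : G) (h : Commute g u) : ∀ m, nrm g u m = u ^ m
  | 0 => by simp [nrm]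
  | m + 1 => by
    rw [nrm, nrm_fixed g u h m, orbEl, (h.pow_left m).eq, pow_succ]; group

theorem orbEl_mem {A : Subgroup G} {g : G} (hg : ∀ u ∈ A, g * u * g⁻¹ ∈ A) {u : G} (hu : u ∈ A) :
    ∀ i, orbEl g u i ∈ A
  | 0 => by simpa [orbEl] using hu
  | i + 1 => by
    have := hg _ (orbEl_mem hg hu i)
    rw [orbEl] at this ⊢
    convert this using 1
    rw [pow_succ']; group

theorem nrm_mem {A : Subgroup G} {g : G} (hg : ∀ u ∈ A, g * u * g⁻¹ ∈ A) {u : G} (hu : u ∈ A) :
    ∀ m, nrm g u m ∈ A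
  | 0 => one_mem A
  | m + 1 => mul_mem (nrm_mem hg hu m) (orbEl_mem hg hu m)

theorem nrm_mul {A : Subgroup G} {g : G} (hg : ∀ u ∈ A, g * u * g⁻¹ ∈ A)
    (hA : ∀ u ∈ A, ∀ v ∈ A, Commute u v) {u v : G} (hu : u ∈ A) (hv : v ∈ A) :
    ∀ m, nrm g (u * v) m = nrm g u m * nrm g v m
  | 0 => by simp [nrm]
  | m + 1 => by
    have e : orbEl g (u * v) m = orbEl g u m * orbEl g v m := by simp only [orbEl]; group
    rw [nrm, nrm, nrm, nrm_mul hg hA hu hv m, e,
      mul_assoc, ← mul_assoc (nrm g v m), (hA _ (nrm_mem hg hv m) _ (orbEl_mem hg hu m)).eq]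
    group

/-- `Φ(u) = u^g u^(g⁻¹)`. -/
def phi (g u : G) : G := (g * u * g⁻¹) * (g⁻¹ * u * g)

include hD in
/-- For a line `{a, c, ac}` and `x` an odd partner of `c` with `ax` of order four, some member of
`D` commutes with `a` and moves `c` to `ca`. -/
theorem exists_shift [Finite G] {a c x : G} (hL : Line D a c) (hx : x ∈ D) (hxc : x ≠ c)
    (hodd : Odd (orderOf (x * c))) (hax : orderOf (a * x) = 4) :
    ∃ d ∈ D, Commute d a ∧ d * c * d = c * a ∧ orderOf (c * d) = 4 ∧ (c * d) ^ 2 = a ∧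
      ∃ k ∈ D, Line D k c ∧ orderOf (k * x) = 4 ∧ d = (k * x) ^ 2 ∧ a = (c * d) ^ 2 := by
  classical
  set g := x * c with hg
  set n := orderOf g with hn
  have hgn : g ^ n = 1 := pow_orderOf_eq_one g
  have hn0 : 0 < n := orderOf_pos g
  obtain ⟨m, hm⟩ := hodd
  have hcg : c * g * c⁻¹ = g⁻¹ := by
    rw [hg, mul_inv_rev, inv hD hx, inv hD hL.mem', show c * (x * c) * c = c * x * (c * c) by group,
      sq hD hL.mem', mul_one]
  -- conjugation by `c` reflects the orbit of `a`
  have hcorb : ∀ i, c * orbEl g a i * c⁻¹ = (g⁻¹) ^ i * a * ((g⁻¹) ^ i)⁻¹ := fun i => by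
    rw [← hcg, conj_pow, orbEl]
    have : c⁻¹ * a * c = a := by rw [mul_assoc, hL.comm.eq, inv_mul_cancel_left]
    conv_rhs => rw [show c * g ^ i * c⁻¹ * a * (c * g ^ i * c⁻¹)⁻¹ = c * g ^ i * (c⁻¹ * a * c) * (g ^ i)⁻¹ * c⁻¹ by group,
      this]
    group
  set o := orbEl g a with ho
  have ho1 : o 1 = x * a * x := by
    rw [ho, orbEl, pow_one, hg, mul_inv_rev, inv hD hx, inv hD hL.mem',
      show x * c * a * (c * x) = x * (c * a) * c * x by group, ← hL.comm.eq,
      show x * (a * c) * c * x = x * a * (c * c) * x by group, sq hD hL.mem', mul_one]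
  have hoD : ∀ i, o i ∈ D := fun i => hD.conj_mem a hL.mem _
  have hshift : ∀ i j, o (i + j) = g ^ i * o j * (g ^ i)⁻¹ := fun i j => by
    rw [ho]; simp only [orbEl]; rw [pow_add]; group
  have h4ax := four hD hL.mem hx hax
  have hw : Line D a (o 1) := by
    have e : x * a * x = a * (a * x) ^ 2 := h4ax.2.2.2.1
    rw [ho1, e]
    exact line_third hD h4ax.2.2.2.2
  -- all conjugates commute
  have hcomm : ∀ j, Commute a (o j) := by
    intro j
    induction j using Nat.strongRecOn with
    | ind j ih => ?_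
    rcases Nat.lt_or_ge j 2 with hj | hj
    · interval_cases j
      · show Commute a (orbEl g a 0); simp [orbEl, Commute, SemiconjBy]
      · exact hw.comm
    set r := g ^ j * c with hr
    have hrD : r ∈ D := by
      have hgi : g ^ ((m + 1) * j) * g ^ ((m + 1) * j) = g ^ j := by
        rw [← pow_add, show (m + 1) * j + (m + 1) * j = n * j + j by rw [hm]; ring, pow_add,
          pow_mul, hgn, one_pow, one_mul]
      have e : g ^ ((m + 1) * j) * c * (g ^ ((m + 1) * j))⁻¹ = r := by
        rw [← inv_pow, ← hcg, conj_pow, inv hD hL.mem', hr,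
          show g ^ ((m + 1) * j) * c * (c * g ^ ((m + 1) * j) * c) =
            g ^ ((m + 1) * j) * (c * c) * g ^ ((m + 1) * j) * c by group,
          sq hD hL.mem', mul_one, hgi]
      rw [← e]; exact hD.conj_mem c hL.mem' _
    have hrinv : r⁻¹ = r := inv hD hrD
    have hrar : r * a * r = o j := by
      have e : r * a * r⁻¹ = o j := by
        rw [hr, ho, orbEl, show g ^ j * c * a * (g ^ j * c)⁻¹ = g ^ j * (c * a * c⁻¹) * (g ^ j)⁻¹ by group,
          ← hL.comm.eq, mul_inv_cancel_right]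
      rwa [hrinv] at e
    rcases hD.pair a hL.mem r hrD with e | e | ⟨e, -⟩
    · rw [← hrar, ← e, mul_assoc, sq hD hrD, mul_one]
    · by_cases har : a = r
      · rw [← hrar, ← har, sq hD hL.mem, one_mul]
      exfalso
      have hcj : ∀ i j' : ℕ, i + j' = j → (Commute (o i) (o j) ↔ Commute a (o j')) := fun i j' h => by
        have hi0 : o i = g ^ i * a * (g ^ i)⁻¹ := rfl
        rw [← h, hshift i j', hi0, ← MulAut.conj_apply, ← MulAut.conj_apply,
          commute_iff_eq, ← map_mul, ← map_mul, (MulAut.conj (g ^ i)).injective.eq_iff]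
        rfl
      have c1 : Commute a (o 1) := hw.comm
      have c2 : Commute a (o (j - 1)) := ih _ (by omega)
      have c3 : Commute (o 1) (o j) := (hcj 1 (j - 1) (by omega)).2 c2
      have c4 : Commute (o (j - 1)) (o j) := (hcj (j - 1) 1 (by omega)).2 c1
      have c5 : Commute (o 1) (o (j - 1)) := by
        have hi0 : o 1 = g ^ 1 * a * (g ^ 1)⁻¹ := rfl
        have h5 : Commute a (o (j - 2)) := ih _ (by omega)
        rw [show j - 1 = 1 + (j - 2) by omega, hshift 1 (j - 2), hi0, ← MulAut.conj_apply,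
          ← MulAut.conj_apply, commute_iff_eq, ← map_mul, ← map_mul, h5.eq]
      have hodd' : Odd (orderOf (r * a)) := by
        rw [show r * a = (a * r)⁻¹ by rw [mul_inv_rev, inv hD hL.mem, hrinv], orderOf_inv]; exact e
      by_cases h1 : o 1 = o (j - 1)
      · refine line_not_commute hD hw hrD (Ne.symm har) hodd' ?_
        have hro : r * o 1 * r⁻¹ = o 1 := by
          conv_rhs => rw [h1]
          rw [hr, show g ^ j * c * o 1 * (g ^ j * c)⁻¹ = g ^ j * (c * o 1 * c⁻¹) * (g ^ j)⁻¹ by group]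
          rw [hcorb 1, pow_one, ho, orbEl, ← Nat.sub_add_cancel (show 1 ≤ j by omega), pow_add, pow_one]
          simp only [Nat.add_sub_cancel]
          group
        exact mul_inv_eq_iff_eq_mul.1 hro
      · have hz : orderOf (o 1 * o (j - 1)) = 2 := by
          refine Invol.orderOf_eq_two ?_ ?_
          · rw [mul_assoc, ← mul_assoc (o (j - 1)), ← c5.eq, mul_assoc, sq hD (hoD _), mul_one, sq hD (hoD 1)]
          · intro h'; rw [mul_eq_one_iff_eq_inv, inv hD (hoD _)] at h'; exact h1 h'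
        have hl2 : o (j - 1) * o j ∈ D := by
          have := (line_conj hD hw (g ^ (j - 1))).mul_mem
          rw [show g ^ (j - 1) * o 1 * (g ^ (j - 1))⁻¹ = o j by
            rw [← hshift]; congr 1; omega] at this
          exact this
        refine not_mul_eq_invol_mul_odd hD hw.mul_mem hl2 hz (g := a * o j) ?_ ?_ ?_ ?_
        · exact (Commute.mul_left (c1.symm.mul_right c3) (c2.symm.mul_right c4))
        · rw [← hrar, show a * (r * a * r) = (a * r) ^ 2 by rw [pow_two]; group]
          intro h'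
          have := orderOf_dvd_of_pow_eq_one h'
          rcases (Nat.dvd_prime Nat.prime_two).1 this with h'' | h''
          · rw [orderOf_eq_one_iff, mul_eq_one_iff_eq_inv, hrinv] at h''; exact har h''
          · rw [h''] at e; exact absurd e (by decide)
        · rw [← hrar, show a * (r * a * r) = (a * r) ^ 2 by rw [pow_two]; group]
          exact e.of_dvd_nat (orderOf_pow_dvd 2)
        · show a * o 1 * (o (j - 1) * o j) = o 1 * o (j - 1) * (a * o j)
          rw [← mul_assoc (o 1 * o (j - 1)) a, ← (c1.mul_right c2).eq]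
          group
    · have h4 := four hD hL.mem hrD e
      rw [← hrar, h4.2.2.2.1]
      exact (Commute.refl a).mul_right h4.2.1
  -- the abelian group generated by the orbit
  set A := Subgroup.closure (Set.range o) with hA
  have hgen : ∀ i j, Commute (o i) (o j) := by
    intro i j
    have aux : ∀ i l, Commute (o i) (o (i + l)) := fun i l => by
      rw [hshift i l, show o i = g ^ i * a * (g ^ i)⁻¹ from rfl, ← MulAut.conj_apply,
        ← MulAut.conj_apply, commute_iff_eq, ← map_mul, ← map_mul, (hcomm l).eq]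
    rcases Nat.le_total i j with hij | hij
    · obtain ⟨l, rfl⟩ := Nat.exists_eq_add_of_le hij; exact aux i l
    · obtain ⟨l, rfl⟩ := Nat.exists_eq_add_of_le hij; exact (aux j l).symm
  have hAab : ∀ u ∈ A, ∀ v ∈ A, Commute u v := by
    intro u hu v hv
    have : IsMulCommutative A := Subgroup.isMulCommutative_closure (by
      rintro _ ⟨i, rfl⟩ _ ⟨j, rfl⟩; exact hgen i j)
    exact congrArg Subtype.val (this.is_comm.comm (⟨u, hu⟩ : A) ⟨v, hv⟩)
  have hAsq : ∀ u ∈ A, u * u = 1 := by
    intro u hu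
    induction hu using Subgroup.closure_induction with
    | mem v hv => obtain ⟨i, rfl⟩ := hv; exact sq hD (hoD i)
    | one => exact one_mul 1
    | mul v w hv hw ihv ihw => rw [(hAab v hv w hw).symm.mul_mul_mul_comm, ihv, ihw, one_mul]
    | inv v hv ihv => rw [← mul_inv_rev, ihv, inv_one]
  have haA : a ∈ A := Subgroup.subset_closure ⟨0, by simp [ho, orbEl]⟩
  have hclose : ∀ t : G, (∀ i, t * o i * t⁻¹ ∈ A) → ∀ u ∈ A, t * u * t⁻¹ ∈ A := by
    intro t ht u hu
    induction hu using Subgroup.closure_induction with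
    | mem v hv => obtain ⟨i, rfl⟩ := hv; exact ht i
    | one => rw [mul_one, mul_inv_cancel]; exact one_mem A
    | mul v w _ _ ihv ihw => rw [← conj_mul]; exact mul_mem ihv ihw
    | inv v _ ihv => rw [← conj_inv]; exact inv_mem ihv
  have hgA : ∀ u ∈ A, g * u * g⁻¹ ∈ A := hclose g fun i => by
    have e : g * o i * g⁻¹ = o (1 + i) := by rw [hshift 1 i, pow_one]
    rw [e]; exact Subgroup.subset_closure ⟨_, rfl⟩
  have hgA' : ∀ u ∈ A, g⁻¹ * u * g ∈ A := by
    intro u hu
    have := orbEl_mem hgA hu (n - 1)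
    rw [orbEl] at this
    have e : g ^ (n - 1) = g⁻¹ := by
      rw [eq_inv_iff_mul_eq_one, ← pow_succ, Nat.sub_add_cancel hn0, hgn]
    rwa [e, inv_inv] at this
  -- the norm of `a` is trivial
  have hN : nrm g a n = 1 := by
    have e1 : (a * g) ^ n = nrm g a n := by rw [nrm_pow, hgn, mul_one]
    have h2n : (a * g) ^ (2 * n) = 1 := by
      rw [mul_comm, pow_mul, e1, pow_two]; exact hAsq _ (nrm_mem hgA haA n)
    have e2 : c * (a * g) * c⁻¹ = (c * a) * x := by
      rw [hg, inv hD hL.mem', show c * (a * (x * c)) * c = c * a * x * (c * c) by group, sq hD hL.mem',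
        mul_one]
    have hord : orderOf (c * a * x) = orderOf (a * g) := by rw [← e2, Invol.orderOf_conj_eq]
    have hcaD : c * a ∈ D := (line_symm hD hL).mul_mem
    rcases hD.pair _ hcaD x hx with e | e | ⟨e, -⟩
    · exact absurd e.symm (line_not_commute hD (line_third hD (line_symm hD hL)) hx hxc ⟨m, hm⟩)
    · rw [hord] at e
      have hd := orderOf_dvd_of_pow_eq_one h2n
      have := (Nat.Coprime.dvd_of_dvd_mul_left e.coprime_two_right hd)
      rw [← e1]; exact orderOf_dvd_iff_pow_eq_one.1 this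
    · exfalso
      rw [hord] at e
      have hd := orderOf_dvd_of_pow_eq_one h2n
      rw [e, hm] at hd
      omega
  -- `Φ` permutes the elements of trivial norm
  let S := {u : G // u ∈ A ∧ nrm g u n = 1}
  have hphiA : ∀ u ∈ A, phi g u ∈ A := fun u hu => mul_mem (hgA u hu) (hgA' u hu)
  have hphiN : ∀ u ∈ A, nrm g u n = 1 → nrm g (phi g u) n = 1 := by
    intro u hu hu1
    rw [phi, nrm_mul hgA hAab (hgA u hu) (hgA' u hu), nrm_conj g u g (Commute.refl g),
      show g⁻¹ * u * g = g⁻¹ * u * g⁻¹⁻¹ by rw [inv_inv], nrm_conj g u g⁻¹ (Commute.inv_left (Commute.refl g)),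
      hu1]
    group
  let F : S → S := fun u => ⟨phi g u.1, hphiA _ u.2.1, hphiN _ u.2.1 u.2.2⟩
  have hker : ∀ u ∈ A, nrm g u n = 1 → phi g u = 1 → u = 1 := by
    intro u hu hu1 h
    have hinv : ∀ v ∈ A, v⁻¹ = v := fun v hv => inv_eq_of_mul_eq_one_right (hAsq v hv)
    rw [phi, mul_eq_one_iff_eq_inv, hinv _ (hgA' u hu)] at h
    have h2 : Commute (g ^ 2) u := by
      show g ^ 2 * u = u * g ^ 2
      calc g ^ 2 * u = g * (g * u * g⁻¹) * g := by rw [pow_two]; group
        _ = g * (g⁻¹ * u * g) * g := by rw [h]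
        _ = u * g ^ 2 := by rw [pow_two]; group
    have h1 : Commute g u := by
      have := h2.pow_left (m + 1)
      rwa [← pow_mul, show 2 * (m + 1) = n + 1 by rw [hm]; ring, pow_add, hgn, one_mul, pow_one]
        at this
    rw [nrm_fixed g u h1 n] at hu1
    replace hu1 : u ^ (2 * m + 1) = 1 := hm ▸ hu1
    rw [pow_succ, pow_mul, pow_two, hAsq u hu, one_pow, one_mul] at hu1
    exact hu1
  have hFinj : Function.Injective F := by
    intro u v h
    have h' : phi g u.1 = phi g v.1 := congrArg Subtype.val h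
    apply Subtype.ext
    have hv' : v.1⁻¹ = v.1 := inv_eq_of_mul_eq_one_right (hAsq _ v.2.1)
    have h0 : phi g (u.1 * v.1) = 1 := by
      rw [show phi g (u.1 * v.1) = (g * u.1 * g⁻¹) * ((g * v.1 * g⁻¹) * (g⁻¹ * u.1 * g)) * (g⁻¹ * v.1 * g) by
        simp only [phi]; group]
      rw [(hAab _ (hgA _ v.2.1) _ (hgA' _ u.2.1)).eq]
      rw [show g * u.1 * g⁻¹ * (g⁻¹ * u.1 * g * (g * v.1 * g⁻¹)) * (g⁻¹ * v.1 * g) = phi g u.1 * phi g v.1 by
        simp only [phi]; group, h']
      exact hAsq _ (hphiA _ v.2.1)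
    have hone := hker _ (mul_mem u.2.1 v.2.1)
      (by rw [nrm_mul hgA hAab u.2.1 v.2.1, u.2.2, v.2.2, one_mul]) h0
    rw [mul_eq_one_iff_eq_inv, hv'] at hone
    exact hone
  -- one step
  have step : ∀ k, k ∈ A → nrm g k n = 1 → Line D k c → orderOf (k * x) = 4 →
      (k * x) ^ 2 ∈ D ∧ Commute k ((k * x) ^ 2) ∧ orderOf (c * (k * x) ^ 2) = 4 ∧
        (c * (k * x) ^ 2) ^ 2 = phi g k ∧
        Line D (phi g k) c ∧ orderOf (phi g k * x) = 4 := by
    intro k hk hk1 hLk hkx
    set y := (k * x) ^ 2 with hy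
    have h4 := four hD hLk.mem hx hkx
    have hgk : g * k * g⁻¹ = x * k * x := by
      rw [hg, mul_inv_rev, inv hD hx, inv hD hL.mem', show x * c * k * (c * x) = x * (c * k) * c * x by group,
        ← hLk.comm.eq, show x * (k * c) * c * x = x * k * (c * c) * x by group, sq hD hL.mem', mul_one]
    have hgk' : g⁻¹ * k * g = c * (g * k * g⁻¹) * c := by
      rw [hgk, hg, mul_inv_rev, inv hD hx, inv hD hL.mem']; group
    have hphi : (c * y) ^ 2 = phi g k := by
      have hy' : y = k * (x * k * x) := by rw [hy, pow_two]; group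
      have hkc : c * k = k * c := hLk.comm.eq.symm
      have hk1' : Commute k (c * (g * k * g⁻¹) * c) := hgk' ▸ hAab _ hk _ (hgA' k hk)
      rw [phi, hgk', pow_two, hy', hgk]
      calc c * (k * (x * k * x)) * (c * (k * (x * k * x)))
          = (c * k) * (x * k * x) * (c * k) * (x * k * x) := by group
        _ = (k * c) * (x * k * x) * (c * k) * (x * k * x) := by rw [hkc]
        _ = k * (c * (x * k * x) * c) * k * (x * k * x) := by group
        _ = (c * (x * k * x) * c) * (k * k) * (x * k * x) := by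
            rw [(hgk ▸ hk1' : Commute k (c * (x * k * x) * c)).eq]; group
        _ = (x * k * x) * (c * (x * k * x) * c) := by
            rw [sq hD hLk.mem, mul_one]
            exact (hgk ▸ hgk' ▸ hAab _ (hgA' k hk) _ (hgA k hk) :
              Commute (c * (x * k * x) * c) (x * k * x)).eq
    have hne : phi g k ≠ 1 := fun h => ne_one hD hLk.mem (hker k hk hk1 h)
    have hcy : orderOf (c * y) = 4 := by
      refine four_of hD hL.mem' h4.1 ?_ ?_
      · intro e; exact hne (hphi ▸ (sq_mul_eq_one_iff hD hL.mem' h4.1).2 e)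
      · intro e
        have h2 : orderOf ((c * y) ^ 2) = 2 := by
          rw [hphi]; exact Invol.orderOf_eq_two (hAsq _ (hphiA k hk)) hne
        have := e.of_dvd_nat (h2 ▸ orderOf_pow_dvd 2)
        exact absurd this (by decide)
    have h4' := four hD hL.mem' h4.1 hcy
    rw [hphi] at h4'
    have hL' : Line D (phi g k) c := line_symm hD h4'.2.2.2.2
    refine ⟨h4.1, h4.2.1, hcy, hphi, hL', ?_⟩
    refine four_of hD hL'.mem hx (fun e => line_not_commute hD (line_symm hD hL') hx hxc ⟨m, hm⟩ e.symm) ?_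
    intro e
    set k' := phi g k with hk'
    have hxk'x : x * k' * x ∈ A := by
      have e' : x * k' * x = g * k' * g⁻¹ := by
        rw [hg, mul_inv_rev, inv hD hx, inv hD hL.mem', show x * c * k' * (c * x) = x * (c * k') * c * x by group,
          ← hL'.comm.eq, show x * (k' * c) * c * x = x * k' * (c * c) * x by group, sq hD hL.mem', mul_one]
      rw [e']; exact hgA _ (hphiA k hk)
    have h4k : (k' * x) ^ 4 = 1 := by
      rw [show (4 : ℕ) = 2 * 2 by norm_num, pow_mul, pow_two (k' * x),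
        show k' * x * (k' * x) = k' * (x * k' * x) by group, pow_two]
      exact hAsq _ (mul_mem (hphiA k hk) hxk'x)
    have hco : (orderOf (k' * x)).Coprime 4 := by
      rw [show (4 : ℕ) = 2 ^ 2 by norm_num]; exact Nat.Coprime.pow_right _ e.coprime_two_right
    have h1 := Nat.dvd_one.1 (hco.gcd_eq_one ▸ Nat.dvd_gcd dvd_rfl (orderOf_dvd_of_pow_eq_one h4k))
    rw [orderOf_eq_one_iff, mul_eq_one_iff_eq_inv, inv hD hx] at h1
    exact line_not_commute hD (line_symm hD hL') hx hxc ⟨m, hm⟩ (by rw [h1])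
  -- iterate
  let s₀ : S := ⟨a, haA, hN⟩
  have hgood : ∀ i, Line D (F^[i] s₀).1 c ∧ orderOf ((F^[i] s₀).1 * x) = 4 := by
    intro i
    induction i with
    | zero => exact ⟨hL, hax⟩
    | succ i ih =>
      rw [Function.iterate_succ_apply']
      have h := step _ (F^[i] s₀).2.1 (F^[i] s₀).2.2 ih.1 ih.2
      exact ⟨h.2.2.2.2.1, h.2.2.2.2.2⟩
  have : Finite S := Subtype.finite
  obtain ⟨N, hN0, hNa⟩ : ∃ N, 0 < N ∧ F^[N] s₀ = s₀ := by
    obtain ⟨N, hN0, hNa⟩ := hFinj.mem_periodicPts s₀
    exact ⟨N, hN0, hNa⟩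
  obtain ⟨N, rfl⟩ := Nat.exists_eq_succ_of_ne_zero (by omega : N ≠ 0)
  rw [Function.iterate_succ_apply'] at hNa
  have hk : phi g (F^[N] s₀).1 = a := congrArg Subtype.val hNa
  set k := F^[N] s₀
  obtain ⟨hy, hky, hcy, hsq, -, -⟩ := step _ k.2.1 k.2.2 (hgood N).1 (hgood N).2
  rw [hk] at hsq
  set d := (k.1 * x) ^ 2
  have h4 := four hD hL.mem' hy hcy
  rw [hsq] at h4
  exact ⟨d, hy, h4.2.2.1, h4.2.2.2.1, hcy, hsq, k.1, (hgood N).1.mem, (hgood N).1, (hgood N).2, rfl,
    hsq.symm⟩

end CfsgLib.RootInv
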