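import Cfsg.Agent.RootSubgroups.InvolutionClass

set_option autoImplicit false

/-!
Isolated members and components of the odd graph; odd transpositions and the 2-core.
-/

namespace CfsgLib.RootInv

open Cfsg

variable {G : Type*} [Group G] [Finite G] {D : Set G} (hD : IsRootInvolutionSet D)

theorem closure_normal {W : Set G} (h : ∀ w ∈ W, ∀ g : G, g * w * g⁻¹ ∈ W) :
    (Subgroup.closure W).Normal := ⟨fun x hx g => by
  induction hx using Subgroup.closure_induction with
  | mem v hv => exact Subgroup.subset_closure (h v hv g)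
  | one => rw [mul_one, mul_inv_cancel]; exact one_mem _
  | mul v w _ _ ihv ihw => rw [← conj_mul]; exact mul_mem ihv ihw
  | inv v _ ihv => rw [← conj_inv]; exact inv_mem ihv⟩

theorem pCore_isPGroup : IsPGroup 2 (Cfsg.pCore 2 G) := by
  have : Fact (Nat.Prime 2) := ⟨Nat.prime_two⟩
  obtain ⟨S⟩ : Nonempty (Sylow 2 G) := inferInstance
  refine S.isPGroup'.to_le (sSup_le fun N ⟨hN, hNp⟩ => ?_)
  obtain ⟨T, hT⟩ := hNp.exists_le_sylow
  obtain ⟨g, rfl⟩ := MulAction.exists_smul_eq G T S
  intro z hz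
  rw [Sylow.coe_subgroup_smul, Subgroup.mem_pointwise_smul_iff_inv_smul_mem]
  apply hT
  have := hN.conj_mem z hz g⁻¹
  simpa [MulAut.conj_symm_apply, mul_assoc] using this

omit [Finite G] in
theorem odd_pow_two_pow {g : G} (h : Odd (orderOf g)) {k : ℕ} (hk : g ^ 2 ^ k = 1) : g = 1 := by
  have hco : (orderOf g).Coprime (2 ^ k) := Nat.Coprime.pow_right _ h.coprime_two_right
  exact orderOf_eq_one_iff.1 (Nat.dvd_one.1 (hco.gcd_eq_one ▸ Nat.dvd_gcd dvd_rfl (orderOf_dvd_of_pow_eq_one hk)))

include hD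

omit [Finite G] in
theorem oddAdj_symm {a b : G} (h : OddAdj D a b) : OddAdj D b a :=
  ⟨h.2.1, h.1, h.2.2.1.symm, orderOf_mul_comm a b ▸ h.2.2.2⟩

omit [Finite G] in
theorem reach_symm {a b : G} (h : Relation.ReflTransGen (OddAdj D) a b) :
    Relation.ReflTransGen (OddAdj D) b a := by
  induction h with
  | refl => exact Relation.ReflTransGen.refl
  | tail _ h ih => exact Relation.ReflTransGen.trans (Relation.ReflTransGen.single (oddAdj_symm hD h)) ih

omit [Finite G] in
theorem reach_conj {a b : G} (g : G) (h : Relation.ReflTransGen (OddAdj D) a b) :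
    Relation.ReflTransGen (OddAdj D) (g * a * g⁻¹) (g * b * g⁻¹) := by
  induction h with
  | refl => exact Relation.ReflTransGen.refl
  | @tail u v _ h ih =>
    refine ih.tail ⟨hD.conj_mem u h.1 g, hD.conj_mem v h.2.1 g, fun e => h.2.2.1 (by simpa using e), ?_⟩
    rw [show g * u * g⁻¹ * (g * v * g⁻¹) = g * (u * v) * g⁻¹ by group, Invol.orderOf_conj_eq]
    exact h.2.2.2

omit [Finite G] in
theorem not_isolated {a : G} (ha : a ∈ D) (h : ¬ IsIsolatedElem (OddAdj D) D a) :
    ∃ x, OddAdj D x a := by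
  by_contra hno
  push Not at hno
  exact h ⟨ha, fun b => ⟨fun e => hno b (oddAdj_symm hD e), hno b⟩⟩

/-- On a line, the components of the non-isolated points coincide. -/
theorem reach_of_line {a p : G} (hl : Line D a p) (ha : ¬ IsIsolatedElem (OddAdj D) D a)
    (hp : ¬ IsIsolatedElem (OddAdj D) D p) : Relation.ReflTransGen (OddAdj D) a p := by
  obtain ⟨x, hx⟩ := not_isolated hD hl.mem ha
  obtain ⟨y, hy⟩ := not_isolated hD hl.mem' hp
  have hap : a * p = p * a := hl.comm.eq
  have hax : Relation.ReflTransGen (OddAdj D) a x := Relation.ReflTransGen.single (oddAdj_symm hD hx)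
  have hnx := line_not_commute hD hl hx.1 hx.2.2.1 hx.2.2.2
  rcases line_odd_or hD hl hx.1 hx.2.2.1 hx.2.2.2 with h | h
  · exact hax.tail ⟨hx.1, hl.mem', fun e => hnx (by rw [e]), h⟩
  · have hnx' := line_not_commute hD (line_third hD hl) hx.1 hx.2.2.1 hx.2.2.2
    have haq : Relation.ReflTransGen (OddAdj D) a (a * p) :=
      hax.tail ⟨hx.1, hl.mul_mem, fun e => hnx' (by rw [e]), h⟩
    have hpy : Relation.ReflTransGen (OddAdj D) p y := Relation.ReflTransGen.single (oddAdj_symm hD hy)
    have hl' := line_symm hD hl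
    rcases line_odd_or hD hl' hy.1 hy.2.2.1 hy.2.2.2 with h' | h'
    · refine reach_symm hD (hpy.tail ⟨hy.1, hl.mem, ?_, h'⟩)
      intro e; exact line_not_commute hD hl' hy.1 hy.2.2.1 hy.2.2.2 (by rw [e])
    · refine haq.trans (reach_symm hD (hpy.tail ⟨hy.1, hl.mul_mem, ?_, hap ▸ h'⟩))
      intro e
      exact line_not_commute hD (line_third hD hl') hy.1 hy.2.2.1 hy.2.2.2 (by rw [e, hap])

theorem isolated_mem_pCore {w : G} (hw : IsIsolatedElem (OddAdj D) D w)
    (hconj : ∀ w, IsIsolatedElem (OddAdj D) D w → ∀ g : G, IsIsolatedElem (OddAdj D) D (g * w * g⁻¹)) :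
    w ∈ Cfsg.pCore 2 G := by
  have : Fact (Nat.Prime 2) := ⟨Nat.prime_two⟩
  refine Invol.mem_pCore_of_pairs w fun g => ?_
  have hv := hconj w hw g
  set v := g * w * g⁻¹
  have h4 : (w * v) ^ 4 = 1 := by
    rcases hD.pair w hw.1 v hv.1 with h | h | h
    · rw [show (4 : ℕ) = 2 * 2 by norm_num, pow_mul, (sq_mul_eq_one_iff hD hw.1 hv.1).2 h, one_pow]
    · by_cases hne : w = v
      · rw [← hne, sq hD hw.1, one_pow]
      · exact absurd ⟨hw.1, hv.1, hne, h⟩ (hw.2 v).1
    · rw [← h.1]; exact pow_orderOf_eq_one _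
  intro ⟨z, hz⟩
  have hwo := hD.orderOf_eq w hw.1
  have hvo := hD.orderOf_eq v hv.1
  rcases (Invol.mem_closure_pair_iff hwo hvo).1 hz with ⟨k, hk⟩ | ⟨k, hk⟩
  · refine ⟨2, Subtype.ext ?_⟩
    show z ^ 2 ^ 2 = 1
    have hk' : z = (w * v) ^ k := hk
    rw [hk', show (2 : ℕ) ^ 2 = 4 by norm_num, ← zpow_natCast, ← zpow_mul, mul_comm, zpow_mul,
      zpow_natCast, h4, one_zpow]
  · refine ⟨1, Subtype.ext ?_⟩
    show z ^ 2 ^ 1 = 1
    have hk' : z = w * (w * v) ^ k := hk
    rw [hk', pow_one, pow_two]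
    exact Invol.mul_zpow_mul_self (Invol.mul_self_eq_one hwo) (Invol.conj_mul_inv hwo hvo) k

/-- The structure of the isolated members. -/
theorem isolated_main :
    (∀ w ∈ {w | IsIsolatedElem (OddAdj D) D w}, ∀ g : G, g * w * g⁻¹ ∈ {w | IsIsolatedElem (OddAdj D) D w}) ∧
    (Subgroup.closure {w | IsIsolatedElem (OddAdj D) D w}).Normal ∧
    IsPGroup 2 ↥(Subgroup.closure {w | IsIsolatedElem (OddAdj D) D w}) ∧
    (Subgroup.closure {w | IsIsolatedElem (OddAdj D) D w} : Set G) ∩ D = {w | IsIsolatedElem (OddAdj D) D w} ∧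
    (∀ a ∈ D, ∀ b ∈ D, (∃ a' ∈ elemComponentOf (OddAdj D) D a, a' ≠ a) →
      (∃ b' ∈ elemComponentOf (OddAdj D) D b, b' ≠ b) →
      elemComponentOf (OddAdj D) D a ≠ elemComponentOf (OddAdj D) D b →
        a * b * a⁻¹ * b⁻¹ ∈ Subgroup.closure {w | IsIsolatedElem (OddAdj D) D w}) ∧
    (∀ a ∈ D, (∃ a' ∈ elemComponentOf (OddAdj D) D a, a' ≠ a) →
      productPartners D a ⊆ elemComponentOf (OddAdj D) D a ∪ {w | IsIsolatedElem (OddAdj D) D w}) := by
  have hconj : ∀ w, IsIsolatedElem (OddAdj D) D w → ∀ g : G,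
      IsIsolatedElem (OddAdj D) D (g * w * g⁻¹) := by
    intro w hw g
    refine ⟨hD.conj_mem w hw.1 g, fun b => ?_⟩
    have key : ¬ OddAdj D (g * w * g⁻¹) b := by
      rintro ⟨-, hb, hne, hodd⟩
      refine (hw.2 (g⁻¹ * b * g)).1 ⟨hw.1, by simpa using hD.conj_mem b hb g⁻¹, ?_, ?_⟩
      · intro e; apply hne; rw [e]; group
      · rw [show w * (g⁻¹ * b * g) = g⁻¹ * (g * w * g⁻¹ * b) * g⁻¹⁻¹ by group, Invol.orderOf_conj_eq]
        exact hodd
    exact ⟨key, fun h => key (oddAdj_symm hD h)⟩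
  set W := {w | IsIsolatedElem (OddAdj D) D w} with hW
  have hle : Subgroup.closure W ≤ Cfsg.pCore 2 G :=
    (Subgroup.closure_le _).2 fun w hw => isolated_mem_pCore hD hw hconj
  have hp : IsPGroup 2 ↥(Subgroup.closure W) := pCore_isPGroup.to_le hle
  have hnorm := closure_normal hconj
  have hni : ∀ a ∈ D, (∃ a' ∈ elemComponentOf (OddAdj D) D a, a' ≠ a) →
      ¬ IsIsolatedElem (OddAdj D) D a := by
    rintro a - ⟨a', ⟨-, hr⟩, hne⟩ hiso
    rcases hr.cases_head with h | ⟨c, hc, -⟩
    · exact hne h.symm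
    · exact (hiso.2 c).1 hc
  refine ⟨hconj, hnorm, hp, ?_, ?_, ?_⟩
  · refine Set.Subset.antisymm ?_ fun w hw => ⟨Subgroup.subset_closure hw, hw.1⟩
    rintro d ⟨hd, hdD⟩
    have key : ∀ b, ¬ OddAdj D d b := by
      rintro b ⟨-, hb, hne, hodd⟩
      have hmem : (d * b) ^ 2 ∈ Subgroup.closure W := by
        rw [pow_two, show d * b * (d * b) = d * (b * d * b) by group]
        refine mul_mem hd ?_
        have := hnorm.conj_mem d hd b
        rwa [inv hD hb] at this
      obtain ⟨k, hk⟩ := hp ⟨_, hmem⟩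
      have h1 : ((d * b) ^ 2) ^ 2 ^ k = 1 := congrArg Subtype.val hk
      rw [← pow_mul, ← pow_succ'] at h1
      have := odd_pow_two_pow hodd h1
      rw [mul_eq_one_iff_eq_inv, inv hD hb] at this
      exact hne this
    exact ⟨hdD, fun b => ⟨key b, fun h => key b (oddAdj_symm hD h)⟩⟩
  · intro a ha b hb ha' hb' hne
    rcases hD.pair a ha b hb with h | h | ⟨h4, -⟩
    · rw [h, mul_inv_cancel_right, mul_inv_cancel]; exact one_mem _
    · by_cases hab : a = b
      · exact absurd (by rw [hab]) hne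
      · refine absurd ?_ hne
        have hadj : OddAdj D a b := ⟨ha, hb, hab, h⟩
        ext x
        exact ⟨fun hx => ⟨hx.1, (Relation.ReflTransGen.single (oddAdj_symm hD hadj)).trans hx.2⟩,
          fun hx => ⟨hx.1, (Relation.ReflTransGen.single (r := OddAdj D) hadj).trans hx.2⟩⟩
    · obtain ⟨hc, hac, hbc, -, hla⟩ := four hD ha hb h4
      rw [inv hD ha, inv hD hb, show a * b * a * b = (a * b) ^ 2 by rw [pow_two]; group]
      refine Subgroup.subset_closure ?_
      by_contra hiso
      apply hne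
      have hlb : Line D b ((a * b) ^ 2) := by
        have h4' : orderOf (b * a) = 4 := by rw [orderOf_mul_comm]; exact h4
        have hsame : (b * a) ^ 2 = (a * b) ^ 2 := by
          rw [show b * a = (a * b)⁻¹ by rw [mul_inv_rev, inv hD ha, inv hD hb], inv_pow, inv hD hc]
        exact hsame ▸ (four hD hb ha h4').2.2.2.2
      have h1 := reach_of_line hD hla (hni a ha ha') hiso
      have h2 := reach_of_line hD hlb (hni b hb hb') hiso
      have hab : Relation.ReflTransGen (OddAdj D) a b := h1.trans (reach_symm hD h2)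
      exact Set.ext fun x => ⟨fun hx => ⟨hx.1, (reach_symm hD hab).trans hx.2⟩,
        fun hx => ⟨hx.1, hab.trans hx.2⟩⟩
  · rintro a ha ha' e ⟨⟨he, hea, -⟩, hprod⟩
    by_cases hiso : IsIsolatedElem (OddAdj D) D e
    · exact Or.inr hiso
    · refine Or.inl ⟨he, reach_of_line hD ⟨ha, he, hea.symm, ?_⟩ (hni a ha ha') hiso⟩
      rwa [← hea]

/-- Odd transpositions and the 2-core. -/
theorem oddTransposition_pCore (hodd : ∀ a ∈ D, ∀ b ∈ D, orderOf (a * b) ≠ 4) {a : G} (ha : a ∈ D) :
    (∀ e ∈ commutingMembers D a, ∀ q ∈ ⁅Cfsg.pCore 2 G, Subgroup.zpowers a⁆, e * q = q * e) ∧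
    (∀ b ∈ oddPartners D a,
      Cfsg.pCore 2 G ⊓ Subgroup.centralizer {a * b} =
        Cfsg.pCore 2 G ⊓ Subgroup.centralizer {a} ⊓ Subgroup.centralizer {b}) := by
  set O := Cfsg.pCore 2 G
  have hO : O.Normal := Subgroup.sSup_normal _ (fun _ h => h.1)
  have hpair : ∀ e ∈ D, Commute e a → ∀ q ∈ O, Commute e (q * a * q⁻¹) := by
    intro e he hea q hq
    have hD' : q * a * q⁻¹ ∈ D := hD.conj_mem a ha q
    rcases hD.pair e he _ hD' with h | h | h
    · exact h
    · set u := q * a * q⁻¹ * a⁻¹ with hu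
      have huO : u ∈ O := by
        rw [hu, show q * a * q⁻¹ * a⁻¹ = q * (a * q⁻¹ * a⁻¹) by group]
        exact mul_mem hq (hO.conj_mem _ (inv_mem hq) a)
      have hmem : (e * (q * a * q⁻¹)) ^ 2 ∈ O := by
        have e2 : (e * a) * (e * a) = 1 := by rw [← pow_two]; exact (sq_mul_eq_one_iff hD he ha).2 hea
        have e1 : (e * (q * a * q⁻¹)) ^ 2 = (e * u * e⁻¹) * ((e * a) * (e * u * e⁻¹) * (e * a)⁻¹) *
            ((e * a) * (e * a)) := by
          rw [hu, pow_two]; group
        rw [e1, e2, mul_one]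
        exact mul_mem (hO.conj_mem _ huO e) (hO.conj_mem _ (hO.conj_mem _ huO e) _)
      obtain ⟨k, hk⟩ := pCore_isPGroup ⟨_, hmem⟩
      have h1 : ((e * (q * a * q⁻¹)) ^ 2) ^ 2 ^ k = 1 := congrArg Subtype.val hk
      rw [← pow_mul, ← pow_succ'] at h1
      have := odd_pow_two_pow h h1
      rw [mul_eq_one_iff_eq_inv, inv hD hD'] at this
      rw [← this]
    · exact absurd h.1 (hodd e he _ hD')
  refine ⟨?_, ?_⟩
  · intro e ⟨he, hea⟩ x hx
    have hgen : ⁅O, Subgroup.zpowers a⁆ ≤ Subgroup.centralizer ({e} : Set G) := by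
      rw [Subgroup.commutator_le]
      intro q hq z hz
      rw [Subgroup.mem_centralizer_singleton_iff, commutatorElement_def]
      have h1 : Commute e (q * z * q⁻¹) := by
        obtain ⟨k, rfl⟩ := hz
        have e' : q * a ^ k * q⁻¹ = (q * a * q⁻¹) ^ k := by rw [conj_zpow]
        show Commute e (q * a ^ k * q⁻¹)
        rw [e']; exact (hpair e he hea q hq).zpow_right k
      have h2 : Commute e z⁻¹ := by
        obtain ⟨k, rfl⟩ := hz
        exact ((show Commute e a from hea).zpow_right k).inv_right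
      exact (h1.mul_right h2).eq.symm
    exact (Subgroup.mem_centralizer_singleton_iff.1 (hgen hx)).symm
  · intro b ⟨hb, hne, hab⟩
    refine le_antisymm ?_ ?_
    · intro q ⟨hq, hqc⟩
      have hq' : Commute q (a * b) := Subgroup.mem_centralizer_singleton_iff.1 hqc
      set u := q * a * q⁻¹ * a⁻¹ with hu
      have huO : u ∈ O := by
        rw [hu, show q * a * q⁻¹ * a⁻¹ = q * (a * q⁻¹ * a⁻¹) by group]
        exact mul_mem hq (hO.conj_mem _ (inv_mem hq) a)
      have hua : Commute u a := by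
        have := (hpair a ha (Commute.refl a) q hq).symm.mul_left ((Commute.refl a).inv_left)
        exact this
      have hv : Commute (q * b * q⁻¹) b := by
        have hD' : q * b * q⁻¹ ∈ D := hD.conj_mem b hb q
        rcases hD.pair _ hD' b hb with h | h | h
        · exact h
        · have hmem : (q * b * q⁻¹) * b ∈ O := by
            rw [show q * b * q⁻¹ * b = q * (b * q⁻¹ * b⁻¹) * (b * b) by group, sq hD hb, mul_one]
            exact mul_mem hq (hO.conj_mem _ (inv_mem hq) b)
          obtain ⟨k, hk⟩ := pCore_isPGroup ⟨_, hmem⟩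
          have := odd_pow_two_pow h (congrArg Subtype.val hk)
          rw [mul_eq_one_iff_eq_inv, inv hD hb] at this
          rw [this]
        · exact absurd h.1 (hodd _ hD' b hb)
      have hub : Commute u b := by
        have e1 : u = a * b * (q * b * q⁻¹)⁻¹ * a⁻¹ := by
          rw [hu, show q * a * q⁻¹ * a⁻¹ = (q * (a * b) * q⁻¹) * (q * b * q⁻¹)⁻¹ * a⁻¹ by group,
            hq'.eq, mul_inv_cancel_right]
        have e2 : u = b * (q * b * q⁻¹)⁻¹ := by
          have e3 : a⁻¹ * u * a = b * (q * b * q⁻¹)⁻¹ := by rw [e1]; group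
          rw [← e3, mul_assoc, hua.eq, inv_mul_cancel_left]
        rw [e2]
        exact (Commute.refl b).mul_left hv.inv_left
      by_cases hu1 : u = 1
      · refine ⟨⟨hq, Subgroup.mem_centralizer_singleton_iff.2 ?_⟩, Subgroup.mem_centralizer_singleton_iff.2 ?_⟩
        · rw [hu, mul_inv_eq_one, mul_inv_eq_iff_eq_mul] at hu1; exact hu1
        · rw [hu, mul_inv_eq_one, mul_inv_eq_iff_eq_mul] at hu1
          have h3 : Commute q (a⁻¹ * (a * b)) := (show Commute q a from hu1).inv_right.mul_right hq'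
          rw [inv_mul_cancel_left] at h3
          exact h3.eq
      · exfalso
        have hD' : u * a ∈ D := by rw [hu, inv_mul_cancel_right]; exact hD.conj_mem a ha q
        obtain ⟨k, hk⟩ := pCore_isPGroup ⟨_, huO⟩
        have hk' : u ^ 2 ^ k = 1 := congrArg Subtype.val hk
        have hco : (orderOf u).Coprime (orderOf (a * b)) :=
          Nat.Coprime.coprime_dvd_left (orderOf_dvd_of_pow_eq_one hk')
            (Nat.Coprime.pow_left _ hab.coprime_two_left)
        have hord : orderOf (u * a * b) = orderOf u * orderOf (a * b) := by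
          rw [mul_assoc]
          exact (hua.mul_right hub).orderOf_mul_eq_mul_orderOf_of_coprime hco
        have huo : 2 ∣ orderOf u := by
          have hd := orderOf_dvd_of_pow_eq_one hk'
          obtain ⟨i, -, hi⟩ := (Nat.dvd_prime_pow Nat.prime_two).1 hd
          rcases i with _ | i
          · exact absurd (orderOf_eq_one_iff.1 (by simpa using hi)) hu1
          · exact ⟨2 ^ i, by rw [hi, pow_succ']⟩
        rcases hD.pair _ hD' b hb with h | h | h
        · have h2 := orderOf_dvd_of_pow_eq_one ((sq_mul_eq_one_iff hD hD' hb).2 h)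
          have hab1 : orderOf (a * b) ∣ 2 := (hord ▸ dvd_mul_left _ _).trans h2
          rcases (Nat.dvd_prime Nat.prime_two).1 hab1 with e | e
          · rw [orderOf_eq_one_iff, mul_eq_one_iff_eq_inv, inv hD hb] at e
            exact hne e.symm
          · rw [e] at hab; exact absurd hab (by decide)
        · rw [hord] at h
          exact absurd (Nat.odd_mul.1 h).1 (Nat.not_odd_iff_even.2 (even_iff_two_dvd.2 huo))
        · exact absurd h.1 (hodd _ hD' b hb)
    · intro q ⟨⟨hq, ha'⟩, hb'⟩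
      refine ⟨hq, Subgroup.mem_centralizer_singleton_iff.2 ?_⟩
      exact ((show Commute q a from Subgroup.mem_centralizer_singleton_iff.1 ha').mul_right
        (show Commute q b from Subgroup.mem_centralizer_singleton_iff.1 hb')).eq

end CfsgLib.RootInv
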