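import Cfsg.Agent.RootSubgroups.ClassPairs

set_option autoImplicit false

/-!
The action on a line of the members normalising it.
-/

namespace CfsgLib.RootSubgroups

open Cfsg CfsgLib.RankOne commutatorElement

variable {G : Type*} [Group G] {S : Set (Subgroup G)} {A B C D P Q U : Subgroup G}

theorem commute_of_le_sup (hS : IsRootSubgroupSet S) (hA : A ∈ S) (hB : B ∈ S) (hAB : ⁅A, B⁆ = ⊥) {x y : G}
    (hx : x ∈ A ⊔ B) (hy : y ∈ A) : x * y = y * x := by
  obtain ⟨a, ha, b, hb, rfl⟩ := mem_sup_of_commute (fun a ha b hb => commute_of_commutator_eq_bot hAB ha hb) hx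
  exact ((show Commute a y from abelian_comm hS hA ha hy).mul_left
    (show Commute b y from (commute_of_commutator_eq_bot hAB hy hb).symm)).eq

/-- A partner of one member of a line commutes with no other one. -/
theorem line_not_commute (hS : IsRootSubgroupSet S) (hA : A ∈ S) (hB : B ∈ S) (hP : P ∈ S) (hD : D ∈ S)
    (hAP : IsRankOnePair A P) (hAB : ⁅A, B⁆ = ⊥) (hne : A ≠ B) {a b : G} (ha : a ∈ A) (ha1 : a ≠ 1) (hb : b ∈ B)
    (hb1 : b ≠ 1) (hab : a * b ∈ D) (hle : ⁅D, A⁆ = ⊥) : ⁅P, B⁆ ≠ ⊥ := by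
  intro h
  have hPD := rankOne_of_mul_mem hS hP hB hD hAP hAB (not_rankOne_of_commute h) ha ha1 hb hab
  have he : conjBy P (a * b) = conjBy P a := by rw [← conjBy_conjBy, conjBy_eq_of_commute h hb]
  have hne' : conjBy P a ≠ P := fun e => ha1 (eq_one_of_mem_of_fix hAP ha e)
  have hX1 := unipotent_sup_eq hAP (conjBy_mem_unipotent (right_mem_unipotent hAP) (Subgroup.mem_sup_left ha))
    (right_mem_unipotent hAP) hne'
  have hX2 := unipotent_sup_eq (RankOnePair_symm hPD)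
    (conjBy_mem_unipotent (right_mem_unipotent (RankOnePair_symm hPD)) (Subgroup.mem_sup_left hab))
    (right_mem_unipotent (RankOnePair_symm hPD)) (he.symm ▸ hne')
  rw [he, hX1] at hX2
  rcases mem_unipotent_or_central hS hD hP (RankOnePair_symm hPD) hA (hX2 ▸ le_sup_left) with hu | hcen
  · have hDA : D ≠ A := by
      rintro rfl
      have hbD : b ∈ D := by
        have := mul_mem (inv_mem ha) hab
        rwa [inv_mul_cancel_left] at this
      exact hne (member_eq_of_common hS hD hP hAP hB hbD hb hb1).symm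
    refine eq_bot_of_commutator_of_rankOne (isRankOnePair_of_unipotent (RankOnePair_symm hPD)
      (left_mem_unipotent D P) hu hDA) (eq_bot_iff.2 (Subgroup.commutator_le.2 fun x hx y hy => Subgroup.mem_bot.2 ?_))
    exact commutatorElement_eq_one_iff_commute.2 (commute_of_commutator_eq_bot hle hx hy)
  · obtain ⟨p, hp, hp1⟩ := exists_ne_one_left (RankOnePair_symm hAP)
    exact hp1 (eq_one_of_commute hAP ha ha1 hp (hcen a ha p (Subgroup.mem_sup_right hp)))

/-- A line `U`, `C` with a partner of `U` in the commutator case with `C` is a natural line. -/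
theorem line_natural (hS : IsRootSubgroupSet S) (hpart : ∀ R ∈ S, ∃ P ∈ S, IsRankOnePair R P) (hU : U ∈ S)
    (hC : C ∈ S) (hQ : Q ∈ S) (hUQ : IsRankOnePair U Q) (hUC : ⁅U, C⁆ = ⊥) (hCQ : RootCommutatorCase S C Q)
    (hcover : ∀ x ∈ U ⊔ C, x ≠ 1 → ∃ D ∈ S, ⁅D, U⁆ = ⊥ ∧ x ∈ D) : ⁅U, ⁅C, Q⁆⁆ = C := by
  obtain ⟨F, H, c, hc, hc1, γ, hγ, hγ1, hcen⟩ := naturalLine_of_line hS hpart hU hQ hC hUQ hUC hCQ
  obtain ⟨PC, hPC, hCP⟩ := hpart C hC
  obtain ⟨u, hu, hu1⟩ := exists_ne_one_left hUQ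
  by_contra hne
  have hFne : F ≠ C := fun e => hne (by
    have e1 : ⁅F, Q⁆ = ⁅C, Q⁆ := by rw [e]
    rw [← e1, H.back, e])
  have hUF : ⁅U, F⁆ = ⊥ := by
    refine eq_bot_iff.2 (Subgroup.commutator_le.2 fun x hx f hf => Subgroup.mem_bot.2 ?_)
    exact commutatorElement_eq_one_iff_commute.2 (CommCase.central_left H.high (H.back.symm ▸ hf) hx).symm
  have hFQ : ¬ IsRankOnePair Q F := fun h => not_rankOne_of_commCase hS H.left hQ H.low (RankOnePair_symm h)
  have hCQ' : ¬ IsRankOnePair Q C := fun h => not_rankOne_of_commCase hS hC hQ hCQ (RankOnePair_symm h)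
  have hx1 : u * c⁻¹ ≠ 1 := fun e => by
    have : u = c := mul_inv_eq_one.1 e
    exact hCQ' (RankOnePair_symm ((member_eq_of_common hS hU hQ hUQ hC hu (this ▸ hc) hu1).symm ▸ hUQ))
  obtain ⟨D, hD, hDle, hxD⟩ := hcover _ (mul_mem (Subgroup.mem_sup_left hu) (Subgroup.mem_sup_right (inv_mem hc))) hx1
  have hx1' : u * γ ≠ 1 := fun e => by
    have : u = γ⁻¹ := eq_inv_of_mul_eq_one_left e
    exact hFQ (RankOnePair_symm ((member_eq_of_common hS hU hQ hUQ H.left hu (this ▸ inv_mem hγ) hu1).symm ▸ hUQ))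
  obtain ⟨D', hD', hD'le, hxD'⟩ := CommCase.line_cover hS hU H.high (u * γ)
    (mul_mem (Subgroup.mem_sup_left hu) (Subgroup.mem_sup_right (H.back.symm ▸ hγ))) hx1'
  rw [H.back] at hD'le
  have hQD := rankOne_of_mul_mem hS hQ hC hD hUQ hUC hCQ' hu hu1 (inv_mem hc) hxD
  have hQD' := rankOne_of_mul_mem hS hQ H.left hD' hUQ hUF hFQ hu hu1 hγ hxD'
  have heq : conjBy Q (u * c⁻¹) = conjBy Q (u * γ) := by
    have h1 : conjBy Q (c * γ) = Q := by
      refine conjBy_eq_self_iff.2 (Subgroup.centralizer_le_normalizer _ ?_)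
      exact Subgroup.mem_centralizer_iff.2 fun q hq => (hcen q hq).symm
    rw [← conjBy_conjBy Q γ c] at h1
    have h2 := congrArg (fun R => conjBy R c⁻¹) h1
    simp only [conjBy_conjBy] at h2
    rw [inv_mul_cancel_left] at h2
    rw [← conjBy_conjBy, ← h2, conjBy_conjBy]
  have hne' : conjBy Q (u * c⁻¹) ≠ Q := fun e => hx1 (eq_one_of_mem_of_fix (RankOnePair_symm hQD) hxD e)
  have hX1 := unipotent_sup_eq (RankOnePair_symm hQD)
    (conjBy_mem_unipotent (right_mem_unipotent (RankOnePair_symm hQD)) (Subgroup.mem_sup_left hxD))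
    (right_mem_unipotent (RankOnePair_symm hQD)) hne'
  have hX2 := unipotent_sup_eq (RankOnePair_symm hQD')
    (conjBy_mem_unipotent (right_mem_unipotent (RankOnePair_symm hQD')) (Subgroup.mem_sup_left hxD'))
    (right_mem_unipotent (RankOnePair_symm hQD')) (heq ▸ hne')
  rw [← heq, hX1] at hX2
  have hD'U : ⁅D', U⁆ = ⊥ := eq_bot_iff.2 (Subgroup.commutator_le.2 fun x hx y hy => Subgroup.mem_bot.2
    (commutatorElement_eq_one_iff_commute.2 (commute_of_le_sup hS hU H.left hUF (hD'le hx) hy)))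
  have hDD : D' = D := by
    rcases mem_unipotent_or_central hS hD hQ (RankOnePair_symm hQD) hD' (hX2 ▸ le_sup_left) with hm | hcn
    · by_contra hne2
      -- `U` would centralise the rank one group
      have hgen := unipotent_sup_eq (RankOnePair_symm hQD) hm (left_mem_unipotent D Q) hne2
      rw [Subgroup.commutator_eq_bot_iff_le_centralizer] at hDle hD'U
      refine eq_bot_of_commutator_of_rankOne hUQ
        ((Subgroup.commutator_comm U Q).trans (Subgroup.commutator_eq_bot_iff_le_centralizer.2 ?_))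
      exact (hgen ▸ le_sup_right : Q ≤ D' ⊔ D).trans (sup_le hD'U hDle)
    · exfalso
      obtain ⟨q, hq, hq1⟩ := exists_ne_one_left (RankOnePair_symm hUQ)
      exact hq1 (eq_one_of_commute (RankOnePair_symm hQD') hxD' hx1' hq (hcn _ hxD' q (Subgroup.mem_sup_right hq)))
  have := eq_of_conjBy_right_eq (RankOnePair_symm hQD) hxD (hDD ▸ hxD') heq
  have hcg : c⁻¹ = γ := mul_left_cancel this
  exact hFne (member_eq_of_common hS hC hPC hCP H.left (inv_mem hc) (hcg ▸ hγ) (inv_ne_one.2 hc1))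

/-- The subgroup generated by the members normalising `N` moves `X` to `Y`. -/
def MovesTo (S : Set (Subgroup G)) (N X Y : Subgroup G) : Prop :=
  ∃ x ∈ ⨆ E ∈ normalizingMembers S N, E, conjBy X x = Y

theorem MovesTo.trans {N X Y Z : Subgroup G} (h : MovesTo S N X Y) (h' : MovesTo S N Y Z) : MovesTo S N X Z := by
  obtain ⟨x, hx, rfl⟩ := h
  obtain ⟨y, hy, rfl⟩ := h'
  exact ⟨y * x, mul_mem hy hx, (conjBy_conjBy X x y).symm⟩

theorem MovesTo.symm {N X Y : Subgroup G} (h : MovesTo S N X Y) : MovesTo S N Y X := by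
  obtain ⟨x, hx, rfl⟩ := h
  exact ⟨x⁻¹, inv_mem hx, by rw [conjBy_conjBy, inv_mul_cancel, conjBy_one]⟩

theorem conj_membersIn (hS : IsRootSubgroupSet S) {N X : Subgroup G} {x : G}
    (hx : x ∈ ⨆ E ∈ normalizingMembers S N, E) (hX : X ∈ membersIn S N) : conjBy X x ∈ membersIn S N := by
  refine ⟨hS.conj_mem X hX.1 x, ?_⟩
  have hle : (⨆ E ∈ normalizingMembers S N, E) ≤ Subgroup.normalizer (N : Set G) := iSup₂_le fun E hE => hE.2
  exact (Subgroup.map_mono hX.2).trans (conjBy_eq_self_iff.2 (hle hx)).le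

/-- For two members of a line and a partner of the first, a member in the commutator case with that partner. -/
theorem line_companion' (hS : IsRootSubgroupSet S) (hpart : ∀ R ∈ S, ∃ P ∈ S, IsRankOnePair R P) {N V : Subgroup G}
    (habel : ∀ x ∈ N, ∀ y ∈ N, x * y = y * x) (hpartn : IsSubgroupPartition N (membersIn S N))
    (hU : U ∈ membersIn S N) (hV : V ∈ membersIn S N) (hVU : V ≠ U) (hQ : Q ∈ S) (hUQ : IsRankOnePair U Q) :
    ∃ C ∈ membersIn S N, C ≠ U ∧ V ≤ U ⊔ C ∧ RootCommutatorCase S C Q ∧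
      RootCommutatorCase S U ⁅C, Q⁆ ∧ ⁅U, ⁅C, Q⁆⁆ = C ∧ ⁅C, ⁅C, Q⁆⁆ = ⊥ := by
  have hNc : ∀ {X Y : Subgroup G}, X ≤ N → Y ≤ N → ⁅X, Y⁆ = ⊥ := fun hX hY =>
    eq_bot_iff.2 (Subgroup.commutator_le.2 fun x hx y hy => Subgroup.mem_bot.2
      (commutatorElement_eq_one_iff_commute.2 (habel x (hX hx) y (hY hy))))
  have hcov : ∀ x ∈ N, x ≠ 1 → ∃ D ∈ S, D ≤ N ∧ x ∈ D := fun x hx hx1 => by
    obtain ⟨D, hD, hxD⟩ := hpartn.2.1 x hx hx1
    exact ⟨D, hD.1, hD.2, hxD⟩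
  obtain ⟨u, hu, hu1⟩ := exists_ne_one_left hUQ
  obtain ⟨v, hv, hv1⟩ := (Subgroup.bot_or_exists_ne_one V).resolve_left (hS.ne_bot V hV.1)
  obtain ⟨C, hC, hCQ, v', hv', hv'1, u', hu', hmem⟩ : ∃ C ∈ membersIn S N, RootCommutatorCase S C Q ∧
      ∃ v' ∈ V, v' ≠ 1 ∧ ∃ u' ∈ U, u' * v' ∈ C := by
    rcases hS.pair V hV.1 Q hQ with h | h | h
    · exfalso
      have hx1 : u * v ≠ 1 := fun e => hVU (member_eq_of_common hS hU.1 hQ hUQ hV.1 hu
        (eq_inv_of_mul_eq_one_left e ▸ inv_mem hv) hu1)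
      obtain ⟨D, hD, hle, hxD⟩ := hcov _ (mul_mem (hU.2 hu) (hV.2 hv)) hx1
      exact line_not_commute hS hU.1 hV.1 hQ hD hUQ (hNc hU.2 hV.2) hVU.symm hu hu1 hv hv1 hxD (hNc hle hU.2)
        ((Subgroup.commutator_comm Q V).trans h)
    · obtain ⟨D, hD, hle, hDQ, a, ha, w, hw, hw1, haw⟩ := exists_commCase_on_line' hS hQ hUQ h (Ne.symm hVU)
        (hNc hU.2 hV.2) (· ≤ N) fun x hx hx1 => hcov x (sup_le hU.2 hV.2 hx) hx1
      exact ⟨D, ⟨hD, hle⟩, hDQ, w, hw, hw1, a, ha, haw⟩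
    · exact ⟨V, hV, h, v, hv, hv1, 1, one_mem _, by rwa [one_mul]⟩
  have hCU : C ≠ U := fun e => not_rankOne_of_commCase hS hC.1 hQ hCQ (e ▸ hUQ)
  have hnat := line_natural hS hpart hU.1 hC.1 hQ hUQ (hNc hU.2 hC.2) hCQ fun x hx hx1 => by
    obtain ⟨D, hD, hle, hxD⟩ := hcov x (sup_le hU.2 hC.2 hx) hx1
    exact ⟨D, hD, hNc hle hU.2, hxD⟩
  have hUE := commutatorCase_of_mem hS hU.1 hCQ.1 (hnat.symm ▸ hC.1)
  refine ⟨C, hC, hCU, ?_, hCQ, hUE, hnat,
    (Subgroup.commutator_comm C ⁅C, Q⁆).trans (CommCase.commute_left hCQ)⟩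
  have hvm : v' ∈ U ⊔ C := by
    have := mul_mem (Subgroup.mem_sup_left (T := C) (inv_mem hu')) (Subgroup.mem_sup_right (S := U) hmem)
    rwa [inv_mul_cancel_left] at this
  obtain ⟨R, hR, hRle, hvR⟩ := CommCase.line_cover hS hU.1 hUE v' (by rw [hnat]; exact hvm) hv'1
  obtain ⟨PR, hPR, hRP⟩ := hpart R hR
  rw [hnat] at hRle
  exact (member_eq_of_common hS hR hPR hRP hV.1 hvR hv' hv'1) ▸ hRle

/-- For two members of a line a member with transitive stabiliser. -/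
theorem line_companion (hS : IsRootSubgroupSet S) (hpart : ∀ R ∈ S, ∃ P ∈ S, IsRankOnePair R P) {N V : Subgroup G}
    (habel : ∀ x ∈ N, ∀ y ∈ N, x * y = y * x) (hpartn : IsSubgroupPartition N (membersIn S N))
    (hU : U ∈ membersIn S N) (hV : V ∈ membersIn S N) (hVU : V ≠ U) :
    ∃ C ∈ membersIn S N, C ≠ U ∧ V ≤ U ⊔ C ∧ ∃ E ∈ S, RootCommutatorCase S U E ∧ ⁅U, E⁆ = C ∧ ⁅C, E⁆ = ⊥ := by
  obtain ⟨Q, hQ, hUQ⟩ := hpart U hU.1
  obtain ⟨C, hC, hCU, hle, hCQ, h1, h2, h3⟩ := line_companion' hS hpart habel hpartn hU hV hVU hQ hUQ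
  exact ⟨C, hC, hCU, hle, _, hCQ.1, h1, h2, h3⟩

theorem line_two_transitive (hS : IsRootSubgroupSet S) (hpart : ∀ R ∈ S, ∃ P ∈ S, IsRankOnePair R P) (hA : A ∈ S)
    (hB : B ∈ linePartners S A) :
    ∀ C₁ ∈ membersIn S (A ⊔ B), ∀ C₂ ∈ membersIn S (A ⊔ B), ∀ D₁ ∈ membersIn S (A ⊔ B),
      ∀ D₂ ∈ membersIn S (A ⊔ B), C₁ ≠ C₂ → D₁ ≠ D₂ →
        ∃ x ∈ ⨆ E ∈ normalizingMembers S (A ⊔ B), E, conjBy C₁ x = D₁ ∧ conjBy C₂ x = D₂ := by
  obtain ⟨⟨hB', hBA, hAB⟩, hpartn⟩ := hB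
  obtain ⟨N, hN⟩ : ∃ N, N = A ⊔ B := ⟨_, rfl⟩
  rw [← hN] at hpartn ⊢
  have habel : ∀ x ∈ N, ∀ y ∈ N, x * y = y * x := by
    intro x hx y hy
    rw [hN] at hx hy
    obtain ⟨a, ha, b, hb, rfl⟩ := mem_sup_of_commute (fun a ha b hb => commute_of_commutator_eq_bot hAB ha hb) hy
    exact ((show Commute x a from commute_of_le_sup hS hA hB' hAB hx ha).mul_right
      (show Commute x b from commute_of_le_sup hS hB' hA (Subgroup.commutator_comm A B ▸ hAB)
        (sup_comm A B ▸ hx) hb)).eq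
  -- generation by any member and `A`
  have hgenA : ∀ U ∈ membersIn S N, U ≠ A → N ≤ U ⊔ A := by
    intro U hU hUA
    obtain ⟨C₀, hC₀, hC₀A, hB0, E₀, hE₀, hAE₀, hnat₀, -⟩ := line_companion hS hpart habel hpartn
      (U := A) (V := B) ⟨hA, hN ▸ le_sup_left⟩ ⟨hB', hN ▸ le_sup_right⟩ hBA
    have hN0 : N ≤ A ⊔ C₀ := hN ▸ sup_le le_sup_left hB0
    obtain ⟨PA, hPA, hAPA⟩ := hpart A hA
    refine hN0.trans (sup_le le_sup_right fun c hc => ?_)
    rcases member_cases hS hA hPA hAPA hAE₀ hU.1 (by rw [hnat₀]; exact hU.2.trans hN0) with e | ⟨e, he, e'⟩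
    · exact Subgroup.mem_sup_left ((e.trans hnat₀).symm ▸ hc)
    · subst e'
      have he1 : e ≠ 1 := fun e1 => hUA (by rw [e1, conjBy_one])
      obtain ⟨x, hx, rfl⟩ := CommCase.surj' hAE₀ he he1 (hnat₀.symm ▸ hc)
      rw [show ⁅x, e⁆ = x * (e * x⁻¹ * e⁻¹) by rw [commutatorElement_def]; group]
      exact mul_mem (Subgroup.mem_sup_right hx) (Subgroup.mem_sup_left (conj_mem_conjBy (inv_mem hx)))
  -- for each `U` a member `C` with transitive stabiliser
  have step : ∀ U ∈ membersIn S N, ∃ C ∈ membersIn S N, C ≠ U ∧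
      (∀ X ∈ membersIn S N, X ≠ C → ∃ x ∈ ⨆ E ∈ normalizingMembers S N, E, conjBy U x = X ∧ conjBy C x = C) ∧
      ∃ X ∈ membersIn S N, X ≠ C ∧ X ≠ U := by
    intro U hU
    obtain ⟨C, hC, hCU, hgen, E, hE, hUE, hnat, hCE⟩ : ∃ C ∈ membersIn S N, C ≠ U ∧ N ≤ U ⊔ C ∧
        ∃ E ∈ S, RootCommutatorCase S U E ∧ ⁅U, E⁆ = C ∧ ⁅C, E⁆ = ⊥ := by
      by_cases hUA : U = A
      · subst hUA
        obtain ⟨C, hC, hCU, hle, rest⟩ := line_companion hS hpart habel hpartn hU (V := B)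
          ⟨hB', hN ▸ le_sup_right⟩ hBA
        exact ⟨C, hC, hCU, hN ▸ sup_le le_sup_left hle, rest⟩
      · obtain ⟨C, hC, hCU, hle, rest⟩ := line_companion hS hpart habel hpartn hU (V := A)
          ⟨hA, hN ▸ le_sup_left⟩ (Ne.symm hUA)
        exact ⟨C, hC, hCU, (hgenA U hU hUA).trans (sup_le le_sup_left hle), rest⟩
    have hgen' : U ⊔ C = N := le_antisymm (sup_le hU.2 hC.2) hgen
    obtain ⟨Q, hQ, hUQ⟩ := hpart U hU.1
    have hEnorm : E ∈ normalizingMembers S N := by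
      refine ⟨hE, fun e he => conjBy_eq_self_iff.1 ?_⟩
      have hle : ∀ {e : G}, e ∈ E → conjBy N e ≤ N := fun {e} he => by
        rw [← hgen', conjBy, Subgroup.map_sup]
        refine sup_le (by have := CommCase.conj_le hUE he; rwa [hnat] at this) ?_
        exact (le_of_eq (conjBy_eq_of_commute hCE he)).trans le_sup_right
      refine le_antisymm (hle he) fun y hy => ?_
      rw [mem_conjBy]
      have := hle (inv_mem he) (conj_mem_conjBy (g := e⁻¹) hy)
      rwa [inv_inv] at this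
    refine ⟨C, hC, hCU, fun X hX hXC => ?_, ?_⟩
    · rcases member_cases hS hU.1 hQ hUQ hUE hX.1 (by rw [hnat, hgen']; exact hX.2) with e | ⟨e, he, rfl⟩
      · exact absurd (e.trans hnat) hXC
      · refine ⟨e, Subgroup.mem_iSup_of_mem _ (Subgroup.mem_iSup_of_mem hEnorm he), rfl, ?_⟩
        exact conjBy_eq_of_commute hCE he
    · obtain ⟨e, he, he1⟩ := (Subgroup.bot_or_exists_ne_one E).resolve_left (hS.ne_bot E hE)
      refine ⟨conjBy U e, ⟨hS.conj_mem U hU.1 e, ?_⟩, ?_, ?_⟩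
      · have := CommCase.conj_le hUE he
        rwa [hnat, hgen'] at this
      · intro e'
        have := congrArg (fun R => conjBy R e⁻¹) e'
        simp only [conjBy_conjBy, inv_mul_cancel, conjBy_one] at this
        rw [conjBy_eq_of_commute hCE (inv_mem he)] at this
        exact hCU this.symm
      · intro e'
        obtain ⟨w, hw, hw1⟩ := exists_ne_one_left hUQ
        have hmem : ⁅w, e⁆ ∈ U := by
          rw [commutatorElement_def, mul_assoc w, mul_assoc w]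
          exact mul_mem hw (e'.le (conj_mem_conjBy (inv_mem hw)))
        refine hCU (member_eq_of_common hS hU.1 hQ hUQ hC.1 hmem (hnat ▸ Subgroup.commutator_mem_commutator hw he) ?_)
        exact fun h0 => he1 (CommCase.injective hS hU.1 hQ hUQ hUE hw hw1 he h0)
  -- transitivity
  have htrans : ∀ X ∈ membersIn S N, ∀ Y ∈ membersIn S N, MovesTo S N X Y := by
    have hrefl : ∀ X, MovesTo S N X X := fun X => ⟨1, one_mem _, conjBy_one X⟩
    have key : ∀ U ∈ membersIn S N, ∀ Y ∈ membersIn S N, MovesTo S N U Y := by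
      intro U hU
      obtain ⟨C, hC, hCU, hmove, W, hW, hWC, hWU⟩ := step U hU
      have h1 : ∀ Y ∈ membersIn S N, Y ≠ C → MovesTo S N U Y := fun Y hY hYC => by
        obtain ⟨x, hx, hx', -⟩ := hmove Y hY hYC; exact ⟨x, hx, hx'⟩
      obtain ⟨C', hC', hC'C, hmove', -⟩ := step C hC
      have h2 : MovesTo S N C U := by
        by_cases hUC' : U = C'
        · obtain ⟨x, hx, hx', -⟩ := hmove' W hW (hUC' ▸ hWU)
          exact MovesTo.trans ⟨x, hx, hx'⟩ (h1 W hW hWC).symm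
        · obtain ⟨x, hx, hx', -⟩ := hmove' U hU hUC'
          exact ⟨x, hx, hx'⟩
      intro Y hY
      by_cases hYC : Y = C
      · exact hYC ▸ h2.symm
      · exact h1 Y hY hYC
    exact key
  intro C₁ h11 C₂ h12 D₁ h21 D₂ h22 hne hne'
  obtain ⟨C, hC, -, hmove, -⟩ := step C₁ h11
  have hstab : ∀ X ∈ membersIn S N, ∀ Y ∈ membersIn S N, X ≠ C → Y ≠ C →
      ∃ x ∈ ⨆ E ∈ normalizingMembers S N, E, conjBy X x = Y ∧ conjBy C x = C := by
    intro X hX Y hY hXC hYC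
    obtain ⟨x, hx, hxX, hxC⟩ := hmove X hX hXC
    obtain ⟨y, hy, hyY, hyC⟩ := hmove Y hY hYC
    refine ⟨y * x⁻¹, mul_mem hy (inv_mem hx), ?_, ?_⟩
    · rw [← hxX, conjBy_conjBy, inv_mul_cancel_right, hyY]
    · conv_lhs => rw [← hxC, conjBy_conjBy, inv_mul_cancel_right, hyC]
  obtain ⟨f, hf, hfC⟩ := htrans C₁ h11 C hC
  obtain ⟨g, hg, hgC⟩ := htrans D₁ h21 C hC
  obtain ⟨x, hx, hxX, hxC⟩ := hstab _ (conj_membersIn hS hf h12) _ (conj_membersIn hS hg h22)
    (fun e => hne (conjBy_injective f (hfC.trans e.symm))) (fun e => hne' (conjBy_injective g (hgC.trans e.symm)))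
  refine ⟨g⁻¹ * (x * f), mul_mem (inv_mem hg) (mul_mem hx hf), ?_, ?_⟩
  · rw [← conjBy_conjBy, ← conjBy_conjBy, hfC, hxC, ← hgC, conjBy_conjBy, inv_mul_cancel, conjBy_one]
  · rw [← conjBy_conjBy, ← conjBy_conjBy, hxX, conjBy_conjBy, inv_mul_cancel, conjBy_one]

end CfsgLib.RootSubgroups
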