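import Cfsg.Agent.RootSubgroups.LineAction

set_option autoImplicit false

/-!
The graph of line partners of a non-degenerate class of abstract root subgroups, and generation.
-/

namespace CfsgLib.RootSubgroups

open Cfsg CfsgLib.RankOne commutatorElement

variable {G : Type*} [Group G] {S : Set (Subgroup G)} {A B C D E P T : Subgroup G}

theorem linePartner_symm (hA : A ∈ S) (h : B ∈ linePartners S A) : A ∈ linePartners S B := by
  obtain ⟨⟨-, hne, hc⟩, hp⟩ := h
  refine ⟨⟨hA, hne.symm, (Subgroup.commutator_comm B A).trans hc⟩, ?_⟩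
  rw [sup_comm]; exact hp

theorem linePartner_commutator (hS : IsRootSubgroupSet S) (hA : A ∈ S) (hP : P ∈ S) (hAP : IsRankOnePair A P)
    (h : RootCommutatorCase S A B) : A ∈ linePartners S ⁅A, B⁆ := by
  refine ⟨⟨hA, (CommCase.ne_left hS h).symm, ?_⟩, ?_⟩
  · refine eq_bot_iff.2 (Subgroup.commutator_le.2 fun c hc x hx => Subgroup.mem_bot.2 ?_)
    exact commutatorElement_eq_one_iff_commute.2 (CommCase.central_left h hc hx)
  · rw [sup_comm]; exact members_partition hS hA hP hAP h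

theorem linePartners_conj_mem (hS : IsRootSubgroupSet S) {g : G} (h : B ∈ linePartners S A) :
    conjBy B g ∈ linePartners S (conjBy A g) := by
  obtain ⟨⟨hB, hne, hc⟩, hp⟩ := h
  refine ⟨⟨hS.conj_mem B hB g, fun e => hne (conjBy_injective g e), ?_⟩, ?_⟩
  · exact (Subgroup.map_commutator _ _ _).symm.trans ((congrArg (fun R => conjBy R g) hc).trans (conjBy_bot g))
  · rw [show conjBy A g ⊔ conjBy B g = conjBy (A ⊔ B) g from (Subgroup.map_sup A B _).symm]
    obtain ⟨p1, p2, p3⟩ := hp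
    have hmem : ∀ {R : Subgroup G}, R ∈ membersIn S (conjBy (A ⊔ B) g) → conjBy R g⁻¹ ∈ membersIn S (A ⊔ B) :=
      fun {R} hR => by
        refine ⟨hS.conj_mem R hR.1 _, ?_⟩
        have h1 : conjBy R g⁻¹ ≤ conjBy (conjBy (A ⊔ B) g) g⁻¹ := Subgroup.map_mono hR.2
        rwa [conjBy_conjBy, inv_mul_cancel, conjBy_one] at h1
    refine ⟨fun R hR => hR.2, fun x hx hx1 => ?_, fun R hR R' hR' hne' => ?_⟩
    · rw [mem_conjBy] at hx
      obtain ⟨R, hR, hxR⟩ := p2 _ hx fun e => hx1 (by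
        calc x = g * (g⁻¹ * x * g) * g⁻¹ := by group
          _ = 1 := by rw [e, mul_one, mul_inv_cancel])
      exact ⟨conjBy R g, ⟨hS.conj_mem R hR.1 g, Subgroup.map_mono hR.2⟩, mem_conjBy.2 hxR⟩
    · refine eq_bot_iff.2 fun x hx => Subgroup.mem_bot.2 ?_
      have h3 := p3 _ (hmem hR) _ (hmem hR') fun e => hne' (conjBy_injective g⁻¹ e)
      have hx' : g⁻¹ * x * g ∈ conjBy R g⁻¹ ⊓ conjBy R' g⁻¹ := by
        refine Subgroup.mem_inf.2 ⟨?_, ?_⟩ <;> rw [mem_conjBy] <;>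
          rw [show g⁻¹⁻¹ * (g⁻¹ * x * g) * g⁻¹ = x by group]
        exacts [hx.1, hx.2]
      rw [h3, Subgroup.mem_bot] at hx'
      calc x = g * (g⁻¹ * x * g) * g⁻¹ := by group
        _ = 1 := by rw [hx', mul_one, mul_inv_cancel]

theorem connected_of_nondegenerate (hS : IsRootSubgroupClass S) (hnd : IsNondegenerateRootSet S) :
    IsConnectedFamily (FAdj S) S := by
  obtain ⟨A, hA, B, hB, hAB⟩ := hnd.2.1
  exact connected_of_class hS.1 hS.2 ⟨A, hA, fun h => (h.2 B).1 ⟨hA, hB, hAB⟩⟩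

theorem eadj_connected (hS : IsRootSubgroupClass S) (hnd : IsNondegenerateRootSet S) :
    IsConnectedFamily (EAdj S S) S := by
  have step : ∀ {A B : Subgroup G}, FAdj S A B → Relation.ReflTransGen (EAdj S S) A B := by
    rintro A B ⟨hA, hB, hAB⟩
    obtain ⟨C, hC, hCB⟩ := exists_line_commCase hS hnd hA hB hAB
    obtain ⟨PC, hPC, hCP⟩ := partner_of_class hS hnd.2.1 hC.1.1
    obtain ⟨PB, hPB, hBP⟩ := partner_of_class hS hnd.2.1 hB
    have h1 : ⁅C, B⁆ ∈ linePartners S C :=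
      linePartner_symm hCB.1 (linePartner_commutator hS.1 hC.1.1 hPC hCP hCB)
    have h2 : B ∈ linePartners S ⁅C, B⁆ := by
      have := linePartner_commutator hS.1 hB hPB hBP (CommCase.symm hCB)
      rwa [Subgroup.commutator_comm B C] at this
    exact ((Relation.ReflTransGen.single ⟨hA, hC.1.1, hC⟩).tail ⟨hC.1.1, hCB.1, h1⟩).tail ⟨hCB.1, hB, h2⟩
  intro A hA B hB
  have h := connected_of_nondegenerate hS hnd A hA B hB
  induction h with
  | refl => exact .refl
  | tail _ hab ih => exact (ih hab.1).trans (step hab)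

theorem dadj_connected (hS : IsRootSubgroupClass S) (hnd : IsNondegenerateRootSet S) :
    IsConnectedFamily (DAdj S) S := fun A hA B hB => by
  induction eadj_connected hS hnd A hA B hB with
  | refl => exact .refl
  | tail _ h ih => exact (ih h.1).tail ⟨h.1, h.2.1, h.2.2.1.2.1.symm, h.2.2.1.2.2⟩

theorem line_member_conjugate (hS : IsRootSubgroupClass S) (hnd : IsNondegenerateRootSet S) {U : Subgroup G}
    (hA : A ∈ S) (hB : B ∈ S) (hAB : IsRankOnePair A B) (hU : ∀ C ∈ linePartners S A, C ≤ U) (hBU : B ≤ U)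
    (hC : C ∈ linePartners S A) : ∃ g ∈ U, C = conjBy A g := by
  have hpart : ∀ R ∈ S, ∃ P ∈ S, IsRankOnePair R P := fun R hR => partner_of_class hS hnd.2.1 hR
  obtain ⟨⟨hC', hCA, hAC⟩, hp⟩ := hC
  have habel : ∀ x ∈ A ⊔ C, ∀ y ∈ A ⊔ C, x * y = y * x := by
    intro x hx y hy
    obtain ⟨a, ha, c, hc, rfl⟩ := mem_sup_of_commute (fun a ha c hc => commute_of_commutator_eq_bot hAC ha hc) hy
    exact ((show Commute x a from commute_of_le_sup hS.1 hA hC' hAC hx ha).mul_right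
      (show Commute x c from commute_of_le_sup hS.1 hC' hA ((Subgroup.commutator_comm C A).trans hAC)
        (sup_comm A C ▸ hx) hc)).eq
  have hAm : A ∈ membersIn S (A ⊔ C) := ⟨hA, le_sup_left⟩
  obtain ⟨K, hK, hKA, hle, hKB, hAE, hnat, hKE⟩ :=
    line_companion' hS.1 hpart habel hp hAm ⟨hC', le_sup_right⟩ hCA hB hAB
  have hN : A ⊔ C ≤ A ⊔ K := sup_le le_sup_left hle
  have hKline : K ∈ linePartners S A := by
    refine ⟨⟨hK.1, hKA, eq_bot_iff.2 (Subgroup.commutator_le.2 fun x hx y hy => Subgroup.mem_bot.2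
      (commutatorElement_eq_one_iff_commute.2 (habel x (hAm.2 hx) y (hK.2 hy))))⟩, ?_⟩
    rwa [le_antisymm (sup_le le_sup_left hK.2) hN]
  have hEU : ⁅K, B⁆ ≤ U := Subgroup.commutator_le.2 fun x hx y hy =>
    mul_mem (mul_mem (mul_mem (hU K hKline hx) (hBU hy)) (inv_mem (hU K hKline hx))) (inv_mem (hBU hy))
  have hcases : ∀ {R : Subgroup G}, R ∈ membersIn S (A ⊔ C) → R ≠ K → ∃ e ∈ ⁅K, B⁆, R = conjBy A e := by
    intro R hR hRK
    obtain ⟨PA, hPA, hAPA⟩ := hpart A hA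
    exact (member_cases hS.1 hA hPA hAPA hAE hR.1 (by rw [hnat]; exact hR.2.trans hN)).resolve_left
      fun e => hRK (e.trans hnat)
  by_cases hCK : C = K
  swap
  · obtain ⟨e, he, rfl⟩ := hcases ⟨hC', le_sup_right⟩ hCK
    exact ⟨e, hEU he, rfl⟩
  obtain ⟨R, hR, hRK, -, V₀, hV₀, hKV₀, hKR, -⟩ := line_companion hS.1 hpart habel hp hK hAm (Ne.symm hKA)
  obtain ⟨e, he, rfl⟩ := hcases hR hRK
  have hKe : conjBy K e⁻¹ = K := conjBy_eq_of_commute hKE (inv_mem he)
  have hKV : ⁅K, conjBy V₀ e⁻¹⁆ = A := by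
    have h1 := congrArg (fun R => conjBy R e⁻¹) hKR
    simp only [conjBy_conjBy, inv_mul_cancel, conjBy_one] at h1
    rw [← h1]
    conv_lhs => rw [← hKe]
    exact (Subgroup.map_commutator _ _ _).symm
  have hV : conjBy V₀ e⁻¹ ∈ S := hS.1.conj_mem V₀ hV₀ _
  have hcV := commutatorCase_of_mem hS.1 hK.1 hV (hKV.symm ▸ hA)
  obtain ⟨PV, hPV, hVP⟩ := hpart _ hV
  have hVline : conjBy V₀ e⁻¹ ∈ linePartners S A := by
    have := linePartner_commutator hS.1 hV hPV hVP (CommCase.symm hcV)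
    rwa [Subgroup.commutator_comm _ K, hKV] at this
  have H : NaturalLine S A ⁅K, B⁆ (conjBy V₀ e⁻¹) := NaturalLine.mk' hS.1 hA hKB.1 (hnat.symm ▸ hK.1) hV (by
    rw [hnat, Subgroup.commutator_comm]; exact hKV)
  obtain ⟨w, hw, -, hwC⟩ := H.exists_swap'
  refine ⟨w⁻¹, inv_mem ((sup_le hEU (hU _ hVline) : ⁅K, B⁆ ⊔ conjBy V₀ e⁻¹ ≤ U) hw), ?_⟩
  rw [hCK]
  rw [hnat] at hwC
  rw [← hwC, conjBy_conjBy, inv_mul_cancel, conjBy_one]

theorem generated_by_line_partners (hS : IsRootSubgroupClass S) (hnd : IsNondegenerateRootSet S) (hA : A ∈ S)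
    (hB : B ∈ S) (hAB : IsRankOnePair A B) : (⨆ C ∈ linePartners S A, C) ⊔ B = ⊤ := by
  obtain ⟨U, hUdef⟩ : ∃ U, U = (⨆ C ∈ linePartners S A, C) ⊔ B := ⟨_, rfl⟩
  rw [← hUdef]
  have hU : ∀ C ∈ linePartners S A, C ≤ U := fun C hC => hUdef ▸ le_trans (le_iSup₂ (f := fun C _ => C) C hC) le_sup_left
  have hBU : B ≤ U := hUdef ▸ le_sup_right
  obtain ⟨C₀, hC₀, -⟩ := exists_line_commCase hS hnd hA hB hAB
  obtain ⟨g₀, hg₀, e₀⟩ := line_member_conjugate hS hnd hA hB hAB hU hBU hC₀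
  have hAU : A ≤ U := by
    intro a ha
    have hm : g₀ * a * g₀⁻¹ ∈ U := hU C₀ hC₀ (e₀ ▸ conj_mem_conjBy ha)
    have := mul_mem (mul_mem (inv_mem hg₀) hm) hg₀
    convert this using 1; group
  have hall : ∀ T ∈ S, ∃ g ∈ U, T = conjBy A g := by
    intro T hT
    have h := eadj_connected hS hnd A hA T hT
    clear hT
    induction h with
    | refl => exact ⟨1, one_mem _, (conjBy_one A).symm⟩
    | @tail R T _ hRT ih =>
      obtain ⟨g, hg, rfl⟩ := ih
      have h1 := linePartners_conj_mem hS.1 (g := g⁻¹) hRT.2.2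
      rw [conjBy_conjBy A, inv_mul_cancel, conjBy_one] at h1
      obtain ⟨k, hk, e⟩ := line_member_conjugate hS hnd hA hB hAB hU hBU h1
      refine ⟨g * k, mul_mem hg hk, ?_⟩
      have e' := congrArg (fun R => conjBy R g) e
      simp only [conjBy_conjBy, mul_inv_cancel, conjBy_one] at e'
      exact e'
  rw [eq_top_iff, ← hS.1.generates]
  refine iSup₂_le fun T hT => ?_
  obtain ⟨g, hg, rfl⟩ := hall T hT
  rintro _ ⟨a, ha, rfl⟩
  exact mul_mem (mul_mem hg (hAU ha)) (inv_mem hg)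

end CfsgLib.RootSubgroups
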