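import Mathlib.Algebra.Algebra.Basic
import Cfsg.Agent.RootSubgroups.SL2Pair
import Cfsg.Agent.RootSubgroups.Hom

set_option autoImplicit false

/-!
Root subgroups `1 + k X` (`X ^ 2 = 0`) of a group that sits inside a `k`-algebra, and the trichotomy for a family
of them: `XY = YX` (commuting), `XYX = lX`, `YXY = lY` with `l ≠ 0` (image of `SL₂(k)`), or `XYX = YXY = 0` with
`XY - YX` again a root (commutator case).
-/

namespace CfsgLib.LinRoot

open Cfsg CfsgLib.RankOne CfsgLib.SL2Pair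

variable {k : Type*} [Field k] {R : Type*} [Ring R] [Algebra k R] {G : Type*} [Group G]

/-- The subgroup `1 + k X`. -/
def T (ι : G →* R) (X : R) : Subgroup G := Subgroup.closure {g | ∃ c : k, ι g = 1 + c • X}

/-- `X` is a root: square zero, non-zero, with all of `1 + k X` in the group. -/
structure IsRoot (ι : G →* R) (X : R) : Prop where
  sq : X * X = 0
  ne : X ≠ 0
  mem : ∀ c : k, ∃ g : G, ι g = 1 + c • X

variable {ι : G →* R} {X Y Z : R}

theorem add_mul_add (hX : X * X = 0) (c d : k) : (1 + c • X) * (1 + d • X) = 1 + (c + d) • X := by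
  simp only [add_mul, mul_add, one_mul, mul_one, smul_mul_assoc, mul_smul_comm, hX, smul_zero, add_zero]
  module

theorem inv_coe (hX : X * X = 0) {g : G} {c : k} (hg : ι g = 1 + c • X) : ι g⁻¹ = 1 + (-c) • X := by
  calc ι g⁻¹ = ι g⁻¹ * ((1 + c • X) * (1 + (-c) • X)) := by
        rw [add_mul_add hX, add_neg_cancel, zero_smul, add_zero, mul_one]
    _ = 1 + (-c) • X := by rw [← mul_assoc, ← hg, ← map_mul, inv_mul_cancel, map_one, one_mul]

theorem mem_T (hX : X * X = 0) {g : G} : g ∈ T (k := k) ι X ↔ ∃ c : k, ι g = 1 + c • X := by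
  refine ⟨fun h => ?_, fun h => Subgroup.subset_closure h⟩
  induction h using Subgroup.closure_induction with
  | mem x hx => exact hx
  | one => exact ⟨0, by rw [map_one, zero_smul, add_zero]⟩
  | mul x y _ _ hx hy =>
    obtain ⟨c, hc⟩ := hx
    obtain ⟨d, hd⟩ := hy
    exact ⟨c + d, by rw [map_mul, hc, hd, add_mul_add hX]⟩
  | inv x _ hx =>
    obtain ⟨c, hc⟩ := hx
    exact ⟨-c, inv_coe hX hc⟩

theorem smul_ne_zero' {c : k} (hc : c ≠ 0) (hX : X ≠ 0) : c • X ≠ 0 := fun h => hX (by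
  rw [← one_smul k X, ← inv_mul_cancel₀ hc, mul_smul, h, smul_zero])

theorem eq_zero_of_smul {c : k} (hX : X ≠ 0) (h : c • X = 0) : c = 0 :=
  by_contra fun hc => smul_ne_zero' hc hX h

theorem T_smul {c : k} (hc : c ≠ 0) (hX : X * X = 0) : T (k := k) ι (c • X) = T (k := k) ι X := by
  have h2 : (c • X) * (c • X) = 0 := by simp only [smul_mul_assoc, mul_smul_comm, hX, smul_zero]
  ext g
  rw [mem_T h2, mem_T hX]
  constructor
  · rintro ⟨d, hd⟩
    exact ⟨d * c, by rw [hd, mul_smul]⟩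
  · rintro ⟨d, hd⟩
    exact ⟨d * c⁻¹, by rw [hd, smul_smul, mul_assoc, inv_mul_cancel₀ hc, mul_one]⟩

theorem IsRoot.smul {c : k} (h : IsRoot (k := k) ι X) (hc : c ≠ 0) : IsRoot (k := k) ι (c • X) :=
  ⟨by simp only [smul_mul_assoc, mul_smul_comm, h.sq, smul_zero], smul_ne_zero' hc h.ne,
    fun d => by obtain ⟨g, hg⟩ := h.mem (d * c); exact ⟨g, by rw [hg, mul_smul]⟩⟩

theorem commutative_T (hι : Function.Injective ι) (hX : X * X = 0) : IsMulCommutative (T (k := k) ι X) := by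
  refine ⟨⟨fun a b => Subtype.ext (hι ?_)⟩⟩
  obtain ⟨c, hc⟩ := (mem_T hX).1 a.2
  obtain ⟨d, hd⟩ := (mem_T hX).1 b.2
  simp only [Subgroup.coe_mul, map_mul, hc, hd, add_mul_add hX, add_comm c d]

theorem exists_ne_one (h : IsRoot (k := k) ι X) : ∃ g ∈ T (k := k) ι X, ι g = 1 + X ∧ g ≠ 1 := by
  obtain ⟨g, hg⟩ := h.mem 1
  refine ⟨g, (mem_T h.sq).2 ⟨1, hg⟩, by rw [hg, one_smul], fun e => h.ne ?_⟩
  rw [e, map_one, one_smul] at hg
  exact (add_eq_left.1 hg.symm)

theorem T_ne_bot (h : IsRoot (k := k) ι X) : T (k := k) ι X ≠ ⊥ := by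
  obtain ⟨g, hg, -, hg1⟩ := exists_ne_one h
  exact fun e => hg1 ((Subgroup.mem_bot).1 (e ▸ hg))

theorem conjBy_T (hι : Function.Injective ι) (hX : X * X = 0) (g : G) :
    conjBy (T (k := k) ι X) g = T (k := k) ι (ι g * X * ι g⁻¹) := by
  have e1 : ι g⁻¹ * ι g = 1 := by rw [← map_mul, inv_mul_cancel, map_one]
  have e2 : ι g * ι g⁻¹ = 1 := by rw [← map_mul, mul_inv_cancel, map_one]
  have hY : (ι g * X * ι g⁻¹) * (ι g * X * ι g⁻¹) = 0 := by
    calc (ι g * X * ι g⁻¹) * (ι g * X * ι g⁻¹) = ι g * X * (ι g⁻¹ * ι g) * X * ι g⁻¹ := by simp only [mul_assoc]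
      _ = 0 := by rw [e1, mul_one, mul_assoc (ι g), hX, mul_zero, zero_mul]
  ext x
  rw [mem_conjBy, mem_T hX, mem_T hY]
  refine exists_congr fun c => ?_
  constructor
  · intro h
    calc ι x = ι g * ι (g⁻¹ * x * g) * ι g⁻¹ := by
          rw [← map_mul, ← map_mul]; congr 1; group
      _ = 1 + c • (ι g * X * ι g⁻¹) := by
          rw [h, mul_add, mul_one, add_mul, e2, mul_smul_comm, smul_mul_assoc]
  · intro h
    rw [map_mul, map_mul, h, mul_add, mul_one, add_mul, e1, mul_smul_comm, smul_mul_assoc]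
    congr 2
    calc ι g⁻¹ * (ι g * X * ι g⁻¹) * ι g = (ι g⁻¹ * ι g) * X * (ι g⁻¹ * ι g) := by simp only [mul_assoc]
      _ = X := by rw [e1, one_mul, mul_one]

theorem commute_T (hι : Function.Injective ι) (hX : X * X = 0) (hY : Y * Y = 0) (h : X * Y = Y * X) :
    ⁅T (k := k) ι X, T (k := k) ι Y⁆ = ⊥ := by
  rw [eq_bot_iff, Subgroup.commutator_le]
  intro a ha b hb
  obtain ⟨c, hc⟩ := (mem_T hX).1 ha
  obtain ⟨d, hd⟩ := (mem_T hY).1 hb
  rw [Subgroup.mem_bot, commutatorElement_eq_one_iff_mul_comm]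
  apply hι
  rw [map_mul, map_mul, hc, hd]
  simp only [add_mul, mul_add, one_mul, mul_one, smul_mul_assoc, mul_smul_comm, h, smul_smul, mul_comm c d]
  module

theorem not_rankOne_of_commute {A B : Subgroup G} (h : ⁅A, B⁆ = ⊥) : ¬ IsRankOnePair A B := by
  intro hr
  obtain ⟨a, ha, ha1⟩ := exists_ne_one_left hr
  obtain ⟨b, hb, -, he⟩ := hr.cond_left a ha ha1
  have hcomm : ∀ x ∈ A, ∀ y ∈ B, x * y = y * x := fun x hx y hy => commutatorElement_eq_one_iff_mul_comm.1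
    (Subgroup.mem_bot.1 (h ▸ Subgroup.commutator_mem_commutator hx hy))
  have hA : conjBy A b⁻¹ = A := by
    ext x
    rw [mem_conjBy, inv_inv]
    constructor
    · intro hx
      have := hcomm _ hx b hb
      rw [show b * x * b⁻¹ * b = b * x by group] at this
      exact (mul_left_cancel this) ▸ hx
    · intro hx
      rw [← hcomm x hx b hb, mul_inv_cancel_right]
      exact hx
  have hB : conjBy B a⁻¹ = B := by
    ext x
    rw [mem_conjBy, inv_inv]
    constructor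
    · intro hx
      have := hcomm a ha _ hx
      rw [show a * x * a⁻¹ * a = a * x by group] at this
      exact (mul_left_cancel this.symm) ▸ hx
    · intro hx
      rw [hcomm a ha x hx, mul_inv_cancel_right]
      exact hx
  exact hr.ne (by rw [← hA, he, hB])

/-! ### The rank one case -/

section SL2

variable (X Y : R) (hX : X * X = 0) (hY : Y * Y = 0) (hxyx : X * Y * X = X) (hyxy : Y * X * Y = Y)

/-- The map `M₂(k) → R` attached to a pair of matrix units `X`, `Y`, with `1` on the complement. -/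
def emb (g : Matrix (Fin 2) (Fin 2) k) : R :=
  1 + (g 0 0 - 1) • (X * Y) + g 0 1 • X + g 1 0 • Y + (g 1 1 - 1) • (Y * X)

include hX hY hxyx hyxy in
theorem emb_mul (g h : Matrix (Fin 2) (Fin 2) k) : emb X Y (g * h) = emb X Y g * emb X Y h := by
  have h1 : ∀ z, X * (X * z) = 0 := fun z => by rw [← mul_assoc, hX, zero_mul]
  have h2 : ∀ z, Y * (Y * z) = 0 := fun z => by rw [← mul_assoc, hY, zero_mul]
  have h3 : ∀ z, X * (Y * (X * z)) = X * z := fun z => by rw [← mul_assoc, ← mul_assoc, hxyx]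
  have h4 : ∀ z, Y * (X * (Y * z)) = Y * z := fun z => by rw [← mul_assoc, ← mul_assoc, hyxy]
  have h3' : X * (Y * X) = X := by rw [← mul_assoc, hxyx]
  have h4' : Y * (X * Y) = Y := by rw [← mul_assoc, hyxy]
  simp only [emb, Matrix.mul_apply, Fin.sum_univ_two, add_mul, mul_add, one_mul, mul_one, smul_mul_assoc,
    mul_smul_comm, mul_assoc, h1, h2, h3, h4, h3', h4', hX, hY, mul_zero, smul_zero, add_zero, zero_add, smul_smul]
  module

theorem emb_up (c : k) : emb X Y (up c : Matrix (Fin 2) (Fin 2) k) = 1 + c • X := by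
  simp [emb, up_coe]

theorem emb_low (c : k) : emb X Y (low c : Matrix (Fin 2) (Fin 2) k) = 1 + c • Y := by
  simp [emb, low_coe]

include hX hY hxyx hyxy in
theorem emb_inj (hne : X ≠ 0) (hne' : Y ≠ 0) {g : Matrix (Fin 2) (Fin 2) k} (h : emb X Y g = 1) : g = 1 := by
  have h3' : X * (Y * X) = X := by rw [← mul_assoc, hxyx]
  have h4' : Y * (X * Y) = Y := by rw [← mul_assoc, hyxy]
  have h1 : ∀ z, X * (X * z) = 0 := fun z => by rw [← mul_assoc, hX, zero_mul]
  have h2 : ∀ z, Y * (Y * z) = 0 := fun z => by rw [← mul_assoc, hY, zero_mul]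
  have eX : X * emb X Y g * X = X * X := by rw [h, mul_one]
  simp only [emb, add_mul, mul_add, one_mul, mul_one, smul_mul_assoc, mul_smul_comm, mul_assoc, h1, h3', hX,
    mul_zero, smul_zero, add_zero, zero_add] at eX
  have eY : Y * emb X Y g * Y = Y * Y := by rw [h, mul_one]
  simp only [emb, add_mul, mul_add, one_mul, mul_one, smul_mul_assoc, mul_smul_comm, mul_assoc, h2, h4', hY,
    mul_zero, smul_zero, add_zero, zero_add] at eY
  have h10 : g 1 0 = 0 := eq_zero_of_smul hne eX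
  have h01 : g 0 1 = 0 := eq_zero_of_smul hne' eY
  have eX' : emb X Y g * X = X := by rw [h, one_mul]
  simp only [emb, h10, h01, zero_smul, add_zero, add_mul, one_mul, smul_mul_assoc, mul_assoc, h3', hX,
    mul_zero, smul_zero] at eX'
  have eY' : emb X Y g * Y = Y := by rw [h, one_mul]
  simp only [emb, h10, h01, zero_smul, add_zero, add_mul, one_mul, smul_mul_assoc, mul_assoc, h4', hY,
    mul_zero, smul_zero] at eY'
  have h00 : g 0 0 = 1 := sub_eq_zero.1 (eq_zero_of_smul hne (add_eq_left.1 eX'))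
  have h11 : g 1 1 = 1 := sub_eq_zero.1 (eq_zero_of_smul hne' (add_eq_left.1 eY'))
  ext i j
  fin_cases i <;> fin_cases j <;> simp [h00, h01, h10, h11]

end SL2

theorem exists_hom (hι : Function.Injective ι) (hX : IsRoot (k := k) ι X) (hY : IsRoot (k := k) ι Y)
    (hxyx : X * Y * X = X) (hyxy : Y * X * Y = Y) :
    ∃ φ : Matrix.SpecialLinearGroup (Fin 2) k →* G, Function.Injective φ ∧
      (upperUnipotentSL2 k).map φ = T (k := k) ι X ∧ (lowerUnipotentSL2 k).map φ = T (k := k) ι Y := by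
  have hrange : ∀ g : Matrix.SpecialLinearGroup (Fin 2) k, ∃ x : G, ι x = emb X Y (g : Matrix (Fin 2) (Fin 2) k) := by
    have hmul := emb_mul (k := k) X Y hX.sq hY.sq hxyx hyxy
    have h1 : emb X Y (1 : Matrix (Fin 2) (Fin 2) k) = 1 := by simp [emb]
    intro g
    have hg : g ∈ lowerUnipotentSL2 k ⊔ upperUnipotentSL2 k := by rw [SL2Pair.sup_eq_top]; trivial
    rw [Subgroup.sup_eq_closure] at hg
    induction hg using Subgroup.closure_induction'' with
    | mem x hx =>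
      rcases hx with hx | hx
      · obtain ⟨c, rfl⟩ := mem_lower.1 hx; rw [emb_low]; exact hY.mem c
      · obtain ⟨c, rfl⟩ := mem_upper.1 hx; rw [emb_up]; exact hX.mem c
    | inv_mem x hx =>
      rcases hx with hx | hx
      · obtain ⟨c, rfl⟩ := mem_lower.1 hx; rw [low_inv, emb_low]; exact hY.mem _
      · obtain ⟨c, rfl⟩ := mem_upper.1 hx; rw [up_inv, emb_up]; exact hX.mem _
    | one => exact ⟨1, by rw [map_one, Matrix.SpecialLinearGroup.coe_one, h1]⟩
    | mul x y _ _ hx hy =>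
      obtain ⟨a, ha⟩ := hx
      obtain ⟨b, hb⟩ := hy
      exact ⟨a * b, by rw [map_mul, ha, hb, Matrix.SpecialLinearGroup.coe_mul, hmul]⟩
  choose f hf using hrange
  let φ : Matrix.SpecialLinearGroup (Fin 2) k →* G := MonoidHom.mk' f fun a b => hι (by
    rw [map_mul, hf, hf, hf, Matrix.SpecialLinearGroup.coe_mul, emb_mul X Y hX.sq hY.sq hxyx hyxy])
  have hup : ∀ c : k, ι (φ (up c)) = 1 + c • X := fun c => (hf (up c)).trans (emb_up X Y c)
  have hlow : ∀ c : k, ι (φ (low c)) = 1 + c • Y := fun c => (hf (low c)).trans (emb_low X Y c)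
  refine ⟨φ, (injective_iff_map_eq_one φ).2 fun g hg => ?_, ?_, ?_⟩
  · have : emb X Y (g : Matrix (Fin 2) (Fin 2) k) = 1 := by
      rw [← hf g, show f g = φ g from rfl, hg, map_one]
    exact Subtype.ext (emb_inj X Y hX.sq hY.sq hxyx hyxy hX.ne hY.ne this)
  · ext x
    rw [Subgroup.mem_map, mem_T hX.sq]
    constructor
    · rintro ⟨g, hg, rfl⟩
      obtain ⟨c, rfl⟩ := mem_upper.1 hg
      exact ⟨c, hup c⟩
    · rintro ⟨c, hc⟩
      exact ⟨up c, mem_upper.2 ⟨c, rfl⟩, hι (by rw [hup, hc])⟩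
  · ext x
    rw [Subgroup.mem_map, mem_T hY.sq]
    constructor
    · rintro ⟨g, hg, rfl⟩
      obtain ⟨c, rfl⟩ := mem_lower.1 hg
      exact ⟨c, hlow c⟩
    · rintro ⟨c, hc⟩
      exact ⟨low c, mem_lower.2 ⟨c, rfl⟩, hι (by rw [hlow, hc])⟩

theorem rankOne_of (hι : Function.Injective ι) (hX : IsRoot (k := k) ι X) (hY : IsRoot (k := k) ι Y) {l : k}
    (hl : l ≠ 0) (hxyx : X * Y * X = l • X) (hyxy : Y * X * Y = l • Y) :
    IsRankOnePair (T (k := k) ι X) (T (k := k) ι Y) ∧ IsPSL2PairOver k (T (k := k) ι X) (T (k := k) ι Y) := by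
  obtain ⟨φ, hφ, hu, hlo⟩ := exists_hom hι hX (hY.smul (inv_ne_zero hl))
    (by rw [mul_smul_comm, smul_mul_assoc, hxyx, smul_smul, inv_mul_cancel₀ hl, one_smul])
    (by rw [smul_mul_assoc, smul_mul_assoc, mul_smul_comm, hyxy, smul_smul, smul_smul]; congr 1; field_simp)
  rw [T_smul (inv_ne_zero hl) hY.sq] at hlo
  refine ⟨?_, φ, ?_, ?_, hu, hlo⟩
  · have hp := RankOnePair_symm (SL2Pair.isRankOnePair (k := k))
    have := CfsgLib.RootSubgroups.map_rankOne φ hp (fun e => hp.ne (Subgroup.map_injective hφ e))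
    rwa [hu, hlo] at this
  · rw [← hu, ← hlo, ← Subgroup.map_sup, sup_comm, SL2Pair.sup_eq_top, MonoidHom.range_eq_map]
  · rw [(MonoidHom.ker_eq_bot_iff φ).2 hφ]; exact bot_le

/-! ### The commutator case -/

theorem commutator_coe (hX : X * X = 0) (hY : Y * Y = 0) (hxyx : X * Y * X = 0) (hyxy : Y * X * Y = 0)
    {a b : G} {c d : k} (ha : ι a = 1 + c • X) (hb : ι b = 1 + d • Y) :
    ι (a * b * a⁻¹ * b⁻¹) = 1 + (c * d) • (X * Y - Y * X) := by
  have h1 : ∀ z, X * (X * z) = 0 := fun z => by rw [← mul_assoc, hX, zero_mul]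
  have h2 : ∀ z, Y * (Y * z) = 0 := fun z => by rw [← mul_assoc, hY, zero_mul]
  have h3 : ∀ z, X * (Y * (X * z)) = 0 := fun z => by rw [← mul_assoc, ← mul_assoc, hxyx, zero_mul]
  have h4 : ∀ z, Y * (X * (Y * z)) = 0 := fun z => by rw [← mul_assoc, ← mul_assoc, hyxy, zero_mul]
  have h3' : X * (Y * X) = 0 := by rw [← mul_assoc, hxyx]
  have h4' : Y * (X * Y) = 0 := by rw [← mul_assoc, hyxy]
  rw [map_mul, map_mul, map_mul, ha, hb, inv_coe hX ha, inv_coe hY hb]
  simp only [add_mul, mul_add, one_mul, mul_one, smul_mul_assoc, mul_smul_comm, mul_assoc, h1, h2, h3, h4,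
    h3', h4', hX, hY, mul_zero, smul_zero, add_zero, zero_add, smul_smul, smul_sub]
  module

theorem z_props (hX : X * X = 0) (hY : Y * Y = 0) (hxyx : X * Y * X = 0) (hyxy : Y * X * Y = 0) :
    X * (X * Y - Y * X) = 0 ∧ (X * Y - Y * X) * X = 0 ∧ Y * (X * Y - Y * X) = 0 ∧ (X * Y - Y * X) * Y = 0 := by
  refine ⟨?_, ?_, ?_, ?_⟩ <;>
    simp only [mul_sub, sub_mul, ← mul_assoc, hxyx, hyxy, hX, hY, zero_mul, sub_zero] <;>
    simp [mul_assoc, hX, hY]

theorem commutatorCase_of (hι : Function.Injective ι) {S : Set (Subgroup G)} (hX : IsRoot (k := k) ι X)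
    (hY : IsRoot (k := k) ι Y) (hxyx : X * Y * X = 0) (hyxy : Y * X * Y = 0)
    (hZ : IsRoot (k := k) ι (X * Y - Y * X)) (hS : T (k := k) ι (X * Y - Y * X) ∈ S) :
    RootCommutatorCase S (T (k := k) ι X) (T (k := k) ι Y) := by
  have key := fun {a b : G} {c d : k} (ha : ι a = 1 + c • X) (hb : ι b = 1 + d • Y) =>
    commutator_coe hX.sq hY.sq hxyx hyxy ha hb
  have hl : ∀ a ∈ T (k := k) ι X, a ≠ 1 →
      Subgroup.closure ((fun b : G => a * b * a⁻¹ * b⁻¹) '' (T (k := k) ι Y : Set G)) =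
        T (k := k) ι (X * Y - Y * X) := by
    intro a ha ha1
    obtain ⟨c, hc⟩ := (mem_T hX.sq).1 ha
    have hc0 : c ≠ 0 := fun e => ha1 (hι (by rw [hc, e, zero_smul, add_zero, map_one]))
    refine le_antisymm ((Subgroup.closure_le _).2 ?_) fun x hx => ?_
    · rintro _ ⟨b, hb, rfl⟩
      obtain ⟨d, hd⟩ := (mem_T hY.sq).1 hb
      exact (mem_T hZ.sq).2 ⟨_, key hc hd⟩
    · obtain ⟨e, he⟩ := (mem_T hZ.sq).1 hx
      obtain ⟨b, hb⟩ := hY.mem (c⁻¹ * e)
      refine Subgroup.subset_closure ⟨b, (mem_T hY.sq).2 ⟨_, hb⟩, hι ?_⟩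
      rw [key hc hb, he, ← mul_assoc, mul_inv_cancel₀ hc0, one_mul]
  have hr : ∀ b ∈ T (k := k) ι Y, b ≠ 1 →
      Subgroup.closure ((fun a : G => a * b * a⁻¹ * b⁻¹) '' (T (k := k) ι X : Set G)) =
        T (k := k) ι (X * Y - Y * X) := by
    intro b hb hb1
    obtain ⟨d, hd⟩ := (mem_T hY.sq).1 hb
    have hd0 : d ≠ 0 := fun e => hb1 (hι (by rw [hd, e, zero_smul, add_zero, map_one]))
    refine le_antisymm ((Subgroup.closure_le _).2 ?_) fun x hx => ?_
    · rintro _ ⟨a, ha, rfl⟩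
      obtain ⟨c, hc⟩ := (mem_T hX.sq).1 ha
      exact (mem_T hZ.sq).2 ⟨_, key hc hd⟩
    · obtain ⟨e, he⟩ := (mem_T hZ.sq).1 hx
      obtain ⟨a, ha⟩ := hX.mem (e * d⁻¹)
      refine Subgroup.subset_closure ⟨a, (mem_T hX.sq).2 ⟨_, ha⟩, hι ?_⟩
      rw [key ha hd, he, mul_assoc, inv_mul_cancel₀ hd0, mul_one]
  have hcomm : ⁅T (k := k) ι X, T (k := k) ι Y⁆ = T (k := k) ι (X * Y - Y * X) := by
    refine le_antisymm (Subgroup.commutator_le.2 fun a ha b hb => ?_) ?_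
    · obtain ⟨c, hc⟩ := (mem_T hX.sq).1 ha
      obtain ⟨d, hd⟩ := (mem_T hY.sq).1 hb
      rw [commutatorElement_def]
      exact (mem_T hZ.sq).2 ⟨_, key hc hd⟩
    · obtain ⟨a, ha, -, ha1⟩ := exists_ne_one hX
      rw [← hl a ha ha1, Subgroup.closure_le]
      rintro _ ⟨b, hb, rfl⟩
      exact Subgroup.commutator_mem_commutator ha hb
  obtain ⟨z1, z2, z3, z4⟩ := z_props hX.sq hY.sq hxyx hyxy
  refine ⟨hcomm ▸ hS, ?_, fun a ha ha1 => by rw [hcomm, hl a ha ha1], fun b hb hb1 => by rw [hcomm, hr b hb hb1]⟩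
  intro z hz x hx
  rw [hcomm] at hz
  have hle : T (k := k) ι X ⊔ T (k := k) ι Y ≤ Subgroup.centralizer {z} := by
    obtain ⟨e, he⟩ := (mem_T hZ.sq).1 hz
    refine sup_le ?_ ?_ <;> intro w hw <;> rw [Subgroup.mem_centralizer_singleton_iff] <;> apply hι
    · obtain ⟨c, hc⟩ := (mem_T hX.sq).1 hw
      rw [map_mul, map_mul, hc, he]
      simp only [add_mul, mul_add, one_mul, mul_one, smul_mul_assoc, mul_smul_comm, z1, z2, smul_zero, add_zero]
      module
    · obtain ⟨c, hc⟩ := (mem_T hY.sq).1 hw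
      rw [map_mul, map_mul, hc, he]
      simp only [add_mul, mul_add, one_mul, mul_one, smul_mul_assoc, mul_smul_comm, z3, z4, smul_zero, add_zero]
      module
  exact ((Subgroup.mem_centralizer_singleton_iff).1 (hle hx)).symm

theorem not_rankOne_of_commCase (hι : Function.Injective ι) (hX : IsRoot (k := k) ι X) (hY : IsRoot (k := k) ι Y)
    (hxyx : X * Y * X = 0) (hyxy : Y * X * Y = 0) (hne : X * Y ≠ Y * X) :
    ¬ IsRankOnePair (T (k := k) ι X) (T (k := k) ι Y) := by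
  intro hr
  obtain ⟨a, ha, hca, ha1⟩ := exists_ne_one hX
  obtain ⟨b, hb, -, he⟩ := hr.cond_left a ha ha1
  obtain ⟨d, hd⟩ := (mem_T hY.sq).1 hb
  have ha' : ι a = 1 + (1 : k) • X := by rw [one_smul, hca]
  have h1 := inv_coe hX.sq ha'
  have h2 := inv_coe hY.sq hd
  -- `b⁻¹ a b` lies in `a⁻¹ B a`
  have hmem : a * (b⁻¹ * a * b) * a⁻¹ ∈ T (k := k) ι Y := by
    have : b⁻¹ * a * b ∈ conjBy (T (k := k) ι Y) a⁻¹ := by
      rw [← he, mem_conjBy]
      simpa [mul_assoc] using ha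
    rw [mem_conjBy] at this
    simpa using this
  obtain ⟨d', hd'⟩ := (mem_T hY.sq).1 hmem
  obtain ⟨z1, z2, z3, z4⟩ := z_props hX.sq hY.sq hxyx hyxy
  have e : a * (b⁻¹ * a * b) * a⁻¹ = a * (b⁻¹ * a * (b⁻¹)⁻¹ * a⁻¹) * a * a⁻¹ := by group
  have hc : ι (b⁻¹ * a * (b⁻¹)⁻¹ * a⁻¹) = 1 + (-d * 1) • (Y * X - X * Y) :=
    commutator_coe hY.sq hX.sq hyxy hxyx h2 ha'
  rw [e, map_mul, map_mul, map_mul, hc, h1, ha'] at hd'
  simp only [one_smul, neg_smul, add_mul, mul_add, one_mul, mul_one, smul_mul_assoc, mul_smul_comm, mul_neg,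
    neg_mul, hX.sq, smul_sub, mul_sub, sub_mul] at hd'
  have eX := congrArg (fun w => X * w * X) hd'
  have eY := congrArg (fun w => Y * w) hd'
  have h5 : ∀ z, X * (X * z) = 0 := fun z => by rw [← mul_assoc, hX.sq, zero_mul]
  have h6 : ∀ z, Y * (Y * z) = 0 := fun z => by rw [← mul_assoc, hY.sq, zero_mul]
  have h7 : ∀ z, X * (Y * (X * z)) = 0 := fun z => by rw [← mul_assoc, ← mul_assoc, hxyx, zero_mul]
  have h8 : ∀ z, Y * (X * (Y * z)) = 0 := fun z => by rw [← mul_assoc, ← mul_assoc, hyxy, zero_mul]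
  have h7' : X * (Y * X) = 0 := by rw [← mul_assoc, hxyx]
  have h8' : Y * (X * Y) = 0 := by rw [← mul_assoc, hyxy]
  simp only [mul_add, mul_neg, mul_sub, mul_assoc, mul_smul_comm, mul_one, h5, h6, h7, h8, h7', h8',
    hX.sq, hY.sq, mul_zero, smul_zero, neg_zero, add_zero, sub_zero, zero_sub, zero_add] at eY
  have hYX : Y * X = 0 := by
    revert eY
    intro eY
    simpa using eY
  have eX2 := congrArg (fun w => w * Y) hd'
  simp only [add_mul, neg_mul, sub_mul, mul_assoc, smul_mul_assoc, one_mul, h5, h6, h7, h8, h7', h8',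
    hX.sq, hY.sq, mul_zero, smul_zero, neg_zero, add_zero, sub_zero, zero_sub, zero_add] at eX2
  exact hne (by rw [hYX]; simpa using eX2)

/-! ### Families -/

/-- The trichotomy for a pair of roots of a family `D`. -/
inductive Pair (k : Type*) [Field k] {R : Type*} [Ring R] [Algebra k R] (D : Set R) (X Y : R) : Prop
  | comm : X * Y = Y * X → Pair k D X Y
  | rankOne (l : k) : l ≠ 0 → X * Y * X = l • X → Y * X * Y = l • Y → Pair k D X Y
  | commutator (c : k) (Z : R) : X * Y * X = 0 → Y * X * Y = 0 → X * Y ≠ Y * X → Z ∈ D →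
      X * Y - Y * X = c • Z → Pair k D X Y

variable {D : Set R} {S : Set (Subgroup G)}

theorem commutator_root (hroot : ∀ X ∈ D, IsRoot (k := k) ι X) {c : k} (hne : X * Y ≠ Y * X) (hZ : Z ∈ D)
    (he : X * Y - Y * X = c • Z) (hS : ∀ X ∈ D, T (k := k) ι X ∈ S) :
    IsRoot (k := k) ι (X * Y - Y * X) ∧ T (k := k) ι (X * Y - Y * X) ∈ S := by
  have hc : c ≠ 0 := fun e => hne (sub_eq_zero.1 (by rw [he, e, zero_smul]))
  rw [he, T_smul hc (hroot Z hZ).sq]
  exact ⟨(hroot Z hZ).smul hc, hS Z hZ⟩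

theorem kRootSet (hι : Function.Injective ι) (hroot : ∀ X ∈ D, IsRoot (k := k) ι X)
    (hS : S = T (k := k) ι '' D) (hconj : ∀ X ∈ D, ∀ g : G, conjBy (T (k := k) ι X) g ∈ S)
    (hgen : (⨆ A ∈ S, A) = ⊤) (hpair : ∀ X ∈ D, ∀ Y ∈ D, Pair k D X Y) : IsKRootSubgroupSet k S := by
  have hmem : ∀ X ∈ D, T (k := k) ι X ∈ S := fun X hX => hS ▸ Set.mem_image_of_mem _ hX
  refine ⟨⟨?_, ?_, hgen, ?_, ?_⟩, ?_⟩
  · rintro A hA
    obtain ⟨X, hX, rfl⟩ := hS ▸ hA
    exact commutative_T hι (hroot X hX).sq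
  · rintro A hA
    obtain ⟨X, hX, rfl⟩ := hS ▸ hA
    exact T_ne_bot (hroot X hX)
  · rintro A hA g
    obtain ⟨X, hX, rfl⟩ := hS ▸ hA
    exact hconj X hX g
  · rintro A hA B hB
    obtain ⟨X, hX, rfl⟩ := hS ▸ hA
    obtain ⟨Y, hY, rfl⟩ := hS ▸ hB
    rcases hpair X hX Y hY with h | ⟨l, hl, h1, h2⟩ | ⟨c, Z, h1, h2, hne, hZ, he⟩
    · exact Or.inl (commute_T hι (hroot X hX).sq (hroot Y hY).sq h)
    · exact Or.inr (Or.inl (rankOne_of hι (hroot X hX) (hroot Y hY) hl h1 h2).1)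
    · obtain ⟨hz, hzS⟩ := commutator_root hroot hne hZ he hmem
      exact Or.inr (Or.inr (commutatorCase_of hι (hroot X hX) (hroot Y hY) h1 h2 hz hzS))
  · rintro A hA B hB hr
    obtain ⟨X, hX, rfl⟩ := hS ▸ hA
    obtain ⟨Y, hY, rfl⟩ := hS ▸ hB
    rcases hpair X hX Y hY with h | ⟨l, hl, h1, h2⟩ | ⟨c, Z, h1, h2, hne, hZ, he⟩
    · exact absurd hr (not_rankOne_of_commute (commute_T hι (hroot X hX).sq (hroot Y hY).sq h))
    · exact (rankOne_of hι (hroot X hX) (hroot Y hY) hl h1 h2).2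
    · exact absurd hr (not_rankOne_of_commCase hι (hroot X hX) (hroot Y hY) h1 h2 hne)

theorem degenerate (hι : Function.Injective ι) (hroot : ∀ X ∈ D, IsRoot (k := k) ι X)
    (hS : S = T (k := k) ι '' D)
    (hpair : ∀ X ∈ D, ∀ Y ∈ D, X * Y = Y * X ∨ ∃ l : k, l ≠ 0 ∧ X * Y * X = l • X ∧ Y * X * Y = l • Y) :
    IsDegenerateRootSet S := by
  rintro A hA B hB ⟨hmem, hcen, -, -⟩
  obtain ⟨X, hX, rfl⟩ := hS ▸ hA
  obtain ⟨Y, hY, rfl⟩ := hS ▸ hB
  rcases hpair X hX Y hY with h | ⟨l, hl, h1, h2⟩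
  · rw [commute_T hι (hroot X hX).sq (hroot Y hY).sq h, hS] at hmem
    obtain ⟨Z, hZ, hZe⟩ := hmem
    exact T_ne_bot (hroot Z hZ) hZe
  · obtain ⟨φ, hφ, hu, hlo⟩ := exists_hom hι (hroot X hX) ((hroot Y hY).smul (inv_ne_zero hl))
      (by rw [mul_smul_comm, smul_mul_assoc, h1, smul_smul, inv_mul_cancel₀ hl, one_smul])
      (by rw [smul_mul_assoc, smul_mul_assoc, mul_smul_comm, h2, smul_smul, smul_smul]; congr 1; field_simp)
    rw [T_smul (inv_ne_zero hl) (hroot Y hY).sq] at hlo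
    have ha : φ (up 1) ∈ T (k := k) ι X := hu ▸ ⟨_, mem_upper.2 ⟨1, rfl⟩, rfl⟩
    have hb : φ (low 1) ∈ T (k := k) ι Y := hlo ▸ ⟨_, mem_lower.2 ⟨1, rfl⟩, rfl⟩
    have hc := hcen _ (Subgroup.commutator_mem_commutator ha hb) _ (Subgroup.mem_sup_left ha)
    rw [commutatorElement_def] at hc
    simp only [← map_inv, ← map_mul] at hc
    have := congrArg (fun g : Matrix.SpecialLinearGroup (Fin 2) k => (g : Matrix (Fin 2) (Fin 2) k) 0 0) (hφ hc)
    simp [up_inv, low_inv, up_coe, low_coe, Matrix.mul_apply, Fin.sum_univ_two] at this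

/-- A connected set of root subgroups is a single conjugacy class. -/
theorem conjClass_of_connected (hne : S.Nonempty) (hc : IsConnectedFamily (FAdj S) S) :
    IsConjClassOfSubgroups S := by
  refine ⟨hne, fun A hA B hB => ?_⟩
  induction hc A hA B hB with
  | refl => exact ⟨1, (conjBy_one A).symm⟩
  | tail _ h2 ih =>
    obtain ⟨g, hg⟩ := ih h2.1
    obtain ⟨x, -, hx⟩ := exists_swap h2.2.2
    exact ⟨x * g, by rw [← conjBy_conjBy, ← hg, hx]⟩

/-- Connectivity from a common neighbour for every pair of roots. -/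
theorem connected (hι : Function.Injective ι) (hroot : ∀ X ∈ D, IsRoot (k := k) ι X)
    (hS : S = T (k := k) ι '' D)
    (hc : ∀ X ∈ D, ∀ Y ∈ D, Relation.ReflTransGen
      (fun X Y => X ∈ D ∧ Y ∈ D ∧ ∃ l : k, l ≠ 0 ∧ X * Y * X = l • X ∧ Y * X * Y = l • Y) X Y) :
    IsConnectedFamily (FAdj S) S := by
  rintro A hA B hB
  obtain ⟨X, hX, rfl⟩ := hS ▸ hA
  obtain ⟨Y, hY, rfl⟩ := hS ▸ hB
  refine (hc X hX Y hY).lift (T (k := k) ι) ?_
  rintro U V ⟨hU, hV, l, hl, h1, h2⟩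
  exact ⟨hS ▸ Set.mem_image_of_mem _ hU, hS ▸ Set.mem_image_of_mem _ hV,
    (rankOne_of hι (hroot U hU) (hroot V hV) hl h1 h2).1⟩

/-- Restriction of a root datum to a subgroup containing the root subgroups. -/
theorem T_subgroupOf (hX : X * X = 0) (H : Subgroup G) :
    (T (k := k) ι X).subgroupOf H = T (k := k) (ι.comp H.subtype) X := by
  ext x
  rw [Subgroup.mem_subgroupOf, mem_T hX, mem_T hX]
  rfl

theorem IsRoot.restrict {H : Subgroup G} (h : IsRoot (k := k) ι X) (hle : T (k := k) ι X ≤ H) :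
    IsRoot (k := k) (ι.comp H.subtype) X :=
  ⟨h.sq, h.ne, fun c => by
    obtain ⟨g, hg⟩ := h.mem c
    exact ⟨⟨g, hle ((mem_T h.sq).2 ⟨c, hg⟩)⟩, hg⟩⟩

theorem iSup_subgroupOf (S : Set (Subgroup G)) :
    (⨆ A ∈ (fun A : Subgroup G => A.subgroupOf (⨆ B ∈ S, B)) '' S, A) = ⊤ := by
  rw [iSup_image]
  apply Subgroup.map_injective (Subgroup.subtype_injective (⨆ B ∈ S, B))
  simp only [Subgroup.map_iSup, Subgroup.subgroupOf, Subgroup.map_comap_eq, Subgroup.range_subtype,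
    ← MonoidHom.range_eq_map]
  exact iSup_congr fun A => iSup_congr fun hA => inf_eq_right.2 (le_iSup₂_of_le A hA le_rfl)

end CfsgLib.LinRoot

namespace CfsgLib.LinRoot

theorem T_le_iSup {k : Type*} [Field k] {R : Type*} [Ring R] [Algebra k R] {G : Type*} [Group G] (ι : G →* R)
    {D : Set R} {X : R} (hX : X ∈ D) : T (k := k) ι X ≤ ⨆ A ∈ T (k := k) ι '' D, A := by
  rw [iSup_image]
  exact le_iSup₂ (f := fun Y (_ : Y ∈ D) => T (k := k) ι Y) X hX

theorem mem_iSup_image {k : Type*} [Field k] {R : Type*} [Ring R] [Algebra k R] {G : Type*} [Group G] (ι : G →* R)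
    {D : Set R} {X : R} (hX : X ∈ D) (hXX : X * X = 0) {g : G} {c : k} (hg : ι g = 1 + c • X) :
    g ∈ ⨆ A ∈ T (k := k) ι '' D, A := T_le_iSup ι hX ((mem_T hXX).2 ⟨c, hg⟩)

end CfsgLib.LinRoot
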