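import Cfsg.Prelude.Def_RootSubgroups
import Cfsg.Agent.Classical.Transvections
import Mathlib.LinearAlgebra.Matrix.SchurComplement
import Mathlib.RingTheory.Polynomial.Basic
import Mathlib.FieldTheory.Separable

set_option autoImplicit false

/-!
The transvections of `SL_n(F)`, `F` of characteristic two, are root involutions.
-/

namespace CfsgLib.RootInv.Tv

open Matrix Polynomial

variable {ι F : Type*} [Fintype ι] [DecidableEq ι] [Field F]

/-- The rank one matrix `v φ`. -/
abbrev rk (v φ : ι → F) : Matrix ι ι F := Matrix.vecMulVec v φ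

theorem rk_mul (v φ w ψ : ι → F) : rk v φ * rk w ψ = (φ ⬝ᵥ w) • rk v ψ := by
  rw [Matrix.vecMulVec_mul_vecMulVec, Matrix.vecMulVec_smul]

/-- The transvection `1 + v φ`. -/
def tv (v φ : ι → F) (h : φ ⬝ᵥ v = 0) : Matrix.SpecialLinearGroup ι F :=
  ⟨1 + rk v φ, by
    rw [rk, Matrix.vecMulVec_eq (Fin 1), Matrix.det_one_add_replicateCol_mul_replicateRow, h, add_zero]⟩

theorem tv_coe (v φ : ι → F) (h : φ ⬝ᵥ v = 0) : (tv v φ h : Matrix ι ι F) = 1 + rk v φ := rfl

theorem rk_ne_zero {v φ : ι → F} (hv : v ≠ 0) (hφ : φ ≠ 0) : rk v φ ≠ 0 := by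
  obtain ⟨i, hi⟩ := Function.ne_iff.1 hv
  obtain ⟨j, hj⟩ := Function.ne_iff.1 hφ
  intro h
  have := congrFun (congrFun h i) j
  simp [rk, Matrix.vecMulVec_apply] at this
  rcases this with h | h
  · exact hi h
  · exact hj h

/-- The transvections. -/
def IsTv (t : Matrix.SpecialLinearGroup ι F) : Prop :=
  ∃ v φ : ι → F, ∃ h : φ ⬝ᵥ v = 0, v ≠ 0 ∧ φ ≠ 0 ∧ t = tv v φ h

theorem isTv_conj {t : Matrix.SpecialLinearGroup ι F} (ht : IsTv t)
    (g : Matrix.SpecialLinearGroup ι F) : IsTv (g * t * g⁻¹) := by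
  obtain ⟨v, φ, h, hv, hφ, rfl⟩ := ht
  have hgg : (g : Matrix ι ι F) * ((g⁻¹ : Matrix.SpecialLinearGroup ι F) : Matrix ι ι F) = 1 := by
    rw [← Matrix.SpecialLinearGroup.coe_mul, mul_inv_cancel, Matrix.SpecialLinearGroup.coe_one]
  have hgg' : ((g⁻¹ : Matrix.SpecialLinearGroup ι F) : Matrix ι ι F) * (g : Matrix ι ι F) = 1 := by
    rw [← Matrix.SpecialLinearGroup.coe_mul, inv_mul_cancel, Matrix.SpecialLinearGroup.coe_one]
  refine ⟨(g : Matrix ι ι F) *ᵥ v, φ ᵥ* ((g⁻¹ : Matrix.SpecialLinearGroup ι F) : Matrix ι ι F), ?_, ?_, ?_, ?_⟩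
  · rw [← Matrix.dotProduct_mulVec, Matrix.mulVec_mulVec, hgg', Matrix.one_mulVec, h]
  · intro e
    apply hv
    rw [← Matrix.one_mulVec v, ← hgg', ← Matrix.mulVec_mulVec, e, Matrix.mulVec_zero]
  · intro e
    apply hφ
    rw [← Matrix.vecMul_one φ, ← hgg', ← Matrix.vecMul_vecMul, e, Matrix.zero_vecMul]
  · apply Subtype.ext
    rw [Matrix.SpecialLinearGroup.coe_mul, Matrix.SpecialLinearGroup.coe_mul, tv_coe, tv_coe,
      mul_add, mul_one, add_mul, hgg, rk, Matrix.mul_vecMulVec, Matrix.vecMulVec_mul]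

theorem isTv_transvection {i j : ι} (hij : i ≠ j) {c : F} (hc : c ≠ 0) :
    IsTv (Matrix.SpecialLinearGroup.transvection hij c) := by
  refine ⟨Pi.single i c, Pi.single j 1, ?_, ?_, ?_, ?_⟩
  · simp [hij.symm]
  · simpa using hc
  · simp
  · apply Subtype.ext
    rw [CfsgLib.Linear.transvec_coe, tv_coe, Matrix.transvection, rk]
    congr 1
    ext a b
    rw [Matrix.vecMulVec_apply]
    by_cases ha : a = i
    · by_cases hb : b = j
      · subst ha hb; simp
      · rw [Pi.single_eq_of_ne hb, mul_zero, Matrix.single_apply_of_ne]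
        exact fun h => hb h.2.symm
    · rw [Pi.single_eq_of_ne ha, zero_mul, Matrix.single_apply_of_ne]
      exact fun h => ha h.1.symm

/-- Any transvection is a conjugate of a standard one. -/
theorem exists_conj_std {i₀ i₁ i₂ : ι} (h01 : i₀ ≠ i₁) (h02 : i₀ ≠ i₂) (h12 : i₁ ≠ i₂)
    {t : Matrix.SpecialLinearGroup ι F} (ht : IsTv t) :
    ∃ g : Matrix.SpecialLinearGroup ι F,
      t = g * Matrix.SpecialLinearGroup.transvection h01 (1 : F) * g⁻¹ := by
  obtain ⟨v, φ, h, hv, hφ, rfl⟩ := ht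
  obtain ⟨a, ha⟩ := Function.ne_iff.1 hv
  -- move the standard vector to `v`
  let S : Matrix ι ι F := (1 : Matrix ι ι F).updateCol a v
  let Q : Matrix ι ι F := (Equiv.swap i₀ a).toPEquiv.toMatrix
  let g₁ : Matrix ι ι F := S * Q
  have hS : S.det = v a := by
    show ((1 : Matrix ι ι F).updateCol a v).det = v a
    rw [← Matrix.cramer_apply, Matrix.cramer_one]; rfl
  have hSa : S *ᵥ Pi.single a 1 = v := by
    rw [Matrix.mulVec_single_one]; ext k; simp [S]
  have hQ0 : Q *ᵥ Pi.single i₀ 1 = Pi.single a 1 := by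
    rw [PEquiv.toMatrix_toPEquiv_mulVec]
    ext k
    simp [Pi.single_apply, Equiv.swap_apply_eq_iff]
  have hg₁0 : g₁ *ᵥ Pi.single i₀ 1 = v := by
    rw [show g₁ = S * Q from rfl, ← Matrix.mulVec_mulVec, hQ0, hSa]
  have hQdet : Q.det ≠ 0 := by
    show ((Equiv.swap i₀ a).toPEquiv.toMatrix : Matrix ι ι F).det ≠ 0
    rw [show ((Equiv.swap i₀ a).toPEquiv.toMatrix : Matrix ι ι F) = (Equiv.swap i₀ a).permMatrix F from rfl,
      Matrix.det_permutation]
    intro h
    rcases Int.units_eq_one_or (Equiv.Perm.sign (Equiv.swap i₀ a)) with e | e <;> simp [e] at h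
  have hg₁det : g₁.det ≠ 0 := by
    rw [show g₁ = S * Q from rfl, Matrix.det_mul, hS]; exact mul_ne_zero ha hQdet
  -- move the form
  set φ' := φ ᵥ* g₁ with hφ'
  have hφ'0 : φ' i₀ = 0 := by
    have : φ' ⬝ᵥ Pi.single i₀ 1 = 0 := by rw [hφ', ← Matrix.dotProduct_mulVec, hg₁0, h]
    simpa using this
  have hu : IsUnit g₁.det := isUnit_iff_ne_zero.2 hg₁det
  have hφ'ne : φ' ≠ 0 := by
    intro e
    apply hφ
    rw [← Matrix.vecMul_one φ, ← Matrix.mul_nonsing_inv g₁ hu, ← Matrix.vecMul_vecMul, ← hφ', e,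
      Matrix.zero_vecMul]
  obtain ⟨b, hb⟩ := Function.ne_iff.1 hφ'ne
  have hb0 : b ≠ i₀ := fun e => hb (e ▸ hφ'0)
  let R : Matrix ι ι F := (1 : Matrix ι ι F).updateRow b φ'
  let P : Matrix ι ι F := (Equiv.swap i₁ b).toPEquiv.toMatrix
  let k : Matrix ι ι F := P * R
  have hR : R.det = φ' b := by
    show ((1 : Matrix ι ι F).updateRow b φ').det = φ' b
    rw [← Matrix.det_transpose, ← Matrix.updateCol_transpose, Matrix.transpose_one,
      ← Matrix.cramer_apply, Matrix.cramer_one]; rfl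
  have hPdet : P.det ≠ 0 := by
    show ((Equiv.swap i₁ b).toPEquiv.toMatrix : Matrix ι ι F).det ≠ 0
    rw [show ((Equiv.swap i₁ b).toPEquiv.toMatrix : Matrix ι ι F) = (Equiv.swap i₁ b).permMatrix F from rfl,
      Matrix.det_permutation]
    intro h
    rcases Int.units_eq_one_or (Equiv.Perm.sign (Equiv.swap i₁ b)) with e | e <;> simp [e] at h
  have hk : IsUnit k.det := isUnit_iff_ne_zero.2 (by
    rw [show k = P * R from rfl, Matrix.det_mul, hR]; exact mul_ne_zero hPdet hb)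
  have hk0 : k *ᵥ Pi.single i₀ 1 = Pi.single i₀ 1 := by
    have e : R *ᵥ Pi.single i₀ 1 = Pi.single i₀ 1 := by
      rw [Matrix.mulVec_single_one]; ext l
      by_cases hl : l = b
      · subst hl; simp [R, hφ'0, hb0]
      · simp [R, hl, Matrix.one_apply, Pi.single_apply]
    rw [show k = P * R from rfl, ← Matrix.mulVec_mulVec, e, PEquiv.toMatrix_toPEquiv_mulVec]
    ext l
    simp [Pi.single_apply, Equiv.swap_apply_eq_iff, Equiv.swap_apply_of_ne_of_ne h01 hb0.symm]
  have hk1 : Pi.single i₁ 1 ᵥ* k = φ' := by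
    rw [show k = P * R from rfl, ← Matrix.vecMul_vecMul, PEquiv.vecMul_toMatrix_toPEquiv]
    ext l
    simp [Matrix.vecMul, dotProduct, Pi.single_apply, R, Equiv.swap_apply_eq_iff]
  let g₂ : Matrix ι ι F := g₁ * k⁻¹
  have h20 : g₂ *ᵥ Pi.single i₀ 1 = v := by
    have : k⁻¹ *ᵥ Pi.single i₀ 1 = Pi.single i₀ 1 := by
      conv_lhs => rw [← hk0, Matrix.mulVec_mulVec, Matrix.nonsing_inv_mul k hk, Matrix.one_mulVec]
    rw [show g₂ = g₁ * k⁻¹ from rfl, ← Matrix.mulVec_mulVec, this, hg₁0]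
  have h21 : φ ᵥ* g₂ = Pi.single i₁ 1 := by
    rw [show g₂ = g₁ * k⁻¹ from rfl, ← Matrix.vecMul_vecMul, ← hφ', ← hk1, Matrix.vecMul_vecMul,
      Matrix.mul_nonsing_inv k hk, Matrix.vecMul_one]
  have h2det : g₂.det ≠ 0 := by
    rw [show g₂ = g₁ * k⁻¹ from rfl, Matrix.det_mul]
    exact mul_ne_zero hg₁det (Matrix.det_ne_zero_of_left_inverse (Matrix.mul_nonsing_inv k hk))
  -- correct the determinant
  let d : ι → F := Function.update 1 i₂ g₂.det⁻¹
  let g₃ : Matrix ι ι F := g₂ * Matrix.diagonal d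
  have hd : ∏ l, d l = g₂.det⁻¹ := by
    show ∏ l, Function.update (1 : ι → F) i₂ g₂.det⁻¹ l = _
    rw [Finset.prod_update_of_mem (Finset.mem_univ _)]; simp
  let g : Matrix.SpecialLinearGroup ι F := ⟨g₃, by
    show (g₂ * Matrix.diagonal d).det = 1
    rw [Matrix.det_mul, Matrix.det_diagonal, hd, mul_inv_cancel₀ h2det]⟩
  have hd0 : d i₀ = 1 := by simp [d, h02]
  have hd1 : d i₁ = 1 := by simp [d, h12]
  have h30 : g₃ *ᵥ Pi.single i₀ 1 = v := by
    rw [show g₃ = g₂ * Matrix.diagonal d from rfl, ← Matrix.mulVec_mulVec]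
    rw [show Matrix.diagonal d *ᵥ Pi.single i₀ 1 = Pi.single i₀ 1 by
      ext l
      by_cases hl : l = i₀
      · subst hl; simp [Matrix.mulVec_diagonal, hd0]
      · simp [Matrix.mulVec_diagonal, hl], h20]
  have h31 : φ ᵥ* g₃ = Pi.single i₁ 1 := by
    rw [show g₃ = g₂ * Matrix.diagonal d from rfl, ← Matrix.vecMul_vecMul, h21]
    ext l
    by_cases hl : l = i₁
    · subst hl; simp [Matrix.vecMul_diagonal, hd1]
    · simp [Matrix.vecMul_diagonal, hl]
  refine ⟨g, ?_⟩
  rw [eq_mul_inv_iff_mul_eq]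
  apply Subtype.ext
  rw [Matrix.SpecialLinearGroup.coe_mul, Matrix.SpecialLinearGroup.coe_mul, tv_coe,
    CfsgLib.Linear.transvec_coe, Matrix.transvection, add_mul, one_mul, mul_add, mul_one]
  congr 1
  show rk v φ * g₃ = g₃ * Matrix.single i₀ i₁ 1
  rw [rk, Matrix.vecMulVec_mul, h31, show Matrix.single i₀ i₁ (1 : F) = Matrix.vecMulVec (Pi.single i₀ 1) (Pi.single i₁ 1) from
    Matrix.single_eq_single_vecMulVec_single i₀ i₁, Matrix.mul_vecMulVec, h30]

section Two

variable [CharP F 2]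

theorem add_self' (a : F) : a + a = 0 := CharTwo.add_self_eq_zero a

theorem smul_two_zero (M : Matrix ι ι F) : M + M = 0 := by ext i j; exact add_self' _

theorem tv_sq (v φ : ι → F) (h : φ ⬝ᵥ v = 0) : tv v φ h * tv v φ h = 1 := by
  apply Subtype.ext
  rw [Matrix.SpecialLinearGroup.coe_mul, Matrix.SpecialLinearGroup.coe_one, tv_coe, add_mul, one_mul,
    mul_add, mul_one, rk_mul, h, zero_smul, add_zero, add_assoc, smul_two_zero, add_zero]

theorem orderOf_tv {t : Matrix.SpecialLinearGroup ι F} (ht : IsTv t) : orderOf t = 2 := by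
  obtain ⟨v, φ, h, hv, hφ, rfl⟩ := ht
  have : Fact (Nat.Prime 2) := ⟨Nat.prime_two⟩
  refine orderOf_eq_prime (by rw [pow_two, tv_sq]) fun e => rk_ne_zero hv hφ ?_
  have := congrArg (fun M : Matrix.SpecialLinearGroup ι F => (M : Matrix ι ι F)) e
  simpa [tv_coe] using this

theorem cubic {v φ w ψ : ι → F} (h : φ ⬝ᵥ v = 0) (h' : ψ ⬝ᵥ w = 0) :
    ((tv v φ h * tv w ψ h' : Matrix.SpecialLinearGroup ι F) : Matrix ι ι F) ^ 3 +
      ((φ ⬝ᵥ w) * (ψ ⬝ᵥ v) + 1) • ((tv v φ h * tv w ψ h' : Matrix.SpecialLinearGroup ι F) : Matrix ι ι F) ^ 2 +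
      ((φ ⬝ᵥ w) * (ψ ⬝ᵥ v) + 1) • ((tv v φ h * tv w ψ h' : Matrix.SpecialLinearGroup ι F) : Matrix ι ι F) + 1 = 0 := by
  rw [Matrix.SpecialLinearGroup.coe_mul, tv_coe, tv_coe]
  simp only [pow_succ, pow_zero, one_mul, add_mul, mul_add, mul_one, rk_mul, smul_mul_assoc,
    mul_smul_comm, h, h', zero_smul, smul_zero, add_zero, zero_add, smul_add, smul_smul]
  ext i j
  simp only [Matrix.add_apply, Matrix.smul_apply, smul_eq_mul, Matrix.zero_apply]
  ring_nf
  have h2 : (2 : F) = 0 := CharTwo.two_eq_zero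
  have h4 : (4 : F) = 0 := by linear_combination 2 * h2
  have h6 : (6 : F) = 0 := by linear_combination 3 * h2
  have h8 : (8 : F) = 0 := by linear_combination 4 * h2
  have h10 : (10 : F) = 0 := by linear_combination 5 * h2
  simp [h2, h4, h6, h8, h10]

theorem pair {t s : Matrix.SpecialLinearGroup ι F} (ht : IsTv t) (hs : IsTv s) [Finite F] :
    t * s = s * t ∨ (Odd (orderOf (t * s)) ∧ (Nat.card F = 2 → (t * s) ^ 3 = 1)) ∨
      (orderOf (t * s) = 4 ∧ IsTv ((t * s) ^ 2)) := by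
  have key : ∀ (v φ w ψ : ι → F) (h : φ ⬝ᵥ v = 0) (h' : ψ ⬝ᵥ w = 0), v ≠ 0 → ψ ≠ 0 →
      φ ⬝ᵥ w ≠ 0 → ψ ⬝ᵥ v = 0 →
      orderOf (tv v φ h * tv w ψ h') = 4 ∧ IsTv ((tv v φ h * tv w ψ h') ^ 2) := by
    intro v φ w ψ h h' hv hψ hα hβ
    have hsq : (tv v φ h * tv w ψ h') ^ 2 =
        tv v ((φ ⬝ᵥ w) • ψ) (by rw [smul_dotProduct, hβ, smul_zero]) := by
      apply Subtype.ext
      rw [Matrix.SpecialLinearGroup.coe_pow, Matrix.SpecialLinearGroup.coe_mul, tv_coe, tv_coe, tv_coe,
        rk, rk, rk, Matrix.vecMulVec_smul]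
      simp only [pow_two, add_mul, mul_add, one_mul, mul_one, rk_mul, smul_mul_assoc, mul_smul_comm,
        h, h', hβ, zero_smul, smul_zero, add_zero, zero_add]
      ext i j
      simp only [Matrix.add_apply, Matrix.smul_apply, smul_eq_mul]
      have h2 : (2 : F) = 0 := CharTwo.two_eq_zero
      linear_combination h2 * (rk v φ i j + rk w ψ i j + (φ ⬝ᵥ w) * rk v ψ i j)
    have htv : IsTv ((tv v φ h * tv w ψ h') ^ 2) :=
      ⟨v, (φ ⬝ᵥ w) • ψ, _, hv, smul_ne_zero hα hψ, hsq⟩
    refine ⟨?_, htv⟩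
    have h2 := orderOf_tv htv
    have : Fact (Nat.Prime 2) := ⟨Nat.prime_two⟩
    refine orderOf_eq_prime_pow (p := 2) (n := 1) ?_ ?_
    · rw [pow_one]; intro e; rw [e, orderOf_one] at h2; omega
    · have := pow_orderOf_eq_one ((tv v φ h * tv w ψ h') ^ 2)
      rw [h2, ← pow_mul] at this
      simpa using this
  obtain ⟨v, φ, h, hv, hφ, rfl⟩ := ht
  obtain ⟨w, ψ, h', hw, hψ, rfl⟩ := hs
  by_cases hα : φ ⬝ᵥ w = 0
  · by_cases hβ : ψ ⬝ᵥ v = 0
    · left
      apply Subtype.ext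
      rw [Matrix.SpecialLinearGroup.coe_mul, Matrix.SpecialLinearGroup.coe_mul, tv_coe, tv_coe]
      simp only [add_mul, mul_add, one_mul, mul_one, rk_mul, hα, hβ, zero_smul, add_zero]
      abel
    · right; right
      obtain ⟨h4, htv⟩ := key w ψ v φ h' h hw hφ hβ hα
      have e : tv w ψ h' * tv v φ h = (tv v φ h * tv w ψ h')⁻¹ := by
        rw [eq_inv_iff_mul_eq_one, mul_assoc, ← mul_assoc (tv v φ h) (tv v φ h), tv_sq, one_mul, tv_sq]
      refine ⟨by rw [← orderOf_inv, ← e]; exact h4, ?_⟩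
      obtain ⟨a, b, hab, ha, hb, he⟩ := htv
      rw [e, inv_pow, inv_eq_iff_eq_inv] at he
      rw [he, inv_eq_of_mul_eq_one_right (tv_sq a b hab)]
      exact ⟨a, b, hab, ha, hb, rfl⟩
  · by_cases hβ : ψ ⬝ᵥ v = 0
    · exact Or.inr (Or.inr (key v φ w ψ h h' hv hψ hα hβ))
    right; left
    have hcub := cubic (F := F) h h'
    set lam : F := (φ ⬝ᵥ w) * (ψ ⬝ᵥ v) with hlam
    have hl : lam ≠ 0 := mul_ne_zero hα hβ
    set g := tv v φ h * tv w ψ h' with hg
    set M : Matrix ι ι F := (g : Matrix ι ι F) with hM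
    have h2 : (2 : F) = 0 := CharTwo.two_eq_zero
    refine ⟨?_, ?_⟩
    · let q : F[X] := X ^ 3 + C (lam + 1) * X ^ 2 + C (lam + 1) * X + 1
      have hq : aeval M q = 0 := by
        simp only [q, map_add, map_mul, map_pow, aeval_X, aeval_C, map_one,
          Algebra.algebraMap_eq_smul_one, add_smul, one_smul, add_mul, one_mul, smul_mul_assoc]
        rw [← hcub]
        try simp only [add_smul, one_smul]
        try abel
      have hsep : q.Separable := by
        rw [separable_def']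
        refine ⟨C (lam⁻¹ ^ 2), C (lam⁻¹ ^ 2) * (X + C (lam + 1)), ?_⟩
        have hd : derivative q = C 3 * X ^ 2 + C (lam + 1) * (C 2 * X) + C (lam + 1) := by
          simp [q, derivative_pow]
        have h3 : (3 : F) = 1 := by linear_combination h2
        rw [hd, h3, h2]
        simp only [q, map_one, one_mul, map_zero, zero_mul, mul_zero, add_zero]
        have e : X ^ 3 + C (lam + 1) * X ^ 2 + C (lam + 1) * X + 1 +
            (X + C (lam + 1)) * (X ^ 2 + C (lam + 1)) = C (lam ^ 2) := by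
          simp only [map_add, map_one, map_pow]
          have h2' : (2 : F[X]) = 0 := by rw [← map_ofNat C 2, h2, map_zero]
          linear_combination (X ^ 3 + (C lam + 1) * X ^ 2 + (C lam + 1) * X + C lam + 1) * h2'
        rw [mul_assoc, ← mul_add, e, ← map_mul, ← mul_pow, inv_mul_cancel₀ hl, one_pow, map_one]
      by_contra hodd
      rw [Nat.not_odd_iff_even] at hodd
      obtain ⟨k, hk⟩ := hodd
      have hk0 : 0 < k := by
        have := orderOf_pos g
        omega
      have hone : (g ^ k) ^ 2 = 1 := by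
        rw [← pow_mul, show k * 2 = orderOf g by omega, pow_orderOf_eq_one]
      have hpk : aeval M ((X ^ k - 1 : F[X]) ^ 2) = 0 := by
        have e : (M ^ k) ^ 2 = 1 := by
          have := congrArg (fun z : Matrix.SpecialLinearGroup ι F => (z : Matrix ι ι F)) hone
          simpa [hM] using this
        simp only [map_pow, map_sub, map_one, aeval_X]
        rw [pow_two] at e ⊢
        rw [sub_mul, mul_sub, mul_sub, e, one_mul, mul_one, one_mul, sub_sub, add_comm, ← sub_sub]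
        ext i j
        simp only [Matrix.sub_apply, Matrix.zero_apply]
        linear_combination h2 * ((1 : Matrix ι ι F) i j - (M ^ k) i j)
      have hsq := hsep.squarefree.squarefree_of_dvd (minpoly.dvd F M hq)
      have hd : minpoly F M ∣ X ^ k - 1 := hsq.isRadical 2 _ (minpoly.dvd F M hpk)
      obtain ⟨r, hr⟩ := hd
      have : aeval M (X ^ k - 1 : F[X]) = 0 := by rw [hr, map_mul, minpoly.aeval, zero_mul]
      simp only [map_pow, map_sub, map_one, aeval_X, sub_eq_zero] at this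
      have hgk : g ^ k = 1 := Subtype.ext (by simpa [hM] using this)
      have := Nat.le_of_dvd hk0 (orderOf_dvd_of_pow_eq_one hgk)
      omega
    · intro hc
      have hl1 : lam = 1 := by
        let _ := Fintype.ofFinite F
        rw [Nat.card_eq_fintype_card] at hc
        have := FiniteField.pow_card_sub_one_eq_one lam hl
        rw [hc] at this
        simpa using this
      rw [hl1, add_self', zero_smul, zero_smul, add_zero, add_zero] at hcub
      apply Subtype.ext
      rw [Matrix.SpecialLinearGroup.coe_pow, Matrix.SpecialLinearGroup.coe_one]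
      have : M ^ 3 = 1 := by
        rw [← sub_eq_zero, ← hcub]
        ext i j
        simp only [Matrix.sub_apply, Matrix.add_apply]
        linear_combination -h2 * (1 : Matrix ι ι F) i j
      exact this

end Two

/-- Transvections of `SL_{n+3}(F)`, `F` finite of characteristic two. -/
theorem main (F : Type*) [Field F] [Fintype F] [CharP F 2] (n : ℕ) :
    Cfsg.IsRootInvolutionClass {t : Matrix.SpecialLinearGroup (Fin (n + 3)) F | IsTv t} ∧
    (Fintype.card F = 2 → Cfsg.IsThreeFourPlusTranspositionSet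
      {t : Matrix.SpecialLinearGroup (Fin (n + 3)) F | IsTv t}) := by
  have h01 : (0 : Fin (n + 3)) ≠ 1 := by simp [Fin.ext_iff]
  have h02 : (0 : Fin (n + 3)) ≠ 2 := by simp [Fin.ext_iff, Fin.val_two, Nat.mod_eq_of_lt (show 2 < n + 3 by omega)]
  have h12 : (1 : Fin (n + 3)) ≠ 2 := by simp [Fin.ext_iff, Fin.val_two, Nat.mod_eq_of_lt (show 2 < n + 3 by omega)]
  have hset : Cfsg.IsRootInvolutionSet {t : Matrix.SpecialLinearGroup (Fin (n + 3)) F | IsTv t} := by
    refine ⟨fun d hd => orderOf_tv hd, ?_, fun d hd g => isTv_conj hd g, fun a ha b hb => ?_⟩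
    · rw [eq_top_iff]
      rintro A -
      refine CfsgLib.Linear.transvection_induction (fun A => A ∈ Subgroup.closure _) ?_ ?_ A
      · intro i j hij c
        rcases eq_or_ne c 0 with rfl | hc
        · have : Matrix.SpecialLinearGroup.transvection hij (0 : F) = 1 :=
            Subtype.ext (by simp [CfsgLib.Linear.transvec_coe])
          rw [this]; exact one_mem _
        · exact Subgroup.subset_closure (isTv_transvection hij hc)
      · exact fun A B hA hB => mul_mem hA hB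
    · rcases pair ha hb with h | ⟨h, -⟩ | h
      · exact Or.inl h
      · exact Or.inr (Or.inl h)
      · exact Or.inr (Or.inr h)
  refine ⟨⟨hset, ⟨_, isTv_transvection h01 one_ne_zero⟩, fun a ha b hb => ?_⟩,
    fun hc => ⟨hset, fun a ha b hb hodd => ?_⟩⟩
  · obtain ⟨g, rfl⟩ := exists_conj_std h01 h02 h12 ha
    obtain ⟨k, rfl⟩ := exists_conj_std h01 h02 h12 hb
    exact ⟨k * g⁻¹, by group⟩
  · have h3 : (a * b) ^ 3 = 1 := by
      rcases pair ha hb with h | ⟨-, h⟩ | ⟨h, -⟩
      · have hinv : ∀ d : Matrix.SpecialLinearGroup (Fin (n + 3)) F, IsTv d → d * d = 1 := by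
          rintro _ ⟨v, φ, hh, -, -, rfl⟩; exact tv_sq v φ hh
        have h2 : (a * b) ^ 2 = 1 := by
          rw [(show Commute a b from h).mul_pow, pow_two, pow_two, hinv a ha, hinv b hb, one_mul]
        have hco : (orderOf (a * b)).Coprime 2 := hodd.coprime_two_right
        have := Nat.dvd_one.1 (hco.gcd_eq_one ▸ Nat.dvd_gcd dvd_rfl (orderOf_dvd_of_pow_eq_one h2))
        rw [orderOf_eq_one_iff] at this
        rw [this, one_pow]
      · exact h (by rw [Nat.card_eq_fintype_card, hc])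
      · rw [h] at hodd; exact absurd hodd (by decide)
    exact (Nat.dvd_prime Nat.prime_three).1 (orderOf_dvd_of_pow_eq_one h3)

end CfsgLib.RootInv.Tv
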