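import Cfsg.Agent.RootSubgroups.LinearRoots
import Cfsg.Agent.RootSubgroups.Transvections

set_option autoImplicit false

/-!
Rank one matrices as roots, and common non-zeros of linear functionals.
-/

namespace CfsgLib.LinRoot

open Matrix

variable {k V : Type*} [Field k] [AddCommGroup V] [Module k V]

/-- Two non-zero functionals have a common non-zero. -/
theorem exists_both_ne (f g : V →ₗ[k] k) (hf : f ≠ 0) (hg : g ≠ 0) : ∃ u, f u ≠ 0 ∧ g u ≠ 0 := by
  obtain ⟨a, ha⟩ : ∃ a, f a ≠ 0 := by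
    by_contra h; push Not at h; exact hf (LinearMap.ext h)
  obtain ⟨b, hb⟩ : ∃ b, g b ≠ 0 := by
    by_contra h; push Not at h; exact hg (LinearMap.ext h)
  by_cases h1 : g a = 0
  · by_cases h2 : f b = 0
    · exact ⟨a + b, by simpa [h2] using ha, by simpa [h1] using hb⟩
    · exact ⟨b, h2, hb⟩
  · exact ⟨a, ha, h1⟩

variable {ι : Type*} [Fintype ι] [DecidableEq ι]

theorem exists_dot_both_ne (v w : ι → k) (hv : v ≠ 0) (hw : w ≠ 0) :
    ∃ u : ι → k, v ⬝ᵥ u ≠ 0 ∧ w ⬝ᵥ u ≠ 0 := by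
  have key : ∀ x : ι → k, x ≠ 0 → (dotProductBilin k k x : (ι → k) →ₗ[k] k) ≠ 0 := fun x hx e => hx (by
    ext i
    simpa using LinearMap.congr_fun e (Pi.single i 1))
  exact exists_both_ne (dotProductBilin k k v) (dotProductBilin k k w) (key v hv) (key w hw)

/-- Two vectors outside the line of `u` admit a common functional killing `u`. -/
theorem exists_dot_annihilating (u v w : ι → k) (hv : v ∉ Submodule.span k {u})
    (hw : w ∉ Submodule.span k {u}) : ∃ χ : ι → k, χ ⬝ᵥ u = 0 ∧ χ ⬝ᵥ v ≠ 0 ∧ χ ⬝ᵥ w ≠ 0 := by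
  let W := (Submodule.span k {u}).dualAnnihilator
  have key : ∀ x : ι → k, x ∉ Submodule.span k {u} →
      ((Module.Dual.eval k (ι → k) x).comp W.subtype) ≠ 0 := by
    intro x hx e
    refine hx ?_
    rw [← Subspace.dualAnnihilator_dualCoannihilator_eq (W := Submodule.span k {u}), Submodule.mem_dualCoannihilator]
    exact fun φ hφ => LinearMap.congr_fun e ⟨φ, hφ⟩
  obtain ⟨⟨φ, hφ⟩, h1, h2⟩ := exists_both_ne (V := W) ((Module.Dual.eval k (ι → k) v).comp W.subtype)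
    ((Module.Dual.eval k (ι → k) w).comp W.subtype) (key v hv) (key w hw)
  have e : ∀ x, (fun i => φ (Pi.single i 1)) ⬝ᵥ x = φ x := by
    intro x
    conv_rhs => rw [pi_eq_sum_univ' x, map_sum]
    simp [dotProduct, mul_comm]
  refine ⟨fun i => φ (Pi.single i 1), ?_, by rw [e]; exact h1, by rw [e]; exact h2⟩
  rw [e]
  exact (Submodule.mem_dualAnnihilator φ).1 hφ u (Submodule.mem_span_singleton_self u)

open CfsgLib.RootInv.Tv (rk)

theorem rk_mul_rk (v φ w ψ : ι → k) : rk v φ * rk w ψ = (φ ⬝ᵥ w) • rk v ψ :=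
  CfsgLib.RootInv.Tv.rk_mul v φ w ψ

theorem rk_triple (v φ w ψ : ι → k) :
    rk v φ * rk w ψ * rk v φ = ((φ ⬝ᵥ w) * (ψ ⬝ᵥ v)) • rk v φ := by
  rw [rk_mul_rk, smul_mul_assoc, rk_mul_rk, smul_smul]

end CfsgLib.LinRoot
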