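import Cfsg.Agent.RootSubgroups.CommCase

set_option autoImplicit false

/-!
Members inside `A ⊔ ⁅A, B⁆`, lines and components of the graph of rank one pairs.
-/

namespace CfsgLib.RootSubgroups

open Cfsg CfsgLib.RankOne commutatorElement

variable {G : Type*} [Group G] {S : Set (Subgroup G)} {A B C D P Q : Subgroup G}

theorem mem_sup_of_commute {x : G} (hc : ∀ a ∈ A, ∀ c ∈ C, a * c = c * a) (hx : x ∈ A ⊔ C) :
    ∃ a ∈ A, ∃ c ∈ C, x = a * c := by
  let M : Subgroup G :=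
    { carrier := {y | ∃ a ∈ A, ∃ c ∈ C, y = a * c}
      one_mem' := ⟨1, one_mem _, 1, one_mem _, (one_mul 1).symm⟩
      mul_mem' := by
        rintro _ _ ⟨a, ha, c, hc', rfl⟩ ⟨a', ha', c', hc'', rfl⟩
        refine ⟨a * a', mul_mem ha ha', c * c', mul_mem hc' hc'', ?_⟩
        rw [mul_assoc, ← mul_assoc c, ← hc a' ha' c hc', mul_assoc, mul_assoc]
      inv_mem' := by
        rintro _ ⟨a, ha, c, hc', rfl⟩
        exact ⟨a⁻¹, inv_mem ha, c⁻¹, inv_mem hc', by rw [mul_inv_rev, hc _ (inv_mem ha) _ (inv_mem hc')]⟩ }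
  have hle : A ⊔ C ≤ M := sup_le (fun a ha => ⟨a, ha, 1, one_mem _, (mul_one a).symm⟩)
    (fun c hc' => ⟨1, one_mem _, c, hc', (one_mul c).symm⟩)
  exact hle hx

theorem exists_partner_conj (hS : IsRootSubgroupSet S) (hP : P ∈ S) (h : IsRankOnePair A P) (g : G) :
    ∃ Q ∈ S, IsRankOnePair (conjBy A g) Q :=
  ⟨_, hS.conj_mem P hP g, isRankOnePair_conj h g⟩

theorem CommCase.injective (hS : IsRootSubgroupSet S) (hA : A ∈ S) (hP : P ∈ S) (hAP : IsRankOnePair A P)
    (h : RootCommutatorCase S A B) {a b : G} (ha : a ∈ A) (ha1 : a ≠ 1) (hb : b ∈ B) (e : ⁅a, b⁆ = 1) :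
    b = 1 := by
  by_contra hb1
  have hfix : conjBy A b = A := by
    refine member_eq_of_common hS hA hP hAP (hS.conj_mem A hA b) ha ?_ ha1
    rw [mem_conjBy]
    rwa [mul_assoc, (commutatorElement_eq_one_iff_commute.1 e).eq, inv_mul_cancel_left]
  obtain ⟨c, hc, hc1⟩ := (Subgroup.bot_or_exists_ne_one ⁅A, B⁆).resolve_left (hS.ne_bot _ h.1)
  obtain ⟨a', ha', e'⟩ := CommCase.surj' h hb hb1 hc
  have hcA : c ∈ A := by
    rw [← e', commutatorElement_def, mul_assoc a', mul_assoc a']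
    exact mul_mem ha' (hfix.le (conj_mem_conjBy (inv_mem ha')))
  have hCA : ⁅A, B⁆ = A := member_eq_of_common hS hA hP hAP h.1 hcA hc hc1
  refine hS.ne_bot _ h.1 (eq_bot_iff.2 (Subgroup.commutator_le.2 fun p hp q hq => Subgroup.mem_bot.2 ?_))
  exact commutatorElement_eq_one_iff_commute.2 (CommCase.central_right h (hCA.symm ▸ hp) hq)

theorem CommCase.ne_left (hS : IsRootSubgroupSet S) (h : RootCommutatorCase S A B) : ⁅A, B⁆ ≠ A := by
  intro hCA
  refine hS.ne_bot _ h.1 (eq_bot_iff.2 (Subgroup.commutator_le.2 fun p hp q hq => Subgroup.mem_bot.2 ?_))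
  exact commutatorElement_eq_one_iff_commute.2 (CommCase.central_right h (hCA.symm ▸ hp) hq)

theorem CommCase.conj_le (h : RootCommutatorCase S A B) {b : G} (hb : b ∈ B) : conjBy A b ≤ A ⊔ ⁅A, B⁆ := by
  rintro _ ⟨a, ha, rfl⟩
  show b * a * b⁻¹ ∈ A ⊔ ⁅A, B⁆
  rw [show b * a * b⁻¹ = ⁅a, b⁆⁻¹ * a by rw [commutatorElement_def]; group]
  exact mul_mem (Subgroup.mem_sup_right (inv_mem (Subgroup.commutator_mem_commutator ha hb)))
    (Subgroup.mem_sup_left ha)

theorem CommCase.cover (h : RootCommutatorCase S A B) {x : G} (hx : x ∈ A ⊔ ⁅A, B⁆) :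
    x ∈ ⁅A, B⁆ ∨ ∃ b ∈ B, x ∈ conjBy A b := by
  obtain ⟨a, ha, c, hc, rfl⟩ := mem_sup_of_commute (fun a ha c hc => (CommCase.central_left h hc ha).symm) hx
  by_cases ha1 : a = 1
  · exact Or.inl (by rw [ha1, one_mul]; exact hc)
  · obtain ⟨b, hb, e⟩ := CommCase.surj h ha ha1 (inv_mem hc)
    refine Or.inr ⟨b, hb, ?_⟩
    rw [show a * c = b * a * b⁻¹ by
      rw [← CommCase.central_left h hc ha, show b * a * b⁻¹ = ⁅a, b⁆⁻¹ * a by rw [commutatorElement_def]; group,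
        e, inv_inv]]
    exact conj_mem_conjBy ha

theorem not_commute_of_commCase (hS : IsRootSubgroupSet S) (hA : A ∈ S) (hP : P ∈ S) (hAP : IsRankOnePair A P)
    (h : RootCommutatorCase S A B) {d : G} (hd : d ∈ ⁅A, B⁆) (hd1 : d ≠ 1) : ¬ ∀ p ∈ P, d * p = p * d := by
  intro hcomm
  obtain ⟨a, ha, ha1⟩ := exists_ne_one_left hAP
  obtain ⟨b, hb, e⟩ := CommCase.surj h ha ha1 (inv_mem hd)
  have hm : d * a = b * a * b⁻¹ := by
    rw [show b * a * b⁻¹ = ⁅a, b⁆⁻¹ * a by rw [commutatorElement_def]; group, e, inv_inv]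
  refine hd1 (eq_one_of_translate hS hA hP hAP ?_ ha ha1 (hS.conj_mem A hA b) (hm ▸ conj_mem_conjBy ha)
    (hm ▸ fun e => ha1 (conj_eq_one_iff.1 e)))
  intro x hx
  have hle : A ⊔ P ≤ Subgroup.centralizer {d} := sup_le
    (fun y hy => Subgroup.mem_centralizer_singleton_iff.2 (CommCase.central_left h hd hy).symm)
    (fun y hy => Subgroup.mem_centralizer_singleton_iff.2 (hcomm y hy).symm)
  exact (Subgroup.mem_centralizer_singleton_iff.1 (hle hx)).symm

theorem member_eq_commutator (hS : IsRootSubgroupSet S) (hA : A ∈ S) (hP : P ∈ S) (hAP : IsRankOnePair A P)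
    (h : RootCommutatorCase S A B) (hD : D ∈ S) (hle : D ≤ ⁅A, B⁆) : D = ⁅A, B⁆ := by
  obtain ⟨d₀, hd₀, hd₀1⟩ := (Subgroup.bot_or_exists_ne_one D).resolve_left (hS.ne_bot D hD)
  rcases hS.pair P hP ⁅A, B⁆ h.1 with hPC | hPC | hPC
  · exact absurd (fun p hp => (commute_of_commutator_eq_bot hPC hp (hle hd₀)).symm)
      (not_commute_of_commCase hS hA hP hAP h (hle hd₀) hd₀1)
  · exact member_eq_of_common hS h.1 hP (RankOnePair_symm hPC) hD (hle hd₀) hd₀ hd₀1
  · rcases hS.pair P hP D hD with hPD | hPD | hPD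
    · exact absurd (fun p hp => (commute_of_commutator_eq_bot hPD hp hd₀).symm)
        (not_commute_of_commCase hS hA hP hAP h (hle hd₀) hd₀1)
    · exfalso
      have hne : conjBy P d₀ ≠ P := fun e => hd₀1 (eq_one_of_mem_of_fix (RankOnePair_symm hPD) hd₀ e)
      exact eq_bot_of_commutator_of_rankOne (isRankOnePair_of_unipotent hPD
        (conjBy_mem_unipotent (left_mem_unipotent P D) (Subgroup.mem_sup_right hd₀)) (left_mem_unipotent P D) hne)
        (CommCase.conj_commute hS hP hPC (hle hd₀))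
    · refine le_antisymm hle fun c hc => ?_
      obtain ⟨p, hp, hp1⟩ := exists_ne_one_left (RankOnePair_symm hAP)
      have hEq : ⁅P, D⁆ = ⁅P, ⁅A, B⁆⁆ := by
        rw [← hPC.2.2.2 d₀ (hle hd₀) hd₀1, ← hPD.2.2.2 d₀ hd₀ hd₀1]
      obtain ⟨d, hd, e⟩ := CommCase.surj hPD hp hp1 (hEq.symm ▸ Subgroup.commutator_mem_commutator hp hc)
      have h1 : d⁻¹ * c = 1 := by
        refine CommCase.injective hS hP hA (RankOnePair_symm hAP) hPC hp hp1 (mul_mem (inv_mem (hle hd)) hc) ?_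
        rw [CommCase.bilin hPC hp (inv_mem (hle hd)) hc, CommCase.inv_right hPC hp (hle hd), e, inv_mul_cancel]
      rwa [← inv_mul_eq_one.1 h1]

theorem member_cases (hS : IsRootSubgroupSet S) (hA : A ∈ S) (hP : P ∈ S) (hAP : IsRankOnePair A P)
    (h : RootCommutatorCase S A B) (hD : D ∈ S) (hle : D ≤ A ⊔ ⁅A, B⁆) :
    D = ⁅A, B⁆ ∨ ∃ b ∈ B, D = conjBy A b := by
  by_cases hall : ∀ x ∈ D, x ∈ ⁅A, B⁆
  · exact Or.inl (member_eq_commutator hS hA hP hAP h hD hall)
  · push Not at hall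
    obtain ⟨x, hx, hxC⟩ := hall
    obtain ⟨b, hb, hxb⟩ := (CommCase.cover h (hle hx)).resolve_left hxC
    obtain ⟨Q, hQ, hQb⟩ := exists_partner_conj hS hP hAP b
    exact Or.inr ⟨b, hb, member_eq_of_common hS (hS.conj_mem A hA b) hQ hQb hD hxb hx
      fun e => hxC (e ▸ one_mem _)⟩

theorem membersIn_eq (hS : IsRootSubgroupSet S) (hA : A ∈ S) (hP : P ∈ S) (hAP : IsRankOnePair A P)
    (h : RootCommutatorCase S A B) :
    membersIn S (A ⊔ ⁅A, B⁆) = (fun b : G => conjBy A b) '' (B : Set G) ∪ {⁅A, B⁆} := by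
  ext D
  constructor
  · rintro ⟨hD, hle⟩
    rcases member_cases hS hA hP hAP h hD hle with e | ⟨b, hb, e⟩
    · exact Or.inr e
    · exact Or.inl ⟨b, hb, e.symm⟩
  · rintro (⟨b, hb, rfl⟩ | rfl)
    · exact ⟨hS.conj_mem A hA b, CommCase.conj_le h hb⟩
    · exact ⟨h.1, le_sup_right⟩

theorem members_partition (hS : IsRootSubgroupSet S) (hA : A ∈ S) (hP : P ∈ S) (hAP : IsRankOnePair A P)
    (h : RootCommutatorCase S A B) : IsSubgroupPartition (A ⊔ ⁅A, B⁆) (membersIn S (A ⊔ ⁅A, B⁆)) := by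
  refine ⟨fun C hC => hC.2, fun x hx _ => ?_, fun C hC D hD hne => ?_⟩
  · rcases CommCase.cover h hx with hc | ⟨b, hb, hc⟩
    · exact ⟨_, ⟨h.1, le_sup_right⟩, hc⟩
    · exact ⟨_, ⟨hS.conj_mem A hA b, CommCase.conj_le h hb⟩, hc⟩
  · by_contra hbot
    obtain ⟨x, hx, hx1⟩ := (Subgroup.bot_or_exists_ne_one _).resolve_left hbot
    rcases member_cases hS hA hP hAP h hC.1 hC.2 with e | ⟨b, hb, e⟩
    · rcases member_cases hS hA hP hAP h hD.1 hD.2 with e' | ⟨b, hb, e'⟩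
      · exact hne (e.trans e'.symm)
      · obtain ⟨Q, hQ, hQb⟩ := exists_partner_conj hS hP hAP b
        rw [e'] at hx hne
        exact hne (member_eq_of_common hS (hS.conj_mem A hA b) hQ hQb hC.1 hx.2 hx.1 hx1)
    · obtain ⟨Q, hQ, hQb⟩ := exists_partner_conj hS hP hAP b
      rw [e] at hx hne
      exact hne (member_eq_of_common hS (hS.conj_mem A hA b) hQ hQb hD.1 hx.1 hx.2 hx1).symm

theorem reach_symm {A B : Subgroup G} (h : Relation.ReflTransGen (FAdj S) A B) :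
    Relation.ReflTransGen (FAdj S) B A := by
  induction h with
  | refl => exact .refl
  | tail _ hab ih => exact (Relation.ReflTransGen.single ⟨hab.2.1, hab.1, RankOnePair_symm hab.2.2⟩).trans ih

theorem reach_conj (hS : IsRootSubgroupSet S) {A B : Subgroup G} (g : G) (h : Relation.ReflTransGen (FAdj S) A B) :
    Relation.ReflTransGen (FAdj S) (conjBy A g) (conjBy B g) := by
  induction h with
  | refl => exact .refl
  | tail _ hab ih =>
    exact ih.trans (.single ⟨hS.conj_mem _ hab.1 g, hS.conj_mem _ hab.2.1 g, isRankOnePair_conj hab.2.2 g⟩)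

theorem conj_commute_of_not_rankOne (hS : IsRootSubgroupSet S) (hP : P ∈ S) (hB : B ∈ S)
    (h : ¬ IsRankOnePair P B) {b : G} (hb : b ∈ B) : ⁅conjBy P b, P⁆ = ⊥ := by
  rcases hS.pair P hP B hB with h1 | h1 | h1
  · refine eq_bot_iff.2 (Subgroup.commutator_le.2 fun x hx p hp => Subgroup.mem_bot.2 ?_)
    rw [mem_conjBy] at hx
    have e : x = b⁻¹ * x * b := by
      calc x = b * (b⁻¹ * x * b) * b⁻¹ := by group
        _ = b⁻¹ * x * b := by rw [← commute_of_commutator_eq_bot h1 hx hb, mul_inv_cancel_right]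
    rw [← e] at hx
    exact commutatorElement_eq_one_iff_commute.2 (abelian_comm hS hP hx hp)
  · exact absurd h1 h
  · exact CommCase.conj_commute hS hP h1 hb

theorem conjBy_eq_of_commute (h : ⁅A, B⁆ = ⊥) {b : G} (hb : b ∈ B) : conjBy A b = A := by
  refine le_antisymm ?_ fun a ha => ?_
  · rintro _ ⟨a, ha, rfl⟩
    show b * a * b⁻¹ ∈ A
    rwa [← commute_of_commutator_eq_bot h ha hb, mul_inv_cancel_right]
  · rw [mem_conjBy, mul_assoc, commute_of_commutator_eq_bot h ha hb, inv_mul_cancel_left]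
    exact ha

/-- A member through `a b` on a line `A`, `B` is opposite to the partners of `A` that are not opposite to `B`. -/
theorem rankOne_of_mul_mem (hS : IsRootSubgroupSet S) (hP : P ∈ S) (hB : B ∈ S) (hD : D ∈ S)
    (hAP : IsRankOnePair A P) (hAB : ⁅A, B⁆ = ⊥) (hPB : ¬ IsRankOnePair P B) {a b : G} (ha : a ∈ A) (ha1 : a ≠ 1)
    (hb : b ∈ B) (hab : a * b ∈ D) : IsRankOnePair P D := by
  by_contra hPD
  have hne : conjBy P a⁻¹ ≠ P := fun e =>
    ha1 (inv_eq_one.1 (eq_one_of_mem_of_fix hAP (inv_mem ha) e))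
  have h1 := conj_commute_of_not_rankOne hS hP hB hPB hb
  have h2 : ⁅conjBy P b, conjBy P a⁻¹⁆ = ⊥ := by
    have e := conj_commute_of_not_rankOne hS hP hD hPD hab
    have e' : conjBy ⁅conjBy P (a * b), P⁆ a⁻¹ = ⊥ := by rw [e, conjBy_bot]
    have e'' : ⁅conjBy (conjBy P (a * b)) a⁻¹, conjBy P a⁻¹⁆ = ⊥ := (Subgroup.map_commutator _ _ _).symm.trans e'
    rwa [conjBy_conjBy, inv_mul_cancel_left] at e''
  refine eq_bot_of_commutator_of_rankOne
    (show IsRankOnePair A (conjBy P b) by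
      have := isRankOnePair_conj hAP b; rwa [conjBy_eq_of_commute hAB hb] at this) ?_
  rw [Subgroup.commutator_comm, Subgroup.commutator_eq_bot_iff_le_centralizer] at h1 h2 ⊢
  have hX : A ≤ conjBy P a⁻¹ ⊔ P :=
    (unipotent_sup_eq hAP (conjBy_mem_unipotent (right_mem_unipotent hAP)
      (Subgroup.mem_sup_left (inv_mem ha))) (right_mem_unipotent hAP) hne).symm ▸ le_sup_left
  exact Subgroup.le_centralizer_iff.1 (hX.trans (sup_le h2 h1))

theorem reach_of_line (hS : IsRootSubgroupSet S) (hA : A ∈ S) (hB : B ∈ S) (hP : P ∈ S) (hQ : Q ∈ S) (hD : D ∈ S)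
    (hAP : IsRankOnePair A P) (hBQ : IsRankOnePair B Q) (hAB : ⁅A, B⁆ = ⊥) {a b : G} (ha : a ∈ A) (ha1 : a ≠ 1)
    (hb : b ∈ B) (hb1 : b ≠ 1) (hab : a * b ∈ D) : Relation.ReflTransGen (FAdj S) A B := by
  have step : ∀ {R T : Subgroup G}, R ∈ S → T ∈ S → IsRankOnePair R T → Relation.ReflTransGen (FAdj S) R T :=
    fun h1 h2 h3 => .single ⟨h1, h2, h3⟩
  by_cases hPB : IsRankOnePair P B
  · exact (step hA hP hAP).trans (step hP hB hPB)
  by_cases hQA : IsRankOnePair Q A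
  · exact (step hA hQ (RankOnePair_symm hQA)).trans (step hQ hB (RankOnePair_symm hBQ))
  have h1 := rankOne_of_mul_mem hS hP hB hD hAP hAB hPB ha ha1 hb hab
  have h2 := rankOne_of_mul_mem hS hQ hA hD hBQ (Subgroup.commutator_comm A B ▸ hAB) hQA hb hb1 ha
    (by rwa [← commute_of_commutator_eq_bot hAB ha hb])
  exact (((step hA hP hAP).trans (step hP hD h1)).trans (step hD hQ (RankOnePair_symm h2))).trans
    (step hQ hB (RankOnePair_symm hBQ))

theorem reach_conj_member (hS : IsRootSubgroupSet S) (hA : A ∈ S) (hP : P ∈ S) (hAP : IsRankOnePair A P)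
    (hB : B ∈ S) {b : G} (hb : b ∈ B) : Relation.ReflTransGen (FAdj S) A (conjBy A b) := by
  rcases hS.pair A hA B hB with h | h | h
  · rw [conjBy_eq_of_commute h hb]
  · exact (Relation.ReflTransGen.single ⟨hA, hB, h⟩).trans (.single ⟨hB, hS.conj_mem A hA b, by
      have := isRankOnePair_conj (RankOnePair_symm h) b; rwa [conjBy_of_mem hb] at this⟩)
  · by_cases he : conjBy A b = A
    · rw [he]
    obtain ⟨a, ha, ha1⟩ := exists_ne_one_left hAP
    obtain ⟨Q, hQ, hQb⟩ := exists_partner_conj hS hP hAP b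
    have hx1 : b * a * b⁻¹ ≠ 1 := fun e => ha1 (conj_eq_one_iff.1 e)
    obtain ⟨D, hD, hxD⟩ : ∃ D ∈ S, a * (b * a * b⁻¹) ∈ D := by
      rcases CommCase.cover h (mul_mem (Subgroup.mem_sup_left ha) (CommCase.conj_le h hb (conj_mem_conjBy ha)))
        with hc | ⟨b', -, hc⟩
      · exact ⟨_, h.1, hc⟩
      · exact ⟨_, hS.conj_mem A hA b', hc⟩
    exact reach_of_line hS hA (hS.conj_mem A hA b) hP hQ hD hAP hQb
      (by rw [Subgroup.commutator_comm]; exact CommCase.conj_commute hS hA h hb) ha ha1 (conj_mem_conjBy ha) hx1 hxD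

theorem connected_of_class (hS : IsRootSubgroupSet S) (hcl : IsConjClassOfSubgroups S)
    (hne : ∃ A ∈ S, ¬ IsIsolatedIn (FAdj S) S A) : IsConnectedFamily (FAdj S) S := by
  obtain ⟨A₀, hA₀, hA₀'⟩ := hne
  obtain ⟨P₀, hP₀, hAP₀⟩ := exists_partner_of_not_isolated hA₀ hA₀'
  have hpart : ∀ A ∈ S, ∃ P ∈ S, IsRankOnePair A P := by
    intro A hA
    obtain ⟨g, rfl⟩ := hcl.2 A₀ hA₀ A hA
    exact exists_partner_conj hS hP₀ hAP₀ g
  let M : Subgroup G :=
    { carrier := {g | ∀ A ∈ S, Relation.ReflTransGen (FAdj S) A (conjBy A g)}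
      one_mem' := fun A _ => by rw [conjBy_one]
      mul_mem' := fun {g h} hg hh A hA => by
        rw [← conjBy_conjBy]; exact (hh A hA).trans (hg _ (hS.conj_mem A hA h))
      inv_mem' := fun {g} hg A hA => by
        have := reach_symm (hg _ (hS.conj_mem A hA g⁻¹))
        rwa [conjBy_conjBy, mul_inv_cancel, conjBy_one] at this }
  have hM : (⨆ A ∈ S, A) ≤ M := iSup₂_le fun B hB b hb A hA => by
    obtain ⟨P, hP, hAP⟩ := hpart A hA
    exact reach_conj_member hS hA hP hAP hB hb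
  intro A hA B hB
  obtain ⟨g, rfl⟩ := hcl.2 A hA B hB
  exact hM (hS.generates ▸ Subgroup.mem_top g) A hA

end CfsgLib.RootSubgroups
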