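import Cfsg.Agent.RootSubgroups.Lines

set_option autoImplicit false

/-!
Members `A`, `B`, `D` with `⁅A, B⁆ ∈ S` and `⁅D, ⁅A, B⁆⁆ = A`: the rank one group `⟨B, D⟩` on the line `A ⊔ ⁅A, B⁆`.
-/

namespace CfsgLib.RootSubgroups

open Cfsg CfsgLib.RankOne commutatorElement

variable {G : Type*} [Group G] {S : Set (Subgroup G)} {A B C D P Q : Subgroup G}

/-- An element of a rank one group fixing every unipotent subgroup is central. -/
theorem central_of_fix_all (h : IsRankOnePair B D) {z : G} (hfix : ∀ Q ∈ unipotentSubgroups B D, conjBy Q z = Q) :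
    ∀ y ∈ B ⊔ D, z * y = y * z := by
  have key : ∀ {P R : Subgroup G}, IsRankOnePair P R → (∀ Q ∈ unipotentSubgroups P R, conjBy Q z = Q) →
      conjBy P z = P → conjBy R z = R → ∀ p ∈ P, z * p = p * z := by
    intro P R hPR hall hP hR p hp
    have hm : z * p * z⁻¹ ∈ P := hP.le (conj_mem_conjBy hp)
    have hR' : conjBy R z⁻¹ = R := by
      conv_lhs => rw [← hR, conjBy_conjBy, inv_mul_cancel, conjBy_one]
    have e : conjBy R (z * p * z⁻¹) = conjBy R p := by
      rw [← conjBy_conjBy, hR', ← conjBy_conjBy,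
        hall _ (conjBy_mem_unipotent (right_mem_unipotent hPR) (Subgroup.mem_sup_left hp))]
    calc z * p = (z * p * z⁻¹) * z := by group
      _ = p * z := by rw [eq_of_conjBy_right_eq hPR hm hp e]
  have hB := hfix _ (left_mem_unipotent B D)
  have hD := hfix _ (right_mem_unipotent h)
  have hsymm : ∀ Q ∈ unipotentSubgroups D B, conjBy Q z = Q := by
    rintro _ ⟨x, hx, rfl⟩
    exact hfix _ (conjBy_mem_unipotent (right_mem_unipotent h) (sup_comm D B ▸ hx))
  intro y hy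
  have hle : B ⊔ D ≤ Subgroup.centralizer {z} := sup_le
    (fun p hp => Subgroup.mem_centralizer_singleton_iff.2 (key h hfix hB hD p hp).symm)
    (fun p hp => Subgroup.mem_centralizer_singleton_iff.2 (key (RankOnePair_symm h) hsymm hD hB p hp).symm)
  exact (Subgroup.mem_centralizer_singleton_iff.1 (hle hy)).symm

/-- The hypotheses of the natural line configuration. -/
structure NaturalLine (S : Set (Subgroup G)) (A B D : Subgroup G) : Prop where
  root : IsRootSubgroupSet S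
  left : A ∈ S
  mid : B ∈ S
  right : D ∈ S
  low : RootCommutatorCase S A B
  high : RootCommutatorCase S D ⁅A, B⁆
  back : ⁅D, ⁅A, B⁆⁆ = A

theorem NaturalLine.mk' (hS : IsRootSubgroupSet S) (hA : A ∈ S) (hB : B ∈ S) (hC : ⁅A, B⁆ ∈ S) (hD : D ∈ S)
    (hDC : ⁅D, ⁅A, B⁆⁆ = A) : NaturalLine S A B D :=
  ⟨hS, hA, hB, hD, commutatorCase_of_mem hS hA hB hC, commutatorCase_of_mem hS hD hC (hDC.symm ▸ hA), hDC⟩

namespace NaturalLine

variable (H : NaturalLine S A B D)
include H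

theorem aD {a d : G} (ha : a ∈ A) (hd : d ∈ D) : a * d = d * a :=
  CommCase.central_left H.high (H.back.symm ▸ ha) hd

theorem aC {a c : G} (ha : a ∈ A) (hc : c ∈ ⁅A, B⁆) : a * c = c * a :=
  (CommCase.central_left H.low hc ha).symm

theorem eq_one_of_fix_mid {a : G} (ha : a ∈ A) (h : ∀ b ∈ B, a * b = b * a) : a = 1 := by
  by_contra ha1
  refine H.root.ne_bot _ H.low.1 (eq_bot_iff.2 fun c hc => Subgroup.mem_bot.2 ?_)
  obtain ⟨b, hb, rfl⟩ := CommCase.surj H.low ha ha1 hc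
  exact commutatorElement_eq_one_iff_commute.2 (h b hb)

theorem eq_one_of_fix_right {c : G} (hc : c ∈ ⁅A, B⁆) (h : ∀ d ∈ D, c * d = d * c) : c = 1 := by
  by_contra hc1
  refine H.root.ne_bot _ H.left (eq_bot_iff.2 fun a ha => Subgroup.mem_bot.2 ?_)
  obtain ⟨d, hd, rfl⟩ := CommCase.surj' H.high hc hc1 (H.back.symm ▸ ha)
  exact commutatorElement_eq_one_iff_commute.2 (h d hd).symm

theorem rankOne : IsRankOnePair B D := by
  obtain ⟨d, hd, hd1⟩ := (Subgroup.bot_or_exists_ne_one D).resolve_left (H.root.ne_bot D H.right)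
  obtain ⟨b, hb, hb1⟩ := (Subgroup.bot_or_exists_ne_one B).resolve_left (H.root.ne_bot B H.mid)
  have hkill : (∀ c ∈ ⁅A, B⁆, d * c = c * d) → False := fun h => by
    refine H.root.ne_bot _ H.left (eq_bot_iff.2 fun a ha => Subgroup.mem_bot.2 ?_)
    obtain ⟨c, hc, rfl⟩ := CommCase.surj H.high hd hd1 (H.back.symm ▸ ha)
    exact commutatorElement_eq_one_iff_commute.2 (h c hc)
  rcases H.root.pair B H.mid D H.right with h | h | h
  · exfalso
    refine hkill fun c hc => ?_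
    obtain ⟨a, ha, rfl⟩ := CommCase.surj' H.low hb hb1 hc
    have hbd := commute_of_commutator_eq_bot h hb hd
    exact (Commute.mul_right (Commute.mul_right (Commute.mul_right (show Commute d a from (H.aD ha hd).symm)
      (show Commute d b from hbd.symm)) (Commute.inv_right (show Commute d a from (H.aD ha hd).symm)))
      (Commute.inv_right (show Commute d b from hbd.symm))).eq
  · exact h
  · exfalso
    refine hkill fun c₀ hc₀ => ?_
    obtain ⟨a', ha', e0⟩ := CommCase.surj' H.low hb hb1 hc₀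
    obtain ⟨c, hc, e1⟩ := CommCase.surj H.high hd hd1 (H.back.symm ▸ ha')
    obtain ⟨a, ha, e2⟩ := CommCase.surj' H.low hb hb1 hc
    have hcd : ∀ {x : G}, x ∈ A → Commute d x := fun hx => (H.aD hx hd).symm
    have hcb : ∀ {x : G}, x ∈ ⁅A, B⁆ → Commute x b := fun hx => CommCase.central_right H.low hx hb
    have e3 : b⁻¹ * a * b = a * c := by
      rw [← e2, ← CommCase.neg_neg H.low ha hb, commutatorElement_def]; group
    have e4 : d * c * d⁻¹ = a' * c := by rw [← e1, commutatorElement_def]; group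
    have e5 : b * a * b⁻¹ = a * c⁻¹ := by
      calc b * a * b⁻¹ = b * ((a * c) * c⁻¹) * b⁻¹ := by rw [mul_inv_cancel_right]
        _ = b * (b⁻¹ * a * b) * (c⁻¹ * b⁻¹) := by rw [e3]; group
        _ = a * (b * c⁻¹) * b⁻¹ := by group
        _ = a * c⁻¹ := by rw [← (Commute.inv_left (hcb hc)).eq]; group
    have e6 : b * a' * b⁻¹ = c₀⁻¹ * a' := by rw [← e0, commutatorElement_def]; group
    have he : ⁅b, d⁆ * a * ⁅b, d⁆⁻¹ = a * (c₀⁻¹ * a') := by
      calc ⁅b, d⁆ * a * ⁅b, d⁆⁻¹ = b * d * b⁻¹ * (d⁻¹ * a * d) * b * d⁻¹ * b⁻¹ := by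
            rw [commutatorElement_def]; group
        _ = b * d * (b⁻¹ * a * b) * d⁻¹ * b⁻¹ := by
            rw [show d⁻¹ * a * d = a by rw [mul_assoc, ← (hcd ha).eq, inv_mul_cancel_left]]; group
        _ = b * ((d * a * d⁻¹) * (d * c * d⁻¹)) * b⁻¹ := by rw [e3]; group
        _ = (b * a * b⁻¹) * (b * a' * b⁻¹) * (b * c * b⁻¹) := by
            rw [(hcd ha).eq, mul_inv_cancel_right, e4]; group
        _ = a * (c⁻¹ * (c₀⁻¹ * a')) * c := by
            rw [e5, e6, ← (hcb hc).eq, mul_inv_cancel_right]; group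
        _ = a * (c₀⁻¹ * a') := by
            have hcc : Commute c⁻¹ (c₀⁻¹ * a') := Commute.inv_left (Commute.mul_right
              (Commute.inv_right (show Commute c c₀ from abelian_comm H.root H.low.1 hc hc₀))
              (show Commute c a' from (H.aC ha' hc).symm))
            rw [hcc.eq]; group
    have h1 : Commute d (⁅b, d⁆ * a * ⁅b, d⁆⁻¹) := by
      have hcl : Commute d ⁅b, d⁆ := (CommCase.central_right h (Subgroup.commutator_mem_commutator hb hd) hd).symm
      exact (hcl.mul_right (hcd ha)).mul_right hcl.inv_right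
    rw [he] at h1
    have h2 : Commute d (a⁻¹ * (a * (c₀⁻¹ * a')) * a'⁻¹) :=
      ((Commute.inv_right (hcd ha)).mul_right h1).mul_right (Commute.inv_right (hcd ha'))
    rw [inv_mul_cancel_left, mul_inv_cancel_right] at h2
    exact (Commute.inv_right_iff.1 h2).eq

theorem line_invariant {x : G} (hx : x ∈ B ⊔ D) : conjBy (A ⊔ ⁅A, B⁆) x = A ⊔ ⁅A, B⁆ := by
  have hstep : ∀ {g : G}, g ∈ B ∨ g ∈ D → conjBy (A ⊔ ⁅A, B⁆) g ≤ A ⊔ ⁅A, B⁆ := by
    intro g hg
    rw [conjBy, Subgroup.map_sup]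
    rcases hg with hg | hg
    · refine sup_le (CommCase.conj_le H.low hg) ((le_of_eq ?_).trans le_sup_right)
      exact conjBy_eq_of_commute (eq_bot_iff.2 (Subgroup.commutator_le.2 fun c hc b hb => Subgroup.mem_bot.2
        (commutatorElement_eq_one_iff_commute.2 (CommCase.central_right H.low hc hb)))) hg
    · refine sup_le ((le_of_eq ?_).trans le_sup_left) ?_
      · exact conjBy_eq_of_commute (eq_bot_iff.2 (Subgroup.commutator_le.2 fun a ha d hd => Subgroup.mem_bot.2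
          (commutatorElement_eq_one_iff_commute.2 (H.aD ha hd)))) hg
      · have := CommCase.conj_le (CommCase.symm H.high) hg
        rwa [Subgroup.commutator_comm ⁅A, B⁆ D, H.back, sup_comm] at this
  have hmem : ∀ {g : G}, g ∈ B ∨ g ∈ D → g ∈ Subgroup.normalizer ((A ⊔ ⁅A, B⁆ : Subgroup G) : Set G) := by
    intro g hg
    refine conjBy_eq_self_iff.1 (le_antisymm (hstep hg) fun y hy => ?_)
    rw [mem_conjBy]
    have := hstep (g := g⁻¹) (hg.imp (fun h => inv_mem h) fun h => inv_mem h) (conj_mem_conjBy hy)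
    rwa [inv_inv] at this
  exact conjBy_eq_self_iff.2 ((sup_le (fun g hg => hmem (Or.inl hg)) (fun g hg => hmem (Or.inr hg)) :
    B ⊔ D ≤ Subgroup.normalizer ((A ⊔ ⁅A, B⁆ : Subgroup G) : Set G)) hx)

theorem conj_low_le {x : G} (hx : x ∈ B ⊔ D) : conjBy ⁅A, B⁆ x ≤ A ⊔ ⁅A, B⁆ :=
  (Subgroup.map_mono le_sup_right).trans (H.line_invariant hx).le

theorem mem_conj_low {x y : G} (hx : x ∈ B ⊔ D) :
    y ∈ conjBy ⁅A, B⁆ x ↔ y ∈ A ⊔ ⁅A, B⁆ ∧ ∀ b ∈ conjBy B x, y * b = b * y := by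
  constructor
  · intro hy
    refine ⟨H.conj_low_le hx hy, ?_⟩
    rintro _ ⟨b, hb, rfl⟩
    rw [mem_conjBy] at hy
    have := CommCase.central_right H.low hy hb
    show y * (x * b * x⁻¹) = x * b * x⁻¹ * y
    calc y * (x * b * x⁻¹) = x * (x⁻¹ * y * x * b) * x⁻¹ := by group
      _ = x * b * x⁻¹ * y := by rw [this]; group
  · rintro ⟨hy, hcen⟩
    rw [mem_conjBy]
    have hm : x⁻¹ * y * x ∈ A ⊔ ⁅A, B⁆ := by
      rw [← mem_conjBy, H.line_invariant hx]; exact hy
    obtain ⟨a, ha, c, hc, e⟩ := mem_sup_of_commute (fun a ha c hc => H.aC ha hc) hm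
    have ha1 : a = 1 := H.eq_one_of_fix_mid ha fun b hb => by
      have h1 : x⁻¹ * y * x * b = b * (x⁻¹ * y * x) := by
        calc x⁻¹ * y * x * b = x⁻¹ * (y * (x * b * x⁻¹)) * x := by group
          _ = b * (x⁻¹ * y * x) := by rw [hcen _ (conj_mem_conjBy hb)]; group
      rw [e] at h1
      have h2 : Commute (a * c) b := h1
      have h3 := h2.mul_left (Commute.inv_left (CommCase.central_right H.low hc hb : Commute c b))
      rw [mul_inv_cancel_right] at h3
      exact h3.eq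
    rw [e, ha1, one_mul]; exact hc

theorem conj_low_congr {x x' : G} (hx : x ∈ B ⊔ D) (hx' : x' ∈ B ⊔ D) (e : conjBy B x = conjBy B x') :
    conjBy ⁅A, B⁆ x = conjBy ⁅A, B⁆ x' := by
  ext y; rw [H.mem_conj_low hx, H.mem_conj_low hx', e]

theorem left_eq {x : G} (hx : x ∈ B ⊔ D) (e : conjBy B x = D) : conjBy ⁅A, B⁆ x = A := by
  ext y
  rw [H.mem_conj_low hx, e]
  constructor
  · rintro ⟨hy, hcen⟩
    obtain ⟨a, ha, c, hc, rfl⟩ := mem_sup_of_commute (fun a ha c hc => H.aC ha hc) hy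
    have hc1 : c = 1 := H.eq_one_of_fix_right hc fun d hd => by
      have h3 := (Commute.inv_left (H.aD ha hd : Commute a d)).mul_left (hcen d hd : Commute (a * c) d)
      rw [inv_mul_cancel_left] at h3
      exact h3.eq
    rw [hc1, mul_one]; exact ha
  · exact fun hy => ⟨Subgroup.mem_sup_left hy, fun d hd => H.aD hy hd⟩

theorem exists_swap' : ∃ w ∈ B ⊔ D, conjBy B w = D ∧ conjBy ⁅A, B⁆ w = A := by
  obtain ⟨w, hw, e⟩ := right_mem_unipotent H.rankOne
  exact ⟨w, hw, e.symm, H.left_eq hw e.symm⟩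

theorem orbit_eq : {E | ∃ x ∈ B ⊔ D, E = conjBy A x} = {E | ∃ x ∈ B ⊔ D, E = conjBy ⁅A, B⁆ x} := by
  obtain ⟨w, hw, -, hwC⟩ := H.exists_swap'
  ext E
  constructor
  · rintro ⟨x, hx, rfl⟩
    exact ⟨x * w, mul_mem hx hw, by rw [← conjBy_conjBy, hwC]⟩
  · rintro ⟨x, hx, rfl⟩
    exact ⟨x * w⁻¹, mul_mem hx (inv_mem hw), by
      conv_rhs => rw [show conjBy A (x * w⁻¹) = conjBy (conjBy ⁅A, B⁆ w) (x * w⁻¹) by rw [hwC], conjBy_conjBy,
        inv_mul_cancel_right]⟩

theorem orbit_left : {E | ∃ x ∈ B ⊔ D, E = conjBy A x} = (fun b : G => conjBy A b) '' (B : Set G) ∪ {⁅A, B⁆} := by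
  obtain ⟨w, hw, hwB, hwC⟩ := H.exists_swap'
  rw [H.orbit_eq]
  ext E
  constructor
  · rintro ⟨x, hx, rfl⟩
    rcases unipotent_cases H.rankOne (conjBy_mem_unipotent (left_mem_unipotent B D) hx) with e | ⟨b, hb, e⟩
    · refine Or.inr ?_
      rw [Set.mem_singleton_iff, H.conj_low_congr hx (one_mem _) (by rw [e, conjBy_one]), conjBy_one]
    · refine Or.inl ⟨b, hb, ?_⟩
      show conjBy A b = _
      rw [show conjBy A b = conjBy (conjBy ⁅A, B⁆ w) b by rw [hwC], conjBy_conjBy]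
      refine (H.conj_low_congr hx (mul_mem (Subgroup.mem_sup_left hb) hw) ?_).symm
      rw [← conjBy_conjBy, hwB, e]
  · rintro (⟨b, hb, rfl⟩ | rfl)
    · exact ⟨b * w, mul_mem (Subgroup.mem_sup_left hb) hw, by rw [← conjBy_conjBy, hwC]⟩
    · exact ⟨1, one_mem _, (conjBy_one _).symm⟩

theorem orbit_right : {E | ∃ x ∈ B ⊔ D, E = conjBy A x} = (fun d : G => conjBy ⁅A, B⁆ d) '' (D : Set G) ∪ {A} := by
  obtain ⟨w, hw, hwB, hwC⟩ := H.exists_swap'
  ext E
  constructor
  · intro hE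
    rw [H.orbit_eq] at hE
    obtain ⟨x, hx, rfl⟩ := hE
    have hm : conjBy B x ∈ unipotentSubgroups D B :=
      conjBy_mem_unipotent (right_mem_unipotent (RankOnePair_symm H.rankOne)) (sup_comm B D ▸ hx)
    rcases unipotent_cases (RankOnePair_symm H.rankOne) hm with e | ⟨d, hd, e⟩
    · refine Or.inr ?_
      rw [Set.mem_singleton_iff]; exact H.left_eq hx e
    · exact Or.inl ⟨d, hd, (H.conj_low_congr hx (Subgroup.mem_sup_right hd) e).symm⟩
  · rintro (⟨d, hd, rfl⟩ | rfl)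
    · refine ⟨d * w⁻¹, mul_mem (Subgroup.mem_sup_right hd) (inv_mem hw), ?_⟩
      rw [show conjBy A (d * w⁻¹) = conjBy (conjBy ⁅A, B⁆ w) (d * w⁻¹) by rw [hwC], conjBy_conjBy,
        inv_mul_cancel_right]
    · exact ⟨1, one_mem _, (conjBy_one _).symm⟩

theorem meet_eq_bot {x x' : G} (hx : x ∈ B ⊔ D) (hx' : x' ∈ B ⊔ D) (hne : conjBy B x ≠ conjBy B x') :
    conjBy ⁅A, B⁆ x ⊓ conjBy ⁅A, B⁆ x' = ⊥ := by
  refine eq_bot_iff.2 fun y hy => Subgroup.mem_bot.2 ?_
  obtain ⟨h1', h2'⟩ := hy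
  have h1 := (H.mem_conj_low hx).1 h1'
  have h2 := (H.mem_conj_low hx').1 h2'
  have hle : conjBy B x ⊔ conjBy B x' ≤ Subgroup.centralizer {y} := sup_le
    (fun b hb => Subgroup.mem_centralizer_singleton_iff.2 (h1.2 b hb).symm)
    (fun b hb => Subgroup.mem_centralizer_singleton_iff.2 (h2.2 b hb).symm)
  rw [unipotent_sup_eq H.rankOne (conjBy_mem_unipotent (left_mem_unipotent B D) hx)
    (conjBy_mem_unipotent (left_mem_unipotent B D) hx') hne] at hle
  obtain ⟨a, ha, c, hc, rfl⟩ := mem_sup_of_commute (fun a ha c hc => H.aC ha hc) h1.1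
  have ha1 : a = 1 := H.eq_one_of_fix_mid ha fun b hb => by
    have h3 := (show Commute (a * c) b from (Subgroup.mem_centralizer_singleton_iff.1
      (hle (Subgroup.mem_sup_left hb))).symm).mul_left
      (Commute.inv_left (CommCase.central_right H.low hc hb : Commute c b))
    rw [mul_inv_cancel_right] at h3
    exact h3.eq
  subst ha1
  rw [one_mul] at hle ⊢
  exact H.eq_one_of_fix_right hc fun d hd =>
    (Subgroup.mem_centralizer_singleton_iff.1 (hle (Subgroup.mem_sup_right hd))).symm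

theorem partition : IsSubgroupPartition (A ⊔ ⁅A, B⁆) {E | ∃ x ∈ B ⊔ D, E = conjBy A x} := by
  refine ⟨?_, fun y hy _ => ?_, ?_⟩
  · rw [H.orbit_eq]; rintro _ ⟨x, hx, rfl⟩; exact H.conj_low_le hx
  · rw [H.orbit_left]
    rcases CommCase.cover H.low hy with h | ⟨b, hb, h⟩
    · exact ⟨_, Or.inr rfl, h⟩
    · exact ⟨_, Or.inl ⟨b, hb, rfl⟩, h⟩
  · rw [H.orbit_eq]
    rintro _ ⟨x, hx, rfl⟩ _ ⟨x', hx', rfl⟩ hne
    exact H.meet_eq_bot hx hx' fun e => hne (H.conj_low_congr hx hx' e)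

theorem centralizer_central {z : G} (hz : z ∈ B ⊔ D)
    (hzN : z ∈ Subgroup.centralizer ((A ⊔ ⁅A, B⁆ : Subgroup G) : Set G)) : ∀ y ∈ B ⊔ D, z * y = y * z := by
  refine central_of_fix_all H.rankOne ?_
  rintro _ ⟨g, hg, rfl⟩
  rw [conjBy_conjBy]
  by_contra hne
  have hfix : conjBy ⁅A, B⁆ (z * g) = conjBy ⁅A, B⁆ g := by
    rw [← conjBy_conjBy]
    refine le_antisymm ?_ fun y hy => ?_
    · rintro _ ⟨y, hy, rfl⟩
      show z * y * z⁻¹ ∈ _
      rwa [← Subgroup.mem_centralizer_iff.1 hzN y (H.conj_low_le hg hy), mul_inv_cancel_right]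
    · rw [mem_conjBy, mul_assoc, Subgroup.mem_centralizer_iff.1 hzN y (H.conj_low_le hg hy), inv_mul_cancel_left]
      exact hy
  have hbot := H.meet_eq_bot (mul_mem hz hg) hg hne
  rw [hfix, inf_idem] at hbot
  exact H.root.ne_bot _ (H.root.conj_mem _ H.low.1 g) hbot

end NaturalLine

end CfsgLib.RootSubgroups
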