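import Cfsg.Agent.RootSubgroups.BlockEnd

/-!
Odd transpositions with a line in a simple group: a disconnected commuting graph gives, through the
criterion, a strongly embedded subgroup.

In such a group two different commuting members have their product among the members; hence
commuting is transitive, each Sylow 2-subgroup holds an odd number of members and centralises one.
-/

set_option autoImplicit false
set_option linter.unusedSectionVars false

namespace CfsgLib.OddBlock

open Cfsg CfsgLib.RootInv Subgroup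

universe u

variable {G : Type u} [Group G] [Finite G] {D : Set G}

/-- Odd transpositions forming one class, with a line. -/
structure Deg (D : Set G) : Prop where
  root : IsRootInvolutionSet D
  no_four : ∀ a ∈ D, ∀ b ∈ D, orderOf (a * b) ≠ 4
  cls : ∀ a ∈ D, ∀ b ∈ D, ∃ g : G, b = g * a * g⁻¹
  line : ∃ a p, Line D a p

/-- The component relation of the commuting graph. -/
abbrev Cc (D : Set G) (a b : G) : Prop := Relation.ReflTransGen (CommAdj D) a b

namespace Deg

variable (C : Deg D)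
include C

theorem pair {a b : G} (ha : a ∈ D) (hb : b ∈ D) : Commute a b ∨ Odd (orderOf (a * b)) := by
  rcases C.root.pair a ha b hb with h | h | ⟨h, -⟩
  · exact Or.inl h
  · exact Or.inr h
  · exact absurd h (C.no_four a ha b hb)

omit [Finite G] in
theorem cc_symm {a b : G} (h : Cc D a b) : Cc D b a := by
  induction h with
  | refl => exact .refl
  | tail _ h ih => exact .head ⟨h.2.1, h.1, h.2.2.1.symm, h.2.2.2.symm⟩ ih

omit [Finite G] in
theorem cc_of_commute {a b : G} (ha : a ∈ D) (hb : b ∈ D) (h : Commute a b) : Cc D a b := by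
  by_cases e : a = b
  · rw [e]
  · exact .single ⟨ha, hb, e, h.eq⟩

theorem cc_conj {a b : G} (g : G) (h : Cc D a b) : Cc D (g * a * g⁻¹) (g * b * g⁻¹) :=
  h.lift (fun y => g * y * g⁻¹) fun u v huv =>
    ⟨C.root.conj_mem u huv.1 g, C.root.conj_mem v huv.2.1 g, fun e => huv.2.2.1 (by simpa using e), by
      rw [show g * u * g⁻¹ * (g * v * g⁻¹) = g * (u * v) * g⁻¹ by group, huv.2.2.2]; group⟩

theorem odd_of_far {a b : G} (ha : a ∈ D) (hb : b ∈ D) (h : ¬ Cc D a b) :
    a ≠ b ∧ Odd (orderOf (a * b)) :=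
  ⟨fun e => h (e ▸ .refl), (C.pair ha hb).resolve_left fun e => h (C.cc_of_commute ha hb e)⟩

/-- The stabiliser of the component of `a`. -/
def stab (a : G) : Subgroup G where
  carrier := {g | Cc D a (g * a * g⁻¹)}
  one_mem' := by
    show Cc D a ((1 : G) * a * 1⁻¹)
    rw [one_mul, inv_one, mul_one]
  mul_mem' := fun {g h} hg hh => by
    have h1 := Relation.ReflTransGen.trans hg (C.cc_conj g hh)
    rwa [show g * (h * a * h⁻¹) * g⁻¹ = g * h * a * (g * h)⁻¹ by group] at h1
  inv_mem' := fun {g} hg => by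
    have h1 := C.cc_symm (C.cc_conj g⁻¹ hg)
    rwa [show g⁻¹ * (g * a * g⁻¹) * g⁻¹⁻¹ = a by group] at h1

theorem mem_stab {a g : G} : g ∈ C.stab a ↔ Cc D a (g * a * g⁻¹) := Iff.rfl

theorem stab_eq {a b : G} (h : Cc D a b) : C.stab a = C.stab b := by
  suffices key : ∀ {a b : G}, Cc D a b → C.stab a ≤ C.stab b from
    le_antisymm (key h) (key (C.cc_symm h))
  intro a b h g hg
  exact ((C.cc_symm h).trans hg).trans (C.cc_conj g h)

/-- Members stabilising a component belong to it. -/
theorem cc_of_mem_stab {a b : G} (ha : a ∈ D) (hb : b ∈ D) (h : b ∈ C.stab a) : Cc D a b := by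
  by_contra hne
  obtain ⟨-, hodd⟩ := C.odd_of_far ha hb hne
  obtain ⟨d, hd, e⟩ := Invol.exists_conj_of_odd (C.root.orderOf_eq a ha) (C.root.orderOf_eq b hb) hodd
  have hle : closure ({a, b} : Set G) ≤ C.stab a := by
    refine (closure_le _).2 ?_
    rintro y (rfl | rfl)
    · show Cc D y (y * y * y⁻¹)
      rw [mul_inv_cancel_right]
    · exact h
  have := hle hd
  rw [C.mem_stab, e] at this
  exact hne this

/-- A member commuting with the product of two commuting members lies in their component. -/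
theorem cc_of_commute_mul {u v x : G} (hu : u ∈ D) (hv : v ∈ D) (hx : x ∈ D) (hne : u ≠ v)
    (huv : Commute u v) (h : Commute x (u * v)) : Cc D u x := by
  by_contra hne'
  have hD := C.root
  obtain ⟨hux, hodd⟩ := C.odd_of_far hu hx hne'
  refine not_mul_eq_invol_mul_odd hD hx hv (z := u * v) (g := x * u) ?_ ?_ ?_ ?_ ?_
  · refine Invol.orderOf_eq_two ?_ fun e => hne ?_
    · rw [huv.symm.mul_mul_mul_comm, sq hD hu, sq hD hv, one_mul]
    · rwa [mul_eq_one_iff_eq_inv, inv hD hv] at e
  · exact h.symm.mul_right (((Commute.refl u).mul_right huv).symm)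
  · intro e; rw [mul_eq_one_iff_eq_inv, inv hD hu] at e; exact hux e.symm
  · rwa [orderOf_mul_comm]
  · rw [(h.symm.mul_right (((Commute.refl u).mul_right huv).symm)).eq,
      show x * u * (u * v) = x * (u * u) * v by group, sq hD hu, mul_one]

/-- The centraliser of the product of two commuting members stabilises their component. -/
theorem centralizer_mul_le {u v : G} (hu : u ∈ D) (hv : v ∈ D) (hne : u ≠ v) (huv : Commute u v) :
    centralizer ({u * v} : Set G) ≤ C.stab u := by
  intro g hg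
  have h : Commute g (u * v) := mem_centralizer_singleton_iff.1 hg
  refine C.cc_of_commute_mul hu hv (C.root.conj_mem u hu g) hne huv ?_
  have h1 := (((Commute.refl u).mul_right huv)).map (MulAut.conj g).toMonoidHom
  simp only [MulEquiv.coe_toMonoidHom, MulAut.conj_apply] at h1
  rwa [show g * (u * v) * g⁻¹ = u * v by rw [h.eq, mul_inv_cancel_right]] at h1

/-- The midpoint of a pair with odd product. -/
theorem exists_mid {d e : G} (hd : d ∈ D) (he : e ∈ D) (hodd : Odd (orderOf (d * e))) :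
    ∃ m ∈ D, m * d * m = e := by
  have hD := C.root
  rw [orderOf_mul_comm] at hodd
  obtain ⟨j, hj⟩ := hodd
  set s := e * d with hs
  set k := (j + 1) ^ 2 with hk
  refine ⟨s ^ k * d * (s ^ k)⁻¹, hD.conj_mem d hd _, ?_⟩
  have hflip : d * s * d⁻¹ = s⁻¹ := by
    rw [hs, mul_inv_rev, inv hD he, inv hD hd, show d * (e * d) * d = d * e * (d * d) by group,
      sq hD hd, mul_one]
  have hpow : ∀ i : ℕ, d * s ^ i = (s ^ i)⁻¹ * d := fun i => by
    rw [← inv_pow, ← hflip, conj_pow, inv_mul_cancel_right]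
  have hw : s ^ k * d * (s ^ k)⁻¹ = s ^ (k + k) * d := by
    rw [pow_add, mul_assoc, mul_assoc]
    congr 1
    rw [eq_comm, eq_mul_inv_iff_mul_eq, mul_assoc, hpow k, mul_inv_cancel_left]
  rw [hw]
  calc s ^ (k + k) * d * d * (s ^ (k + k) * d)
      = s ^ (k + k) * (d * d) * (s ^ (k + k) * d) := by group
    _ = s ^ (k + k + (k + k)) * d := by rw [sq hD hd, mul_one, ← mul_assoc, ← pow_add]
    _ = s * d := by
        congr 1
        have e : k + k + (k + k) = orderOf s * (2 * j + 3) + 1 := by rw [hj, hk]; ring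
        rw [e, pow_succ, pow_mul, pow_orderOf_eq_one, one_pow, one_mul]
    _ = e := by rw [hs, mul_assoc, sq hD hd, mul_one]

/-- Midpoints are unique. -/
theorem mid_unique {d w w' : G} (h1 : Odd (orderOf (w * d))) (h2 : Odd (orderOf (w' * d)))
    (h : w * d * w = w' * d * w') : w = w' := by
  have e : (w * d) ^ 2 = (w' * d) ^ 2 := by
    rw [pow_two, pow_two, ← mul_assoc, ← mul_assoc, h]
  have hco : ∀ {g : G}, Odd (orderOf g) → (g ^ 2) ^ ((orderOf g + 1) / 2) = g := fun {g} hg => by
    obtain ⟨j, hj⟩ := hg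
    rw [← pow_mul, hj, show 2 * ((2 * j + 1 + 1) / 2) = (2 * j + 1) + 1 by omega, pow_succ, ← hj,
      pow_orderOf_eq_one, one_mul]
  have ho : orderOf (w * d) = orderOf (w' * d) := by
    rw [← (h1.coprime_two_right).orderOf_pow, ← (h2.coprime_two_right).orderOf_pow, e]
  have h3 := hco h1
  rw [e, ho, hco h2] at h3
  exact (mul_right_cancel h3).symm

/-- An involution centralising members of two components. -/
def Two (D : Set G) (x : G) : Prop :=
  ∃ d ∈ D, ∃ e ∈ D, ¬ Cc D d e ∧ Commute d x ∧ Commute e x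

/-- An element moving a component of an involution gives a member commuting with it. -/
theorem exists_mid_commute {x r : G} (hx : x * x = 1) (hr : r ∈ D) (h : ¬ Cc D r (x * r * x)) :
    ∃ m ∈ D, ¬ Cc D r m ∧ Commute m x ∧ Commute r (m * x) := by
  have hD := C.root
  have hxi : x⁻¹ = x := inv_eq_of_mul_eq_one_right hx
  have hr' : x * r * x ∈ D := by
    have := hD.conj_mem r hr x
    rwa [hxi] at this
  obtain ⟨-, hodd⟩ := C.odd_of_far hr hr' h
  obtain ⟨m, hm, e⟩ := C.exists_mid hr hr' hodd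
  have key : ∀ w ∈ D, w * r * w = x * r * x → ¬ Cc D r w := fun w hw hwe hc => by
    have h1 := C.cc_conj w hc
    rw [inv hD hw, hwe, sq hD hw, one_mul] at h1
    exact h (hc.trans (C.cc_symm h1))
  have hm2 : x * m * x ∈ D := by
    have := hD.conj_mem m hm x
    rwa [hxi] at this
  have hback : m * (x * r * x) * m = r := by
    rw [← e, show m * (m * r * m) * m = (m * m) * r * (m * m) by group, sq hD hm, one_mul, mul_one]
  have e2 : x * m * x * r * (x * m * x) = x * r * x := by
    rw [show x * m * x * r * (x * m * x) = x * (m * (x * r * x) * m) * x by group, hback]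
  have o1 : Odd (orderOf (m * r)) := by
    rw [orderOf_mul_comm]; exact (C.odd_of_far hr hm (key m hm e)).2
  have o2 : Odd (orderOf (x * m * x * r)) := by
    rw [orderOf_mul_comm]; exact (C.odd_of_far hr hm2 (key _ hm2 e2)).2
  have hmx : x * m * x = m := C.mid_unique o2 o1 (e2.trans e.symm)
  have hc : Commute m x := by
    show m * x = x * m
    nth_rw 1 [← hmx]
    rw [mul_assoc, hx, mul_one]
  refine ⟨m, hm, key m hm e, hc, ?_⟩
  show r * (m * x) = m * x * r
  calc r * (m * x) = m * (m * r * m) * x := by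
        rw [show m * (m * r * m) * x = (m * m) * r * m * x by group, sq hD hm, one_mul, mul_assoc]
    _ = m * (x * r * x) * x := by rw [e]
    _ = m * x * r := by rw [show m * (x * r * x) * x = m * x * r * (x * x) by group, hx, mul_one]

variable [IsSimpleGroup G] (hbad : ∃ a ∈ D, ∃ b ∈ D, ¬ Cc D a b)
include hbad

/-- A nontrivial element moves some component. -/
theorem exists_moved {g : G} (hg : g ≠ 1) : ∃ r ∈ D, ¬ Cc D r (g * r * g⁻¹) := by
  by_contra! hall
  let N : Subgroup G := ⨅ r ∈ D, C.stab r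
  have hN : N.Normal := ⟨fun n hn k => by
    simp only [N, mem_iInf] at hn ⊢
    intro r hr
    have h1 := C.cc_conj k (hn _ (C.root.conj_mem r hr k⁻¹))
    rw [show k * (k⁻¹ * r * k⁻¹⁻¹) * k⁻¹ = r by group] at h1
    show Cc D r (k * n * k⁻¹ * r * (k * n * k⁻¹)⁻¹)
    rwa [show k * (n * (k⁻¹ * r * k⁻¹⁻¹) * n⁻¹) * k⁻¹ = k * n * k⁻¹ * r * (k * n * k⁻¹)⁻¹ by group]
      at h1⟩
  have hgN : g ∈ N := by
    simp only [N, mem_iInf]
    exact hall
  rcases hN.eq_bot_or_eq_top with h | h
  · exact hg (mem_bot.1 (h ▸ hgN))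
  · obtain ⟨a, ha, b, hb, hab⟩ := hbad
    have hb' : b ∈ C.stab a := by
      have : b ∈ N := h ▸ mem_top b
      simp only [N, mem_iInf] at this
      exact this a ha
    exact hab (C.cc_of_mem_stab ha hb hb')

/-- Multiplying by a commuting member keeps an involution centralising members of two components. -/
theorem two_mul {x : G} (hx : x * x = 1) (hx1 : x ≠ 1) (h : Two D x) {e : G} (he : e ∈ D)
    (hex : Commute e x) : Two D (e * x) := by
  have hD := C.root
  obtain ⟨r, hr, hmove⟩ := C.exists_moved hbad hx1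
  rw [inv_eq_of_mul_eq_one_right hx] at hmove
  obtain ⟨m, hm, hrm, hmx, hrmx⟩ := C.exists_mid_commute hx hr hmove
  -- all members centralising `x` are conjugate there
  have step : ∀ {p q : G}, p ∈ D → q ∈ D → Commute p x → Commute q x → ¬ Cc D p q →
      ∃ g : G, Commute g x ∧ g * p * g⁻¹ = q := by
    intro p q hp hq hpx hqx hpq
    obtain ⟨g, hg, e⟩ := Invol.exists_conj_of_odd (hD.orderOf_eq p hp) (hD.orderOf_eq q hq)
      (C.odd_of_far hp hq hpq).2
    have hle : closure ({p, q} : Set G) ≤ centralizer ({x} : Set G) := (closure_le _).2 (by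
      rintro y (rfl | rfl)
      exacts [mem_centralizer_singleton_iff.2 hpx.eq, mem_centralizer_singleton_iff.2 hqx.eq])
    exact ⟨g, mem_centralizer_singleton_iff.1 (hle hg), e⟩
  obtain ⟨g, hgx, hge⟩ : ∃ g : G, Commute g x ∧ g * m * g⁻¹ = e := by
    by_cases hme : Cc D m e
    swap
    · exact step hm he hmx hex hme
    obtain ⟨p, hp, q, hq, hpq, hpx, hqx⟩ := h
    obtain ⟨z, hz, hzx, hmz⟩ : ∃ z ∈ D, Commute z x ∧ ¬ Cc D m z := by
      by_cases hmp : Cc D m p
      · exact ⟨q, hq, hqx, fun e' => hpq ((C.cc_symm hmp).trans e')⟩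
      · exact ⟨p, hp, hpx, hmp⟩
    obtain ⟨g₁, hg₁, e₁⟩ := step hm hz hmx hzx hmz
    obtain ⟨g₂, hg₂, e₂⟩ := step hz he hzx hex fun e' => hmz (hme.trans (C.cc_symm e'))
    exact ⟨g₂ * g₁, hg₂.mul_left hg₁, by rw [← e₂, ← e₁]; group⟩
  have hgm : g * (m * x) * g⁻¹ = e * x := by
    rw [show g * (m * x) * g⁻¹ = g * m * g⁻¹ * (g * x * g⁻¹) by group, hge, hgx.eq, mul_inv_cancel_right]
  have hconj : ∀ y : G, Commute y (m * x) → Commute (g * y * g⁻¹) (e * x) := fun y hy => by
    rw [← hgm]; exact (Commute.conj_iff g).2 hy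
  refine ⟨g * r * g⁻¹, hD.conj_mem r hr g, e, he, fun hc => hrm ?_, hconj r hrmx,
    (Commute.refl e).mul_right hex⟩
  have h1 := C.cc_conj g⁻¹ hc
  rwa [← hge, show g⁻¹ * (g * r * g⁻¹) * g⁻¹⁻¹ = r by group,
    show g⁻¹ * (g * m * g⁻¹) * g⁻¹⁻¹ = m by group] at h1

/-- The product of two different commuting members is a member. -/
theorem mul_mem_of_commute {u v : G} (hu : u ∈ D) (hv : v ∈ D) (hne : u ≠ v) (huv : Commute u v) :
    u * v ∈ D := by
  have hD := C.root
  by_contra hprod
  set x := u * v with hxdef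
  have hx : x * x = 1 := by rw [hxdef, huv.symm.mul_mul_mul_comm, sq hD hu, sq hD hv, one_mul]
  have hx1 : x ≠ 1 := fun e => hne (by rwa [hxdef, mul_eq_one_iff_eq_inv, inv hD hv] at e)
  obtain ⟨r, hr, hmove⟩ := C.exists_moved hbad hx1
  rw [inv_eq_of_mul_eq_one_right hx] at hmove
  obtain ⟨m, hm, hrm, hmx, hrmx⟩ := C.exists_mid_commute hx hr hmove
  have hy : m * x * (m * x) = 1 := by rw [hmx.symm.mul_mul_mul_comm, sq hD hm, hx, one_mul]
  have hy1 : m * x ≠ 1 := fun e => hprod (by
    rw [mul_eq_one_iff_eq_inv, inv_eq_of_mul_eq_one_right hx] at e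
    exact e ▸ hm)
  have htwo : Two D (m * (m * x)) := C.two_mul hbad hy hy1
    ⟨r, hr, m, hm, hrm, hrmx, (Commute.refl m).mul_right hmx⟩ hm ((Commute.refl m).mul_right hmx)
  rw [← mul_assoc, sq hD hm, one_mul] at htwo
  obtain ⟨d, hd, e, he, hde, hdx, hex⟩ := htwo
  exact hde ((C.cc_symm (C.cc_of_commute_mul hu hv hd hne huv hdx)).trans
    (C.cc_of_commute_mul hu hv he hne huv hex))

/-- Commuting members commute with the same members. -/
theorem commute_trans {a b c : G} (ha : a ∈ D) (hb : b ∈ D) (hc : c ∈ D) (h : Commute a b)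
    (h' : Commute b c) : Commute a c := by
  by_contra hac
  have hne : a ≠ b := fun e => hac (e ▸ h')
  have hl : Line D a b := ⟨ha, hb, h, C.mul_mem_of_commute hbad ha hb hne h⟩
  have hca : c ≠ a := fun e => hac (e ▸ Commute.refl _)
  have hodd : Odd (orderOf (c * a)) :=
    (C.pair hc ha).resolve_left fun e => hac e.symm
  exact line_not_commute C.root hl hc hca hodd h'.symm.eq

/-- A member centralised by a Sylow 2-subgroup. -/
theorem exists_central : ∃ b ∈ D, ∃ S : Sylow 2 G, b ∈ S ∧ ∀ s ∈ S, Commute s b := by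
  have hD := C.root
  have : Fact (Nat.Prime 2) := ⟨Nat.prime_two⟩
  obtain ⟨a, ha, -⟩ := id hbad
  have hvp : IsPGroup 2 (zpowers a) := by
    refine IsPGroup.of_card (n := 1) ?_
    rw [Nat.card_zpowers, hD.orderOf_eq a ha, pow_one]
  obtain ⟨S, hS⟩ := hvp.exists_le_sylow
  have haS : a ∈ S := hS (mem_zpowers a)
  set E : Set G := {y | y ∈ D ∧ y ∈ S} with hE
  have hcomm : ∀ y ∈ E, ∀ y' ∈ E, Commute y y' := fun y hy y' hy' => by
    rcases C.pair hy.1 hy'.1 with h | h
    · exact h
    · rw [RootBlock.eq_of_odd_two hD S.isPGroup' hy.2 hy'.2 hy'.1 h]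
  have hmulE : ∀ y ∈ E, ∀ y' ∈ E, y ≠ y' → y * y' ∈ E := fun y hy y' hy' hne =>
    ⟨C.mul_mem_of_commute hbad hy.1 hy'.1 hne (hcomm y hy y' hy'), mul_mem hy.2 hy'.2⟩
  have haE : a ∈ E := ⟨ha, haS⟩
  have hodd : Odd E.ncard := by
    rw [← Nat.not_even_iff_odd]
    intro hev
    have hflip : ∀ y ∈ E \ {a}, a * y ∈ E \ {a} := fun y hy =>
      ⟨hmulE a haE y hy.1 fun e => hy.2 e.symm, fun e => ne_one hD hy.1.1 (mul_eq_left.1 e)⟩
    let f : ↥(E \ {a}) → ↥(E \ {a}) := fun y => ⟨a * y, hflip y y.2⟩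
    have hf : Function.Involutive f := fun y => Subtype.ext (by
      show a * (a * (y : G)) = y
      rw [← mul_assoc, sq hD ha, one_mul])
    have hoddE : Odd (Nat.card ↥(E \ {a})) := by
      rw [Nat.card_coe_set_eq, Set.ncard_sdiff_singleton_of_mem haE]
      have hpos : 0 < E.ncard := (Set.ncard_pos).2 ⟨a, haE⟩
      exact Nat.Even.sub_odd hpos hev odd_one
    classical
    have : Fintype ↥(E \ {a}) := Fintype.ofFinite _
    obtain ⟨y, hy⟩ := Equiv.Perm.exists_fixed_point_of_prime (p := 2) (n := 1) (σ := hf.toPerm)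
      (by rw [← Nat.card_eq_fintype_card]; exact hoddE.not_two_dvd_nat)
      (Equiv.ext fun z => by rw [pow_one, pow_two]; exact hf z)
    exact ne_one hD ha (mul_eq_right.1 (congrArg Subtype.val hy : a * (y : G) = y))
  have hSE : ∀ s ∈ S, ∀ y ∈ E, s * y * s⁻¹ ∈ E := fun s hs y hy =>
    ⟨hD.conj_mem y hy.1 s, mul_mem (mul_mem hs hy.2) (inv_mem hs)⟩
  let : MulAction (S : Subgroup G) E :=
    { smul := fun g v => ⟨g * v * (g : G)⁻¹, hSE g g.2 v v.2⟩
      one_smul := fun v => Subtype.ext
        (show ((1 : (S : Subgroup G)) : G) * v * ((1 : (S : Subgroup G)) : G)⁻¹ = v by simp)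
      mul_smul := fun g h v => Subtype.ext
        (show ((g * h : (S : Subgroup G)) : G) * v * ((g * h : (S : Subgroup G)) : G)⁻¹ =
            g * (h * v * (h : G)⁻¹) * (g : G)⁻¹ by
          simp [mul_assoc]) }
  have hmod := S.isPGroup'.card_modEq_card_fixedPoints (E : Set G)
  obtain ⟨⟨b, hb⟩⟩ : Nonempty (MulAction.fixedPoints (S : Subgroup G) E) := by
    by_contra h
    rw [not_nonempty_iff] at h
    have h0 : Nat.card (MulAction.fixedPoints (S : Subgroup G) E) = 0 := Nat.card_of_isEmpty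
    rw [h0, Nat.card_coe_set_eq] at hmod
    rw [Nat.odd_iff] at hodd
    unfold Nat.ModEq at hmod
    omega
  exact ⟨b, b.2.1, S, b.2.2, fun s hs =>
    mul_inv_eq_iff_eq_mul.1 (congrArg Subtype.val (hb ⟨s, hs⟩) : s * b * s⁻¹ = b)⟩

/-- A disconnected commuting graph gives a strongly embedded subgroup. -/
theorem exists_stronglyEmbedded (hcrit : RootBlock.Criterion.{u}) :
    ∃ H : Subgroup G, Cfsg.IsStronglyEmbedded H := by
  have hD := C.root
  obtain ⟨b, hb, hS⟩ := C.exists_central hbad
  obtain ⟨p, hp, q, hq, hpq⟩ := hbad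
  have hM : C.stab b ≠ ⊤ := fun e => hpq
    ((C.cc_symm (C.cc_of_mem_stab hb hp (e ▸ mem_top p))).trans
      (C.cc_of_mem_stab hb hq (e ▸ mem_top q)))
  refine hcrit G (C.stab b) hM b (hD.orderOf_eq b hb) ?_ hS (fun g hg => ?_) fun g hc hne => ?_
  · show Cc D b (b * b * b⁻¹)
    rw [mul_inv_cancel_right]
  · exact C.cc_of_mem_stab hb (hD.conj_mem b hb g) hg
  · exact C.centralizer_mul_le hb (hD.conj_mem b hb g) hne.symm hc

end Deg

end CfsgLib.OddBlock
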