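import Cfsg.Agent.RootSubgroups.OddTrans
import Cfsg.Agent.OneClass.Basic

/-!
The group generated by the twins of an odd transposition and one odd partner, and its quotient by the
2-core.
-/

set_option autoImplicit false
set_option linter.unusedSectionVars false

namespace CfsgLib.OddTrans

open Cfsg CfsgLib.RootInv CfsgLib.OddClass Subgroup

universe u

variable {G : Type u} [Group G] [Finite G] {D : Set G} {d x : G}

omit [Finite G] in
theorem twins_eq (d : G) : twins D d = Cfsg.sameCommutingClass D d := by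
  ext e
  constructor
  · exact fun he => ⟨he.1, Set.ext fun s => ⟨fun h => ⟨h.1, ((he.2 s h.1).2 h.2).eq⟩,
      fun h => ⟨h.1, ((he.2 s h.1).1 h.2).eq⟩⟩⟩
  · exact fun he => ⟨he.1, fun s hs =>
      ⟨fun h => (((Set.ext_iff.1 he.2 s).2 ⟨hs, h.eq⟩)).2,
        fun h => (((Set.ext_iff.1 he.2 s).1 ⟨hs, h.eq⟩)).2⟩⟩

/-- The generated group. -/
abbrev blockGroup (D : Set G) (d x : G) : Subgroup G := closure (twins D d ∪ {x})

/-- The conjugates of `d` there. -/
def blockSet (D : Set G) (d x : G) : Set ↥(blockGroup D d x) :=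
  {k | ∃ g : ↥(blockGroup D d x), g.1 * d * g.1⁻¹ = k.1}

/-- The quotient map by the 2-core. -/
abbrev blockMap (D : Set G) (d x : G) :
    ↥(blockGroup D d x) →* ↥(blockGroup D d x) ⧸ Cfsg.pCore 2 ↥(blockGroup D d x) :=
  QuotientGroup.mk' _

omit [Finite G] in
theorem twin_mem_block {e : G} (he : e ∈ twins D d) : e ∈ blockGroup D d x :=
  subset_closure (Or.inl he)

omit [Finite G] in
theorem partner_mem_block : x ∈ blockGroup D d x := subset_closure (Or.inr rfl)

theorem blockSet_mem (C : OddBlock.Deg D) (hd : d ∈ D) {k : ↥(blockGroup D d x)}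
    (hk : k ∈ blockSet D d x) : k.1 ∈ D := by
  obtain ⟨g, e⟩ := hk
  exact e ▸ C.root.conj_mem d hd g.1

theorem blockSet_sq (C : OddBlock.Deg D) (hd : d ∈ D) {k : ↥(blockGroup D d x)}
    (hk : k ∈ blockSet D d x) : k * k = 1 :=
  Subtype.ext (RootInv.sq C.root (blockSet_mem C hd hk))

/-- A member of the group not commuting with one of the class is in the class. -/
theorem blockSet_step (C : OddBlock.Deg D) (hd : d ∈ D) {a b : ↥(blockGroup D d x)}
    (ha : a ∈ blockSet D d x) (hb : b.1 ∈ D) (h : ¬ Commute a.1 b.1) : b ∈ blockSet D d x := by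
  obtain ⟨w, hw, e⟩ := C.exists_conj_odd (blockSet_mem C hd ha) hb h
  obtain ⟨g, eg⟩ := ha
  have hwK : w ∈ blockGroup D d x := (closure_le _).2 (by
    rintro y (rfl | rfl)
    exacts [a.2, b.2]) hw
  refine ⟨⟨w, hwK⟩ * g, ?_⟩
  show w * g.1 * d * (w * g.1)⁻¹ = b.1
  rw [← e, ← eg]
  group

variable (C : OddBlock.Deg D) (hd : d ∈ D) (hx : x ∈ D) (hxd : ¬ Commute x d)
include C hd hx hxd

omit hx hxd in
theorem base_mem_blockSet : (⟨d, twin_mem_block (mem_twins_self hd)⟩ : ↥(blockGroup D d x)) ∈ blockSet D d x :=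
  ⟨1, by simp⟩

theorem partner_mem_blockSet : (⟨x, partner_mem_block⟩ : ↥(blockGroup D d x)) ∈ blockSet D d x :=
  blockSet_step C hd (base_mem_blockSet C hd) hx fun h => hxd h.symm

theorem twin_mem_blockSet {e : G} (he : e ∈ twins D d) :
    (⟨e, twin_mem_block he⟩ : ↥(blockGroup D d x)) ∈ blockSet D d x :=
  blockSet_step C hd (partner_mem_blockSet C hd hx hxd) he.1 (not_commute_twins hx hxd he)

/-- Images commute only if the members do. -/
theorem lift_commute {a b : ↥(blockGroup D d x)} (ha : a ∈ blockSet D d x) (hb : b ∈ blockSet D d x)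
    (h : Commute (blockMap D d x a) (blockMap D d x b)) : Commute a.1 b.1 := by
  by_contra hn
  have : Fact (Nat.Prime 2) := ⟨Nat.prime_two⟩
  have ho : Odd (orderOf (a * b)) := by
    rw [← Subgroup.orderOf_coe]; exact C.odd_of (blockSet_mem C hd ha) (blockSet_mem C hd hb) hn
  have hmem : (a * b) ^ 2 ∈ Cfsg.pCore 2 ↥(blockGroup D d x) := (QuotientGroup.eq_one_iff _).1 (by
    show blockMap D d x ((a * b) ^ 2) = 1
    rw [map_pow, map_mul, pow_two, h.symm.mul_mul_mul_comm, ← map_mul, ← map_mul,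
      blockSet_sq C hd ha, blockSet_sq C hd hb, map_one, one_mul])
  obtain ⟨k, hk⟩ := (Solvable.isPGroup_pCore 2) ⟨_, hmem⟩
  have h1 : ((a * b) ^ 2) ^ 2 ^ k = 1 := congrArg Subtype.val hk
  rw [← pow_mul, ← pow_succ'] at h1
  have h2 := odd_pow_two_pow ho h1
  rw [mul_eq_one_iff_eq_inv, inv_eq_of_mul_eq_one_right (blockSet_sq C hd hb)] at h2
  exact hn (h2 ▸ Commute.refl _)

/-- Members of the class commuting with `d` are twins. -/
theorem twin_of_commute {a : ↥(blockGroup D d x)} (ha : a ∈ blockSet D d x) (h : Commute a.1 d) :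
    a.1 ∈ twins D d := by
  refine ⟨blockSet_mem C hd ha, ?_⟩
  obtain ⟨g, e⟩ := ha
  rw [← e] at h ⊢
  exact same_of_block C hd hx hxd g.2 h

/-- Two commuting members of the class are twins. -/
theorem same_of_commute {a b : ↥(blockGroup D d x)} (ha : a ∈ blockSet D d x) (hb : b ∈ blockSet D d x)
    (h : Commute a.1 b.1) : Same D a.1 b.1 := by
  obtain ⟨g, e⟩ := hb
  have hf : g⁻¹ * a * g ∈ blockSet D d x := by
    obtain ⟨g', e'⟩ := ha
    refine ⟨g⁻¹ * g', ?_⟩
    show g.1⁻¹ * g'.1 * d * (g.1⁻¹ * g'.1)⁻¹ = g.1⁻¹ * a.1 * g.1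
    rw [← e']
    group
  have hfc : Commute (g⁻¹ * a * g).1 d := by
    have h' := (Commute.conj_iff g.1⁻¹).2 h
    rw [← e, show g.1⁻¹ * (g.1 * d * g.1⁻¹) * g.1⁻¹⁻¹ = d by group] at h'
    show Commute (g.1⁻¹ * a.1 * g.1) d
    rwa [inv_inv] at h'
  have hS := (twin_of_commute C hd hx hxd hf hfc).2.conj C.root g.1
  rw [e] at hS
  rwa [show g.1 * (g⁻¹ * a * g).1 * g.1⁻¹ = a.1 by
    show g.1 * (g.1⁻¹ * a.1 * g.1) * g.1⁻¹ = a.1
    group] at hS

/-- The quotient is the one-class setting. -/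
theorem block_gen : Gen (blockMap D d x '' blockSet D d x)
    (blockMap D d x ⟨d, twin_mem_block (mem_twins_self hd)⟩) (blockMap D d x ⟨x, partner_mem_block⟩) := by
  have : Fact (Nat.Prime 2) := ⟨Nat.prime_two⟩
  set π := blockMap D d x
  set d' : ↥(blockGroup D d x) := ⟨d, twin_mem_block (mem_twins_self hd)⟩
  set x' : ↥(blockGroup D d x) := ⟨x, partner_mem_block⟩
  have hd' : d' ∈ blockSet D d x := base_mem_blockSet C hd
  have hx' : x' ∈ blockSet D d x := partner_mem_blockSet C hd hx hxd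
  have hord : ∀ k ∈ blockSet D d x, orderOf (π k) = 2 := by
    intro k hk
    refine Invol.orderOf_eq_two (by rw [← map_mul, blockSet_sq C hd hk, map_one]) fun h1 => ?_
    obtain ⟨g, hg⟩ := hk
    have hk' : k = g * d' * g⁻¹ := Subtype.ext hg.symm
    rw [hk', map_mul, map_mul, map_inv, conj_eq_one_iff] at h1
    refine hxd (lift_commute C hd hx hxd hx' hd' ?_)
    rw [show π d' = 1 from h1]
    exact Commute.one_right _
  have hpairK : ∀ a ∈ blockSet D d x, ∀ b ∈ blockSet D d x,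
      π a * π b = π b * π a ∨ Odd (orderOf (π a * π b)) := by
    intro a ha b hb
    rcases C.pair (blockSet_mem C hd ha) (blockSet_mem C hd hb) with h | h
    · left
      rw [← map_mul, ← map_mul, show a * b = b * a from Subtype.ext h.eq]
    · right
      rw [← map_mul]
      exact Odd.of_dvd_nat (by rwa [← Subgroup.orderOf_coe]) (orderOf_map_dvd π _)
  have hgenK : closure (blockSet D d x) = ⊤ := by
    rw [eq_top_iff, ← closure_closure_coe_preimage (k := twins D d ∪ {x})]
    refine (closure_le _).2 fun k hk => subset_closure ?_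
    rcases hk with hk | hk
    · exact twin_mem_blockSet C hd hx hxd hk
    · have : k = x' := Subtype.ext hk
      exact this ▸ hx'
  refine ⟨⟨?_, ?_, ?_, ?_⟩, ?_, ?_, ⟨d', hd', rfl⟩, ⟨x', hx', rfl⟩, ?_, ?_, ?_⟩
  · rintro _ ⟨k, hk, rfl⟩; exact hord k hk
  · rw [← MonoidHom.map_closure, hgenK, map_top_of_surjective π (QuotientGroup.mk'_surjective _)]
  · rintro _ ⟨k, ⟨g, hg⟩, rfl⟩ h
    obtain ⟨h', rfl⟩ := QuotientGroup.mk'_surjective _ h
    refine ⟨h' * k * h'⁻¹, ⟨h' * g, ?_⟩, by rw [map_mul, map_mul, map_inv]⟩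
    show h'.1 * g.1 * d * (h'.1 * g.1)⁻¹ = h'.1 * k.1 * h'.1⁻¹
    rw [← hg]
    group
  · rintro _ ⟨a, ha, rfl⟩ _ ⟨b, hb, rfl⟩
    exact (hpairK a ha b hb).imp_right Or.inl
  · rintro _ ⟨a, ha, rfl⟩ _ ⟨b, hb, rfl⟩ h4
    rcases hpairK a ha b hb with h | h
    · have h2 : (π a * π b) ^ 2 = 1 := by
        rw [pow_two, (show Commute (π a) (π b) from h).symm.mul_mul_mul_comm, ← map_mul, ← map_mul,
          blockSet_sq C hd ha, blockSet_sq C hd hb, map_one, one_mul]
      have := orderOf_dvd_of_pow_eq_one h2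
      rw [h4] at this
      omega
    · rw [h4] at h; exact absurd h (by decide)
  · rintro _ ⟨a, ⟨g, hg⟩, rfl⟩ _ ⟨b, ⟨g', hg'⟩, rfl⟩
    refine ⟨π (g' * g⁻¹), ?_⟩
    rw [← map_inv, ← map_mul, ← map_mul]
    congr 1
    refine Subtype.ext ?_
    show b.1 = g'.1 * g.1⁻¹ * a.1 * (g'.1 * g.1⁻¹)⁻¹
    rw [← hg, ← hg']
    group
  · exact fun h => hxd (lift_commute C hd hx hxd hx' hd' h)
  · rw [eq_top_iff, ← map_top_of_surjective π (QuotientGroup.mk'_surjective _),
      ← closure_closure_coe_preimage (k := twins D d ∪ {x}), MonoidHom.map_closure, closure_le]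
    rintro _ ⟨k, hk | hk, rfl⟩
    · have hk' : k ∈ blockSet D d x := twin_mem_blockSet C hd hx hxd hk
      refine subset_closure (Or.inl ⟨⟨k, hk', rfl⟩, ?_⟩)
      rintro _ ⟨s, hs, rfl⟩
      have hiff := hk.2 s.1 (blockSet_mem C hd hs)
      constructor
      · intro h
        exact (show Commute s d' from Subtype.ext (hiff.1 (lift_commute C hd hx hxd hs hk' h)).eq).map π
      · intro h
        exact (show Commute s k from Subtype.ext (hiff.2 (lift_commute C hd hx hxd hs hd' h)).eq).map π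
    · exact subset_closure (Or.inr (by rw [show k = x' from Subtype.ext hk]; rfl))
  · exact OneClass.pCore_quotient_pCore 2

/-- A product of twins is trivial or a twin in the quotient. -/
theorem image_prod {o : G} (ho : o ∈ closure (twins D d)) :
    ∃ hK : o ∈ blockGroup D d x, blockMap D d x ⟨o, hK⟩ = 1 ∨
      ∃ (w : G) (hw : w ∈ twins D d),
        blockMap D d x ⟨o, hK⟩ = blockMap D d x ⟨w, twin_mem_block hw⟩ := by
  set π := blockMap D d x
  have hdd := mem_twins_self (D := D) hd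
  induction ho using closure_induction with
  | mem e he => exact ⟨twin_mem_block he, Or.inr ⟨e, he, rfl⟩⟩
  | one => exact ⟨one_mem _, Or.inl (map_one π)⟩
  | inv a _ iha =>
    obtain ⟨hK, h | ⟨w, hw, h⟩⟩ := iha
    · exact ⟨inv_mem hK, Or.inl (by
        rw [show (⟨a⁻¹, inv_mem hK⟩ : ↥(blockGroup D d x)) = ⟨a, hK⟩⁻¹ from rfl, map_inv, h, inv_one])⟩
    · refine ⟨inv_mem hK, Or.inr ⟨w, hw, ?_⟩⟩
      rw [show (⟨a⁻¹, inv_mem hK⟩ : ↥(blockGroup D d x)) = ⟨a, hK⟩⁻¹ from rfl, map_inv, h, ← map_inv]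
      congr 1
      exact Subtype.ext (RootInv.inv C.root hw.1)
  | mul a b _ _ iha ihb =>
    obtain ⟨hKa, ha⟩ := iha
    obtain ⟨hKb, hb⟩ := ihb
    refine ⟨mul_mem hKa hKb, ?_⟩
    rw [show (⟨a * b, mul_mem hKa hKb⟩ : ↥(blockGroup D d x)) = ⟨a, hKa⟩ * ⟨b, hKb⟩ from rfl, map_mul]
    rcases ha with ha | ⟨w, hw, ha⟩
    · rw [ha, one_mul]; exact hb
    rcases hb with hb | ⟨w', hw', hb⟩
    · rw [hb, mul_one]; exact Or.inr ⟨w, hw, ha⟩
    rw [ha, hb]
    have hwS := twin_mem_blockSet C hd hx hxd hw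
    have hwS' := twin_mem_blockSet C hd hx hxd hw'
    set W : ↥(blockGroup D d x) := ⟨w, twin_mem_block hw⟩
    set W' : ↥(blockGroup D d x) := ⟨w', twin_mem_block hw'⟩
    by_cases hne : π W = π W'
    · exact Or.inl (by rw [hne, ← map_mul, blockSet_sq C hd hwS', map_one])
    have hG := block_gen C hd hx hxd
    have htw : ∀ e (he : e ∈ twins D d), π ⟨e, twin_mem_block he⟩ ∈
        OddClass.twins (π '' blockSet D d x) (π ⟨d, twin_mem_block hdd⟩) := by
      intro e he
      refine ⟨⟨_, twin_mem_blockSet C hd hx hxd he, rfl⟩, ?_⟩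
      rintro _ ⟨s, hs, rfl⟩
      have hiff := he.2 s.1 (blockSet_mem C hd hs)
      constructor
      · intro h
        exact (show Commute s ⟨d, twin_mem_block hdd⟩ from
          Subtype.ext (hiff.1 (lift_commute C hd hx hxd hs (twin_mem_blockSet C hd hx hxd he) h)).eq).map π
      · intro h
        exact (show Commute s ⟨e, twin_mem_block he⟩ from
          Subtype.ext (hiff.2 (lift_commute C hd hx hxd hs (base_mem_blockSet C hd) h)).eq).map π
    have hm := hG.mul_mem_twins (htw w hw) (htw w' hw') hne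
    obtain ⟨k, hk, ek⟩ := hm.1
    have hkd : Commute k.1 d := lift_commute C hd hx hxd hk (base_mem_blockSet C hd) (by
      rw [ek]
      exact (hm.2 _ hm.1).1 (Commute.refl _))
    exact Or.inr ⟨k.1, twin_of_commute C hd hx hxd hk hkd, ek.symm⟩

end CfsgLib.OddTrans
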