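import Cfsg.Agent.RootSubgroups.OddRow
import Cfsg.Agent.Invol.BaerSuzuki
import Cfsg.Agent.Transfer.Basic

/-!
One class of odd transpositions generated by the members sharing the commuting set of one of them,
and one odd partner: products of such members are members and nothing else commutes with them.
-/

set_option autoImplicit false
set_option linter.unusedSectionVars false

namespace CfsgLib.OddClass

open Cfsg CfsgLib.RootInv Subgroup

universe u

variable {G : Type u} [Group G] [Finite G] {D : Set G}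

/-- Members commuting with the same members. -/
def Same (D : Set G) (p q : G) : Prop := ∀ s ∈ D, (Commute s p ↔ Commute s q)

/-- The members commuting with the same members as `d`. -/
def twins (D : Set G) (d : G) : Set G := {e | e ∈ D ∧ Same D e d}

/-- The setting. -/
structure Gen (D : Set G) (d x : G) : Prop where
  root : IsRootInvolutionSet D
  no_four : ∀ a ∈ D, ∀ b ∈ D, orderOf (a * b) ≠ 4
  cls : ∀ a ∈ D, ∀ b ∈ D, ∃ g : G, b = g * a * g⁻¹
  mem : d ∈ D
  memx : x ∈ D
  nc : ¬ Commute x d
  gen : closure (twins D d ∪ {x}) = ⊤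
  core : Cfsg.pCore 2 G = ⊥

omit [Finite G] in
theorem Same.symm {p q : G} (h : Same D p q) : Same D q p := fun s hs => (h s hs).symm

omit [Finite G] in
theorem Same.trans {p q r : G} (h : Same D p q) (h' : Same D q r) : Same D p r :=
  fun s hs => (h s hs).trans (h' s hs)

theorem Same.conj (hD : IsRootInvolutionSet D) {p q : G} (h : Same D p q) (g : G) :
    Same D (g * p * g⁻¹) (g * q * g⁻¹) := fun s hs => by
  have e : s = g * (g⁻¹ * s * g⁻¹⁻¹) * g⁻¹ := by group
  rw [e, Commute.conj_iff, Commute.conj_iff]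
  exact h _ (hD.conj_mem s hs g⁻¹)

omit [Finite G] in
/-- Midpoints are unique. -/
theorem mid_unique {d w w' : G} (h1 : Odd (orderOf (w * d))) (h2 : Odd (orderOf (w' * d)))
    (h : w * d * w = w' * d * w') : w = w' := by
  have e : (w * d) ^ 2 = (w' * d) ^ 2 := by
    rw [pow_two, pow_two, ← mul_assoc, ← mul_assoc, h]
  have hco : ∀ {g : G}, Odd (orderOf g) → (g ^ 2) ^ ((orderOf g + 1) / 2) = g := fun {g} hg => by
    obtain ⟨j, hj⟩ := hg
    rw [← pow_mul, hj, show 2 * ((2 * j + 1 + 1) / 2) = (2 * j + 1) + 1 by omega, pow_succ, ← hj,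
      pow_orderOf_eq_one, one_mul]
  have ho : orderOf (w * d) = orderOf (w' * d) := by
    rw [← (h1.coprime_two_right).orderOf_pow, ← (h2.coprime_two_right).orderOf_pow, e]
  have h3 := hco h1
  rw [e, ho, hco h2] at h3
  exact (mul_right_cancel h3).symm

/-- A midpoint of a pair with odd product, in the group it generates. -/
theorem exists_mid (hD : IsRootInvolutionSet D) {d e : G} (hd : d ∈ D) (he : e ∈ D)
    (hodd : Odd (orderOf (d * e))) :
    ∃ m ∈ D, m ∈ closure ({d, e} : Set G) ∧ m * d * m = e := by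
  rw [orderOf_mul_comm] at hodd
  obtain ⟨j, hj⟩ := hodd
  set s := e * d with hs
  set k := (j + 1) ^ 2 with hk
  have hmem : s ^ k * d * (s ^ k)⁻¹ ∈ closure ({d, e} : Set G) := by
    have h1 : d ∈ closure ({d, e} : Set G) := subset_closure (Set.mem_insert _ _)
    have h2 : e ∈ closure ({d, e} : Set G) := subset_closure (Set.mem_insert_of_mem _ rfl)
    exact mul_mem (mul_mem (pow_mem (mul_mem h2 h1) _) h1) (inv_mem (pow_mem (mul_mem h2 h1) _))
  refine ⟨s ^ k * d * (s ^ k)⁻¹, hD.conj_mem d hd _, hmem, ?_⟩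
  have hflip : d * s * d⁻¹ = s⁻¹ := by
    rw [hs, mul_inv_rev, inv hD he, inv hD hd, show d * (e * d) * d = d * e * (d * d) by group,
      sq hD hd, mul_one]
  have hpow : ∀ i : ℕ, d * s ^ i = (s ^ i)⁻¹ * d := fun i => by
    rw [← inv_pow, ← hflip, conj_pow, inv_mul_cancel_right]
  have hw : s ^ k * d * (s ^ k)⁻¹ = s ^ (k + k) * d := by
    rw [pow_add, mul_assoc, mul_assoc]
    congr 1
    rw [eq_comm, eq_mul_inv_iff_mul_eq, mul_assoc, hpow k, mul_inv_cancel_left]
  rw [hw]
  calc s ^ (k + k) * d * d * (s ^ (k + k) * d)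
      = s ^ (k + k) * (d * d) * (s ^ (k + k) * d) := by group
    _ = s ^ (k + k + (k + k)) * d := by rw [sq hD hd, mul_one, ← mul_assoc, ← pow_add]
    _ = s * d := by
        congr 1
        have e : k + k + (k + k) = orderOf s * (2 * j + 3) + 1 := by rw [hj, hk]; ring
        rw [e, pow_succ, pow_mul, pow_orderOf_eq_one, one_pow, one_mul]
    _ = e := by rw [hs, mul_assoc, sq hD hd, mul_one]

omit [Finite G] in
/-- An element commuting with two elements commutes with what they generate. -/
theorem commute_of_mem_closure {a p q g : G} (hg : g ∈ closure ({p, q} : Set G)) (hp : Commute p a)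
    (hq : Commute q a) : Commute g a := by
  have hle : closure ({p, q} : Set G) ≤ centralizer ({a} : Set G) := (closure_le _).2 (by
    rintro y (rfl | rfl)
    exacts [mem_centralizer_singleton_iff.2 hp.eq, mem_centralizer_singleton_iff.2 hq.eq])
  exact mem_centralizer_singleton_iff.1 (hle hg)

/-- Two involutions with product of order dividing four generate a 2-group. -/
theorem isPGroup_pair {z w : G} (hz : z * z = 1) (hw : w * w = 1) (h : (z * w) ^ 4 = 1) :
    IsPGroup 2 (closure ({z, w} : Set G)) := by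
  have : Fact (Nat.Prime 2) := ⟨Nat.prime_two⟩
  have hone : ∀ {a : G}, a * a = 1 → IsPGroup 2 (zpowers a) := fun {a} ha => by
    obtain ⟨i, -, hi⟩ := (Nat.dvd_prime_pow Nat.prime_two (m := 1)).1
      (by rw [pow_one]; exact orderOf_dvd_of_pow_eq_one (by rw [pow_two, ha]) : orderOf a ∣ 2 ^ 1)
    exact IsPGroup.of_card (n := i) (by rw [Nat.card_zpowers, hi])
  by_cases hzw : z = w
  · subst hzw
    rw [Set.pair_eq_singleton, ← zpowers_eq_closure]
    exact hone hz
  by_cases hz1 : z = 1
  · subst hz1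
    rw [closure_insert_one, ← zpowers_eq_closure]
    exact hone hw
  by_cases hw1 : w = 1
  · subst hw1
    rw [Set.pair_comm, closure_insert_one, ← zpowers_eq_closure]
    exact hone hz
  obtain ⟨e⟩ := Invol.nonempty_dihedral_equiv (Invol.orderOf_eq_two hz hz1)
    (Invol.orderOf_eq_two hw hw1) hzw
  obtain ⟨i, -, hi⟩ := (Nat.dvd_prime_pow Nat.prime_two (m := 2)).1
    (orderOf_dvd_of_pow_eq_one h : orderOf (z * w) ∣ 2 ^ 2)
  refine IsPGroup.of_card (n := i + 1) ?_
  rw [Nat.card_congr e.toEquiv, DihedralGroup.nat_card, hi, pow_succ, mul_comm]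

namespace Gen

variable {d x : G} (C : Gen D d x)
include C

theorem odd {a b : G} (ha : a ∈ D) (hb : b ∈ D) (h : ¬ Commute a b) : Odd (orderOf (a * b)) := by
  rcases C.root.pair a ha b hb with e | e | ⟨e, -⟩
  · exact absurd e h
  · exact e
  · exact absurd e (C.no_four a ha b hb)

/-- A member commuting with a product of two commuting members commutes with both. -/
theorem commute_left {s u v : G} (hs : s ∈ D) (hu : u ∈ D) (hv : v ∈ D) (hne : u ≠ v)
    (huv : Commute u v) (h : Commute s (u * v)) : Commute s u := by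
  by_contra hn
  have hD := C.root
  have hsu : Commute (u * v) (s * u) :=
    h.symm.mul_right (((Commute.refl u).mul_right huv).symm)
  refine not_mul_eq_invol_mul_odd hD hs hv (z := u * v) (g := s * u) ?_ hsu ?_ (C.odd hs hu hn) ?_
  · refine Invol.orderOf_eq_two ?_ fun e => hne ?_
    · rw [huv.symm.mul_mul_mul_comm, sq hD hu, sq hD hv, one_mul]
    · rwa [mul_eq_one_iff_eq_inv, inv hD hv] at e
  · intro e
    rw [mul_eq_one_iff_eq_inv, inv hD hu] at e
    exact hn (e ▸ Commute.refl _)
  · rw [hsu.eq, show s * u * (u * v) = s * (u * u) * v by group, sq hD hu, mul_one]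

theorem commute_right {s u v : G} (hs : s ∈ D) (hu : u ∈ D) (hv : v ∈ D) (hne : u ≠ v)
    (huv : Commute u v) (h : Commute s (u * v)) : Commute s v :=
  C.commute_left hs hv hu hne.symm huv.symm (huv.eq ▸ h)

/-- Non-commuting members are conjugate by an element of their subgroup. -/
theorem exists_conj {a b : G} (ha : a ∈ D) (hb : b ∈ D) (h : ¬ Commute a b) :
    ∃ g ∈ closure ({a, b} : Set G), g * a * g⁻¹ = b :=
  Invol.exists_conj_of_odd (C.root.orderOf_eq a ha) (C.root.orderOf_eq b hb) (C.odd ha hb h)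

/-- A member moved off its commuting set by an involution. -/
theorem exists_mid_commute {t r : G} (ht : t * t = 1) (hr : r ∈ D) (h : ¬ Commute r (t * r * t)) :
    ∃ m ∈ D, ¬ Commute r m ∧ Commute m t ∧ Commute r (m * t) := by
  have hD := C.root
  have hti : t⁻¹ = t := inv_eq_of_mul_eq_one_right ht
  have hr' : t * r * t ∈ D := by
    have := hD.conj_mem r hr t
    rwa [hti] at this
  obtain ⟨m, hm, -, e⟩ := exists_mid hD hr hr' (C.odd hr hr' h)
  have key : ∀ w ∈ D, w * r * w = t * r * t → ¬ Commute r w := fun w hw hwe hc => h (by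
    rw [← hwe, ← hc.eq, mul_assoc, sq hD hw, mul_one])
  have hm2 : t * m * t ∈ D := by
    have := hD.conj_mem m hm t
    rwa [hti] at this
  have hback : m * (t * r * t) * m = r := by
    rw [← e, show m * (m * r * m) * m = (m * m) * r * (m * m) by group, sq hD hm, one_mul, mul_one]
  have e2 : t * m * t * r * (t * m * t) = t * r * t := by
    rw [show t * m * t * r * (t * m * t) = t * (m * (t * r * t) * m) * t by group, hback]
  have o1 := C.odd hm hr fun e' => key m hm e e'.symm
  have o2 := C.odd hm2 hr fun e' => key _ hm2 e2 e'.symm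
  have hmt : t * m * t = m := mid_unique o2 o1 (e2.trans e.symm)
  have hc : Commute m t := by
    show m * t = t * m
    nth_rw 1 [← hmt]
    rw [mul_assoc, ht, mul_one]
  refine ⟨m, hm, key m hm e, hc, ?_⟩
  show r * (m * t) = m * t * r
  calc r * (m * t) = m * (m * r * m) * t := by
        rw [show m * (m * r * m) * t = (m * m) * r * m * t by group, sq hD hm, one_mul, mul_assoc]
    _ = m * (t * r * t) * t := by rw [e]
    _ = m * t * r := by rw [show m * (t * r * t) * t = m * t * r * (t * t) by group, ht, mul_one]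

/-- An involution commuting with all the generators is trivial. -/
theorem eq_one {y : G} (hy : y * y = 1) (h : ∀ e ∈ twins D d, Commute e y) (hx : Commute x y) :
    y = 1 := by
  have hle : closure (twins D d ∪ {x}) ≤ centralizer ({y} : Set G) := (closure_le _).2 (by
    rintro e (he | rfl)
    exacts [mem_centralizer_singleton_iff.2 (h e he).eq, mem_centralizer_singleton_iff.2 hx.eq])
  rw [C.gen] at hle
  have hc : ∀ g, Commute g y := fun g => mem_centralizer_singleton_iff.1 (hle (mem_top g))
  have : Fact (Nat.Prime 2) := ⟨Nat.prime_two⟩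
  have hmem : y ∈ Cfsg.pCore 2 G := by
    refine Invol.mem_pCore_of_pairs y fun g => ?_
    rw [(hc g).eq, mul_inv_cancel_right]
    exact isPGroup_pair hy hy (by rw [hy, one_pow])
  rwa [C.core, mem_bot] at hmem

theorem mem_twins : d ∈ twins D d := ⟨C.mem, fun _ _ => Iff.rfl⟩

theorem twins_commute {u v : G} (hu : u ∈ twins D d) (hv : v ∈ twins D d) : Commute u v :=
  (hv.2 u hu.1).2 ((hu.2 d C.mem).2 (Commute.refl d)).symm

theorem x_not_commute {u : G} (hu : u ∈ twins D d) : ¬ Commute x u := fun h =>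
  C.nc ((hu.2 x C.memx).1 h)

/-- What commutes with one twin commutes with all. -/
theorem commute_twins {s u e : G} (hs : s ∈ D) (hu : u ∈ twins D d) (h : Commute s u)
    (he : e ∈ twins D d) : Commute s e :=
  (he.2 s hs).2 ((hu.2 s hs).1 h)

theorem ncard_commute {a b : G} {g : G} (h : g * a * g⁻¹ = b) :
    {s | s ∈ D ∧ Commute s a}.ncard = {s | s ∈ D ∧ Commute s b}.ncard := by
  have hD := C.root
  rw [← Set.ncard_image_of_injective _ (MulAut.conj g).injective]
  congr 1
  ext s
  constructor
  · rintro ⟨t, ⟨ht, hta⟩, rfl⟩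
    exact ⟨hD.conj_mem t ht g, h ▸ (Commute.conj_iff g).2 hta⟩
  · rintro ⟨hs, hsb⟩
    refine ⟨g⁻¹ * s * g⁻¹⁻¹, ⟨hD.conj_mem s hs _, ?_⟩, ?_⟩
    · rw [show a = g⁻¹ * b * g⁻¹⁻¹ by rw [← h]; group, Commute.conj_iff]
      exact hsb
    · simp only [MulAut.conj_apply]
      group

/-- The product of two twins is a member. -/
theorem mul_mem {u v : G} (hu : u ∈ twins D d) (hv : v ∈ twins D d) (hne : u ≠ v) : u * v ∈ D := by
  have hD := C.root
  by_contra hprod
  set z := u * v with hzdef
  have huv := C.twins_commute hu hv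
  have hSuv : Same D u v := hu.2.trans hv.2.symm
  have hz : z * z = 1 := by rw [hzdef, huv.symm.mul_mul_mul_comm, sq hD hu.1, sq hD hv.1, one_mul]
  have hz1 : z ≠ 1 := fun e => hne (by rwa [hzdef, mul_eq_one_iff_eq_inv, inv hD hv.1] at e)
  have hzE : ∀ e ∈ twins D d, Commute e z := fun e he =>
    (C.twins_commute he hu).mul_right (C.twins_commute he hv)
  have hxz : ¬ Commute x z := fun h =>
    C.x_not_commute hu (C.commute_left C.memx hu.1 hv.1 hne huv h)
  -- (i): some member is moved off its commuting set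
  obtain ⟨r, hr, hmove⟩ : ∃ r ∈ D, ¬ Commute r (z * r * z) := by
    by_contra! hall
    refine hz1 ?_
    have : Fact (Nat.Prime 2) := ⟨Nat.prime_two⟩
    have hmem : z ∈ Cfsg.pCore 2 G := by
      refine Invol.mem_pCore_of_pairs z fun g => ?_
      set t := g * u * g⁻¹
      set t' := g * v * g⁻¹
      have ht : t ∈ D := hD.conj_mem u hu.1 g
      have ht' : t' ∈ D := hD.conj_mem v hv.1 g
      have hzi : z⁻¹ = z := inv_eq_of_mul_eq_one_right hz
      have ha : z * t * z ∈ D := by have := hD.conj_mem t ht z; rwa [hzi] at this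
      have hb : z * t' * z ∈ D := by have := hD.conj_mem t' ht' z; rwa [hzi] at this
      have hS : Same D t t' := hSuv.conj hD g
      have htt : Commute t t' := (Commute.conj_iff g).2 huv
      have h1 : Commute (z * t * z) t := (hall t ht).symm
      have h2 : Commute (z * t * z) t' := (hS _ ha).1 h1
      have h3 : Commute (z * t' * z) t' := (hall t' ht').symm
      have h4 : Commute (z * t' * z) t := (hS _ hb).2 h3
      have h5 : Commute (z * t * z) (z * t' * z) := by
        have := (Commute.conj_iff z).2 htt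
        rwa [hzi] at this
      have hzz : g * z * g⁻¹ = t * t' := by
        show g * z * g⁻¹ = g * u * g⁻¹ * (g * v * g⁻¹)
        rw [hzdef]; group
      rw [hzz]
      have hsq : ∀ {p : G}, p ∈ D → p * p = 1 := fun hp => sq hD hp
      have e1 : (z * (t * t')) ^ 2 = z * t * z * (z * t' * z) * (t * t') := by
        rw [pow_two, show z * t * z * (z * t' * z) * (t * t') = z * t * (z * z) * t' * z * (t * t')
          by group, hz, mul_one]
        group
      have hcm : Commute (z * t * z * (z * t' * z)) (t * t') := (h1.mul_right h2).mul_left (h4.mul_right h3)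
      have e2 : (z * (t * t')) ^ 4 = 1 := by
        rw [show 4 = 2 * 2 from rfl, pow_mul, e1, pow_two, hcm.symm.mul_mul_mul_comm,
          h5.symm.mul_mul_mul_comm, htt.symm.mul_mul_mul_comm, hsq ha, hsq hb, hsq ht, hsq ht']
        simp
      have htt2 : t * t' * (t * t') = 1 := by rw [htt.symm.mul_mul_mul_comm, hsq ht, hsq ht', one_mul]
      exact isPGroup_pair hz htt2 e2
    rwa [C.core, mem_bot] at hmem
  -- (ii)
  obtain ⟨m, hm, hrm, hmz, hrmz⟩ := C.exists_mid_commute hz hr hmove
  have hmu : Commute m u := C.commute_left hm hu.1 hv.1 hne huv hmz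
  have hmv : Commute m v := C.commute_right hm hu.1 hv.1 hne huv hmz
  have hru : ¬ Commute r u := fun h => hmove (by
    have hrz : Commute r z := h.mul_right ((hSuv r hr).1 h)
    rw [← hrz.eq, mul_assoc, hz, mul_one])
  set y := m * z with hydef
  have hy : y * y = 1 := by rw [hydef, hmz.symm.mul_mul_mul_comm, sq hD hm, hz, one_mul]
  have hy1 : y ≠ 1 := fun e => hprod (by
    rw [hydef, mul_eq_one_iff_eq_inv, inv_eq_of_mul_eq_one_right hz] at e
    exact e ▸ hm)
  have hym : Commute m y := (Commute.refl m).mul_right hmz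
  have hyu : Commute u y := hmu.symm.mul_right (hzE u hu)
  obtain ⟨g1, hg1, e1⟩ := C.exists_conj hm hr fun h => hrm h.symm
  obtain ⟨g2, hg2, e2⟩ := C.exists_conj hr hu.1 hru
  have hg1y : Commute g1 y := commute_of_mem_closure hg1 hym hrmz
  have hg2y : Commute g2 y := commute_of_mem_closure hg2 hrmz hyu
  have hg : Commute (g2 * g1) y := hg2y.mul_left hg1y
  have hgm : g2 * g1 * m * (g2 * g1)⁻¹ = u := by rw [← e2, ← e1]; group
  have hzmy : z = m * y := by rw [hydef, ← mul_assoc, sq hD hm, one_mul]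
  have hgz : g2 * g1 * z * (g2 * g1)⁻¹ = m * v := by
    have e : g2 * g1 * (m * y) * (g2 * g1)⁻¹ =
        g2 * g1 * m * (g2 * g1)⁻¹ * (g2 * g1 * y * (g2 * g1)⁻¹) := by group
    rw [hzmy, e, hgm, hg.eq, mul_inv_cancel_right, hydef, ← mul_assoc, ← hmu.eq, mul_assoc, hzdef,
      ← mul_assoc u u v, sq hD hu.1, one_mul]
  have hmvne : m ≠ v := fun e => hz1 (by
    rw [e, sq hD hv.1] at hgz
    exact conj_eq_one_iff.1 hgz)
  have hSm : Same D m u := by
    have hCz : {s | s ∈ D ∧ Commute s z} = {s | s ∈ D ∧ Commute s u} := by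
      ext s
      exact ⟨fun h => ⟨h.1, C.commute_left h.1 hu.1 hv.1 hne huv h.2⟩,
        fun h => ⟨h.1, h.2.mul_right ((hSuv s h.1).1 h.2)⟩⟩
    have hcuv : {s | s ∈ D ∧ Commute s u} = {s | s ∈ D ∧ Commute s v} := by
      ext s
      exact and_congr_right fun hs => hSuv s hs
    have hsub : {s | s ∈ D ∧ Commute s (m * v)} ⊆ {s | s ∈ D ∧ Commute s v} := fun s h =>
      ⟨h.1, C.commute_right h.1 hm hv.1 hmvne hmv h.2⟩
    have heq : {s | s ∈ D ∧ Commute s (m * v)} = {s | s ∈ D ∧ Commute s v} :=
      Set.eq_of_subset_of_ncard_le hsub (by rw [← C.ncard_commute hgz, hCz, hcuv])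
    have hsub2 : {s | s ∈ D ∧ Commute s v} ⊆ {s | s ∈ D ∧ Commute s m} := fun s h => by
      rw [← heq] at h
      exact ⟨h.1, C.commute_left h.1 hm hv.1 hmvne hmv h.2⟩
    have heq2 := Set.eq_of_subset_of_ncard_le hsub2 (by rw [C.ncard_commute hgm, hcuv])
    intro s hs
    have := Set.ext_iff.1 (heq2.symm.trans hcuv.symm) s
    simpa [hs] using this
  have hCy : ∀ s ∈ D, Commute s m → Commute s y := fun s hs h =>
    h.mul_right (((hSm s hs).1 h).mul_right ((hSuv s hs).1 ((hSm s hs).1 h)))
  have hCy' : ∀ e ∈ twins D d, Commute e y := fun e he =>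
    hCy e he.1 ((hSm e he.1).2 (C.twins_commute he hu))
  have hxy : ¬ Commute x y := fun h => hy1 (C.eq_one hy hCy' h)
  have hxm : ¬ Commute x m := fun h => C.x_not_commute hu ((hSm x C.memx).1 h)
  -- `x` commutes with its image under `z`
  have hxzx : Commute x (z * x * z) := by
    by_contra h
    obtain ⟨m2, hm2, -, hm2z, hx2⟩ := C.exists_mid_commute hz C.memx h
    have hm2u := C.commute_left hm2 hu.1 hv.1 hne huv hm2z
    refine hprod ?_
    have e : m2 * z = 1 := C.eq_one (by rw [hm2z.symm.mul_mul_mul_comm, sq hD hm2, hz, one_mul])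
      (fun e he => (C.commute_twins hm2 hu hm2u he).symm.mul_right (hzE e he)) hx2
    rw [mul_eq_one_iff_eq_inv, inv_eq_of_mul_eq_one_right hz] at e
    exact e ▸ hm2
  -- and not with its image under `y`
  have hxyx : ¬ Commute x (y * x * y) := by
    intro h
    have hzi : z⁻¹ = z := inv_eq_of_mul_eq_one_right hz
    have hyi : y⁻¹ = y := inv_eq_of_mul_eq_one_right hy
    have hp : z * x * z ∈ D := by have := hD.conj_mem x C.memx z; rwa [hzi] at this
    have hq : y * x * y ∈ D := by have := hD.conj_mem x C.memx y; rwa [hyi] at this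
    have hqp : y * x * y = m * (z * x * z) * m := by
      rw [hydef]
      conv_lhs => arg 2; rw [hmz.eq]
      group
    have hzm : z * m * z = m := by rw [← hmz.eq, mul_assoc, hz, mul_one]
    have hpq : ¬ Commute (z * x * z) (y * x * y) := by
      intro hc
      have hc' := (Commute.conj_iff z).2 hc
      rw [hzi, hqp] at hc'
      rw [show z * (z * x * z) * z = (z * z) * x * (z * z) by group,
        show z * (m * (z * x * z) * m) * z = (z * m * z) * x * (z * m * z) by group, hz, one_mul,
        mul_one, hzm] at hc'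
      refine hxm ?_
      have h4 : (x * m) ^ 4 = 1 := by
        have e : (x * m) ^ 2 = x * (m * x * m) := by rw [pow_two]; group
        rw [show 4 = 2 * 2 from rfl, pow_mul, e, pow_two, hc'.symm.mul_mul_mul_comm, sq hD C.memx,
          one_mul, show m * x * m * (m * x * m) = m * x * (m * m) * x * m by group, sq hD hm,
          mul_one, mul_assoc m x x, sq hD C.memx, mul_one, sq hD hm]
      by_contra hn
      have := odd_pow_two_pow (C.odd C.memx hm hn) (k := 2) h4
      rw [mul_eq_one_iff_eq_inv, inv hD hm] at this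
      exact hn (this ▸ Commute.refl _)
    obtain ⟨m3, hm3, hm3mem, e3⟩ := exists_mid hD hp hq (C.odd hp hq hpq)
    have key : ∀ w ∈ D, w * (z * x * z) * w = y * x * y → ¬ Commute w (z * x * z) := fun w hw e hc =>
      hpq (by rw [← e, hc.eq, mul_assoc _ w w, sq hD hw, mul_one])
    have hm3m : m3 = m := mid_unique (C.odd hm3 hp (key m3 hm3 e3))
      (C.odd hm hp (key m hm hqp.symm)) (e3.trans hqp)
    exact hxm (hm3m ▸ commute_of_mem_closure hm3mem hxzx.symm h.symm).symm
  obtain ⟨m', hm', hxm', hm'y, hxm'y⟩ := C.exists_mid_commute hy C.memx hxyx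
  have hperp : ∀ e ∈ D, Commute e y → (∃ h : G, Commute h y ∧ h * m * h⁻¹ = e) → Commute m' e := by
    rintro e he hey ⟨h1, hh1, rfl⟩
    by_contra hn
    obtain ⟨h2, hh2, e'⟩ := C.exists_conj he hm' fun h => hn h.symm
    have hk : Commute (h2 * h1) y := (commute_of_mem_closure hh2 hey hm'y).mul_left hh1
    have hkm : h2 * h1 * m * (h2 * h1)⁻¹ = m' := by rw [← e']; group
    have hkz : h2 * h1 * z * (h2 * h1)⁻¹ = m' * y := by
      have e'' : h2 * h1 * (m * y) * (h2 * h1)⁻¹ =
          h2 * h1 * m * (h2 * h1)⁻¹ * (h2 * h1 * y * (h2 * h1)⁻¹) := by group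
      rw [hzmy, e'', hkm, hk.eq, mul_inv_cancel_right]
    rw [← hkz] at hxm'y
    set k := h2 * h1
    set x' := k⁻¹ * x * k⁻¹⁻¹ with hx'
    have hx'D : x' ∈ D := hD.conj_mem x C.memx _
    have ex : k * x' * k⁻¹ = x := by rw [hx']; group
    refine hxm' ?_
    rw [← ex, ← hkm, Commute.conj_iff]
    rw [← ex, Commute.conj_iff] at hxm'y
    exact (hSm x' hx'D).2 (C.commute_left hx'D hu.1 hv.1 hne huv hxm'y)
  have hm'u := hperp u hu.1 hyu ⟨_, hg, hgm⟩
  have hm'm := hperp m hm hym ⟨1, Commute.one_left _, by simp⟩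
  have hm'r := hperp r hr hrmz ⟨g1, hg1y, e1⟩
  have e : m' * y = 1 := C.eq_one (by rw [hm'y.symm.mul_mul_mul_comm, sq hD hm', hy, one_mul])
    (fun e he => (C.commute_twins hm' hu hm'u he).symm.mul_right (hCy' e he)) hxm'y
  rw [mul_eq_one_iff_eq_inv, inv_eq_of_mul_eq_one_right hy] at e
  have hyD : y ∈ D := e ▸ hm'
  obtain ⟨g, hg'⟩ := C.cls m hm y hyD
  have hsub : {s | s ∈ D ∧ Commute s m} ⊆ {s | s ∈ D ∧ Commute s y} :=
    fun s h => ⟨h.1, hCy s h.1 h.2⟩
  have heq := Set.eq_of_subset_of_ncard_le hsub (C.ncard_commute hg'.symm).ge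
  exact hrm ((Set.ext_iff.1 heq r).2 ⟨hr, hrmz⟩).2

/-- The product of two twins is a twin. -/
theorem mul_mem_twins {u v : G} (hu : u ∈ twins D d) (hv : v ∈ twins D d) (hne : u ≠ v) :
    u * v ∈ twins D d := by
  refine ⟨C.mul_mem hu hv hne, fun s hs => ⟨fun h => (hu.2 s hs).1
    (C.commute_left hs hu.1 hv.1 hne (C.twins_commute hu hv) h), fun h => ?_⟩⟩
  exact ((hu.2 s hs).2 h).mul_right ((hv.2 s hs).2 h)

/-- With two twins, only twins commute with `d`. -/
theorem mem_twins_of_commute {d1 : G} (hd1 : d1 ∈ twins D d) (hne : d ≠ d1) {a : G} (ha : a ∈ D)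
    (had : Commute a d) : a ∈ twins D d := by
  have hD := C.root
  by_contra haE
  set d3 := d * d1 with hd3def
  have hdd := C.mem_twins
  have hd3 : d3 ∈ twins D d := C.mul_mem_twins hdd hd1 hne
  have hai : a⁻¹ = a := inv hD ha
  have key : ∀ d' ∈ twins D d, Commute (a * x * a) (d' * x * d') := by
    intro d' hd'
    by_contra hn
    have hne' : a ≠ d' := fun e => haE (e ▸ hd')
    have had' : Commute a d' := C.commute_twins ha hdd had hd'
    set t := d' * a with htdef
    have ht : t * t = 1 := by rw [htdef, had'.mul_mul_mul_comm, sq hD hd'.1, sq hD ha, one_mul]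
    have hmove : ¬ Commute x (t * x * t) := by
      intro hc
      refine hn ?_
      have h' := (Commute.conj_iff d').2 hc
      rw [inv hD hd'.1, htdef] at h'
      rw [show d' * (d' * a * x * (d' * a)) * d' = (d' * d') * (a * x * (d' * a * d')) by group,
        sq hD hd'.1, one_mul, ← had'.eq, mul_assoc a d' d', sq hD hd'.1, mul_one] at h'
      exact h'.symm
    obtain ⟨m, hm, -, hmt, hxmt⟩ := C.exists_mid_commute ht C.memx hmove
    have hmd' := C.commute_left hm hd'.1 ha hne'.symm had'.symm hmt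
    have e : m * t = 1 := C.eq_one (by rw [hmt.symm.mul_mul_mul_comm, sq hD hm, ht, one_mul])
      (fun e he => (C.commute_twins hm hd' hmd' he).symm.mul_right
        ((C.twins_commute he hd').mul_right (C.commute_twins ha hdd had he).symm)) hxmt
    rw [mul_eq_one_iff_eq_inv, inv_eq_of_mul_eq_one_right ht] at e
    have hl : Line D d' a := ⟨hd'.1, ha, had'.symm, htdef ▸ e ▸ hm⟩
    refine haE ⟨ha, Same.trans (fun s hs => ?_) hd'.2⟩
    constructor
    · intro h
      by_contra hn'
      exact line_not_commute hD hl hs (fun e' => hn' (e' ▸ Commute.refl _)) (C.odd hs hd'.1 hn') h.eq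
    · intro h
      by_contra hn'
      exact line_not_commute hD (line_symm hD hl) hs (fun e' => hn' (e' ▸ Commute.refl _))
        (C.odd hs ha hn') h.eq
  have hp1 : d * x * d ∈ D := conj hD C.memx C.mem
  have hp2 : d1 * x * d1 ∈ D := conj hD C.memx hd1.1
  have hdd1 : Commute d d1 := C.twins_commute hdd hd1
  have hq : d1 * x * d1 = d3 * (d * x * d) * d3 := by
    rw [hd3def]
    conv_rhs => arg 1; arg 1; rw [hdd1.eq]
    rw [show d1 * d * (d * x * d) * (d * d1) = d1 * (d * d) * x * (d * d) * d1 by group, sq hD C.mem,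
      mul_one, mul_one]
  have hpq : ¬ Commute (d * x * d) (d1 * x * d1) := by
    intro hc
    have hc' := (Commute.conj_iff d).2 hc
    rw [inv hD C.mem, show d * (d * x * d) * d = (d * d) * x * (d * d) by group, sq hD C.mem, one_mul,
      mul_one, show d * (d1 * x * d1) * d = (d * d1) * x * (d1 * d) by group, ← hdd1.eq, ← hd3def] at hc'
    refine C.x_not_commute hd3 ?_
    have h4 : (x * d3) ^ 4 = 1 := by
      have e : (x * d3) ^ 2 = x * (d3 * x * d3) := by rw [pow_two]; group
      rw [show 4 = 2 * 2 from rfl, pow_mul, e, pow_two, hc'.symm.mul_mul_mul_comm, sq hD C.memx,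
        one_mul, show d3 * x * d3 * (d3 * x * d3) = d3 * x * (d3 * d3) * x * d3 by group,
        sq hD hd3.1, mul_one, mul_assoc d3 x x, sq hD C.memx, mul_one, sq hD hd3.1]
    by_contra hn
    have := odd_pow_two_pow (C.odd C.memx hd3.1 hn) (k := 2) h4
    rw [mul_eq_one_iff_eq_inv, inv hD hd3.1] at this
    exact hn (this ▸ Commute.refl _)
  obtain ⟨w, hw, hwmem, ew⟩ := exists_mid hD hp1 hp2 (C.odd hp1 hp2 hpq)
  have kw : ∀ w ∈ D, w * (d * x * d) * w = d1 * x * d1 → ¬ Commute w (d * x * d) := fun w hw e hc =>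
    hpq (by rw [← e, hc.eq, mul_assoc _ w w, sq hD hw, mul_one])
  have hwd : w = d3 := mid_unique (C.odd hw hp1 (kw w hw ew))
    (C.odd hd3.1 hp1 (kw d3 hd3.1 hq.symm)) (ew.trans hq)
  have h := commute_of_mem_closure hwmem (key d hdd).symm (key d1 hd1).symm
  rw [hwd] at h
  refine C.x_not_commute hd3 ?_
  have had3 : Commute a d3 := C.commute_twins ha hdd had hd3
  have h' := (Commute.conj_iff a).2 h.symm
  rw [hai, show a * (a * x * a) * a = (a * a) * x * (a * a) by group, sq hD ha, one_mul, mul_one,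
    had3.eq, mul_assoc, sq hD ha, mul_one] at h'
  exact h'

theorem x_ne : x ≠ d := fun e => C.nc (e ▸ Commute.refl _)

/-- Only one twin: a dihedral group. -/
theorem dihedral (h : ∀ e ∈ twins D d, e = d) : ∃ n : ℕ, Nonempty (G ≃* DihedralGroup n) := by
  have hset : twins D d ∪ {x} = {d, x} := Set.ext fun e => by
    constructor
    · rintro (he | he)
      · exact Or.inl (h e he)
      · exact Or.inr he
    · rintro (rfl | he)
      · exact Or.inl C.mem_twins
      · exact Or.inr he
  have htop : closure ({d, x} : Set G) = ⊤ := hset ▸ C.gen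
  obtain ⟨e⟩ := Invol.nonempty_dihedral_equiv (C.root.orderOf_eq d C.mem) (C.root.orderOf_eq x C.memx)
    C.x_ne.symm
  exact ⟨_, ⟨(Subgroup.topEquiv.symm.trans (MulEquiv.subgroupCongr htop.symm)).trans e⟩⟩

variable {d1 : G} (hd1 : d1 ∈ twins D d) (hne : d ≠ d1)
include hd1 hne

theorem commutator_eq_top : commutator G = ⊤ := by
  rw [eq_top_iff, ← C.root.generates, closure_le]
  set π := Abelianization.of (G := G)
  have hcls : ∀ a ∈ D, π a = π d := fun a ha => by
    obtain ⟨g, rfl⟩ := C.cls d C.mem a ha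
    rw [map_mul, map_mul, map_inv, mul_comm (π g) (π d), mul_inv_cancel_right]
  have hd0 : π d = 1 := by
    have h := hcls _ (C.mul_mem C.mem_twins hd1 hne)
    rwa [map_mul, hcls d1 hd1.1, mul_eq_left] at h
  intro a ha
  rw [SetLike.mem_coe, ← Abelianization.ker_of, MonoidHom.mem_ker]
  exact (hcls a ha).trans hd0

/-- Two twins: the commuting graph is disconnected. -/
theorem not_connected : ¬ IsConnectedSet (CommAdj D) D := by
  intro hc
  have key : ∀ b, Relation.ReflTransGen (CommAdj D) d b → b ∈ twins D d := by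
    intro b hb
    induction hb with
    | refl => exact C.mem_twins
    | tail _ hpq ih =>
      exact C.mem_twins_of_commute hd1 hne hpq.2.1
        ((ih.2 _ hpq.2.1).1 (show Commute _ _ from hpq.2.2.2.symm))
  exact C.x_not_commute (key x (hc d C.mem x C.memx)) (Commute.refl x)

/-- Two twins: one of the three groups modulo the centre. -/
theorem three (hcrit : RootBlock.Criterion.{u}) :
    (∃ (F : Type) (_ : Field F) (_ : Fintype F), CharP F 2 ∧ 4 ≤ Fintype.card F ∧
      Nonempty (G ⧸ Cfsg.twoZCore G ≃* Matrix.ProjectiveSpecialLinearGroup (Fin 2) F)) ∨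
    Cfsg.Lie.IsoSuzuki (G ⧸ Cfsg.twoZCore G) ∨
    (∃ (F : Type) (_ : Field F) (_ : Fintype F) (q : ℕ), CharP F 2 ∧ Fintype.card F = q ^ 2 ∧ 4 ≤ q ∧
      Nonempty (G ⧸ Cfsg.twoZCore G ≃* Cfsg.PSU 3 F q)) := by
  have hdd := C.mem_twins
  refine (OddBlock.dichotomy_row hcrit C.root ⟨d * d1, C.mul_mem hdd hd1 hne, d, C.mem, d1, hd1.1,
    (C.twins_commute hdd hd1).eq, fun e => ?_, rfl⟩).resolve_left (C.not_connected hd1 hne)
  exact RootInv.ne_one C.root (C.mul_mem hdd hd1 hne) e

/-- The centre is trivial if the odd Sylow subgroups of the central quotient are cyclic. -/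
theorem center_eq_bot (hcyc : ∀ p : ℕ, [Fact p.Prime] → p ≠ 2 →
    ∀ P : Sylow p (G ⧸ Cfsg.twoZCore G), IsCyclic P) : center G = ⊥ := by
  by_contra hbot
  obtain ⟨p, hp, hpd⟩ := Nat.exists_prime_and_dvd (fun h => hbot (eq_bot_of_card_eq _ h))
  have : Fact p.Prime := ⟨hp⟩
  obtain ⟨z, hz⟩ := exists_prime_orderOf_dvd_card' p hpd
  rw [← Subgroup.orderOf_coe] at hz
  have hzc : ∀ g, Commute g (z : G) := fun g => mem_center_iff.1 z.2 g
  by_cases hp2 : p = 2
  · subst hp2
    refine Invol.ne_one hz (C.eq_one ?_ (fun e _ => hzc e) (hzc x))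
    exact Invol.mul_self_eq_one hz
  obtain ⟨P, hP⟩ := (IsPGroup.of_card (n := 1) (by rw [Nat.card_zpowers, hz, pow_one]) :
    IsPGroup p (zpowers (z : G))).exists_le_sylow
  set π := QuotientGroup.mk' (Cfsg.twoZCore G) with hπ
  have hker : π.ker ≤ center G := by
    rw [hπ, QuotientGroup.ker_mk']
    intro g hg
    have h1 := mem_center_iff.1 (mem_comap.1 hg)
    refine mem_center_iff.2 fun a => ?_
    have h2 := h1 (QuotientGroup.mk' (Cfsg.pCore 2 G) a)
    rw [← map_mul, ← map_mul] at h2
    simp only [QuotientGroup.mk'_apply, QuotientGroup.eq, C.core, mem_bot] at h2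
    rwa [inv_mul_eq_one] at h2
  obtain ⟨Q, hQ⟩ := (P.isPGroup'.map π).exists_le_sylow
  have := hcyc p hp2 Q
  have : IsCyclic ↥((P : Subgroup G).map π) :=
    isCyclic_of_injective (inclusion hQ) (inclusion_injective hQ)
  have hab : IsMulCommutative (P : Subgroup G) :=
    MonoidHom.isMulCommutative_of_isCyclic_of_ker_le_center (π.subgroupMap (P : Subgroup G))
      fun a ha => by
        have ha' : π a = 1 := congrArg Subtype.val ha
        exact mem_center_iff.2 fun b => Subtype.ext (mem_center_iff.1 (hker (MonoidHom.mem_ker.2 ha')) b)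
  have h := TransferBasic.inf_center_inf_commutator_eq_bot (P := P) hab
  have hzm : (z : G) ∈ (P : Subgroup G) ⊓ commutator G ⊓ center G :=
    ⟨⟨hP (mem_zpowers _), by rw [C.commutator_eq_top hd1 hne]; exact mem_top _⟩, z.2⟩
  rw [h, mem_bot] at hzm
  rw [hzm, orderOf_one] at hz
  exact hp.one_lt.ne hz

end Gen

end CfsgLib.OddClass
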