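import Cfsg.Agent.Unitary.InvolClass
import Cfsg.Agent.Unitary.Special
import Cfsg.Agent.Invol.Dihedral

/-!
`PSU₃(q)`, `q` even, is not generated by pairwise commuting involutions and one more involution: such
elements fix a common point of the projective plane.
-/

set_option autoImplicit false
set_option linter.style.haveILetI false
set_option linter.unusedSectionVars false

namespace CfsgLib.UThreeFix

open Matrix CfsgLib.Forms CfsgLib.Unitary

variable {F : Type*} [Field F] [Finite F] [CharP F 2] {q : ℕ} (hF : Nat.card F = q ^ 2)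
include hF

local notation "hm" => Cfsg.hermForm 3 F q

theorem herm_zero_right (x : Fin 3 → F) : hm x 0 = 0 := (uForm hF 3).zero_right x

theorem herm_zero_left (x : Fin 3 → F) : hm 0 x = 0 := (uForm hF 3).zero_left x

/-- Orthogonal isotropic vectors of the plane are dependent. -/
theorem eq_smul_of_orth {p r : Fin 3 → F} (hp : hm p p = 0) (hp0 : p ≠ 0) (hr : hm r r = 0)
    (hpr : hm p r = 0) : ∃ a : F, r = a • p := by
  obtain ⟨z, hz⟩ : ∃ z, hm z p = 1 := by
    obtain ⟨w, hw⟩ : ∃ w, hm w p ≠ 0 := by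
      by_contra! h
      exact hp0 (uForm_nondeg hF 3 p h)
    exact ⟨(hm w p)⁻¹ • w, by rw [herm_smul_left, inv_mul_cancel₀ hw]⟩
  have hpz : hm p z = 1 := by rw [herm_swap hF z p, hz, one_pow]
  have hrp : hm r p = 0 := by
    rw [herm_swap hF p r, hpr, zero_pow]
    have := two_le_q hF; omega
  refine ⟨hm r z, ?_⟩
  set r' := r - hm r z • p with hr'
  by_contra hne
  have hr'0 : r' ≠ 0 := sub_ne_zero.2 hne
  have h1 : hm r' p = 0 := by rw [hr', herm_sub_left hF, herm_smul_left, hrp, hp, mul_zero, sub_zero]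
  have h2 : hm r' z = 0 := by rw [hr', herm_sub_left hF, herm_smul_left, hpz, mul_one, sub_self]
  have h3 : hm r' r' = 0 := by
    rw [hr', herm_sub_left hF, herm_smul_left, herm_sub_right hF, herm_sub_right hF, herm_smul_right hF,
      herm_smul_right hF, hr, hrp, hpr, hp]
    ring
  have hind : LinearIndependent F ![r', p, z] := by
    rw [Fintype.linearIndependent_iff]
    intro c hc
    simp only [Fin.sum_univ_three, Matrix.cons_val_zero, Matrix.cons_val_one, Matrix.head_cons,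
      Matrix.cons_val_two, Matrix.tail_cons] at hc
    have hw : c 2 = 0 := by
      have h := congrArg (fun v => hm v p) hc
      simpa [herm_add_left, herm_smul_left, h1, hp, hz, herm_zero_left hF] using h
    have hy : c 1 = 0 := by
      have h := congrArg (fun v => hm v z) hc
      simpa [herm_add_left, herm_smul_left, h2, hpz, hw, herm_zero_left hF] using h
    rw [hw, hy, zero_smul, zero_smul, add_zero, add_zero, smul_eq_zero] at hc
    intro i
    fin_cases i
    exacts [hc.resolve_right hr'0, hy, hw]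
  have hspan := hind.span_eq_top_of_card_eq_finrank (by simp)
  refine hr'0 (uForm_nondeg hF 3 r' fun w => ?_)
  show hm w r' = 0
  have hw : w ∈ Submodule.span F (Set.range ![r', p, z]) := hspan ▸ Submodule.mem_top
  induction hw using Submodule.span_induction with
  | mem v hv =>
    obtain ⟨i, rfl⟩ := hv
    fin_cases i
    · simpa using h3
    · simp [herm_swap hF r' p, h1, zero_pow (show q ≠ 0 by have := two_le_q hF; omega)]
    · simp [herm_swap hF r' z, h2, zero_pow (show q ≠ 0 by have := two_le_q hF; omega)]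
  | zero => exact herm_zero_left hF _
  | add u v _ _ hu hv => rw [herm_add_left, hu, hv, add_zero]
  | smul a v _ hv => rw [herm_smul_left, hv, mul_zero]

/-- The centre of an involution. -/
theorem exists_point {g : Cfsg.SU 3 F q} (hg : g * g = 1) :
    ∃ p : Fin 3 → F, hm p p = 0 ∧ (g ≠ 1 → p ≠ 0) ∧
      (∀ x, hm x p = 0 → suMat g *ᵥ x = x) ∧
      (∀ x, ∃ a : F, suMat g *ᵥ x - x = a • p) ∧ (p ≠ 0 → ∃ y, suMat g *ᵥ y - y = p) := by
  by_cases hg1 : g = 1
  · subst hg1
    exact ⟨0, herm_zero_left hF _, fun h => absurd rfl h, fun x _ => by rw [suMat_one, Matrix.one_mulVec],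
      fun x => ⟨0, by rw [suMat_one, Matrix.one_mulVec, sub_self, smul_zero]⟩, fun h => absurd rfl h⟩
  set N := Matrix.mulVecLin (suMat g - 1) with hN
  have hdev := Invol.isUDev_of_invol hF hg
  have happ : ∀ x, N x = suMat g *ᵥ x - x := fun x => by
    rw [hN, Matrix.mulVecLin_apply, Matrix.sub_mulVec, Matrix.one_mulVec]
  obtain ⟨y, hy⟩ : ∃ y, N y ≠ 0 := by
    by_contra! h
    refine hg1 (su_ext fun x => ?_)
    have h' := h x
    rw [happ, sub_eq_zero] at h'
    rw [suMat_one, Matrix.one_mulVec, h']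
  have hpp := Invol.image_isotropic hF hdev y y
  have hrange : ∀ x, ∃ a : F, N x = a • N y := fun x =>
    eq_smul_of_orth hF hpp hy (Invol.image_isotropic hF hdev x x) (Invol.image_isotropic hF hdev y x)
  have hc : hm (N y) y ≠ 0 := by
    intro h
    refine hy (uForm_nondeg hF 3 _ fun z => ?_)
    show hm z (N y) = 0
    obtain ⟨a, ha⟩ := hrange z
    rw [← hdev.adj, ha, herm_smul_left, h, mul_zero]
  refine ⟨N y, hpp, fun _ => hy, fun x hx => ?_, fun x => ?_, fun _ => ⟨y, (happ y).symm⟩⟩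
  · obtain ⟨a, ha⟩ := hrange x
    rw [← hdev.adj, ha, herm_smul_left, mul_eq_zero] at hx
    rw [hx.resolve_right hc, zero_smul, happ, sub_eq_zero] at ha
    exact ha
  · obtain ⟨a, ha⟩ := hrange x
    exact ⟨a, by rw [← happ, ha]⟩

/-- Commuting involutions have their centres orthogonal. -/
theorem orth_of_commute {g h : Cfsg.SU 3 F q} (hgh : Commute g h) {p r : Fin 3 → F} (hr : hm r r = 0)
    (hgr : ∀ x, ∃ a : F, suMat g *ᵥ x - x = a • p)
    (hhr : ∀ x, ∃ a : F, suMat h *ᵥ x - x = a • r) (hh : r ≠ 0 → ∃ y, suMat h *ᵥ y - y = r)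
    (hgy : p ≠ 0 → ∃ y, suMat g *ᵥ y - y = p) : hm r p = 0 := by
  by_contra hne
  have hr0 : r ≠ 0 := fun e => hne (e ▸ herm_zero_left hF _)
  obtain ⟨y, hy⟩ := hh hr0
  obtain ⟨a, ha⟩ := hgr r
  obtain ⟨b, hb⟩ := hhr (suMat g *ᵥ y - y)
  have hcomm : suMat g *ᵥ (suMat h *ᵥ y) = suMat h *ᵥ (suMat g *ᵥ y) := by
    rw [Matrix.mulVec_mulVec, Matrix.mulVec_mulVec, ← suMat_mul, ← suMat_mul, hgh.eq]
  have he : a • p = b • r := by
    rw [← ha, ← hb, ← hy, Matrix.mulVec_sub, Matrix.mulVec_sub, hcomm]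
    abel
  by_cases ha0 : a = 0
  · rw [ha0, zero_smul, sub_eq_zero] at ha
    -- `g` fixes `r`
    have hp0 : p ≠ 0 := fun e => hne (e ▸ herm_zero_right hF _)
    obtain ⟨z, hz⟩ := hgy hp0
    refine hne ?_
    rw [← hz, herm_sub_right hF]
    conv_lhs => arg 1; arg 4; rw [← ha]
    rw [su_preserves, sub_self]
  · refine hne ?_
    have hpe : p = (a⁻¹ * b) • r := by
      rw [← smul_smul, ← he, smul_smul, inv_mul_cancel₀ ha0, one_smul]
    rw [hpe, herm_smul_right hF, hr, mul_zero]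

omit [Finite F] [CharP F 2] hF in
/-- The stabiliser of a line. -/
def lineStab (v : Fin 3 → F) : Submonoid (Cfsg.SU 3 F q) where
  carrier := {g | ∃ a : F, suMat g *ᵥ v = a • v}
  one_mem' := ⟨1, by rw [suMat_one, Matrix.one_mulVec, one_smul]⟩
  mul_mem' := fun {g h} ⟨a, ha⟩ ⟨b, hb⟩ => ⟨b * a, by
    rw [suMat_mul, ← Matrix.mulVec_mulVec, hb, Matrix.mulVec_smul, ha, smul_smul]⟩

/-- No line is invariant. -/
theorem exists_move {v : Fin 3 → F} (hv : v ≠ 0) :
    ∃ g : Cfsg.SU 3 F q, g ∉ lineStab (q := q) v := by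
  by_contra! hall
  have hq := two_le_q hF
  obtain ⟨c, hc0, hc⟩ := exists_skew (F := F) (q := q) hF
  have key : ∀ a : Fin 3 → F, hm a a = 0 → hm v a = 0 ∨ ∃ b : F, v = b • a := by
    intro a ha
    obtain ⟨l, hl⟩ := hall (suTv 3 a c ha hc hF)
    rw [show suMat (suTv 3 a c ha hc hF) = Cfsg.unitaryTransvection 3 q a c from rfl, utv_mulVec] at hl
    by_cases h0 : hm v a = 0
    · exact Or.inl h0
    have h' : (c * hm v a) • a = (l - 1) • v := by rw [sub_smul, one_smul, ← hl]; abel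
    by_cases hl1 : l - 1 = 0
    · rw [hl1, zero_smul, smul_eq_zero] at h'
      rcases h' with h' | h'
      · exact absurd h' (mul_ne_zero hc0 h0)
      · exact absurd (h' ▸ herm_zero_right hF v) h0
    · exact Or.inr ⟨(l - 1)⁻¹ * (c * hm v a), by
        rw [← smul_smul, h', smul_smul, inv_mul_cancel₀ hl1, one_smul]⟩
  have h11 : (1 : F) + 1 = 0 := CharTwo.add_self_eq_zero 1
  have e01 : v 0 = v 1 := by
    rcases key ![1, 1, 0] (by simp [Cfsg.hermForm, Fin.sum_univ_three, zero_pow (show q ≠ 0 by omega), h11])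
      with h | ⟨b, rfl⟩
    · simp [Cfsg.hermForm, Fin.sum_univ_three, zero_pow (show q ≠ 0 by omega)] at h
      exact CharTwo.add_eq_zero.1 h
    · simp
  have e12 : v 1 = v 2 := by
    rcases key ![0, 1, 1] (by simp [Cfsg.hermForm, Fin.sum_univ_three, zero_pow (show q ≠ 0 by omega), h11])
      with h | ⟨b, rfl⟩
    · simp [Cfsg.hermForm, Fin.sum_univ_three, zero_pow (show q ≠ 0 by omega)] at h
      exact CharTwo.add_eq_zero.1 h
    · simp
  have hv0 : v 0 ≠ 0 := fun e => hv (funext fun i => by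
    fin_cases i
    exacts [e, e01 ▸ e, e12 ▸ e01 ▸ e])
  obtain ⟨u, hu⟩ : ∃ u : F, u ^ q ≠ u := by
    by_contra! h
    exact frobQ_ne_id hF (RingHom.ext fun x => by rw [frobQ_apply, h x]; rfl)
  have hu0 : u ≠ 0 := fun e => hu (by rw [e, zero_pow (show q ≠ 0 by omega)])
  set t := u ^ q * u⁻¹ with ht
  have ht1 : t ≠ 1 := fun e => hu (by
    rw [ht, mul_inv_eq_one₀ hu0] at e; exact e)
  have htn : t * t ^ q = 1 := by
    rw [ht, mul_pow, ← pow_mul, ← pow_two, ← hF, inv_pow]
    haveI := Fintype.ofFinite F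
    rw [Nat.card_eq_fintype_card, FiniteField.pow_card]
    field_simp
  have htq : t ^ q ≠ 1 := fun e => ht1 (by rwa [e, mul_one] at htn)
  rcases key ![1, t, 0] (by
      simp [Cfsg.hermForm, Fin.sum_univ_three, zero_pow (show q ≠ 0 by omega), htn, h11]) with h | ⟨b, rfl⟩
  · simp [Cfsg.hermForm, Fin.sum_univ_three, zero_pow (show q ≠ 0 by omega), ← e01] at h
    have h' : v 0 * (1 + t ^ q) = 0 := by rw [mul_add, mul_one]; exact h
    exact htq (CharTwo.add_eq_zero.1 ((mul_eq_zero.1 h').resolve_left hv0)).symm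
  · simp at hv0 e01
    exact ht1 ((mul_eq_left₀ hv0).1 e01.symm)

/-- The projective group is not generated by commuting involutions and one involution. -/
theorem not_generated {S : Set (Cfsg.PSU 3 F q)} (hS : ∀ s ∈ S, s * s = 1)
    (hcomm : ∀ s ∈ S, ∀ s' ∈ S, Commute s s') {x : Cfsg.PSU 3 F q} (hx : x * x = 1)
    (hgen : Subgroup.closure (S ∪ {x}) = ⊤) : False := by
  set Z := Subgroup.center (Cfsg.SU 3 F q)
  set π := QuotientGroup.mk' Z with hπ
  have hZ3 : ∀ z ∈ Z, z ^ 3 = 1 := fun z hz => by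
    obtain ⟨a, ha⟩ := (mem_center_SU_iff hF (by norm_num)).1 hz
    have h := z.1.2
    rw [ha, Matrix.det_smul, Matrix.det_one, mul_one, Fintype.card_fin] at h
    refine Subtype.ext (Subtype.ext ?_)
    simp [ha, smul_pow, h]
  have hlift : ∀ s : Cfsg.PSU 3 F q, s * s = 1 → ∃ g, π g = s ∧ g * g = 1 := by
    intro s hs
    obtain ⟨g, rfl⟩ := QuotientGroup.mk'_surjective Z s
    have hz : g * g ∈ Z := (QuotientGroup.eq_one_iff _).1 (by rw [← hs]; rfl)
    have hcz : Commute g (g * g) := (Commute.refl g).mul_right (Commute.refl g)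
    refine ⟨g * (g * g), ?_, ?_⟩
    · rw [map_mul, map_mul, hs, mul_one]
    · rw [show g * (g * g) * (g * (g * g)) = (g * g) ^ 3 by rw [pow_succ, pow_two]; group]
      exact hZ3 _ hz
  have hlc : ∀ g h : Cfsg.SU 3 F q, g * g = 1 → h * h = 1 → Commute (π g) (π h) → Commute g h := by
    intro g h hg hh hgh
    have hgi : g⁻¹ = g := inv_eq_of_mul_eq_one_right hg
    have hhi : h⁻¹ = h := inv_eq_of_mul_eq_one_right hh
    have hz : g * h * (g * h) ∈ Z := (QuotientGroup.eq_one_iff _).1 (by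
      rw [show ((g * h * (g * h) : Cfsg.SU 3 F q) : Cfsg.PSU 3 F q) = π g * π h * (π g * π h) from rfl,
        hgh.symm.mul_mul_mul_comm, ← map_mul, ← map_mul, hg, hh, map_one, one_mul])
    set w := g * h * (g * h) with hw
    have hc := Subgroup.mem_center_iff.1 hz h
    have hinv : h * w * h⁻¹ = w⁻¹ := by
      rw [hw, _root_.mul_inv_rev, _root_.mul_inv_rev, hgi, hhi, show h * (g * h * (g * h)) * h = h * g * h * g * (h * h)
        by group, hh, mul_one]
      group
    rw [hc, mul_inv_cancel_right] at hinv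
    have hw1 : w = 1 := by
      have h3 := hZ3 w hz
      rw [pow_succ, pow_two, show w * w = 1 by nth_rw 2 [hinv]; exact mul_inv_cancel w, one_mul] at h3
      exact h3
    rw [hw, mul_eq_one_iff_eq_inv, _root_.mul_inv_rev, hgi, hhi] at hw1
    exact hw1
  choose f hf using fun s : {s // s ∈ S} => hlift s (hS s s.2)
  obtain ⟨gx, hgx, hgx2⟩ := hlift x hx
  choose P hP using fun s : {s // s ∈ S} => exists_point hF (hf s).2
  obtain ⟨R, hR⟩ := exists_point hF hgx2
  -- a common centre of the commuting ones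
  obtain ⟨p0, hp0⟩ : ∃ p0 : Fin 3 → F, ∀ s, ∃ a : F, P s = a • p0 := by
    by_cases h0 : ∀ s, P s = 0
    · exact ⟨0, fun s => ⟨0, by rw [h0, smul_zero]⟩⟩
    push Not at h0
    obtain ⟨s0, hs0⟩ := h0
    refine ⟨P s0, fun s => eq_smul_of_orth hF (hP s0).1 hs0 (hP s).1 ?_⟩
    have hc : Commute (f s) (f s0) := hlc _ _ (hf s).2 (hf s0).2 (by
      rw [(hf s).1, (hf s0).1]; exact hcomm _ s.2 _ s0.2)
    exact orth_of_commute hF hc (hP s0).1 (hP s).2.2.2.1 (hP s0).2.2.2.1 (hP s0).2.2.2.2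
      (hP s).2.2.2.2
  -- a vector orthogonal to both centres
  let φ : (Fin 3 → F) →ₗ[F] (Fin 2 → F) :=
    { toFun := fun v => ![hm v p0, hm v R]
      map_add' := fun u v => by ext i; fin_cases i <;> simp [herm_add_left]
      map_smul' := fun a v => by ext i; fin_cases i <;> simp [herm_smul_left] }
  obtain ⟨v, hv, hv0⟩ : ∃ v ∈ LinearMap.ker φ, v ≠ 0 := by
    refine (Submodule.ne_bot_iff _).1 fun hk => ?_
    have h := LinearMap.finrank_le_finrank_of_injective (LinearMap.ker_eq_bot.1 hk)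
    simp at h
  have hvp : hm v p0 = 0 := congrFun (LinearMap.mem_ker.1 hv) 0
  have hvR : hm v R = 0 := congrFun (LinearMap.mem_ker.1 hv) 1
  obtain ⟨g, hg⟩ := exists_move hF hv0
  refine hg ?_
  have hall : Subgroup.closure ((Set.range f ∪ {gx}) ∪ (Z : Set (Cfsg.SU 3 F q))) = ⊤ := by
    set H := Subgroup.closure ((Set.range f ∪ {gx}) ∪ (Z : Set (Cfsg.SU 3 F q)))
    have hsub : (Z : Set (Cfsg.SU 3 F q)) ⊆ H := fun z hz => Subgroup.subset_closure (Or.inr hz)
    have hmap : H.map π = ⊤ := by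
      rw [eq_top_iff, ← hgen, Subgroup.closure_le]
      rintro s (hs | rfl)
      · exact ⟨f ⟨s, hs⟩, Subgroup.subset_closure (Or.inl (Or.inl ⟨_, rfl⟩)), (hf _).1⟩
      · exact ⟨gx, Subgroup.subset_closure (Or.inl (Or.inr rfl)), hgx⟩
    rw [eq_top_iff]
    intro a _
    obtain ⟨b, hb, hab⟩ := hmap ▸ Subgroup.mem_top (π a)
    have : b⁻¹ * a ∈ Z := QuotientGroup.eq.1 hab
    simpa using H.mul_mem hb (hsub this)
  have hmem : g ∈ (Subgroup.closure ((Set.range f ∪ {gx}) ∪ (Z : Set (Cfsg.SU 3 F q)))).toSubmonoid :=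
    hall ▸ Subgroup.mem_top g
  haveI : Finite (Cfsg.SU 3 F q) := inferInstance
  rw [Subgroup.closure_toSubmonoid_of_finite] at hmem
  refine Submonoid.closure_le.2 ?_ hmem
  rintro a ((⟨s, rfl⟩ | rfl) | ha)
  · obtain ⟨b, hb⟩ := hp0 s
    exact ⟨1, by rw [one_smul, (hP s).2.2.1 v (by rw [hb, herm_smul_right hF, hvp, mul_zero])]⟩
  · exact ⟨1, by rw [one_smul, hR.2.2.1 v hvR]⟩
  · obtain ⟨b, hb⟩ := (mem_center_SU_iff hF (by norm_num)).1 ha
    exact ⟨b, by rw [show suMat a = b • 1 from hb, Matrix.smul_mulVec, Matrix.one_mulVec]⟩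

end CfsgLib.UThreeFix
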