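import Cfsg.Agent.RootSubgroups.OddClass
import Cfsg.Agent.RootSubgroups.UThreeFix
import Cfsg.Agent.Suzuki.SylowOdd
import Cfsg.Agent.Suzuki.LieModel
import Cfsg.Agent.Classical.SylowTwoDim
import Cfsg.Agent.OneClass.Basic

/-!
The subgroup generated by the twins of an odd transposition and one odd partner, modulo its 2-core,
given the criterion.
-/

set_option autoImplicit false
set_option linter.unusedSectionVars false

namespace CfsgLib.OddClass

open Cfsg CfsgLib.RootInv Subgroup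

universe u

variable {G : Type u} [Group G] [Finite G] {D : Set G} {d x : G}

theorem cyclic_psl {F : Type} [Field F] [Fintype F] [CharP F 2] {p : ℕ} [Fact p.Prime] (hp : p ≠ 2)
    (P : Sylow p (Matrix.ProjectiveSpecialLinearGroup (Fin 2) F)) : IsCyclic P := by
  have : Fact (Nat.Prime 2) := ⟨Nat.prime_two⟩
  set π := QuotientGroup.mk' (center (Matrix.SpecialLinearGroup (Fin 2) F)) with hπ
  have hs : Function.Surjective π := QuotientGroup.mk'_surjective _
  obtain ⟨Q, rfl⟩ := Sylow.mapSurjective_surjective hs p P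
  have := Linear.SylowDim.isCyclic_sylow_sl (F := F) 2 hp hp Q
  exact isCyclic_of_surjective (π.subgroupMap (Q : Subgroup _)) (π.subgroupMap_surjective _)

theorem cyclic_suzuki {H : Type u} [Group H] [Finite H] (h : Cfsg.Lie.IsoSuzuki H) {p : ℕ} [Fact p.Prime]
    (hp : p ≠ 2) (P : Sylow p H) : IsCyclic P := by
  obtain ⟨F, _, _, m, hm, hF, ⟨e⟩⟩ := h
  have hq := Suzuki.isSzField_of_card hm hF
  have := Suzuki.finite_G hq
  set f : H →* Suzuki.SzG F m := (e.trans (Suzuki.lieEquiv hq).symm).toMonoidHom with hf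
  obtain ⟨Q, hQ⟩ := (P.isPGroup'.map f).exists_le_sylow
  have := Suzuki.isCyclic_sylow_odd hq hp Q
  have hinj : Function.Injective f := (e.trans (Suzuki.lieEquiv hq).symm).injective
  exact isCyclic_of_injective ((inclusion hQ).comp ((P : Subgroup H).equivMapOfInjective f hinj).toMonoidHom)
    ((inclusion_injective hQ).comp ((P : Subgroup H).equivMapOfInjective f hinj).injective)

/-- The setting gives the three kinds. -/
theorem Gen.kinds (C : Gen D d x) (hcrit : RootBlock.Criterion.{u}) :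
    (∃ (F : Type) (_ : Field F) (_ : Fintype F), CharP F 2 ∧ 4 ≤ Fintype.card F ∧
      Nonempty (G ≃* Matrix.ProjectiveSpecialLinearGroup (Fin 2) F)) ∨
    Cfsg.Lie.IsoSuzuki G ∨ (∃ n : ℕ, Nonempty (G ≃* DihedralGroup n)) := by
  by_cases h : ∀ e ∈ twins D d, e = d
  · exact Or.inr (Or.inr (C.dihedral h))
  push Not at h
  obtain ⟨d1, hd1, hne'⟩ := h
  have hne := hne'.symm
  have hequiv : ∀ (_ : center G = ⊥), Nonempty (G ⧸ Cfsg.twoZCore G ≃* G) := fun hZ => by
    have hbot : Cfsg.twoZCore G = ⊥ := by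
      rw [eq_bot_iff]
      intro g hg
      rw [mem_bot, ← mem_bot (G := G), ← hZ, mem_center_iff]
      intro a
      have h1 := mem_center_iff.1 (mem_comap.1 hg) (QuotientGroup.mk' (Cfsg.pCore 2 G) a)
      rw [← map_mul, ← map_mul] at h1
      simp only [QuotientGroup.mk'_apply, QuotientGroup.eq, C.core, mem_bot] at h1
      rwa [inv_mul_eq_one] at h1
    exact ⟨(QuotientGroup.quotientMulEquivOfEq hbot).trans QuotientGroup.quotientBot⟩
  rcases C.three hd1 hne hcrit with ⟨F, i1, i2, hc, hq, ⟨e⟩⟩ | hsz | ⟨F, i1, i2, q, hc, hq, -, ⟨e⟩⟩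
  · obtain ⟨e'⟩ := hequiv (C.center_eq_bot hd1 hne fun p _ hp P => by
      obtain ⟨Q, hQ⟩ := (P.isPGroup'.map e.toMonoidHom).exists_le_sylow
      have := cyclic_psl hp Q
      let ψ := (P : Subgroup (G ⧸ Cfsg.twoZCore G)).equivMapOfInjective e.toMonoidHom e.injective
      exact isCyclic_of_injective ((inclusion hQ).comp ψ.toMonoidHom)
        ((inclusion_injective hQ).comp ψ.injective))
    exact Or.inl ⟨F, i1, i2, hc, hq, ⟨e'.symm.trans e⟩⟩
  · obtain ⟨e'⟩ := hequiv (C.center_eq_bot hd1 hne fun p _ hp P => cyclic_suzuki hsz hp P)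
    obtain ⟨K, j1, j2, m, hm, hK, ⟨e⟩⟩ := hsz
    exact Or.inr (Or.inl ⟨K, j1, j2, m, hm, hK, ⟨e'.symm.trans e⟩⟩)
  · exfalso
    have hF : Nat.card F = q ^ 2 := by rw [Nat.card_eq_fintype_card, hq]
    set f : G →* Cfsg.PSU 3 F q := e.toMonoidHom.comp (QuotientGroup.mk' (Cfsg.twoZCore G))
    have hsurj : Function.Surjective f := e.surjective.comp (QuotientGroup.mk'_surjective _)
    refine UThreeFix.not_generated hF (S := f '' twins D d) (x := f x) ?_ ?_ ?_ ?_
    · rintro _ ⟨s, hs, rfl⟩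
      rw [← map_mul, RootInv.sq C.root hs.1, map_one]
    · rintro _ ⟨s, hs, rfl⟩ _ ⟨s', hs', rfl⟩
      exact (C.twins_commute hs hs').map f
    · rw [← map_mul, RootInv.sq C.root C.memx, map_one]
    · rw [← Set.image_singleton, ← Set.image_union, ← MonoidHom.map_closure, C.gen,
        map_top_of_surjective f hsurj]

/-- The quotient row, given the criterion. -/
theorem quotient_row (hcrit : RootBlock.Criterion.{u}) (hD : IsOddTranspositionSet D) (hd : d ∈ D)
    (hx : x ∈ Cfsg.oddPartners D d) :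
    (∃ (F : Type) (_ : Field F) (_ : Fintype F), CharP F 2 ∧ 4 ≤ Fintype.card F ∧
      Nonempty ((↥(Subgroup.closure (Cfsg.sameCommutingClass D d ∪ {x})) ⧸
        Cfsg.pCore 2 ↥(Subgroup.closure (Cfsg.sameCommutingClass D d ∪ {x}))) ≃* Matrix.ProjectiveSpecialLinearGroup (Fin 2) F)) ∨
    Cfsg.Lie.IsoSuzuki ((↥(Subgroup.closure (Cfsg.sameCommutingClass D d ∪ {x})) ⧸
        Cfsg.pCore 2 ↥(Subgroup.closure (Cfsg.sameCommutingClass D d ∪ {x})))) ∨
    (∃ n : ℕ, Nonempty ((↥(Subgroup.closure (Cfsg.sameCommutingClass D d ∪ {x})) ⧸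
        Cfsg.pCore 2 ↥(Subgroup.closure (Cfsg.sameCommutingClass D d ∪ {x}))) ≃* DihedralGroup n)) := by
  obtain ⟨hR, hfour⟩ := hD
  obtain ⟨hxD, hxd, hodd⟩ := hx
  set E := Cfsg.sameCommutingClass D d
  set K := closure (E ∪ {x})
  have : Fact (Nat.Prime 2) := ⟨Nat.prime_two⟩
  have hdx : ¬ Commute d x := not_commute_of_odd hR hd hxD (Ne.symm hxd) hodd
  have hdE : d ∈ E := ⟨hd, rfl⟩
  have hdK : d ∈ K := subset_closure (Or.inl hdE)
  have hxK : x ∈ K := subset_closure (Or.inr rfl)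
  -- one class in `K`
  set DK : Set K := {k | ∃ g : K, g * ⟨d, hdK⟩ * g⁻¹ = k}
  have hDKD : ∀ k ∈ DK, (k : G) ∈ D := by
    rintro _ ⟨g, rfl⟩
    exact hR.conj_mem d hd (g : G)
  have hpair : ∀ a ∈ D, ∀ b ∈ D, Commute a b ∨ Odd (orderOf (a * b)) := fun a ha b hb => by
    rcases hR.pair a ha b hb with h | h | ⟨h, -⟩
    · exact Or.inl h
    · exact Or.inr h
    · exact absurd h (hfour a ha b hb)
  have hconj : ∀ (g : G) (hg : g ∈ K), g ∈ D → ¬ Commute g d → (⟨g, hg⟩ : K) ∈ DK := by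
    intro g hg hgD hgd
    obtain ⟨w, hw, e⟩ := Invol.exists_conj_of_odd (hR.orderOf_eq d hd) (hR.orderOf_eq g hgD)
      ((hpair d hd g hgD).resolve_left fun h => hgd h.symm)
    have hwK : w ∈ K := (closure_le K).2 (by
      rintro y (rfl | rfl)
      exacts [hdK, hg]) hw
    exact ⟨⟨w, hwK⟩, Subtype.ext e⟩
  have hxDK : (⟨x, hxK⟩ : K) ∈ DK := hconj x hxK hxD fun h => hdx h.symm
  have hEDK : ∀ e (he : e ∈ E), (⟨e, subset_closure (Or.inl he)⟩ : K) ∈ DK := by
    intro e he
    have hex : ¬ Commute x e := fun h => hdx (by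
      have : x ∈ Cfsg.commutingMembers D d := he.2 ▸ (⟨hxD, h.eq⟩ : x ∈ Cfsg.commutingMembers D e)
      exact (show Commute x d from this.2).symm)
    obtain ⟨g₀, hg₀⟩ := hxDK
    obtain ⟨w, hw, e'⟩ := Invol.exists_conj_of_odd (hR.orderOf_eq x hxD) (hR.orderOf_eq e he.1)
      ((hpair x hxD e he.1).resolve_left hex)
    have hwK : w ∈ K := (closure_le K).2 (by
      rintro y (rfl | rfl)
      exacts [hxK, subset_closure (Or.inl he)]) hw
    refine ⟨⟨w, hwK⟩ * g₀, Subtype.ext ?_⟩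
    have h0 : (g₀ : G) * d * (g₀ : G)⁻¹ = x := congrArg Subtype.val hg₀
    show w * g₀ * d * (w * g₀)⁻¹ = e
    rw [← e', ← h0]
    group
  have hgenK : closure DK = ⊤ := by
    rw [eq_top_iff, ← closure_closure_coe_preimage (k := E ∪ {x})]
    refine (closure_le _).2 fun k hk => subset_closure ?_
    rcases hk with hk | hk
    · exact hEDK k hk
    · have : k = ⟨x, hxK⟩ := Subtype.ext hk
      exact this ▸ hxDK
  -- pairs in the quotient
  set π := QuotientGroup.mk' (Cfsg.pCore 2 K) with hπ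
  have hker : ∀ k, π k = 1 ↔ k ∈ Cfsg.pCore 2 K := fun k => QuotientGroup.eq_one_iff k
  have hsq : ∀ k ∈ DK, k * k = 1 := fun k hk => Subtype.ext (RootInv.sq hR (hDKD k hk))
  have hlift : ∀ a ∈ DK, ∀ b ∈ DK, Commute (π a) (π b) → Commute a b := by
    intro a ha b hb h
    rcases hpair _ (hDKD a ha) _ (hDKD b hb) with hc | hc
    · exact Subtype.ext hc.eq
    by_cases hab : a = b
    · exact hab ▸ Commute.refl _
    exfalso
    have ho : Odd (orderOf (a * b)) := by rwa [← Subgroup.orderOf_coe]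
    have hmem : (a * b) ^ 2 ∈ Cfsg.pCore 2 K := (hker _).1 (by
      rw [map_pow, map_mul, pow_two, h.symm.mul_mul_mul_comm, ← map_mul, ← map_mul, hsq a ha, hsq b hb,
        map_one, one_mul])
    obtain ⟨k, hk⟩ := (Solvable.isPGroup_pCore 2) ⟨_, hmem⟩
    have h1 : ((a * b) ^ 2) ^ 2 ^ k = 1 := congrArg Subtype.val hk
    rw [← pow_mul, ← pow_succ'] at h1
    have h2 := odd_pow_two_pow ho h1
    rw [mul_eq_one_iff_eq_inv, inv_eq_of_mul_eq_one_right (hsq b hb)] at h2
    exact hab h2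
  set d' : K := ⟨d, hdK⟩
  set x' : K := ⟨x, hxK⟩
  have hd' : d' ∈ DK := ⟨1, by simp [d']⟩
  have hord : ∀ k ∈ DK, orderOf (π k) = 2 := by
    intro k hk
    refine Invol.orderOf_eq_two (by rw [← map_mul, hsq k hk, map_one]) fun h1 => ?_
    obtain ⟨g, rfl⟩ := hk
    rw [map_mul, map_mul, map_inv, conj_eq_one_iff] at h1
    have hall : Commute (π d') (π x') := by rw [show π d' = 1 from h1]; exact Commute.one_left _
    exact hdx (congrArg Subtype.val (hlift d' hd' x' hxDK hall).eq)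
  have hpairK : ∀ a ∈ DK, ∀ b ∈ DK, π a * π b = π b * π a ∨ Odd (orderOf (π a * π b)) := by
    intro a ha b hb
    rcases hpair _ (hDKD a ha) _ (hDKD b hb) with h | h
    · left
      rw [← map_mul, ← map_mul, show a * b = b * a from Subtype.ext h.eq]
    · right
      rw [← map_mul]
      exact Odd.of_dvd_nat (by rwa [← Subgroup.orderOf_coe]) (orderOf_map_dvd π _)
  have hGen : Gen (π '' DK) (π d') (π x') := by
    refine ⟨⟨?_, ?_, ?_, ?_⟩, ?_, ?_, ⟨d', hd', rfl⟩, ⟨x', hxDK, rfl⟩, ?_, ?_, ?_⟩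
    · rintro _ ⟨k, hk, rfl⟩; exact hord k hk
    · rw [← MonoidHom.map_closure, hgenK, map_top_of_surjective π (QuotientGroup.mk'_surjective _)]
    · rintro _ ⟨k, ⟨g, rfl⟩, rfl⟩ h
      obtain ⟨h', rfl⟩ := QuotientGroup.mk'_surjective _ h
      exact ⟨h' * g * d' * (h' * g)⁻¹, ⟨_, rfl⟩, by simp [hπ, mul_assoc, d']⟩
    · rintro _ ⟨a, ha, rfl⟩ _ ⟨b, hb, rfl⟩
      exact (hpairK a ha b hb).imp_right Or.inl
    · rintro _ ⟨a, ha, rfl⟩ _ ⟨b, hb, rfl⟩ h4
      rcases hpairK a ha b hb with h | h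
      · have h2 : (π a * π b) ^ 2 = 1 := by
          rw [pow_two, (show Commute (π a) (π b) from h).symm.mul_mul_mul_comm, ← map_mul, ← map_mul,
            hsq a ha, hsq b hb, map_one, one_mul]
        have := orderOf_dvd_of_pow_eq_one h2
        rw [h4] at this
        omega
      · rw [h4] at h; exact absurd h (by decide)
    · rintro _ ⟨a, ⟨g, rfl⟩, rfl⟩ _ ⟨b, ⟨g', rfl⟩, rfl⟩
      exact ⟨π (g' * g⁻¹), by simp [mul_assoc]⟩
    · exact fun h => hdx (congrArg Subtype.val (hlift d' hd' x' hxDK h.symm).eq)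
    · rw [eq_top_iff, ← map_top_of_surjective π (QuotientGroup.mk'_surjective _),
        ← closure_closure_coe_preimage (k := E ∪ {x}), MonoidHom.map_closure, closure_le]
      rintro _ ⟨k, hk | hk, rfl⟩
      · refine subset_closure (Or.inl ⟨⟨k, hEDK k hk, rfl⟩, ?_⟩)
        rintro _ ⟨s, hs, rfl⟩
        have hiff : ∀ a : G, a ∈ D → (Commute a k ↔ Commute a d) := fun a ha => by
          have := Set.ext_iff.1 hk.2 a
          exact ⟨fun h => (this.2 ⟨ha, h.eq⟩).2, fun h => (this.1 ⟨ha, h.eq⟩).2⟩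
        constructor
        · intro h
          have h' := (hiff _ (hDKD s hs)).1 (congrArg Subtype.val (hlift s hs k (hEDK k hk) h).eq)
          exact (show Commute s d' from Subtype.ext h'.eq).map π
        · intro h
          have h' := (hiff _ (hDKD s hs)).2 (congrArg Subtype.val (hlift s hs d' hd' h).eq)
          exact (show Commute s k from Subtype.ext h'.eq).map π
      · exact subset_closure (Or.inr (by rw [show k = x' from Subtype.ext hk]; rfl))
    · exact OneClass.pCore_quotient_pCore 2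
  exact hGen.kinds hcrit

end CfsgLib.OddClass
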