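import Cfsg.Agent.RootSubgroups.OddKinds

/-!
Odd transpositions with a line in a simple group, with the claim for smaller groups: in a component of
the centraliser of an element either every pair is good with a product of order three, or commuting is
transitive and all pairs have one kind.
-/

set_option autoImplicit false
set_option linter.unusedSectionVars false

namespace CfsgLib.OddTrans

open Cfsg CfsgLib.RootInv CfsgLib.OddClass Subgroup

universe u

/-- Each odd pair has a common commuting member, and a product of order three with a twin. -/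
def Claim {G : Type u} [Group G] (D : Set G) : Prop :=
  ∀ d ∈ D, ∀ x ∈ D, ¬ Commute x d → (∃ N ∈ D, Commute N d ∧ Commute N x) ∧ Three D d x

/-- The claim for simple groups of order less than `n`. -/
def ClaimBelow (n : ℕ) : Prop :=
  ∀ (H : Type u) [Group H] [Finite H], Nat.card H < n → IsSimpleGroup H → ∀ S : Set H,
    OddBlock.Deg S → IsConnectedSet (CommAdj S) S → Claim S

variable {G : Type u} [Group G] [Finite G] {D : Set G}

/-- All pairs of the component whose twins centralise `w` have the order three product. -/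
def AllThree (D : Set G) (w x : G) : Prop :=
  ∀ p ∈ comp D w x, ∀ q ∈ comp D w x, (∀ e ∈ twins D p, Commute e w) → ¬ Commute q p → Three D p q

/-- Commuting is transitive in the component. -/
def CompTrans (D : Set G) (w x : G) : Prop :=
  ∀ p ∈ comp D w x, ∀ q ∈ comp D w x, ∀ r ∈ comp D w x, Commute p q → Commute q r → Commute p r

/-- Each odd pair of the component has a common commuting member there. -/
def CompGood (D : Set G) (w x : G) : Prop :=
  ∀ p ∈ comp D w x, ∀ q ∈ comp D w x, ¬ Commute p q → ∃ N ∈ comp D w x, Commute N p ∧ Commute N q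

variable (C : OddBlock.Deg D) {w x d : G} (hx : x ∈ D) (hxw : Commute x w) (hd : d ∈ D)
  (hxd : ¬ Commute x d) (hU : ∀ e ∈ twins D d, Commute e w)

/-- The subgroup of the component. -/
abbrev compGroup (D : Set G) (w x : G) : Subgroup G := closure (comp D w x)

/-- The quotient map of the component. -/
abbrev compMap (D : Set G) (w x : G) :
    ↥(compGroup D w x) →* ↥(compGroup D w x) ⧸ Cfsg.twoZCore ↥(compGroup D w x) := zMap _

include C hx hxw hd hxd hU

theorem twin_mem_comp {e : G} (he : e ∈ twins D d) : e ∈ comp D w x :=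
  comp_step self_mem_comp he.1 (hU e he) (not_commute_twins hx hxd he)

omit hd hxd hU in
theorem pair_twin_mem_comp {p q e : G} (hq : q ∈ comp D w x) (hqp : ¬ Commute q p)
    (hp : ∀ e ∈ twins D p, Commute e w) (he : e ∈ twins D p) : e ∈ comp D w x :=
  comp_step hq he.1 (hp e he) (not_commute_twins (mem_comp hx hxw hq).1 hqp he)

theorem comp_setting : OddBlock.Deg (traceSet (compGroup D w x) (comp D w x)) := by
  obtain ⟨d1, hl, hd1, hd3⟩ := C.exists_twin hd
  exact C.deg_comp hx hxw (twin_mem_comp C hx hxw hd hxd hU (mem_twins_self hd))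
    (twin_mem_comp C hx hxw hd hxd hU hd1) hl (twin_mem_comp C hx hxw hd hxd hU hd3)

variable [IsSimpleGroup G] (hw : w ≠ 1) (hcrit : RootBlock.Criterion.{u})
  (IH : ClaimBelow.{u} (Nat.card G))
include hw hcrit IH

theorem comp_kinds :
    (CompGood D w x ∧ AllThree D w x) ∨ (CompTrans D w x ∧ (AllThree D w x ∨
      (Cfsg.Lie.IsoSuzuki (↥(compGroup D w x) ⧸ Cfsg.twoZCore ↥(compGroup D w x)) ∧
        ∀ p ∈ comp D w x, ∀ q ∈ comp D w x, (∀ e ∈ twins D p, Commute e w) → ¬ Commute q p →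
          ¬ Three D p q))) := by
  have hO := simple_core C
  have hD := C.root
  set H := compGroup D w x with hH
  set S := traceSet H (comp D w x)
  have CH : OddBlock.Deg S := comp_setting C hx hxw hd hxd hU
  set π := zMap ↥H
  have hsimple := quot_simple CH
  have CQ := quot_deg CH
  have hmem : ∀ {p : G} (hp : p ∈ comp D w x), (⟨p, subset_closure hp⟩ : ↥H) ∈ S := fun hp => hp
  have hlift : ∀ {p q : G} (hp : p ∈ comp D w x) (hq : q ∈ comp D w x),
      Commute (π ⟨p, subset_closure hp⟩) (π ⟨q, subset_closure hq⟩) → Commute p q := fun hp hq h =>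
    congrArg Subtype.val (quot_commute CH (hmem hp) (hmem hq) h).eq
  have himg : ∀ {p q : G} (hp : p ∈ comp D w x) (hq : q ∈ comp D w x), Commute p q →
      Commute (π ⟨p, subset_closure hp⟩) (π ⟨q, subset_closure hq⟩) := fun hp hq h =>
    (show Commute (⟨_, subset_closure hp⟩ : ↥H) ⟨_, subset_closure hq⟩ from Subtype.ext h.eq).map π
  have htw : ∀ {p e : G} (hp : p ∈ comp D w x) (he : e ∈ comp D w x), e ∈ twins D p →
      π ⟨e, subset_closure he⟩ ∈ twins (zSet S) (π ⟨p, subset_closure hp⟩) := fun hp he h =>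
    quot_twins CH (hmem hp) ⟨hmem he, fun s hs =>
      ⟨fun hc => Subtype.ext ((h.2 s (mem_comp hx hxw hs).1).1 (congrArg Subtype.val hc.eq)).eq,
        fun hc => Subtype.ext ((h.2 s (mem_comp hx hxw hs).1).2 (congrArg Subtype.val hc.eq)).eq⟩⟩
  -- a Suzuki block is excluded by two-elements squaring into the kernel
  have key : ∀ p ∈ comp D w x, ∀ q ∈ comp D w x, (∀ e ∈ twins D p, Commute e w) → ¬ Commute q p →
      (∀ g : ↥H, g.1 ∈ blockGroup D p q → ∀ k : ℕ, g ^ 2 ^ k = 1 → π g * π g = 1) → Three D p q := by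
    intro p hp q hq hpU hqp h
    refine (three_or_suzuki C (mem_comp hx hxw hp).1 (mem_comp hx hxw hq).1 hqp hO hcrit).resolve_right
      fun hS => ?_
    have hKH : blockGroup D p q ≤ H := (closure_le _).2 (by
      rintro y (hy | rfl)
      · exact subset_closure (pair_twin_mem_comp C hx hxw hq hqp hpU hy)
      · exact subset_closure hq)
    obtain ⟨g, ⟨k, hg⟩, hg2⟩ :=
      suzuki_sq C (mem_comp hx hxw hp).1 (mem_comp hx hxw hq).1 hqp hO hS hKH
    exact hg2 (h (Subgroup.inclusion hKH g) g.2 k (by rw [← map_pow, hg, map_one]))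
  -- images of the block generators
  have hgenimg : ∀ p (hp : p ∈ comp D w x) q (hq : q ∈ comp D w x), (∀ e ∈ twins D p, Commute e w) →
      ¬ Commute q p → ∀ g : ↥H, g.1 ∈ blockGroup D p q →
      π g ∈ closure (twins (zSet S) (π ⟨p, subset_closure hp⟩) ∪ {π ⟨q, subset_closure hq⟩}) := by
    intro p hp q hq hpU hqp g hg
    set T := closure (twins (zSet S) (π ⟨p, subset_closure hp⟩) ∪ {π ⟨q, subset_closure hq⟩})
    have hle : blockGroup D p q ≤ (T.comap π).map H.subtype := (closure_le _).2 (by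
      rintro y (hy | rfl)
      · have hyc := pair_twin_mem_comp C hx hxw hq hqp hpU hy
        exact ⟨⟨y, subset_closure hyc⟩, subset_closure (Or.inl (htw hp hyc hy)), rfl⟩
      · exact ⟨⟨y, subset_closure hq⟩, subset_closure (Or.inr rfl), rfl⟩)
    obtain ⟨g', hg', e⟩ := hle hg
    rw [← show g' = g from Subtype.ext e]
    exact hg'
  by_cases hconn : IsConnectedSet (CommAdj (zSet S)) (zSet S)
  · left
    have hlt : Nat.card (↥H ⧸ Cfsg.twoZCore ↥H) < Nat.card G := by
      refine lt_of_le_of_lt (Nat.card_le_card_of_surjective _ (QuotientGroup.mk'_surjective _)) ?_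
      obtain ⟨g, hg⟩ := simple_exists_not_commute C hw
      refine lt_of_le_of_ne (Subgroup.card_le_card_group H) fun e => ?_
      exact closure_comp_ne_top hx hxw hg (eq_top_of_card_eq H e)
    have hcl := IH _ hlt hsimple (zSet S) CQ hconn
    refine ⟨fun p hp q hq hpq => ?_, fun p hp q hq hpU hqp => key p hp q hq hpU hqp fun g hg k hk => ?_⟩
    · obtain ⟨⟨_, ⟨N, hN, rfl⟩, hNp, hNq⟩, -⟩ := hcl _ ⟨_, hmem hp, rfl⟩ _ ⟨_, hmem hq, rfl⟩
        fun h => hpq (hlift hp hq h.symm)
      exact ⟨N.1, hN, hlift (p := N.1) hN hp hNp, hlift (p := N.1) hN hq hNq⟩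
    · have hnc : ¬ Commute (π ⟨q, subset_closure hq⟩) (π ⟨p, subset_closure hp⟩) :=
        fun h => hqp (hlift hq hp h)
      obtain ⟨-, h3⟩ := hcl _ ⟨_, hmem hp, rfl⟩ _ ⟨_, hmem hq, rfl⟩ hnc
      have h := two_sq_of_three CQ ⟨_, hmem hp, rfl⟩ ⟨_, hmem hq, rfl⟩ hnc (simple_core CQ) hcrit h3
        (g := ⟨π g, hgenimg p hp q hq hpU hqp g hg⟩) (k := k)
        (Subtype.ext (by show π g ^ 2 ^ k = 1; rw [← map_pow, hk, map_one]))
      exact congrArg Subtype.val h
  right
  have hbad : ∃ a ∈ zSet S, ∃ b ∈ zSet S, ¬ OddBlock.Cc (zSet S) a b := by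
    by_contra! h
    exact hconn h
  refine ⟨fun p hp q hq r hr hpq hqr => hlift hp hr
    (CQ.commute_trans hbad ⟨_, hmem hp, rfl⟩ ⟨_, hmem hq, rfl⟩ ⟨_, hmem hr, rfl⟩ (himg hp hq hpq)
      (himg hq hr hqr)), ?_⟩
  have eQ : (↥H ⧸ Cfsg.twoZCore ↥H) ⧸ Cfsg.twoZCore (↥H ⧸ Cfsg.twoZCore ↥H) ≃* ↥H ⧸ Cfsg.twoZCore ↥H :=
    (QuotientGroup.quotientMulEquivOfEq (simple_twoZ CQ)).trans QuotientGroup.quotientBot
  rcases (OddBlock.dichotomy_row hcrit CQ.root (products_nonempty CQ)).resolve_left hconn with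
    ⟨F, i1, i2, hc, -, ⟨e⟩⟩ | hsz | ⟨F, i1, i2, q0, hc, hq0, -, ⟨e⟩⟩
  · refine Or.inl fun p hp q hq hpU hqp => key p hp q hq hpU hqp fun g _ k hk => ?_
    set f := eQ.symm.trans e
    refine f.injective ?_
    rw [map_mul, map_one]
    exact PSLEven.two_sq (k := k) (by rw [← map_pow, ← map_pow, hk, map_one, map_one])
  · refine Or.inr ⟨?_, fun p hp q hq hpU hqp => ?_⟩
    · obtain ⟨K, j1, j2, m, hm, hK, ⟨e⟩⟩ := hsz
      exact ⟨K, j1, j2, m, hm, hK, ⟨eQ.symm.trans e⟩⟩
    rintro ⟨e', he', ho⟩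
    have hec := pair_twin_mem_comp C hx hxw hq hqp hpU he'
    have hnc : ¬ Commute (⟨q, subset_closure hq⟩ : ↥H) ⟨e', subset_closure hec⟩ := fun h =>
      not_commute_twins (mem_comp hx hxw hq).1 hqp he' (congrArg Subtype.val h.eq)
    have h := quot_order CH (hmem hq) (hmem hec) hnc
    rw [show orderOf ((⟨q, subset_closure hq⟩ : ↥H) * ⟨e', subset_closure hec⟩) = 3 by
      rw [← Subgroup.orderOf_coe]; exact ho] at h
    obtain ⟨K, j1, j2, m, hm, hK, ⟨e⟩⟩ := hsz
    exact SuzFive.not_three ⟨K, j1, j2, m, hm, hK, ⟨eQ.symm.trans e⟩⟩ (h ▸ orderOf_dvd_natCard _)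
  · refine Or.inl fun p hp q hq hpU hqp => key p hp q hq hpU hqp fun g hg k hk => ?_
    set f := eQ.symm.trans e
    refine f.injective ?_
    rw [map_mul, map_one]
    have hF : Nat.card F = q0 ^ 2 := by rw [Nat.card_eq_fintype_card, hq0]
    have hnc : ¬ Commute (π ⟨q, subset_closure hq⟩) (π ⟨p, subset_closure hp⟩) :=
      fun h => hqp (hlift hq hp h)
    refine UThreeFix.two_sq hF (S := f '' twins (zSet S) (π ⟨p, subset_closure hp⟩))
      (x := f (π ⟨q, subset_closure hq⟩)) ?_ ?_ ?_ ⟨_, ⟨_, mem_twins_self ⟨_, hmem hp, rfl⟩, rfl⟩, ?_⟩ ?_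
      (k := k) (by rw [← map_pow, ← map_pow, hk, map_one, map_one])
    · rintro _ ⟨s, hs, rfl⟩
      rw [← map_mul, RootInv.sq CQ.root hs.1, map_one]
    · rintro _ ⟨s, hs, rfl⟩ _ ⟨s', hs', rfl⟩
      exact (twins_commute (show π ⟨p, subset_closure hp⟩ ∈ zSet S from ⟨_, hmem hp, rfl⟩) hs hs').map f
    · rw [← map_mul, RootInv.sq CQ.root ⟨_, hmem hq, rfl⟩, map_one]
    · intro h
      have h' := h.map f.symm
      simp only [MulEquiv.symm_apply_apply] at h'
      exact hnc h'.symm
    · rw [← Set.image_singleton, ← Set.image_union]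
      exact (MonoidHom.map_closure f.toMonoidHom _).le ⟨_, hgenimg p hp q hq hpU hqp g hg, rfl⟩

end CfsgLib.OddTrans
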