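import Cfsg.Agent.RootSubgroups.OddTwin
import Cfsg.Agent.RootSubgroups.OddClassRow
import Cfsg.Agent.RootSubgroups.PSLEven

/-!
If the quotient of the block group is linear, the block group is `PSL₂(q)`, `q` the order of the root
group; the quotient is linear or Suzuki, given the criterion.
-/

set_option autoImplicit false
set_option linter.unusedSectionVars false

namespace CfsgLib.OddTrans

open Cfsg CfsgLib.RootInv CfsgLib.OddClass Subgroup

universe u

variable {G : Type u} [Group G] [Finite G] {D : Set G} {d x : G}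
  (C : OddBlock.Deg D) (hd : d ∈ D) (hx : x ∈ D) (hxd : ¬ Commute x d)
include C hd hx hxd

theorem closure_blockSet : closure (blockSet D d x) = ⊤ := by
  rw [eq_top_iff, ← closure_closure_coe_preimage (k := twins D d ∪ {x})]
  refine (closure_le _).2 fun k hk => subset_closure ?_
  rcases hk with hk | hk
  · exact twin_mem_blockSet C hd hx hxd hk
  · have : k = ⟨x, partner_mem_block⟩ := Subtype.ext hk
    exact this ▸ partner_mem_blockSet C hd hx hxd

/-- The block group is perfect. -/
theorem commutator_block : commutator ↥(blockGroup D d x) = ⊤ := by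
  obtain ⟨d1, hl, hd1, hd3⟩ := C.exists_twin hd
  rw [eq_top_iff, ← closure_blockSet C hd hx hxd, closure_le]
  set π := Abelianization.of (G := ↥(blockGroup D d x))
  set d' : ↥(blockGroup D d x) := ⟨d, twin_mem_block (mem_twins_self hd)⟩
  have hcls : ∀ a ∈ blockSet D d x, π a = π d' := fun a ⟨g, hg⟩ => by
    rw [show a = g * d' * g⁻¹ from Subtype.ext hg.symm, map_mul, map_mul, map_inv, mul_comm (π g) (π d'),
      mul_inv_cancel_right]
  have hd0 : π d' = 1 := by
    have h : π (⟨d * d1, twin_mem_block hd3⟩ : ↥(blockGroup D d x)) = π d' :=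
      hcls _ (twin_mem_blockSet C hd hx hxd hd3)
    rw [show (⟨d * d1, twin_mem_block hd3⟩ : ↥(blockGroup D d x)) = d' * ⟨d1, twin_mem_block hd1⟩ from rfl,
      map_mul, hcls ⟨d1, twin_mem_block hd1⟩ (twin_mem_blockSet C hd hx hxd hd1), mul_eq_left] at h
    exact h
  intro a ha
  rw [SetLike.mem_coe, ← Abelianization.ker_of, MonoidHom.mem_ker]
  exact (hcls a ha).trans hd0

variable (hO : Cfsg.pCore 2 G = ⊥)
include hO

/-- The linear case. -/
theorem linear_case {F : Type} [Field F] [Fintype F] [CharP F 2] (h4 : 4 ≤ Fintype.card F)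
    (e : ↥(blockGroup D d x) ⧸ Cfsg.pCore 2 ↥(blockGroup D d x) ≃*
      Matrix.ProjectiveSpecialLinearGroup (Fin 2) F) :
    Fintype.card F = Nat.card ↥(closure (twins D d)) ∧
      Nonempty (↥(blockGroup D d x) ≃* Matrix.ProjectiveSpecialLinearGroup (Fin 2) F) := by
  have : Fact (Nat.Prime 2) := ⟨Nat.prime_two⟩
  set K := blockGroup D d x
  set π := blockMap D d x
  set d' : ↥K := ⟨d, twin_mem_block (mem_twins_self hd)⟩
  have hdS : d' ∈ blockSet D d x := base_mem_blockSet C hd
  have hUK : closure (twins D d) ≤ K := closure_mono Set.subset_union_left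
  set ι : ↥(closure (twins D d)) →* ↥K := Subgroup.inclusion hUK
  set φ : ↥(closure (twins D d)) →* Matrix.ProjectiveSpecialLinearGroup (Fin 2) F :=
    e.toMonoidHom.comp (π.comp ι) with hφ
  have hinj : Function.Injective φ := (injective_iff_map_eq_one _).2 fun o ho => by
    rw [hφ, MonoidHom.comp_apply, MulEquiv.coe_toMonoidHom, map_eq_one_iff e e.injective] at ho
    exact Subtype.ext (eq_one_of_image C hd hO o.2 hx hxd (hUK o.2) ho)
  set t := e (π d')
  have htt : t * t = 1 := by rw [← map_mul, ← map_mul, blockSet_sq C hd hdS, map_one, map_one]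
  have hG := block_gen C hd hx hxd
  have ht1 : t ≠ 1 := by
    intro h
    rw [map_eq_one_iff e e.injective] at h
    exact RootInv.ne_one hG.root ⟨d', hdS, rfl⟩ h
  obtain ⟨hCq, hCinv⟩ := PSLEven.centralizer_involution htt ht1
  have hrange : φ.range = centralizer ({t} : Set _) := by
    refine le_antisymm ?_ ?_
    · rintro _ ⟨o, rfl⟩
      have hc : Commute (ι o) d' :=
        Subtype.ext (twinProd_commute C hd o.2 hd (Commute.refl d)).symm.eq
      exact mem_centralizer_singleton_iff.2 ((hc.map π).map e.toMonoidHom).eq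
    · intro y hy
      by_cases hy1 : y = 1
      · exact hy1 ▸ one_mem _
      obtain ⟨s, hs⟩ := e.surjective y
      subst hs
      -- every involution of the quotient centralising the base is in the class
      have hyc : Commute s (π d') := by
        have h := (show Commute (e s) t from mem_centralizer_singleton_iff.1 hy).map e.symm.toMonoidHom
        simpa [t] using h
      have hs2 : s * s = 1 := e.injective (by rw [map_mul, hCinv _ hy, map_one])
      have hs1 : s ≠ 1 := fun h => hy1 (by rw [h, map_one])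
      have hsD : s ∈ π '' blockSet D d x := by
        obtain ⟨d1, hl, hd1, hd3⟩ := C.exists_twin hd
        by_contra hsD
        -- otherwise it would not be conjugate to the base
        obtain ⟨g, hg⟩ := PSLEven.exists_conj_involution (F := F) htt ht1 (y := e s)
          (by rw [← map_mul, hs2, map_one]) hy1
        obtain ⟨g', rfl⟩ := e.surjective g
        obtain ⟨k, rfl⟩ := QuotientGroup.mk'_surjective _ g'
        refine hsD ⟨k * d' * k⁻¹, ⟨k, rfl⟩, ?_⟩
        apply e.injective
        rw [← hg, map_mul, map_mul, map_inv, map_mul, map_mul, map_inv]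
      obtain ⟨k, hk, rfl⟩ := hsD
      have hkd := lift_commute C hd hx hxd hk hdS hyc
      have hkt := twin_of_commute C hd hx hxd hk hkd
      exact ⟨⟨k.1, subset_closure hkt⟩, rfl⟩
  have hq : Fintype.card F = Nat.card ↥(closure (twins D d)) := by
    rw [Nat.card_congr (MonoidHom.ofInjective hinj).toEquiv, hrange, hCq]
  refine ⟨hq, ?_⟩
  -- the core meets a Sylow subgroup only trivially
  set Q := Cfsg.pCore 2 ↥K
  have hQc := core_le_center C hd hO hx hxd
  have hQn : Q.Normal := Subgroup.sSup_normal _ (fun _ h => h.1)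
  set V := Q ⊔ ι.range
  have hV2 : IsPGroup 2 V := by
    refine IsPGroup.to_sup_of_normal_left (Solvable.isPGroup_pCore 2) ?_
    rintro ⟨_, o, rfl⟩
    refine ⟨1, Subtype.ext ?_⟩
    show ι o ^ 2 ^ 1 = 1
    rw [pow_one, pow_two, ← map_mul, show o * o = 1 from Subtype.ext (twinProd_sq C hd o.2), map_one]
  have hmapV : V.map (e.toMonoidHom.comp π) = φ.range := by
    have hQ1 : Q.map (e.toMonoidHom.comp π) = ⊥ := (Subgroup.map_eq_bot_iff _).2 fun q hq => by
      rw [MonoidHom.mem_ker, MonoidHom.comp_apply,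
        show π q = 1 from (QuotientGroup.eq_one_iff q).2 hq, map_one]
    rw [Subgroup.map_sup, hQ1, bot_sup_eq, hφ, MonoidHom.map_range]
    rfl
  have hidx : ¬ 2 ∣ V.index := by
    have hsurj : Function.Surjective (e.toMonoidHom.comp π) :=
      e.surjective.comp (QuotientGroup.mk'_surjective _)
    have hker : (e.toMonoidHom.comp π).ker ≤ V := fun k hk => by
      rw [MonoidHom.mem_ker, MonoidHom.comp_apply, MulEquiv.coe_toMonoidHom,
        map_eq_one_iff e e.injective] at hk
      exact le_sup_left (a := Q) ((QuotientGroup.eq_one_iff k).1 hk)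
    rw [← Subgroup.index_map_eq V hsurj hker, hmapV, hrange]
    have hmul := Subgroup.card_mul_index (centralizer ({t} : Set (Matrix.ProjectiveSpecialLinearGroup (Fin 2) F)))
    rw [hCq] at hmul
    have hP := CfsgLib.Linear.Small.card_psl_two (F := F) rfl
    obtain ⟨n, -, hn⟩ := FiniteField.card F 2
    have heven : 2 ∣ Fintype.card F := hn ▸ dvd_pow_self 2 n.ne_zero
    set q := Fintype.card F
    set i := (centralizer ({t} : Set (Matrix.ProjectiveSpecialLinearGroup (Fin 2) F))).index
    rw [← hmul] at hP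
    have hg : Nat.gcd 2 (q - 1) = 1 := by
      rcases (Nat.dvd_prime Nat.prime_two).1 (Nat.gcd_dvd_left 2 (q - 1)) with h | h
      · exact h
      · have := Nat.gcd_dvd_right 2 (q - 1); rw [h] at this; omega
    rw [hg, one_mul] at hP
    intro hi
    obtain ⟨r, hr⟩ := hi
    obtain ⟨p, hp⟩ : ∃ p, q = p + 2 := ⟨q - 2, by omega⟩
    have e1 : (q ^ 2 - 1) * (q ^ 2 - q) = ((q - 1) * q) * ((q - 1) * (q + 1)) := by
      rw [show q ^ 2 - q = (q - 1) * q by rw [pow_two, Nat.sub_mul, one_mul],
        show q ^ 2 - 1 = (q - 1) * (q + 1) by rw [mul_comm, ← Nat.sq_sub_sq, one_pow]]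
      ring
    have e2 : (q - 1) * (q * i) = ((q - 1) * q) * i := by ring
    rw [e1, e2] at hP
    have h3 := Nat.eq_of_mul_eq_mul_left (Nat.mul_pos (by omega) (by omega)) hP
    rw [hr, hp, show p + 2 - 1 = p + 1 by omega, show (p + 1) * (p + 2 + 1) = p * p + 4 * p + 3 by ring] at h3
    obtain ⟨p', rfl⟩ : 2 ∣ p := by omega
    rw [show 2 * p' * (2 * p') + 4 * (2 * p') + 3 = 2 * (2 * p' * p' + 4 * p' + 1) + 1 by ring] at h3
    omega
  obtain ⟨P, hPV⟩ : ∃ P : Sylow 2 ↥K, (P : Subgroup ↥K) = V :=
    ⟨hV2.toSylow hidx, IsPGroup.toSylow_coe hV2 hidx⟩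
  have hab : IsMulCommutative (P : Subgroup ↥K) := by
    rw [hPV]
    have hle : V ≤ centralizer (V : Set ↥K) := by
      refine sup_le (fun q hq => mem_centralizer_iff.2 fun a _ => mem_center_iff.1 (hQc hq) a) ?_
      rintro _ ⟨o, rfl⟩
      refine mem_centralizer_iff.2 fun a ha => ?_
      obtain ⟨q, hq, _, ⟨o', rfl⟩, rfl⟩ := Subgroup.mem_sup_of_normal_left.1 ha
      have h1 : Commute (ι o) q := mem_center_iff.1 (hQc hq) (ι o)
      have h2 : Commute (ι o) (ι o') :=
        (show Commute o o' from Subtype.ext (twinProd_comm C hd o.2 o'.2).eq).map ι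
      exact (h1.mul_right h2).symm.eq
    exact ⟨⟨fun a b => Subtype.ext (mem_centralizer_iff.1 (hle b.2) a a.2)⟩⟩
  have hQbot : Q = ⊥ := by
    have h := TransferBasic.inf_center_inf_commutator_eq_bot (P := P) hab
    rw [commutator_block C hd hx hxd, hPV, inf_top_eq] at h
    rw [eq_bot_iff, ← h]
    exact le_inf le_sup_left hQc
  exact ⟨((QuotientGroup.quotientMulEquivOfEq hQbot).trans QuotientGroup.quotientBot).symm.trans e⟩

/-- The quotient is linear or Suzuki. -/
theorem block_kinds (hcrit : RootBlock.Criterion.{u}) :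
    (∃ (F : Type) (_ : Field F) (_ : Fintype F), Fintype.card F = Nat.card ↥(closure (twins D d)) ∧
      Nonempty (↥(blockGroup D d x) ≃* Matrix.ProjectiveSpecialLinearGroup (Fin 2) F)) ∨
    Cfsg.Lie.IsoSuzuki (↥(blockGroup D d x) ⧸ Cfsg.pCore 2 ↥(blockGroup D d x)) := by
  rcases (block_gen C hd hx hxd).kinds hcrit with ⟨F, i1, i2, hc, h4, ⟨e⟩⟩ | h | ⟨n, ⟨e⟩⟩
  · obtain ⟨hq, hiso⟩ := linear_case C hd hx hxd hO h4 e
    exact Or.inl ⟨F, i1, i2, hq, hiso⟩
  · exact Or.inr h
  · exfalso
    set K := blockGroup D d x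
    set f : ↥K →* DihedralGroup n := e.toMonoidHom.comp (blockMap D d x)
    have hsurj : Function.Surjective f := e.surjective.comp (QuotientGroup.mk'_surjective _)
    let χ : DihedralGroup n →* Multiplicative (ZMod 2) :=
      { toFun := fun g => match g with
          | DihedralGroup.r _ => 1
          | DihedralGroup.sr _ => Multiplicative.ofAdd 1
        map_one' := rfl
        map_mul' := by
          rintro (i | i) (j | j)
          · simp [DihedralGroup.r_mul_r]
          · simp [DihedralGroup.r_mul_sr]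
          · simp [DihedralGroup.sr_mul_r]
          · simp [DihedralGroup.sr_mul_sr, ← ofAdd_add]; rfl }
    obtain ⟨k, hk⟩ := hsurj (DihedralGroup.sr 0)
    have h1 : k ∈ (χ.comp f).ker := Abelianization.commutator_subset_ker (χ.comp f)
      (by rw [commutator_block C hd hx hxd]; exact mem_top k)
    rw [MonoidHom.mem_ker, MonoidHom.comp_apply, hk] at h1
    have h2 : (Multiplicative.ofAdd (1 : ZMod 2)) = 1 := h1
    exact absurd h2 (by decide)

end CfsgLib.OddTrans
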