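import Cfsg.Agent.RootSubgroups.OddFinal
import Cfsg.Agent.RootSubgroups.OddLinear

/-!
The rows on odd transpositions with connected commuting graph, given the criterion.
-/

set_option autoImplicit false
set_option linter.unusedSectionVars false

namespace CfsgLib.OddTrans

open Cfsg CfsgLib.RootInv CfsgLib.OddClass Subgroup

universe u

variable {G : Type u} [Group G] [Finite G] {D : Set G} (hcrit : RootBlock.Criterion.{u})
  (hD : IsOddTranspositionSet D) (hcl : IsRootInvolutionClass D)
  (hc : IsConnectedSet (CommAdj D) D) (hDD : (D ∩ Cfsg.commutingProducts D).Nonempty)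
include hcrit hD hcl hc hDD

omit hcrit hc in
theorem deg_of_rows : OddBlock.Deg D := by
  obtain ⟨x, hx, u, hu, v, hv, huv, -, rfl⟩ := hDD
  exact ⟨hD.1, hD.2, hcl.2.2, u, v, hu, hv, huv, hx⟩

theorem claim_quotient : Claim (zSet D) := by
  have C := deg_of_rows hD hcl hDD
  have := quot_simple C
  refine claim_of_connected hcrit (quot_deg C) ?_
  rintro _ ⟨p, hp, rfl⟩ _ ⟨q, hq, rfl⟩
  have key : ∀ r, Relation.ReflTransGen (CommAdj D) p r →
      Relation.ReflTransGen (CommAdj (zSet D)) (zMap G p) (zMap G r) := by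
    intro r hr
    induction hr with
    | refl => exact .refl
    | @tail r t _ hrt ih =>
      by_cases e : zMap G r = zMap G t
      · rwa [← e]
      · exact ih.tail ⟨⟨r, hrt.1, rfl⟩, ⟨t, hrt.2.1, rfl⟩, e,
          ((show Commute r t from hrt.2.2.2).map (zMap G)).eq⟩
  exact key q (hc p hp q hq)

/-- A common commuting member of an odd pair. -/
theorem nonempty_row {d x : G} (hd : d ∈ D) (hx : x ∈ Cfsg.oddPartners D d) :
    ∃ e ∈ D, e * d = d * e ∧ e * x = x * e := by
  have C := deg_of_rows hD hcl hDD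
  obtain ⟨hxD, hne, hodd⟩ := hx
  have hnc : ¬ Commute x d := fun h => not_commute_of_odd hD.1 hd hxD (Ne.symm hne) hodd h.symm
  obtain ⟨⟨_, ⟨e, he, rfl⟩, h1, h2⟩, -⟩ := claim_quotient hcrit hD hcl hc hDD _ ⟨d, hd, rfl⟩ _ ⟨x, hxD, rfl⟩
    fun h => hnc (quot_commute C hxD hd h)
  exact ⟨e, he, (quot_commute C he hd h1).eq, (quot_commute C he hxD h2).eq⟩

/-- The root group and the group with an odd partner. -/
theorem root_group_row (hO : Cfsg.pCore 2 G = ⊥) (hZ : Subgroup.center G = ⊥) {d : G} (hd : d ∈ D) :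
    (Cfsg.sameCommutingSubgroup D d : Set G) = Cfsg.sameCommutingClass D d ∪ {1} ∧
    ∀ x ∈ Cfsg.oddPartners D d, ∃ (F : Type) (_ : Field F) (_ : Fintype F),
      Fintype.card F = Nat.card ↥(Cfsg.sameCommutingSubgroup D d) ∧
      Nonempty (↥(Subgroup.closure (Cfsg.sameCommutingClass D d ∪ {x})) ≃* Matrix.ProjectiveSpecialLinearGroup (Fin 2) F) := by
  have C := deg_of_rows hD hcl hDD
  have h := closure_twins C hd hO
  have hsub : Cfsg.sameCommutingSubgroup D d = closure (twins D d) := by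
    rw [twins_eq]
    rfl
  refine ⟨by rw [hsub, h, twins_eq], fun x hx => ?_⟩
  obtain ⟨hxD, hne, hodd⟩ := hx
  have hnc : ¬ Commute x d := fun h => not_commute_of_odd hD.1 hd hxD (Ne.symm hne) hodd h.symm
  have hbot : Cfsg.twoZCore G = ⊥ := by
    rw [eq_bot_iff]
    intro g hg
    rw [← hZ, mem_center_iff]
    intro a
    have h1 := mem_center_iff.1 (mem_comap.1 hg) (QuotientGroup.mk' (Cfsg.pCore 2 G) a)
    rw [← map_mul, ← map_mul] at h1
    simp only [QuotientGroup.mk'_apply, QuotientGroup.eq, hO, mem_bot] at h1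
    rwa [inv_mul_eq_one] at h1
  let e : G ⧸ Cfsg.twoZCore G ≃* G := (QuotientGroup.quotientMulEquivOfEq hbot).trans QuotientGroup.quotientBot
  have := quot_simple C
  have : Nontrivial G := e.symm.toEquiv.nontrivial
  have : IsSimpleGroup G := IsSimpleGroup.isSimpleGroup_of_surjective e.toMonoidHom e.surjective
  obtain ⟨-, h3⟩ := claim_of_connected hcrit C hc d hd x hxD hnc
  rcases block_kinds C hd hxD hnc hO hcrit with ⟨F, i1, i2, hq, ⟨f⟩⟩ | hS
  · refine ⟨F, i1, i2, by rw [hq, hsub], ⟨?_⟩⟩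
    exact (MulEquiv.subgroupCongr (by rw [← twins_eq])).trans f
  · exact absurd h3 (not_three C hd hxD hnc hS)

end CfsgLib.OddTrans
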