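import Cfsg.Agent.RootSubgroups.OddModule

/-!
No simple group has all pairs of the Suzuki kind: a two-element of the block centralising the first line
would act on the module with trivial square.  Hence every odd pair has a common neighbour and a product
of order three with a twin.
-/

set_option autoImplicit false
set_option linter.unusedSectionVars false
set_option linter.style.haveILetI false

namespace CfsgLib.OddTrans

open Cfsg CfsgLib.RootInv CfsgLib.OddClass Subgroup

universe u

variable {G : Type u} [Group G] [Finite G] {D : Set G}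

/-- Elements commuting with generators commute with the generated group. -/
theorem commute_closure {S : Set G} {g : G} (h : ∀ s ∈ S, Commute g s) {w : G} (hw : w ∈ closure S) :
    Commute g w :=
  (mem_centralizer_singleton_iff.1 ((closure_le (centralizer ({g} : Set G))).2
    (fun s hs => mem_centralizer_singleton_iff.2 (h s hs).symm.eq) hw) : Commute w g).symm

namespace TwoLines

variable {N d x a : G} (T : TwoLines D N d x a)
include T

theorem module_two : letI := T.both_normal; IsPGroup 2 T.Module' := by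
  letI := T.both_normal
  intro q
  exact ⟨1, by rw [pow_one, pow_two]; exact T.module_sq q⟩

/-- A two-element centralising the root groups of two points of a line and a point off it fixes the
line. -/
theorem fix_line {g : G} {k : ℕ} (hk : g ^ 2 ^ k = 1) (hgR : ∀ e ∈ twins D N, Commute g e)
    (hgU : ∀ e ∈ twins D d, Commute g e) (hgx : Commute g x) {b : G} (hb : b ∈ line D N d) :
    Commute g b := by
  letI := T.both_normal
  have := T.all.simple
  have C := T.deg
  have hD := C.root
  obtain ⟨ρ, hρ⟩ := T.exists_action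
  obtain ⟨f, -, hf⟩ := T.module_setting
  obtain ⟨r, hr, h, hr2, hcard, hprim, hpow, hne⟩ := hf ρ hρ
  have hgs : g ∈ T.stab := T.mem_stab_of_fix hgR (hgU d (mem_twins_self T.hd)) hgx
  set g' : ↥T.stab := ⟨g, hgs⟩
  set h' : ↥T.stab := Subgroup.inclusion T.block_stab h
  have hgh : Commute g' h' := Subtype.ext (commute_closure (S := twins D d ∪ {x}) (g := g) (by
    rintro s (hs | hs)
    · exact hgU s hs
    · rw [Set.mem_singleton_iff.1 hs]; exact hgx) h.2).eq
  have hone : ρ g' = 1 := by
    have hS : IsPGroup 2 (zpowers (ρ g')) := by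
      rintro ⟨_, i, rfl⟩
      refine ⟨k, Subtype.ext ?_⟩
      show (ρ g' ^ i) ^ 2 ^ k = 1
      rw [← zpow_natCast, ← zpow_mul, mul_comm, zpow_mul, zpow_natCast, ← map_pow,
        show g' ^ 2 ^ k = 1 from Subtype.ext hk, map_one, one_zpow]
    refine FixedFree.two_group_trivial hr2 T.module_two hcard hprim hpow hne hS ?_ (mem_zpowers _)
    intro e he
    obtain ⟨i, rfl⟩ := he
    have hc : Commute ((ρ g') ^ i) (ρ h') := (hgh.map ρ).zpow_left i
    rw [mul_assoc, hc.eq, inv_mul_cancel_left]
    exact ⟨i, rfl⟩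
  by_cases hbN : Same D b N
  · exact hgR b ⟨hb.1, hbN⟩
  obtain ⟨c, hc, hs⟩ := T.exists_translation hb hbN
  obtain ⟨a', T'⟩ := T.swap
  have hc2 := T.snd_sq hc
  have hci := T.snd_inv hc
  set e := c * b * c
  have he : e ∈ twins D d := by
    refine ⟨?_, ?_⟩
    · have := hD.conj_mem b hb.1 c
      rwa [hci] at this
    · have h1 := hs.symm.conj hD c
      rw [hci, show c * (c * d * c) * c = (c * c) * d * (c * c) by group, hc2, one_mul, mul_one] at h1
      exact h1
  have hmem : g * c * g⁻¹ ∈ T.both := T.snd_le_both (T'.conj_fst_of_fix (hgR N (mem_twins_self T.hN)) hgx hc)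
  have h1 := hρ g' ⟨c, T.snd_le_both hc⟩ hmem
  rw [hone, MulAut.one_apply, QuotientGroup.eq] at h1
  set o := c⁻¹ * (g * c * g⁻¹) with hodef
  have ho : o ∈ closure (twins D N) := h1
  have hgc : g * c * g⁻¹ = c * o := by rw [hodef]; group
  have heo : Commute e o := T.root_commute ho he.1 ((T.twins_d_line he).2.1)
  have hbe : b = c * e * c := by
    simp only [e]
    rw [show c * (c * b * c) * c = (c * c) * b * (c * c) by group, hc2, one_mul, mul_one]
  have hgb : g * b * g⁻¹ = b := by
    have h2 : g * c * g⁻¹ * (g * c * g⁻¹) = 1 := by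
      rw [show g * c * g⁻¹ * (g * c * g⁻¹) = g * (c * c) * g⁻¹ by group, hc2, mul_one, mul_inv_cancel]
    calc g * b * g⁻¹ = g * c * g⁻¹ * (g * e * g⁻¹) * (g * c * g⁻¹) := by rw [hbe]; group
      _ = c * (o * e) * (c * o) := by
        rw [show g * e * g⁻¹ = e by rw [(hgU e he).eq, mul_inv_cancel_right], hgc]; group
      _ = c * e * (o * (c * o)) := by rw [← heo.eq]; group
      _ = c * e * c := by
        rw [(T.snd_root_comm ho hc).eq, ← mul_assoc o o c, twinProd_sq C T.hN ho, one_mul]
      _ = b := hbe.symm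
  exact mul_inv_eq_iff_eq_mul.1 hgb

/-- The configuration is impossible. -/
theorem absurd_config {N' : G} (hN' : N' ∈ D) (hN'd : Commute N' d) (hN'x : Commute N' x)
    (hN'a : ¬ Commute N' a) : False := by
  letI := T.both_normal
  have := T.all.simple
  have : Fact (Nat.Prime 2) := ⟨Nat.prime_two⟩
  have C := T.deg
  have hD := C.root
  have hO := simple_core C
  have hN'N : ¬ Commute N' N := fun hc =>
    hN'a (((T.all.same_of_common T.hd T.hx T.xd T.hN hN' T.dN.symm T.xN.symm hN'd hN'x hc a T.ha).2 T.aN).symm)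
  have T2 : TwoLines D d N N' a :=
    ⟨T.all, T.hd, T.hN, hN', T.ha, T.dN.symm, hN'd, T.ad, T.aN, hN'N, T.nad, T.naN⟩
  have hS : SzKind D d x := (three_or_suzuki C T.hd T.hx T.xd hO T.all.crit).resolve_left
    (T.all.noThree d T.hd x T.hx T.xd)
  obtain ⟨g, ⟨k, hk⟩, -, hgU, u, hu, hgu⟩ := exists_root C T.hd T.hx T.xd hO hS
  have hgK : ∀ e ∈ twins D N, Commute g.1 e := fun e he => (commute_closure (S := twins D d ∪ {x}) (g := e) (by
    rintro s (hs | hs)
    · exact T.group_comm (T.mem_group (T.twins_N_line he)) (T.mem_group (T.twins_d_line hs))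
    · rw [Set.mem_singleton_iff.1 hs]
      exact (commute_twins T.hx T.xN he).symm) g.2).symm
  have hgN' : Commute g.1 N' := (commute_closure (S := twins D d ∪ {x}) (g := N') (by
    rintro s (hs | hs)
    · exact commute_twins hN' hN'd hs
    · rw [Set.mem_singleton_iff.1 hs]; exact hN'x) g.2).symm
  -- the element fixes the first line
  have hline : ∀ b ∈ line D N d, Commute g.1 b := fun b hb =>
    T2.fix_line (k := k) (congrArg Subtype.val hk) hgU hgK hgN' ⟨hb.1, hb.2.2, hb.2.1⟩
  have hW : ∀ w ∈ lineGroup D N d, Commute g.1 w := fun w hw => commute_closure hline hw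
  obtain ⟨ρ, hρ⟩ := T.exists_action
  obtain ⟨f, -, hf⟩ := T.module_setting
  obtain ⟨r, hr, h0, hr2, hcard, hprim, hpow, hne⟩ := hf ρ hρ
  set φ : ↥(blockGroup D d x) →* MulAut T.Module' := ρ.comp (Subgroup.inclusion T.block_stab)
  have hQ : ∀ q ∈ Cfsg.pCore 2 ↥(blockGroup D d x), φ q = 1 := by
    intro q hq
    have hn : (Cfsg.pCore 2 ↥(blockGroup D d x)).Normal := Subgroup.sSup_normal _ (fun _ h => h.1)
    refine FixedFree.two_group_trivial hr2 T.module_two hcard hprim hpow hne
      ((Solvable.isPGroup_pCore 2).map φ) ?_ (mem_map_of_mem φ hq)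
    rintro _ ⟨q', hq', rfl⟩
    refine ⟨h0⁻¹ * q' * h0, ?_, by rw [map_mul, map_mul, map_inv]; rfl⟩
    have := hn.conj_mem q' hq' h0⁻¹
    rwa [inv_inv] at this
  -- the square acts trivially
  have hgg : φ (g * g) = 1 := by
    refine MulEquiv.ext fun v => ?_
    obtain ⟨⟨m, α, hα, β, hβ, rfl⟩, rfl⟩ := QuotientGroup.mk_surjective v
    rw [map_mul, MulAut.mul_apply, MulAut.one_apply]
    set g' := Subgroup.inclusion T.block_stab g
    have hmem : ∀ w ∈ T.both, g.1 * w * g.1⁻¹ ∈ T.both := fun w hw =>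
      (Subgroup.mem_normalizer_iff.1 g'.2.1 w).1 hw
    have hfixA : ∀ (w : G) (hw : w ∈ T.kerFst),
        φ g (QuotientGroup.mk ⟨w, T.fst_le_both hw⟩) = QuotientGroup.mk ⟨w, T.fst_le_both hw⟩ := fun w hw => by
      rw [show φ g = ρ g' from rfl, hρ g' ⟨w, T.fst_le_both hw⟩ (hmem w (T.fst_le_both hw))]
      congr 1
      exact Subtype.ext (by
        show g.1 * w * g.1⁻¹ = w
        rw [(hW w hw.1).eq, mul_inv_cancel_right])
    have hfixB : ∃ α0, ∃ hα0 : α0 ∈ T.kerFst, φ g (QuotientGroup.mk ⟨β, T.snd_le_both hβ⟩) =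
        QuotientGroup.mk ⟨α0, T.fst_le_both hα0⟩ * QuotientGroup.mk ⟨β, T.snd_le_both hβ⟩ := by
      obtain ⟨α0, hα0, β0, hβ0, e⟩ := hmem β (T.snd_le_both hβ)
      have hδ := T.delta_mem T.d_line hβ
      have hgd : Commute g.1 d := hgU d (mem_twins_self T.hd)
      have e1 : delta d (g.1 * β * g.1⁻¹) = delta d β := by
        have h1 : g.1 * delta d β * g.1⁻¹ = delta d β := by rw [(hW _ hδ.1).eq, mul_inv_cancel_right]
        calc delta d (g.1 * β * g.1⁻¹) =
            g.1 * β * g.1⁻¹ * (g.1 * d * g.1⁻¹) * (g.1 * β * g.1⁻¹) * (g.1 * d * g.1⁻¹) := by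
              rw [show g.1 * d * g.1⁻¹ = d by rw [hgd.eq, mul_inv_cancel_right]]
          _ = g.1 * delta d β * g.1⁻¹ := by simp only [delta]; group
          _ = delta d β := h1
      have e2 : delta d (α0 * β0) = delta d β0 := by
        have hδ0 := T.delta_mem T.d_line hβ0
        have hc : Commute α0 (β0 * d * β0) := by
          refine T.group_comm hα0.1 ?_
          have := T.ker_normalize hβ0.2 (T.mem_group T.d_line)
          rwa [T.snd_inv hβ0] at this
        have hsq : (g.1 * β * g.1⁻¹) * (g.1 * β * g.1⁻¹) = 1 := by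
          rw [show g.1 * β * g.1⁻¹ * (g.1 * β * g.1⁻¹) = g.1 * (β * β) * g.1⁻¹ by group, T.snd_sq hβ,
            mul_one, mul_inv_cancel]
        rw [e] at hsq
        have hinv : α0 * β0 = β0 * α0 := by
          have h3 := inv_eq_of_mul_eq_one_right hsq
          rw [_root_.mul_inv_rev, T.snd_inv hβ0, T.group_inv hα0.1] at h3
          exact h3.symm
        calc delta d (α0 * β0) = α0 * β0 * d * (β0 * α0) * d := by
              simp only [delta]; nth_rw 2 [hinv]
          _ = α0 * (β0 * d * β0) * α0 * d := by group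
          _ = β0 * d * β0 * (α0 * α0) * d := by rw [hc.eq]; group
          _ = delta d β0 := by rw [T.group_sq hα0.1, mul_one]
      rw [e, e2] at e1
      have hδ0 := T.delta_mem T.d_line hβ0
      have hroot : β0 * β ∈ closure (twins D N) := by
        refine T.mem_roots_of_delta T.d_line T.ndN (mul_mem hβ0 hβ) ?_
        rw [T.delta_mul T.d_line hβ0 hβ, e1, T.group_sq hδ.1, one_mul]
        exact T.commutator_mem_roots hδ hβ0
      refine ⟨α0, hα0, ?_⟩
      rw [show φ g = ρ g' from rfl, hρ g' ⟨β, T.snd_le_both hβ⟩ (hmem β (T.snd_le_both hβ)),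
        ← QuotientGroup.mk_mul, QuotientGroup.eq, mem_subgroupOf]
      show (g.1 * β * g.1⁻¹)⁻¹ * (α0 * β) ∈ closure (twins D N)
      rw [e, _root_.mul_inv_rev, T.snd_inv hβ0, show β0 * α0⁻¹ * (α0 * β) = β0 * β by group]
      exact hroot
    obtain ⟨α0, hα0, hB⟩ := hfixB
    rw [show (QuotientGroup.mk ⟨α * β, α, hα, β, hβ, rfl⟩ : T.Module') =
      QuotientGroup.mk ⟨α, T.fst_le_both hα⟩ * QuotientGroup.mk ⟨β, T.snd_le_both hβ⟩ from rfl]
    simp only [map_mul, hfixA α hα, hB, hfixA α0 hα0]
    rw [← mul_assoc (QuotientGroup.mk (⟨α0, T.fst_le_both hα0⟩ : ↥T.both)), T.module_sq, one_mul]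
  set u' : ↥(blockGroup D d x) := ⟨u, twin_mem_block hu⟩
  have hu' : φ u' = 1 := by
    have hmemQ : u'⁻¹ * (g * g) ∈ Cfsg.pCore 2 ↥(blockGroup D d x) := (QuotientGroup.eq_one_iff _).1 (by
      show blockMap D d x (u'⁻¹ * (g * g)) = 1
      rw [map_mul, map_inv, hgu, inv_mul_cancel])
    have h1 := hQ _ hmemQ
    rw [map_mul, map_inv, hgg, mul_one, inv_eq_one] at h1
    exact h1
  obtain ⟨β, hβ, hβR⟩ := T.exists_not_root
  have huL := T.twins_d_line hu
  have hnu : ¬ Same D u N := fun h => T.ndN (hu.2.symm.trans h)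
  have hmem : u * β * u⁻¹ ∈ T.both :=
    (Subgroup.mem_normalizer_iff.1 (T.block_stab (twin_mem_block hu)).1 β).1 (T.snd_le_both hβ)
  have h1 := hρ (Subgroup.inclusion T.block_stab u') ⟨β, T.snd_le_both hβ⟩ hmem
  rw [show ρ (Subgroup.inclusion T.block_stab u') = 1 from hu', MulAut.one_apply, QuotientGroup.eq] at h1
  have h2 : β⁻¹ * (u * β * u⁻¹) ∈ closure (twins D N) := h1
  refine hβR (T.mem_roots_of_delta huL hnu hβ ?_)
  rw [RootInv.inv hD hu.1, T.snd_inv hβ] at h2
  simpa [delta, mul_assoc] using h2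

end TwoLines

/-- Every odd pair has a common neighbour and a product of order three with a twin. -/
theorem claim_of_connected (hcrit : RootBlock.Criterion.{u}) {G : Type u} [Group G] [Finite G]
    [hG : IsSimpleGroup G] {D : Set G} (C : OddBlock.Deg D) (hconn : IsConnectedSet (CommAdj D) D) :
    Claim D := by
  obtain ⟨n, hn⟩ : ∃ n, Nat.card G = n := ⟨_, rfl⟩
  induction n using Nat.strong_induction_on generalizing G with
  | _ n ih =>
    subst hn
    have IH : ClaimBelow.{u} (Nat.card G) := fun H _ _ hlt hH S CS hS => @ih _ hlt H _ _ hH S CS hS rfl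
    have hgood := fun {d x : G} (hd : d ∈ D) (hx : x ∈ D) (h : ¬ Commute x d) =>
      exists_common C hcrit IH hconn hd hx h
    by_cases hex : ∃ d ∈ D, ∃ x ∈ D, ¬ Commute x d ∧ Three D d x
    · obtain ⟨d, hd, x, hx, hxd, h3⟩ := hex
      exact fun p hp q hq hqp => ⟨hgood hp hq hqp, three_all C hcrit IH hconn hd hx hxd h3 hp hq hqp⟩
    exfalso
    have A : AllSz D := ⟨C, hG, hcrit, IH, hconn, fun d hd x hx hxd h3 => hex ⟨d, hd, x, hx, hxd, h3⟩⟩
    obtain ⟨a0, p0, hl⟩ := C.line
    obtain ⟨x0, hx0, hxd0⟩ := every_partner C hl.mem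
    obtain ⟨a, ha, x, hx, had, hns, hxd, hxa⟩ := A.exists_third hl.mem hx0 hxd0
    obtain ⟨N, hN, hNd, hNx, hNa⟩ := A.exists_on_line hl.mem ha had hns hx hxd hxa
    obtain ⟨N', hN', hN'd, hN'x, hN'a⟩ := A.exists_off_line hl.mem ha had hns hx hxd hxa
    have T : TwoLines D N a0 x a := ⟨A, hN, hl.mem, hx, ha, hNd.symm, hNx.symm, hNa.symm, had, hxd,
      fun h => hxa (((h x hx).2 hNx.symm)), hns⟩
    exact T.absurd_config hN' hN'd hN'x hN'a

end CfsgLib.OddTrans
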