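import Cfsg.Agent.RootSubgroups.OddGood

/-!
The case without products of order three: the members commuting with a point form one component, two
commuting points have a clique of common neighbours, and an involution centralising a partner and two
collinear classes is a root element of their common neighbour.
-/

set_option autoImplicit false
set_option linter.unusedSectionVars false

namespace CfsgLib.OddTrans

open Cfsg CfsgLib.RootInv CfsgLib.OddClass Subgroup

universe u

variable {G : Type u} [Group G] [Finite G] {D : Set G}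

/-- The setting without products of order three. -/
structure AllSz (D : Set G) : Prop where
  deg : OddBlock.Deg D
  simple : IsSimpleGroup G
  crit : RootBlock.Criterion.{u}
  below : ClaimBelow.{u} (Nat.card G)
  conn : IsConnectedSet (CommAdj D) D
  noThree : ∀ d ∈ D, ∀ x ∈ D, ¬ Commute x d → ¬ Three D d x

omit [Finite G] in
theorem comp_symm {w x s : G} (hx : x ∈ D) (hxw : Commute x w) (hs : s ∈ comp D w x) :
    x ∈ comp D w s := by
  induction hs with
  | refl => exact self_mem_comp
  | @tail b c hb hbc ih =>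
    obtain ⟨hbD, hbw⟩ := mem_comp hx hxw hb
    exact Relation.ReflTransGen.head ⟨hbD, hbw, fun h => hbc.2.2 h.symm⟩ ih

namespace AllSz

variable (A : AllSz D)
include A

theorem trans_suzuki {w x d : G} (hw : w ≠ 1) (hx : x ∈ D) (hxw : Commute x w) (hd : d ∈ D)
    (hxd : ¬ Commute x d) (hU : ∀ e ∈ twins D d, Commute e w) :
    CompTrans D w x ∧ Cfsg.Lie.IsoSuzuki (↥(compGroup D w x) ⧸ Cfsg.twoZCore ↥(compGroup D w x)) := by
  have := A.simple
  have hdc := twin_mem_comp A.deg hx hxw hd hxd hU (mem_twins_self hd)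
  have hn := A.noThree d hd x hx hxd
  rcases comp_kinds A.deg hx hxw hd hxd hU hw A.crit A.below with ⟨-, h⟩ | ⟨ht, h | ⟨hs, -⟩⟩
  · exact absurd (h d hdc x self_mem_comp hU hxd) hn
  · exact absurd (h d hdc x self_mem_comp hU hxd) hn
  · exact ⟨ht, hs⟩

theorem trans_at {p x d : G} (hp : p ∈ D) (hx : x ∈ D) (hxp : Commute x p) (hd : d ∈ D)
    (hdp : Commute d p) (hxd : ¬ Commute x d) : CompTrans D p x :=
  (A.trans_suzuki (RootInv.ne_one A.deg.root hp) hx hxp hd hxd
    fun _ he => (commute_twins hp hdp.symm he).symm).1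

theorem exists_local_partner {p a : G} (hp : p ∈ D) (ha : a ∈ D) (hns : ¬ Same D a p) :
    ∃ f ∈ D, Commute f p ∧ ¬ Commute f a := by
  by_contra! h
  exact hns (A.deg.same_of_subset hp ha h).symm

/-- A point with two components: members further off commute with the second component. -/
theorem commute_other {p a x q : G} (hp : p ∈ D) (ha : a ∈ D) (hap : Commute a p) (hnsa : ¬ Same D a p)
    (hx : x ∈ D) (hxp : Commute x p) (hno : a ∉ comp D p x) (hq : q ∈ D) (hqx : Commute q x)
    (hqp : ¬ Commute q p) : Commute a q := by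
  by_contra haq
  obtain ⟨f, hf, hfp, hfa⟩ := A.exists_local_partner hp ha hnsa
  have hax : Commute a x := by
    by_contra h
    exact hno (comp_step self_mem_comp ha hap fun h' => h h'.symm)
  have hfx : Commute f x := by
    by_contra h
    exact hno (comp_step (comp_step self_mem_comp hf hfp fun h' => h h'.symm) ha hap hfa)
  have hpc : p ∈ comp D x q := comp_step self_mem_comp hp hxp.symm hqp
  have hac : a ∈ comp D x q := comp_step self_mem_comp ha hax fun h => haq h.symm
  have hfc : f ∈ comp D x q := comp_step hac hf hfx fun h => hfa h.symm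
  exact hfa (A.trans_at hx hq hqx hp hxp.symm hqp f hfc p hpc a hac hfp hap.symm)

/-- The nontwins commuting with a point form one component. -/
theorem one_comp {p a x : G} (hp : p ∈ D) (ha : a ∈ D) (hap : Commute a p) (hnsa : ¬ Same D a p)
    (hx : x ∈ D) (hxp : Commute x p) (hnsx : ¬ Same D x p) : a ∈ comp D p x := by
  by_contra hno
  have C := A.deg
  have hD := C.root
  let S : Set G := {s | s ∈ D ∧ Commute s p ∧ ¬ Same D s p}
  let Z : Set G := {q | q ∈ D ∧ ∀ s ∈ D, (Commute s q ∧ ¬ Same D s q) ↔ s ∈ S}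
  have hno' : x ∉ comp D p a := fun h => hno (comp_symm ha hap h)
  -- a member commuting with a point of `S` and not with `p` lies in `Z`
  have key : ∀ r r' : G, r ∈ S → r' ∈ S → r' ∉ comp D p r → ∀ q ∈ D, Commute q r → ¬ Commute q p →
      q ∈ Z := by
    intro r r' hr hr' hrr q hq hqr hqp
    have hr'q := A.commute_other hp hr'.1 hr'.2.1 hr'.2.2 hr.1 hr.2.1 hrr hq hqr hqp
    have hsub : ∀ s ∈ S, Commute s q := by
      intro s hs
      by_cases h : s ∈ comp D p r
      · refine A.commute_other hp hs.1 hs.2.1 hs.2.2 hr'.1 hr'.2.1 (fun h' => hrr ?_) hq hr'q.symm hqp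
        exact Relation.ReflTransGen.trans h (comp_symm hr'.1 hr'.2.1 h')
      · exact A.commute_other hp hs.1 hs.2.1 hs.2.2 hr.1 hr.2.1 h hq hqr hqp
    have hnsq : ∀ s ∈ S, ¬ Same D s q := fun s hs h => hqp (((h p hp).1 hs.2.1.symm).symm)
    obtain ⟨g, hg⟩ := C.cls p hp q hq
    have himg : {s | s ∈ D ∧ Commute s q ∧ ¬ Same D s q} = MulAut.conj g '' S := by
      ext s
      constructor
      · rintro ⟨hs, hsq, hns⟩
        refine ⟨g⁻¹ * s * g, ⟨?_, ?_, fun h => hns ?_⟩, by simp [mul_assoc]⟩
        · simpa using hD.conj_mem s hs g⁻¹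
        · have h := (Commute.conj_iff g⁻¹).2 (hg ▸ hsq)
          simpa [mul_assoc] using h
        · have h' := h.conj hD g
          rw [← hg] at h'
          simpa [mul_assoc] using h'
      · rintro ⟨s', ⟨hs', hsp, hns⟩, rfl⟩
        refine ⟨hD.conj_mem s' hs' g, hg ▸ (Commute.conj_iff g).2 hsp, fun h => hns ?_⟩
        have h' := h.conj hD g⁻¹
        rw [hg] at h'
        simpa [mul_assoc] using h'
    have heq : S = {s | s ∈ D ∧ Commute s q ∧ ¬ Same D s q} := by
      refine Set.eq_of_subset_of_ncard_le (fun s hs => ⟨hs.1, hsub s hs, hnsq s hs⟩) ?_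
      rw [himg, Set.ncard_image_of_injective _ (MulAut.conj g).injective]
    exact ⟨hq, fun s hs => ⟨fun h => heq ▸ ⟨hs, h⟩, fun h => ((heq ▸ h : s ∈ {s | s ∈ D ∧ Commute s q ∧ ¬ Same D s q})).2⟩⟩
  have haS : a ∈ S := ⟨ha, hap, hnsa⟩
  have hxS : x ∈ S := ⟨hx, hxp, hnsx⟩
  have twinZ : ∀ {q t : G}, q ∈ Z → t ∈ D → Same D t q → t ∈ Z := by
    intro q t hq ht hs
    refine ⟨ht, fun s hsD => ⟨fun h => (hq.2 s hsD).1 ⟨(hs s hsD).1 h.1, fun e => h.2 (e.trans hs.symm)⟩,
      fun h => ?_⟩⟩
    obtain ⟨h1, h2⟩ := (hq.2 s hsD).2 h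
    exact ⟨(hs s hsD).2 h1, fun e => h2 (e.trans hs)⟩
  have hpZ : p ∈ Z := ⟨hp, fun s hs => ⟨fun h => ⟨hs, h⟩, fun h => h.2⟩⟩
  have all : ∀ r, Relation.ReflTransGen (CommAdj D) p r → r ∈ S ∨ r ∈ Z := by
    intro r hr
    induction hr with
    | refl => exact Or.inr hpZ
    | @tail r t _ hrt ih =>
      obtain ⟨hrD, ht, -, hc⟩ := hrt
      have htr : Commute t r := (show Commute r t from hc).symm
      rcases ih with hrS | hrZ
      · by_cases htp : Commute t p
        · by_cases hs : Same D t p
          · exact Or.inr (twinZ hpZ ht hs)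
          · exact Or.inl ⟨ht, htp, hs⟩
        · obtain ⟨r', hr', hr'no⟩ : ∃ r' ∈ S, r' ∉ comp D p r := by
            by_cases h : a ∈ comp D p r
            · refine ⟨x, hxS, fun h' => hno ?_⟩
              exact Relation.ReflTransGen.trans (comp_symm hrS.1 hrS.2.1 h') h
            · exact ⟨a, haS, h⟩
          exact Or.inr (key r r' hrS hr' hr'no t ht htr htp)
      · by_cases hs : Same D t r
        · exact Or.inr (twinZ hrZ ht hs)
        · exact Or.inl ((hrZ.2 t ht).1 ⟨htr, hs⟩)
  have odd : ∀ r, Relation.ReflTransGen (OddAdj D) p r → r ∈ Z := by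
    intro r hr
    induction hr with
    | refl => exact hpZ
    | @tail r t _ hrt ih =>
      obtain ⟨hrD, ht, hne, hodd⟩ := hrt
      refine (all t (A.conn p hp t ht)).resolve_left fun hS => ?_
      exact not_commute_of_odd hD hrD ht hne hodd ((ih.2 t ht).2 hS).1.symm
  obtain ⟨hxx, hnxx⟩ := ((odd x (odd_connected C p hp x hx)).2 x hx).2 hxS
  exact hnxx fun s _ => Iff.rfl

/-- Two commuting points have a clique of common neighbours. -/
theorem clique {p q s t : G} (hp : p ∈ D) (hq : q ∈ D) (hpq : Commute q p) (hns : ¬ Same D q p)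
    (hs : s ∈ D) (ht : t ∈ D) (hsp : Commute s p) (hsq : Commute s q) (htp : Commute t p)
    (htq : Commute t q) : Commute s t := by
  by_contra hst
  have hnsp : ¬ Same D s p := fun h => hst ((h t ht).2 htp).symm
  have hqc := A.one_comp hp hq hpq hns hs hsp hnsp
  have htc : t ∈ comp D p s := comp_step self_mem_comp ht htp hst
  exact hst (A.trans_at hp hs hsp ht htp hst s self_mem_comp q hqc t htc hsq htq.symm)

/-- Commuting common neighbours of an odd pair are twins. -/
theorem same_of_common {d x s t : G} (hd : d ∈ D) (hx : x ∈ D) (hxd : ¬ Commute x d) (hs : s ∈ D)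
    (ht : t ∈ D) (hsd : Commute s d) (hsx : Commute s x) (htd : Commute t d) (htx : Commute t x)
    (hst : Commute t s) : Same D t s := by
  by_contra hns
  exact hxd (A.clique hs ht hst hns hx hd hsx.symm htx.symm hsd.symm htd.symm)

variable {d a x : G} (hd : d ∈ D) (ha : a ∈ D) (had : Commute a d) (hns : ¬ Same D a d)
  (hx : x ∈ D) (hxd : ¬ Commute x d) (hxa : ¬ Commute x a)
include hd ha had hns hx hxd hxa

omit hns in
/-- A member centralising `w`, `d`, `x` commutes with `a`. -/
theorem no_fixed {w n : G} (hw : w ≠ 1) (hxw : Commute x w) (hdU : ∀ e ∈ twins D d, Commute e w)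
    (haw : Commute a w) (hn : n ∈ D) (hnw : Commute n w) (hnd : Commute n d) : Commute n a := by
  by_contra hna
  have hdc := twin_mem_comp A.deg hx hxw hd hxd hdU (mem_twins_self hd)
  have hac : a ∈ comp D w x := comp_step self_mem_comp ha haw hxa
  have hnc : n ∈ comp D w x := comp_step hac hn hnw fun h => hna h.symm
  exact hna ((A.trans_suzuki hw hx hxw hd hxd hdU).1 n hnc d hdc a hac hnd had.symm)

omit hns in
/-- An involution moves a common neighbour off the line to give one on the line. -/
theorem move_common {w r : G} (hw : w ≠ 1) (hw2 : w * w = 1) (hxw : Commute x w)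
    (hdU : ∀ e ∈ twins D d, Commute e w) (haw : Commute a w) (hr : r ∈ D) (hrd : Commute r d)
    (hrx : Commute r x) (hra : ¬ Commute r a) :
    ∃ n ∈ D, Commute n w ∧ Commute n d ∧ Commute n x ∧ Commute n a ∧ Commute r (n * w) := by
  have := A.simple
  have C := A.deg
  have hD := C.root
  have hwi : w⁻¹ = w := inv_eq_of_mul_eq_one_right hw2
  have hdw := hdU d (mem_twins_self hd)
  have hr2 : w * r * w ∈ D := by
    have := hD.conj_mem r hr w
    rwa [hwi] at this
  have hd2 : Commute d (w * r * w) := (hdw.mul_right hrd.symm).mul_right hdw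
  have hx2 : Commute x (w * r * w) := (hxw.mul_right hrx.symm).mul_right hxw
  have hmove : ¬ Commute r (w * r * w) := by
    intro hc
    have hs := A.same_of_common hd hx hxd hr hr2 hrd hrx hd2.symm hx2.symm hc.symm
    obtain ⟨n, hn, hnw⟩ : ∃ n ∈ twins D r, Commute n w := by
      by_cases heq : w * r * w = r
      · refine ⟨r, mem_twins_self hr, ?_⟩
        show r * w = w * r
        nth_rw 1 [← heq]
        rw [mul_assoc, hw2, mul_one]
      refine ⟨r * (w * r * w), twins_mul_mem C hr (simple_core C) (mem_twins_self hr) ⟨hr2, hs⟩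
        (Ne.symm heq), ?_⟩
      show r * (w * r * w) * w = w * (r * (w * r * w))
      rw [show r * (w * r * w) * w = r * (w * r) * (w * w) by group, hw2, mul_one, hc.eq,
        show w * (w * r * w * r) = (w * w) * r * w * r by group, hw2, one_mul]
      group
    exact hra ((hn.2 a ha).1 (A.no_fixed hd ha had hx hxd hxa hw hxw hdU haw hn.1 hnw
      ((hn.2 d hd).2 hrd.symm).symm).symm).symm
  obtain ⟨n, hn, hmem, -, hnw, hrnw, -⟩ := C.exists_mid_inv hw2 hr hmove
  have hnd := commute_of_mem_closure hmem hrd hd2.symm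
  exact ⟨n, hn, hnw, hnd, commute_of_mem_closure hmem hrx hx2.symm,
    A.no_fixed hd ha had hx hxd hxa hw hxw hdU haw hn hnw hnd, hrnw⟩

/-- A common neighbour on the line. -/
theorem exists_on_line : ∃ N ∈ D, Commute N d ∧ Commute N x ∧ Commute N a := by
  have := A.simple
  obtain ⟨y, hy2, hy1, hxy, hdU, haU, -⟩ :=
    line_center A.deg A.crit A.below hd ha had hns hx hxd hxa
  obtain ⟨r, hr, hrd, hrx⟩ := exists_common A.deg A.crit A.below A.conn hd hx hxd
  by_cases hra : Commute r a
  · exact ⟨r, hr, hrd, hrx, hra⟩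
  obtain ⟨n, hn, -, hnd, hnx, hna, -⟩ :=
    A.move_common hd ha had hx hxd hxa hy1 hy2 hxy hdU (haU a (mem_twins_self ha)) hr hrd hrx hra
  exact ⟨n, hn, hnd, hnx, hna⟩

omit hxa in
theorem same_on_line {N N' : G} (hN : N ∈ D) (hN' : N' ∈ D) (hNd : Commute N d) (hNx : Commute N x)
    (hNa : Commute N a) (hN'd : Commute N' d) (hN'x : Commute N' x) (hN'a : Commute N' a) :
    Same D N' N :=
  A.same_of_common hd hx hxd hN hN' hNd hNx hN'd hN'x
    (A.clique hd ha had hns hN' hN hN'd hN'a hNd hNa)

/-- A common neighbour off the line. -/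
theorem exists_off_line : ∃ N' ∈ D, Commute N' d ∧ Commute N' x ∧ ¬ Commute N' a := by
  obtain ⟨N, hN, hNd, hNx, hNa⟩ := A.exists_on_line hd ha had hns hx hxd hxa
  by_contra! hall
  have hsame : ∀ N' ∈ D, Commute N' d → Commute N' x → Same D N' N := fun N' hN' h1 h2 =>
    A.same_on_line hd ha had hns hx hxd hN hN' hNd hNx hNa h1 h2 (hall N' hN' h1 h2)
  obtain ⟨b, hb, hbd, hbN⟩ := A.exists_local_partner hd hN fun h => hxd ((h x hx).1 hNx.symm)
  have hbx : ¬ Commute x b := fun h => hbN ((hsame b hb hbd h.symm b hb).1 (Commute.refl b))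
  obtain ⟨M, hM, hMd, hMx, hMb⟩ := A.exists_on_line hd hb hbd (fun h => hbN ((h N hN).2 hNd).symm) hx hxd hbx
  exact hbN ((hsame M hM hMd hMx b hb).1 hMb.symm)

/-- An involution centralising `x` and the two classes is a root element of the neighbour on the line. -/
theorem mem_twins_of_centralizes {N w : G} (hN : N ∈ D) (hNd : Commute N d) (hNx : Commute N x)
    (hNa : Commute N a) (hw2 : w * w = 1) (hxw : Commute x w) (hdU : ∀ e ∈ twins D d, Commute e w)
    (haw : Commute a w) : w = 1 ∨ w ∈ twins D N := by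
  refine or_iff_not_imp_left.2 fun hw => ?_
  have := A.simple
  have hD := A.deg.root
  obtain ⟨r, hr, hrd, hrx, hra⟩ := A.exists_off_line hd ha had hns hx hxd hxa
  obtain ⟨n, hn, hnw, hnd, hnx, hna, hrnw⟩ :=
    A.move_common hd ha had hx hxd hxa hw hw2 hxw hdU haw hr hrd hrx hra
  have hnN := A.same_on_line hd ha had hns hx hxd hN hn hNd hNx hNa hnd hnx hna
  by_cases h1 : n * w = 1
  · rw [mul_eq_one_iff_inv_eq, RootInv.inv hD hn] at h1
    exact h1 ▸ ⟨hn, hnN⟩
  exfalso
  exact hra (A.no_fixed hd ha had hx hxd hxa h1 (hnx.symm.mul_right hxw)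
    (fun e he => (commute_twins hn hnd he).symm.mul_right (hdU e he)) (hna.symm.mul_right haw) hr hrnw hrd)

omit ha had hns hxa in
/-- Some line holds a third class. -/
theorem exists_third : ∃ b ∈ D, ∃ s ∈ D, Commute b d ∧ ¬ Same D b d ∧ ¬ Commute s d ∧ ¬ Commute s b := by
  have C := A.deg
  have hD := C.root
  by_contra! hall
  obtain ⟨b, hb, hbd, hnsb⟩ : ∃ b ∈ D, Commute b d ∧ ¬ Same D b d := by
    by_contra! h
    have key : ∀ r, Relation.ReflTransGen (CommAdj D) d r → Same D r d := by
      intro r hr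
      induction hr with
      | refl => exact fun _ _ => Iff.rfl
      | @tail r t _ hrt ih =>
        exact h t hrt.2.1 ((ih t hrt.2.1).1 (show Commute r t from hrt.2.2.2).symm)
    exact hxd ((key x (A.conn d hd x hx) x hx).1 (Commute.refl x))
  let T : Set G := {r | r ∈ D ∧ (Commute r d → Same D r d)}
  have key : ∀ r, Relation.ReflTransGen (OddAdj D) d r → r ∈ T := by
    intro r hr
    induction hr with
    | refl => exact ⟨hd, fun _ _ _ => Iff.rfl⟩
    | @tail r t _ hrt ih =>
      obtain ⟨hrD, ht, hne, hodd⟩ := hrt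
      refine ⟨ht, fun htd => ?_⟩
      by_contra hnst
      refine not_commute_of_odd hD hrD ht hne hodd ?_
      by_cases hrd : Commute r d
      · exact (((ih.2 hrd) t ht).2 htd).symm
      · exact hall t ht r hrD htd hnst hrd
  exact hnsb ((key b (odd_connected C d hd b hb)).2 hbd)

end AllSz

end CfsgLib.OddTrans
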