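import Cfsg.Agent.RootSubgroups.OddPair

/-!
With a connected commuting graph every odd pair has a common commuting member, and all pairs have one
kind.
-/

set_option autoImplicit false
set_option linter.unusedSectionVars false

namespace CfsgLib.OddTrans

open Cfsg CfsgLib.RootInv CfsgLib.OddClass Subgroup

universe u

variable {G : Type u} [Group G] [Finite G] {D : Set G} [IsSimpleGroup G]
  (C : OddBlock.Deg D) (hcrit : RootBlock.Criterion.{u}) (IH : ClaimBelow.{u} (Nat.card G))

/-- No member commutes with both. -/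
def Bad (D : Set G) (d x : G) : Prop := ∀ N ∈ D, Commute N d → ¬ Commute N x

include C hcrit IH

/-- A bad pair makes all lines cliques. -/
theorem clique_of_bad {d x : G} (hd : d ∈ D) (hx : x ∈ D) (hxd : ¬ Commute x d) (hbad : Bad D d x)
    {p q s t : G} (hp : p ∈ D) (hq : q ∈ D) (hpq : Commute q p) (hns : ¬ Same D q p) (hs : s ∈ D)
    (ht : t ∈ D) (hsp : Commute s p) (hsq : Commute s q) (htp : Commute t p) (htq : Commute t q) :
    Commute s t := by
  have hD := C.root
  obtain ⟨g, rfl⟩ := C.cls d hd p hp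
  set p := g * d * g⁻¹
  set x₁ := g * x * g⁻¹
  have hx₁ : x₁ ∈ D := hD.conj_mem x hx g
  have hxp : ¬ Commute x₁ p := fun h => hxd ((Commute.conj_iff g).1 h)
  have hbad₁ : ∀ N ∈ D, Commute N p → ¬ Commute N x₁ := fun N hN h1 h2 => by
    refine hbad _ (hD.conj_mem N hN g⁻¹) ?_ ?_
    · have h := (Commute.conj_iff g⁻¹).2 h1
      rwa [show g⁻¹ * p * g⁻¹⁻¹ = d by simp only [p]; group] at h
    · have h := (Commute.conj_iff g⁻¹).2 h2
      rwa [show g⁻¹ * x₁ * g⁻¹⁻¹ = x by simp only [x₁]; group] at h
  obtain ⟨y, -, hy1, hxy, hpU, -, hall⟩ := line_center C hcrit IH hp hq hpq hns hx₁ hxp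
    fun h => hbad₁ q hq hpq h.symm
  have hpc := twin_mem_comp C hx₁ hxy hp hxp hpU (mem_twins_self hp)
  rcases comp_kinds C hx₁ hxy hp hxp hpU hy1 hcrit IH with ⟨hgood, -⟩ | ⟨htr, -⟩
  · obtain ⟨N, hN, h1, h2⟩ := hgood p hpc x₁ self_mem_comp fun h => hxp h.symm
    exact absurd h2 (hbad₁ N (mem_comp hx₁ hxy hN).1 h1)
  · have hmem : ∀ b ∈ D, Commute b p → Commute b q → b ∈ comp D y x₁ := fun b hb hbp hbq =>
      comp_step self_mem_comp hb (hall b hb hbp hbq) fun h => hbad₁ b hb hbp h.symm
    exact htr s (hmem s hs hsp hsq) p hpc t (hmem t ht htp htq) hsp htp.symm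

/-- Every odd pair has a common commuting member. -/
theorem exists_common (hconn : IsConnectedSet (CommAdj D) D) {d x : G} (hd : d ∈ D) (hx : x ∈ D)
    (hxd : ¬ Commute x d) : ∃ N ∈ D, Commute N d ∧ Commute N x := by
  have hD := C.root
  have key : ∀ r, Relation.ReflTransGen (CommAdj D) d r →
      ∃ N ∈ D, Commute N d ∧ Commute N r := by
    intro r hr
    induction hr with
    | refl => exact ⟨d, hd, Commute.refl d, Commute.refl d⟩
    | @tail r x _ hrx ih =>
      obtain ⟨hr, hx, -, hrx'⟩ := hrx
      have hrx : Commute r x := hrx'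
      by_cases hxd : Commute x d
      · exact ⟨d, hd, Commute.refl d, hxd.symm⟩
      by_contra hno
      have hbad : Bad D d x := fun N hN h1 h2 => hno ⟨N, hN, h1, h2⟩
      by_cases hrd : Commute r d
      · exact hbad r hr hrd hrx
      obtain ⟨p, hp, hpd, hpr⟩ := ih
      have hns : ¬ Same D p d := fun h => hrd ((h r hr).1 hpr.symm)
      have hxp : ¬ Commute x p := fun h => hbad p hp hpd h.symm
      obtain ⟨y, hy2, hy1, hxy, hdU, hpU, -⟩ := line_center C hcrit IH hd hp hpd hns hx hxd hxp
      have hdc := twin_mem_comp C hx hxy hd hxd hdU (mem_twins_self hd)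
      have hpy := hpU p (mem_twins_self hp)
      have hpc : p ∈ comp D y x := comp_step self_mem_comp hp hpy hxp
      -- a member centralising `y`, `x`, `p`
      obtain ⟨n, hn, hny, hnx, hnp⟩ : ∃ n ∈ D, Commute n y ∧ Commute n x ∧ Commute n p := by
        have hyi : y⁻¹ = y := inv_eq_of_mul_eq_one_right hy2
        have hr2 : y * r * y ∈ D := by
          have := hD.conj_mem r hr y
          rwa [hyi] at this
        have hx2 : Commute x (y * r * y) := (hxy.mul_right hrx.symm).mul_right hxy
        have hp2 : Commute p (y * r * y) := (hpy.mul_right hpr).mul_right hpy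
        by_cases hmove : Commute r (y * r * y)
        swap
        · obtain ⟨n, hn, hmem, -, hny, -, -⟩ := C.exists_mid_inv hy2 hr hmove
          exact ⟨n, hn, hny, commute_of_mem_closure hmem hrx hx2.symm,
            commute_of_mem_closure hmem hpr.symm hp2.symm⟩
        by_cases heq : y * r * y = r
        · refine ⟨r, hr, ?_, hrx, hpr.symm⟩
          show r * y = y * r
          nth_rw 1 [← heq]
          rw [mul_assoc, hy2, mul_one]
        by_cases hsame : Same D (y * r * y) r
        swap
        · exact absurd (clique_of_bad C hcrit IH hd hx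
            hxd hbad hr hr2 hmove.symm hsame hx hp hrx.symm hx2 hpr hp2) hxp
        have hrt : y * r * y ∈ twins D r := ⟨hr2, hsame⟩
        have hprod := twins_mul_mem C hr (simple_core C) (mem_twins_self hr) hrt (Ne.symm heq)
        refine ⟨r * (y * r * y), hprod.1, ?_, hrx.mul_left hx2.symm, hpr.symm.mul_left hp2.symm⟩
        show r * (y * r * y) * y = y * (r * (y * r * y))
        rw [show r * (y * r * y) * y = r * (y * r) * (y * y) by group, hy2, mul_one, hmove.eq,
          show y * (y * r * y * r) = (y * y) * r * y * r by group, hy2, one_mul]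
        group
      by_cases hnd : Commute n d
      · exact hbad n hn hnd hnx
      have hnc : n ∈ comp D y x := comp_step hdc hn hny fun h => hnd h.symm
      rcases comp_kinds C hx hxy hd hxd hdU hy1 hcrit IH with ⟨hgood, -⟩ | ⟨htr, -⟩
      · obtain ⟨N, hN, h1, h2⟩ := hgood d hdc x self_mem_comp fun h => hxd h.symm
        exact hbad N (mem_comp hx hxy hN).1 h1 h2
      · exact hnd (htr n hnc p hpc d hdc hnp hpd)
  exact key x (hconn d hd x hx)

omit IH hcrit in
theorem ne_one_of_mem {N : G} (hN : N ∈ D) : N ≠ 1 := RootInv.ne_one C.root hN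

/-- Partners with a common commuting member have the same kind. -/
theorem three_of_common {d x s N : G} (hd : d ∈ D) (hx : x ∈ D) (hs : s ∈ D) (hN : N ∈ D)
    (hxd : ¬ Commute x d) (hsd : ¬ Commute s d) (hNd : Commute N d) (hNx : Commute N x)
    (hNs : Commute N s) (h3 : Three D d x) : Three D d s := by
  have hU : ∀ e ∈ twins D d, Commute e N := fun e he => (commute_twins hN hNd he).symm
  have hdc := twin_mem_comp C hx hNx.symm hd hxd hU (mem_twins_self hd)
  have hsc : s ∈ comp D N x := comp_step hdc hs hNs.symm fun h => hsd h.symm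
  rcases comp_kinds C hx hNx.symm hd hxd hU (ne_one_of_mem C hN) hcrit IH with
    ⟨-, h⟩ | ⟨-, h | ⟨-, hno⟩⟩
  · exact h d hdc s hsc hU hsd
  · exact h d hdc s hsc hU hsd
  · exact absurd h3 (hno d hdc x self_mem_comp hU hxd)

variable (hconn : IsConnectedSet (CommAdj D) D)
include hconn

/-- All partners of a member have one kind. -/
theorem three_chain {d x s : G} (hd : d ∈ D) (hx : x ∈ D) (hs : s ∈ D) (hxd : ¬ Commute x d)
    (hsd : ¬ Commute s d) (h3 : Three D d x) : Three D d s := by
  have hD := C.root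
  obtain ⟨N, hN, hNd, hNx⟩ := exists_common C hcrit IH hconn hd hx hxd
  obtain ⟨p, hp, hpd, hps⟩ := exists_common C hcrit IH hconn hd hs hsd
  -- conjugate inside the centraliser of `d`
  have move : ∀ {y M M' : G}, y ∈ D → M ∈ D → M' ∈ D → ¬ Commute y d → Commute M d → Commute M' d →
      Commute M y → ¬ Commute M M' → Three D d y →
      ∃ y' ∈ D, ¬ Commute y' d ∧ Commute M' y' ∧ Three D d y' := by
    intro y M M' hy hM hM' hyd hMd hM'd hMy hMM h
    obtain ⟨g, hg, e⟩ := C.exists_conj_odd hM hM' hMM
    have hgd : Commute g d := commute_of_mem_closure hg hMd hM'd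
    refine ⟨g * y * g⁻¹, hD.conj_mem y hy g, fun hc => hyd ?_, e ▸ (Commute.conj_iff g).2 hMy,
      (three_conj_fixed hD hgd).2 h⟩
    rwa [show d = g * d * g⁻¹ by rw [hgd.eq, mul_inv_cancel_right], Commute.conj_iff] at hc
  have step : ∀ {y M : G}, y ∈ D → M ∈ D → ¬ Commute y d → Commute M d → Commute M y → ¬ Commute M p →
      Three D d y → Three D d s := by
    intro y M hy hM hyd hMd hMy hMp h
    obtain ⟨y', hy', hy'd, hpy', h'⟩ := move hy hM hp hyd hMd hpd hMy hMp h
    exact three_of_common C hcrit IH hd hy' hs hp hy'd hsd hpd hpy' hps h'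
  by_cases hNp : Commute N p
  swap
  · exact step hx hN hxd hNd hNx hNp h3
  by_cases hxp : Commute x p
  · exact three_of_common C hcrit IH hd hx hs hp hxd hsd hpd hxp.symm hps h3
  by_cases hq : ∃ q ∈ D, Commute q N ∧ Commute q p ∧ ¬ Commute q d
  · obtain ⟨q, hq, hqN, hqp, hqd⟩ := hq
    exact three_of_common C hcrit IH hd hq hs hp hqd hsd hpd hqp.symm hps
      (three_of_common C hcrit IH hd hx hq hN hxd hqd hNd hNx hqN.symm h3)
  push Not at hq
  obtain ⟨r, hr, hrd, hrp⟩ : ∃ r ∈ D, Commute r d ∧ ¬ Commute r p := by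
    by_contra! hall
    exact hsd ((C.same_of_subset hd hp hall s hs).2 hps.symm)
  by_cases hrx : Commute r x
  · exact step hx hr hxd hrd hrx hrp h3
  by_cases hrN : Commute r N
  swap
  · obtain ⟨y', hy', hy'd, hry', h'⟩ :=
      move hx hN hr hxd hNd hrd hNx (fun h => hrN h.symm) h3
    exact step hy' hr hy'd hrd hry' hrp h'
  exfalso
  have hU : ∀ e ∈ twins D d, Commute e N := fun e he => (commute_twins hN hNd he).symm
  have hdc := twin_mem_comp C hx hNx.symm hd hxd hU (mem_twins_self hd)
  have hpc : p ∈ comp D N x := comp_step self_mem_comp hp hNp.symm hxp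
  have hrc : r ∈ comp D N x := comp_step self_mem_comp hr hrN fun h => hrx h.symm
  have CH := comp_setting C hx hNx.symm hd hxd hU
  have hsame := CH.same_of_subset (a := ⟨p, subset_closure hpc⟩) (b := ⟨d, subset_closure hdc⟩) hpc hdc
    fun q hq' hqp => Subtype.ext (hq q.1 (mem_comp hx hNx.symm hq').1 (mem_comp hx hNx.symm hq').2
      (congrArg Subtype.val hqp.eq)).eq
  exact hrp (congrArg Subtype.val
    ((hsame ⟨r, subset_closure hrc⟩ hrc).2 (Subtype.ext hrd.eq)).eq)

/-- One pair with a product of order three gives all. -/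
theorem three_all {d x : G} (hd : d ∈ D) (hx : x ∈ D) (hxd : ¬ Commute x d) (h3 : Three D d x)
    {p q : G} (hp : p ∈ D) (hq : q ∈ D) (hqp : ¬ Commute q p) : Three D p q := by
  obtain ⟨g, rfl⟩ := C.cls d hd p hp
  exact three_chain C hcrit IH hconn hp (C.root.conj_mem x hx g) hq
    (fun h => hxd ((Commute.conj_iff g).1 h)) hqp (three_conj C.root h3)

end CfsgLib.OddTrans
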