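import Cfsg.Agent.RootSubgroups.OddTrans
import Cfsg.Agent.RootSubgroups.LineRadical

/-!
Odd transpositions with a line: the quotient by the centre modulo the 2-core is simple, keeps the
setting, and keeps commuting and orders of products.
-/

set_option autoImplicit false
set_option linter.unusedSectionVars false

namespace CfsgLib.OddTrans

open Cfsg CfsgLib.RootInv CfsgLib.OddClass Subgroup

universe u

variable {G : Type u} [Group G] [Finite G] {D : Set G}

/-- The quotient map by the centre modulo the 2-core. -/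
abbrev zMap (G : Type u) [Group G] : G →* G ⧸ Cfsg.twoZCore G := QuotientGroup.mk' _

/-- The image of the class in the quotient. -/
abbrev zSet (D : Set G) : Set (G ⧸ Cfsg.twoZCore G) := zMap G '' D

variable (C : OddBlock.Deg D)
include C

theorem products_nonempty : (D ∩ Cfsg.commutingProducts D).Nonempty := by
  obtain ⟨a, p, hl⟩ := C.line
  exact ⟨a * p, hl.mul_mem, a, hl.mem, p, hl.mem', hl.comm.eq,
    RootInv.ne_one C.root hl.mul_mem, rfl⟩

/-- The graph of odd products is connected. -/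
theorem odd_connected : IsConnectedSet (OddAdj D) D := by
  have hD := C.root
  intro a ha b hb
  have mapC : ∀ (g : G) {p q : G}, Relation.ReflTransGen (OddAdj D) p q →
      Relation.ReflTransGen (OddAdj D) (g * p * g⁻¹) (g * q * g⁻¹) := fun g p q h =>
    h.lift (fun y => g * y * g⁻¹) fun u v huv => ⟨hD.conj_mem u huv.1 g, hD.conj_mem v huv.2.1 g,
      fun e => huv.2.2.1 (by simpa using e), by
        rw [show g * u * g⁻¹ * (g * v * g⁻¹) = g * (u * v) * g⁻¹ by group, Invol.orderOf_conj_eq]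
        exact huv.2.2.2⟩
  have adj : ∀ {u v : G}, u ∈ D → v ∈ D → ¬ Commute u v → OddAdj D u v := fun hu hv h =>
    ⟨hu, hv, fun e => h (e ▸ Commute.refl _), C.odd_of hu hv h⟩
  have base : ∀ s ∈ D, Relation.ReflTransGen (OddAdj D) a (s * a * s⁻¹) := by
    intro s hs
    by_cases h : Commute s a
    · rw [h.eq, mul_inv_cancel_right]
    refine (Relation.ReflTransGen.single (adj ha hs fun e => h e.symm)).tail
      (adj hs (hD.conj_mem a ha s) fun e => h ?_)
    have e' := (Commute.conj_iff s).2 e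
    rw [RootInv.inv hD hs, sq hD hs, one_mul, show s * (s * a * s) * s = (s * s) * a * (s * s) by group,
      sq hD hs, one_mul, mul_one] at e'
    exact e'
  have key : ∀ g ∈ closure D, Relation.ReflTransGen (OddAdj D) a (g * a * g⁻¹) ∧
      Relation.ReflTransGen (OddAdj D) a (g⁻¹ * a * g⁻¹⁻¹) := by
    intro g hg
    induction hg using closure_induction with
    | mem s hs =>
      refine ⟨base s hs, ?_⟩
      rw [RootInv.inv hD hs]
      exact base s hs
    | one => exact ⟨by simpa using Relation.ReflTransGen.refl, by simpa using Relation.ReflTransGen.refl⟩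
    | mul u v _ _ ihu ihv =>
      refine ⟨ihu.1.trans ?_, ihv.2.trans ?_⟩
      · have h := mapC u ihv.1
        rwa [show u * (v * a * v⁻¹) * u⁻¹ = u * v * a * (u * v)⁻¹ by group] at h
      · have h := mapC v⁻¹ ihu.2
        rwa [show v⁻¹ * (u⁻¹ * a * u⁻¹⁻¹) * v⁻¹⁻¹ = (u * v)⁻¹ * a * (u * v)⁻¹⁻¹ by group] at h
    | inv u _ ihu => exact ⟨ihu.2, by rw [inv_inv]; exact ihu.1⟩
  obtain ⟨g, rfl⟩ := C.cls a ha b hb
  exact (key g (hD.generates ▸ mem_top g)).1

theorem quot_simple : IsSimpleGroup (G ⧸ Cfsg.twoZCore G) :=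
  (radical_main C.root (odd_connected C) (products_nonempty C)).2

/-- Members inverted into the kernel commute. -/
theorem quot_commute {a b : G} (ha : a ∈ D) (hb : b ∈ D) (h : Commute (zMap G a) (zMap G b)) :
    Commute a b := by
  by_contra hn
  have hD := C.root
  have hne : a ≠ b := fun e => hn (e ▸ Commute.refl _)
  have hodd := C.odd_of ha hb hn
  set φ := QuotientGroup.mk' (Cfsg.pCore 2 G)
  have hmem : (a * b) ^ 2 ∈ Cfsg.twoZCore G := (QuotientGroup.eq_one_iff _).1 (by
    show zMap G ((a * b) ^ 2) = 1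
    rw [map_pow, map_mul, pow_two, h.symm.mul_mul_mul_comm, ← map_mul, ← map_mul, sq hD ha, sq hD hb,
      map_one, one_mul])
  have hc := mem_center_iff.1 (mem_comap.1 hmem) (φ a)
  -- `a` inverts the element it centralises modulo the core
  have hinv : a * (a * b) ^ 2 * a⁻¹ = ((a * b) ^ 2)⁻¹ := by
    rw [RootInv.inv hD ha, pow_two, mul_inv_rev, mul_inv_rev, RootInv.inv hD ha, RootInv.inv hD hb,
      show a * (a * b * (a * b)) * a = (a * a) * b * a * b * a by group, sq hD ha, one_mul]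
    group
  have h4 : φ ((a * b) ^ 2) * φ ((a * b) ^ 2) = 1 := by
    have h1 := congrArg φ hinv
    simp only [map_mul, map_inv] at h1 hc
    rw [hc, mul_inv_cancel_right] at h1
    nth_rw 2 [h1]
    exact mul_inv_cancel _
  rw [← map_mul, ← pow_two, ← pow_mul] at h4
  have : Fact (Nat.Prime 2) := ⟨Nat.prime_two⟩
  obtain ⟨k, hk⟩ := (Solvable.isPGroup_pCore 2) ⟨_, (QuotientGroup.eq_one_iff _).1 h4⟩
  have h5 : ((a * b) ^ (2 * 2)) ^ 2 ^ k = 1 := congrArg Subtype.val hk
  rw [← pow_mul, show 2 * 2 * 2 ^ k = 2 ^ (k + 2) by ring] at h5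
  have h6 := odd_pow_two_pow hodd h5
  rw [mul_eq_one_iff_eq_inv, RootInv.inv hD hb] at h6
  exact hne h6

/-- Orders of odd products are kept. -/
theorem quot_order {a b : G} (ha : a ∈ D) (hb : b ∈ D) (h : ¬ Commute a b) :
    orderOf (zMap G a * zMap G b) = orderOf (a * b) := by
  have hD := C.root
  refine Nat.dvd_antisymm ?_ (orderOf_dvd_of_pow_eq_one ?_)
  · rw [← map_mul]; exact orderOf_map_dvd _ _
  set j := orderOf (zMap G a * zMap G b)
  have hodd := C.odd_of ha hb h
  set φ := QuotientGroup.mk' (Cfsg.pCore 2 G)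
  have hmem : (a * b) ^ j ∈ Cfsg.twoZCore G := (QuotientGroup.eq_one_iff _).1 (by
    show zMap G ((a * b) ^ j) = 1
    rw [map_pow, map_mul, pow_orderOf_eq_one])
  have hc := mem_center_iff.1 (mem_comap.1 hmem) (φ a)
  have hinv : a * (a * b) ^ j * a⁻¹ = ((a * b) ^ j)⁻¹ := by
    rw [← conj_pow, ← inv_pow, RootInv.inv hD ha, mul_inv_rev, RootInv.inv hD ha, RootInv.inv hD hb,
      show a * (a * b) * a = (a * a) * b * a by group, sq hD ha, one_mul]
  have h4 : φ ((a * b) ^ j) * φ ((a * b) ^ j) = 1 := by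
    have h1 := congrArg φ hinv
    simp only [map_mul, map_inv] at h1 hc
    rw [hc, mul_inv_cancel_right] at h1
    nth_rw 2 [h1]
    exact mul_inv_cancel _
  rw [← map_mul, ← pow_two, ← pow_mul] at h4
  have : Fact (Nat.Prime 2) := ⟨Nat.prime_two⟩
  obtain ⟨k, hk⟩ := (Solvable.isPGroup_pCore 2) ⟨_, (QuotientGroup.eq_one_iff _).1 h4⟩
  have h5 : ((a * b) ^ (j * 2)) ^ 2 ^ k = 1 := congrArg Subtype.val hk
  rw [← pow_mul, show j * 2 * 2 ^ k = j * 2 ^ (k + 1) by ring, pow_mul] at h5
  exact odd_pow_two_pow (hodd.of_dvd_nat (orderOf_pow_dvd j)) h5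

theorem quot_ne_one {a : G} (ha : a ∈ D) (hp : ∃ b ∈ D, ¬ Commute b a) : zMap G a ≠ 1 := by
  obtain ⟨b, hb, h⟩ := hp
  intro e
  exact h (quot_commute C hb ha (e ▸ Commute.one_right _))

theorem every_partner {d : G} (hd : d ∈ D) : ∃ x ∈ D, ¬ Commute x d := by
  by_contra! hall
  have hD := C.root
  have hc : ∀ g, Commute g d := fun g => mem_centralizer_singleton_iff.1
    ((closure_le (centralizer ({d} : Set G))).2 (fun s hs => mem_centralizer_singleton_iff.2 (hall s hs).eq)
      (by rw [hD.generates]; exact mem_top g))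
  obtain ⟨d1, hl, -, -⟩ := C.exists_twin hd
  obtain ⟨g, e⟩ := C.cls d hd d1 hl.mem'
  refine RootInv.line_ne hD hl ?_
  rw [e, (hc g).eq, mul_inv_cancel_right]

theorem quot_deg : OddBlock.Deg (zSet D) := by
  have hD := C.root
  set π := zMap G
  have hsurj : Function.Surjective π := QuotientGroup.mk'_surjective _
  have hord : ∀ a ∈ D, orderOf (π a) = 2 := fun a ha =>
    Invol.orderOf_eq_two (by rw [← map_mul, sq hD ha, map_one])
      (quot_ne_one C ha (every_partner C ha))
  have hpair : ∀ a ∈ D, ∀ b ∈ D, π a * π b = π b * π a ∨ Odd (orderOf (π a * π b)) := by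
    intro a ha b hb
    by_cases h : Commute a b
    · exact Or.inl (h.map π).eq
    · exact Or.inr (by rw [quot_order C ha hb h]; exact C.odd_of ha hb h)
  obtain ⟨a₀, p₀, hl⟩ := C.line
  refine ⟨⟨?_, ?_, ?_, ?_⟩, ?_, ?_, ⟨π a₀, π p₀, ⟨a₀, hl.mem, rfl⟩, ⟨p₀, hl.mem', rfl⟩,
    hl.comm.map π, ⟨_, hl.mul_mem, map_mul π _ _⟩⟩⟩
  · rintro _ ⟨a, ha, rfl⟩; exact hord a ha
  · rw [show zSet D = π '' D from rfl, ← MonoidHom.map_closure, hD.generates,
      map_top_of_surjective π hsurj]
  · rintro _ ⟨a, ha, rfl⟩ g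
    obtain ⟨k, rfl⟩ := hsurj g
    exact ⟨k * a * k⁻¹, hD.conj_mem a ha k, by rw [map_mul, map_mul, map_inv]⟩
  · rintro _ ⟨a, ha, rfl⟩ _ ⟨b, hb, rfl⟩
    exact (hpair a ha b hb).imp_right Or.inl
  · rintro _ ⟨a, ha, rfl⟩ _ ⟨b, hb, rfl⟩ h4
    rcases hpair a ha b hb with h | h
    · have h2 : (π a * π b) ^ 2 = 1 := by
        rw [pow_two, (show Commute (π a) (π b) from h).symm.mul_mul_mul_comm, ← map_mul, ← map_mul,
          sq hD ha, sq hD hb, map_one, one_mul]
      have := orderOf_dvd_of_pow_eq_one h2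
      rw [h4] at this
      omega
    · rw [h4] at h; exact absurd h (by decide)
  · rintro _ ⟨a, ha, rfl⟩ _ ⟨b, hb, rfl⟩
    obtain ⟨g, rfl⟩ := C.cls a ha b hb
    exact ⟨π g, by rw [map_mul, map_mul, map_inv]⟩

/-- Twins map to twins. -/
theorem quot_twins {d e : G} (hd : d ∈ D) (he : e ∈ twins D d) : zMap G e ∈ twins (zSet D) (zMap G d) := by
  refine ⟨⟨e, he.1, rfl⟩, ?_⟩
  rintro _ ⟨s, hs, rfl⟩
  exact ⟨fun h => ((he.2 s hs).1 (quot_commute C hs he.1 h)).map _,
    fun h => ((he.2 s hs).2 (quot_commute C hs hd h)).map _⟩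

variable [IsSimpleGroup G]

theorem simple_center : center G = ⊥ := by
  refine ((inferInstance : (center G).Normal).eq_bot_or_eq_top).resolve_right fun h => ?_
  obtain ⟨a, p, hl⟩ := C.line
  obtain ⟨x, hx, hxa⟩ := every_partner C hl.mem
  exact hxa (mem_center_iff.1 (h ▸ mem_top a) x)

theorem simple_core : Cfsg.pCore 2 G = ⊥ := by
  have hn : (Cfsg.pCore 2 G).Normal := Subgroup.sSup_normal _ (fun _ h => h.1)
  refine hn.eq_bot_or_eq_top.resolve_right fun h => ?_
  obtain ⟨a, p, hl⟩ := C.line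
  obtain ⟨x, hx, hxa⟩ := every_partner C hl.mem
  have hp : IsPGroup 2 G := by
    refine IsPGroup.of_equiv ?_ Subgroup.topEquiv
    rw [← h]
    have : Fact (Nat.Prime 2) := ⟨Nat.prime_two⟩
    exact Solvable.isPGroup_pCore 2
  obtain ⟨k, hk⟩ := hp (x * a)
  have h1 := odd_pow_two_pow (C.odd_of hx hl.mem hxa) hk
  rw [mul_eq_one_iff_eq_inv, RootInv.inv C.root hl.mem] at h1
  exact hxa (h1 ▸ Commute.refl _)

theorem simple_twoZ : Cfsg.twoZCore G = ⊥ := by
  rw [eq_bot_iff]
  intro g hg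
  rw [← simple_center C, mem_center_iff]
  intro a
  have h1 := mem_center_iff.1 (mem_comap.1 hg) (QuotientGroup.mk' (Cfsg.pCore 2 G) a)
  rw [← map_mul, ← map_mul] at h1
  simp only [QuotientGroup.mk'_apply, QuotientGroup.eq, simple_core C, mem_bot] at h1
  rwa [inv_mul_eq_one] at h1

/-- A non-trivial element is moved. -/
theorem simple_exists_not_commute {w : G} (hw : w ≠ 1) : ∃ g : G, ¬ Commute g w := by
  by_contra! h
  exact hw (mem_bot.1 (simple_center C ▸ mem_center_iff.2 fun g => (h g).eq))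

end CfsgLib.OddTrans
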