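import Cfsg.Agent.RootSubgroups.PSLEven
import Cfsg.Agent.Invol.Dihedral

/-!
`PSL₂(q)`, `q` even: elements of two-power order square to one; two non-commuting involutions `t`, `s`
have an involution `u` commuting with `t` with `su` of order three.
-/

set_option autoImplicit false
set_option linter.unusedSectionVars false
set_option linter.style.haveILetI false

namespace CfsgLib.PSLEven

open Matrix
open CfsgLib.SL2C
open CfsgLib.Linear.SmallSub (proj P2)

variable {F : Type*} [Field F] [Fintype F] [CharP F 2]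

theorem two_sq {g : P2 F} {k : ℕ} (hg : g ^ 2 ^ k = 1) : g * g = 1 := by
  induction k with
  | zero => rw [pow_zero, pow_one] at hg; rw [hg, one_mul]
  | succ k ih =>
    by_cases h : g ^ 2 ^ k = 1
    · exact ih h
    have ht : g ^ 2 ^ k * g ^ 2 ^ k = 1 := by rw [← pow_add, ← two_mul, ← pow_succ', hg]
    exact (centralizer_involution ht h).2 g
      (Subgroup.mem_centralizer_singleton_iff.2 ((Commute.refl g).pow_right (2 ^ k)).eq)

theorem exists_three {t s : P2 F} (ht : t * t = 1) (hs : s * s = 1) (hts : ¬ Commute t s) :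
    ∃ u : P2 F, u * u = 1 ∧ Commute u t ∧ orderOf (s * u) = 3 := by
  classical
  obtain ⟨c, b, hb, rfl⟩ := exists_bor ht fun e => hts (e ▸ Commute.one_left _)
  obtain ⟨g, rfl⟩ := CfsgLib.Linear.FourGroups.proj_surj s
  have hg : g * g = 1 := proj_injective (by rw [map_mul, hs, map_one])
  set g' := c⁻¹ * g * c with hg'
  have hg'2 : g' * g' = 1 := by
    rw [hg', show c⁻¹ * g * c * (c⁻¹ * g * c) = c⁻¹ * (g * g) * c by group, hg]
    group
  have htr : (mt g').trace = 0 := by
    have h := mt_inv g'
    rw [inv_eq_of_mul_eq_one_right hg'2] at h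
    have h00 := congrFun (congrFun h 0) 0
    simp only [Matrix.sub_apply, Matrix.smul_apply, Matrix.one_apply_eq, smul_eq_mul, mul_one] at h00
    linear_combination -h00 + mt g' 0 0 * CharTwo.two_eq_zero (R := F)
  have hγ : mt g' 1 0 ≠ 0 := by
    intro h
    obtain ⟨a, β, e⟩ := exists_bor_of_apply h
    have ha : a = 1 := by
      have htr' := htr
      rw [e, mt_bor, Matrix.trace_fin_two] at htr'
      have e2 : bor a β * bor a β = 1 := e ▸ hg'2
      rw [bor_mul, ← bor_one_zero] at e2
      obtain ⟨h1, -⟩ := bor_inj e2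
      have h2 : (a : F) * a = 1 := by rw [← Units.val_mul, h1, Units.val_one]
      have h3 : ((a : F) + 1) * ((a : F) + 1) = 0 := by
        linear_combination h2 + ((a : F) + 1) * CharTwo.two_eq_zero (R := F)
      exact Units.ext (CharTwo.add_eq_zero.1 (mul_self_eq_zero.1 h3))
    refine hts ?_
    have hc : Commute (bor (1 : Fˣ) b) g' := by
      rw [e, ha]
      show bor 1 b * bor 1 β = bor 1 β * bor 1 b
      rw [bor_mul, bor_mul]
      simp [add_comm]
    have h' := ((Commute.conj_iff c).2 hc).map proj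
    rwa [hg', show c * (c⁻¹ * g * c) * c⁻¹ = g by group] at h'
  set γ := mt g' 1 0 with hγdef
  set u := bor (1 : Fˣ) γ⁻¹ with hu
  refine ⟨proj (c * u * c⁻¹), ?_, ?_, ?_⟩
  · rw [← map_mul, show c * u * c⁻¹ * (c * u * c⁻¹) = c * (u * u) * c⁻¹ by group, hu, bor_mul]
    simp [CharTwo.add_self_eq_zero, bor_one_zero]
  · refine ((Commute.conj_iff c).2 ?_).map proj
    show bor 1 γ⁻¹ * bor 1 b = bor 1 b * bor 1 γ⁻¹
    rw [bor_mul, bor_mul]
    simp [add_comm]
  set M := g' * u with hM
  have htrM : (mt M).trace = 1 := by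
    rw [hM, mt_mul, hu, mt_bor, Matrix.trace_fin_two]
    rw [Matrix.trace_fin_two] at htr
    simp only [Matrix.mul_apply, Fin.sum_univ_two]
    simp only [Units.val_one, inv_one, Matrix.of_apply, Matrix.cons_val', Matrix.cons_val_zero,
      Matrix.cons_val_one, Matrix.empty_val', Matrix.cons_val_fin_one, mul_one, mul_zero, add_zero, ← hγdef,
      mul_inv_cancel₀ hγ]
    linear_combination htr
  have hM3 : M ^ 3 = 1 := by
    apply mt_injective
    have h1 : mt M * mt M⁻¹ = 1 := by rw [← mt_mul, mul_inv_cancel, mt_one]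
    rw [mt_inv, htrM, one_smul, mul_sub, mul_one] at h1
    have h2 : mt M * mt M = mt M - 1 := by
      linear_combination (norm := abel) -h1
    rw [pow_succ, pow_two, mt_mul, mt_mul, h2, sub_mul, one_mul, h2, mt_one,
      show mt M - 1 - mt M = -(1 : Matrix (Fin 2) (Fin 2) F) by abel]
    ext i j
    simp [CharTwo.neg_eq]
  have hM1 : M ≠ 1 := by
    intro e
    have h10 := congrFun (congrFun (congrArg SL2C.mt e) 1) 0
    rw [hM, mt_mul, hu, mt_bor, mt_one] at h10
    simp only [Matrix.mul_apply, Fin.sum_univ_two] at h10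
    simp [← hγdef] at h10
    exact hγ h10
  have : Fact (Nat.Prime 3) := ⟨Nat.prime_three⟩
  rw [← orderOf_eq_prime hM3 hM1, ← map_mul, orderOf_injective proj proj_injective,
    show g * (c * u * c⁻¹) = c * M * c⁻¹ by rw [hM, hg']; group]
  exact CfsgLib.Invol.orderOf_conj_eq _ _

end CfsgLib.PSLEven
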