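import Cfsg.Agent.Suzuki.Sylow
import Cfsg.Agent.Suzuki.Fixity
import Cfsg.Agent.Suzuki.LieModel
import Cfsg.Agent.Suzuki.NormalForm
import Cfsg.Agent.Invol.Dihedral

/-!
Involutions in the Suzuki groups: two non-commuting involutions `t`, `s` determine one involution `u`
commuting with `t` such that `su` has order five; the centraliser of `t` holds an element of order four
centralising its involutions.
-/

set_option autoImplicit false
set_option linter.unusedSectionVars false

namespace CfsgLib.SuzFive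

open Matrix
open CfsgLib.Suzuki

variable {F : Type*} [Field F] {m : ℕ} (h : IsSzField F m)

local notation "G" => SzG F m

/-- The lower unipotent involution. -/
noncomputable abbrev low (l : F) : G := wE h * uE h 0 l * wE h

theorem low_sq (l : F) : low h l * low h l = 1 := by
  rw [show low h l * low h l = wE h * uE h 0 l * (wE h * wE h) * uE h 0 l * wE h by group, wE_mul_wE,
    mul_one, mul_assoc (wE h) (uE h 0 l), uE_sq, mul_zero, uE_zero, mul_one, wE_mul_wE]

theorem central_sq (b : F) : uE h 0 b * uE h 0 b = 1 := by rw [uE_sq, mul_zero, uE_zero]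

theorem low_val (l : F) : (low h l).1.val =
    !![1, 0, 0, 0; 0, 1, 0, 0; l, 0, 1, 0; sg m l, l, 0, 1] := by
  show Wmat F * Umat m 0 l * Wmat F = _
  ext i j
  fin_cases i <;> fin_cases j <;> simp [Wmat, Umat, zf, Matrix.mul_apply, Fin.sum_univ_four]

theorem central_val (b : F) : (uE h 0 b).1.val =
    !![1, 0, b, sg m b; 0, 1, 0, b; 0, 0, 1, 0; 0, 0, 0, 1] := by
  show Umat m 0 b = _
  ext i j
  fin_cases i <;> fin_cases j <;> simp [Umat, zf]

/-- The sum of `low l · central b` and its inverse. -/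
theorem sum_val (l b : F) : (low h l).1.val * (uE h 0 b).1.val + (uE h 0 b).1.val * (low h l).1.val =
    !![b * l + sg m b * sg m l, sg m b * l, 0, 0; b * sg m l, b * l, 0, 0;
      0, 0, b * l, sg m b * l; 0, 0, b * sg m l, b * l + sg m b * sg m l] := by
  rw [low_val, central_val]
  have := h.charP
  ext i j
  fin_cases i <;> fin_cases j <;>
    simp [Matrix.mul_apply, Fin.sum_univ_four, CharTwo.add_self_eq_zero] <;> first
      | ring1
      | linear_combination h.two_eq_zero

theorem quad (l b : F) :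
    let P := (low h l).1.val * (uE h 0 b).1.val + (uE h 0 b).1.val * (low h l).1.val
    P * P = sg m (l * b) • P + (l * b) ^ 2 • (1 : Matrix (Fin 4) (Fin 4) F) := by
  intro P
  show P * P = _
  simp only [P, sum_val, sg_mul]
  ext i j
  fin_cases i <;> fin_cases j <;> simp [Matrix.mul_apply, Fin.sum_univ_four] <;> first
    | ring1
    | linear_combination (b * l * sg m b * sg m l) * h.two_eq_zero
    | linear_combination (sg m b * l * b * sg m l) * h.two_eq_zero
    | linear_combination (sg m b * sg m l * b * l) * h.two_eq_zero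
    | linear_combination (b * l * sg m b * l) * h.two_eq_zero
    | linear_combination (b * l * b * sg m l) * h.two_eq_zero

theorem pow_val (g : G) (n : ℕ) : (g ^ n).1.val = g.1.val ^ n := by
  induction n with
  | zero => rfl
  | succ n ih => rw [pow_succ, pow_succ, ← ih]; rfl

/-- `su` has order five exactly for one `u`. -/
theorem five_iff {l b : F} (hl : l ≠ 0) (hb : b ≠ 0) :
    orderOf (low h l * uE h 0 b) = 5 ↔ l * b = 1 := by
  have := h.charP
  have : CharP (Matrix (Fin 4) (Fin 4) F) 2 := inferInstance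
  set M := (low h l).1.val * (uE h 0 b).1.val with hM
  set N := (uE h 0 b).1.val * (low h l).1.val with hN
  have hMv : (low h l * uE h 0 b).1.val = M := rfl
  have h1 : (low h l).1.val * (low h l).1.val = 1 :=
    congrArg (fun g : G => g.1.val) (low_sq h l)
  have h2 : (uE h 0 b).1.val * (uE h 0 b).1.val = 1 :=
    congrArg (fun g : G => g.1.val) (central_sq h b)
  have hMN : M * N = 1 := by
    rw [hM, hN, mul_assoc, ← mul_assoc ((uE h 0 b).1.val), h2, one_mul, h1]
  have hNM : N * M = 1 := by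
    rw [hM, hN, mul_assoc, ← mul_assoc ((low h l).1.val), h1, one_mul, h2]
  have hq : (M + N) * (M + N) = sg m (l * b) • (M + N) + (l * b) ^ 2 • 1 := quad h l b
  have hsq : (M + N) * (M + N) = M * M + N * N := by
    rw [add_mul, mul_add, mul_add, hMN, hNM,
      show M * M + 1 + (1 + N * N) = M * M + N * N + ((1 : Matrix (Fin 4) (Fin 4) F) + 1) by abel,
      CharTwo.add_self_eq_zero, add_zero]
  have hp : Fact (Nat.Prime 5) := ⟨Nat.prime_five⟩
  constructor
  · intro ho
    have h5 : M ^ 5 = 1 := by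
      have := congrArg (fun g : G => g.1.val) (ho ▸ pow_orderOf_eq_one (low h l * uE h 0 b))
      rwa [pow_val, hMv] at this
    have hN4 : N = M ^ 4 := by
      calc N = N * M ^ 5 := by rw [h5, mul_one]
        _ = (N * M) * M ^ 4 := by rw [pow_succ' M 4, ← mul_assoc]
        _ = M ^ 4 := by rw [hNM, one_mul]
    set P := M + N with hP
    have hP2 : P * P = M ^ 2 + M ^ 3 := by
      rw [hsq, hN4, ← pow_add, show (4 + 4 : ℕ) = 5 + 3 from rfl, pow_add, h5, one_mul, pow_two]
    have hP3 : P * P * P + P * P + P = 0 := by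
      rw [hP2, hP, hN4]
      have e6 : M ^ 6 = M := by rw [pow_succ, h5, one_mul]
      have e7 : M ^ 7 = M ^ 2 := by rw [show 7 = 5 + 2 from rfl, pow_add, h5, one_mul]
      calc (M ^ 2 + M ^ 3) * (M + M ^ 4) + (M ^ 2 + M ^ 3) + (M + M ^ 4)
          = M ^ 3 + M ^ 6 + (M ^ 4 + M ^ 7) + (M ^ 2 + M ^ 3) + (M + M ^ 4) := by noncomm_ring
        _ = (M ^ 3 + M ^ 3) + (M + M) + (M ^ 4 + M ^ 4) + (M ^ 2 + M ^ 2) := by rw [e6, e7]; abel
        _ = 0 := by simp only [CharTwo.add_self_eq_zero, add_zero]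
    set s := sg m (l * b)
    set t := l * b
    have hlin : (s * s + t ^ 2 + s + 1) • P + (s * t ^ 2 + t ^ 2) • (1 : Matrix (Fin 4) (Fin 4) F) = 0 := by
      rw [← hP3, hq, add_mul, smul_mul_assoc, smul_mul_assoc, one_mul, hq]
      module
    have e23 := congrFun (congrFun hlin 2) 3
    have e22 := congrFun (congrFun hlin 2) 2
    have hP23 : P 2 3 = sg m b * l := by rw [hP, hM, hN, sum_val]; rfl
    simp only [Matrix.add_apply, Matrix.smul_apply, Matrix.zero_apply, smul_eq_mul,
      Matrix.one_apply_ne (show (2 : Fin 4) ≠ 3 by decide), mul_zero, add_zero, hP23] at e23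
    have ha := (mul_eq_zero.1 e23).resolve_right (mul_ne_zero (sg_ne_zero hb) hl)
    simp only [Matrix.add_apply, Matrix.smul_apply, Matrix.one_apply_eq, Matrix.zero_apply, smul_eq_mul,
      ha, zero_mul, zero_add, mul_one] at e22
    rw [show s * t ^ 2 + t ^ 2 = (s + 1) * t ^ 2 by ring] at e22
    have hs : s = 1 := CharTwo.add_eq_zero.1
      ((mul_eq_zero.1 e22).resolve_right (pow_ne_zero _ (mul_ne_zero hl hb)))
    exact h.sg_injective (hs.trans (sg_one (m := m)).symm)
  · intro ht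
    rw [ht, sg_one, one_pow, one_smul, one_smul, hsq] at hq
    have h5 : M ^ 5 = 1 := by
      have e : M ^ 2 * (M * M + N * N) = M ^ 2 * (M + N + 1) := by rw [hq]
      have e1 : M ^ 2 * (N * N) = 1 := by
        rw [pow_two, mul_assoc, ← mul_assoc M N N, hMN, one_mul, hMN]
      rw [mul_add, e1, ← pow_two M, ← pow_add, mul_add, mul_add, mul_one, ← pow_succ,
        show M ^ 2 * N = M by rw [pow_two, mul_assoc, hMN, mul_one]] at e
      have e4 : M ^ 5 + M = M * (M ^ (2 + 2) + 1) := by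
        rw [mul_add, mul_one, ← pow_succ']
      rw [e] at e4
      calc M ^ 5 = M ^ 5 + M + M := by rw [add_assoc, CharTwo.add_self_eq_zero, add_zero]
        _ = M * (M ^ (2 + 1) + M + M ^ 2) + M := by rw [e4]
        _ = M ^ 4 + M ^ 2 + M ^ 3 + M := by noncomm_ring
        _ = (M ^ 4 + 1) + (M ^ 2 + M ^ 3 + M) + 1 := by
          rw [show M ^ 4 + 1 + (M ^ 2 + M ^ 3 + M) + 1 =
            M ^ 4 + M ^ 2 + M ^ 3 + M + ((1 : Matrix (Fin 4) (Fin 4) F) + 1) by abel,
            CharTwo.add_self_eq_zero, add_zero]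
        _ = 1 := by
          rw [show M ^ 4 = M ^ (2 + 2) from rfl, e,
            show M ^ (2 + 1) + M + M ^ 2 + (M ^ 2 + M ^ 3 + M) =
              (M ^ 3 + M ^ 3) + (M + M) + (M ^ 2 + M ^ 2) by abel]
          simp only [CharTwo.add_self_eq_zero, add_zero, zero_add]
    refine orderOf_eq_prime (Subtype.ext (Subtype.ext (by rw [pow_val, hMv, h5]; rfl))) fun e => hl ?_
    have e' := congrArg (fun g : G => g.1.val) e
    have e20 := congrFun (congrFun e' 2) 0
    have : M 2 0 = (1 : Matrix (Fin 4) (Fin 4) F) 2 0 := e20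
    rw [hM, low_val, central_val] at this
    simpa [Matrix.mul_apply, Fin.sum_univ_four] using this

/-- Members of the centre of the Sylow subgroup at infinity. -/
theorem commute_central_iff {b : F} (hb : b ≠ 0) {u : G} :
    (u * u = 1 ∧ Commute u (uE h 0 b)) ↔ ∃ β, u = uE h 0 β := by
  constructor
  · rintro ⟨hu, hc⟩
    obtain ⟨a, β, rfl⟩ := exists_uE h (centralizer_le_unip h (uE_mem h 0 b)
      (fun e => hb ((uE_eq_one h).1 e).2) (Subgroup.mem_centralizer_singleton_iff.2 hc.eq))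
    exact ⟨β, by rw [sq_eq_one_cases h hu]⟩
  · rintro ⟨β, rfl⟩
    refine ⟨central_sq h β, ?_⟩
    show uE h 0 β * uE h 0 b = uE h 0 b * uE h 0 β
    simp [uE_mul, add_comm]

/-- Normal form of two non-commuting involutions. -/
theorem normal_pair {t s : G} (ht : t * t = 1) (hs : s * s = 1) (hts : ¬ Commute t s) :
    ∃ (c : G) (b l : F), b ≠ 0 ∧ l ≠ 0 ∧ c * t * c⁻¹ = uE h 0 b ∧ c * s * c⁻¹ = low h l := by
  have := h.finite
  have ht1 : t ≠ 1 := fun e => hts (e ▸ Commute.one_left _)
  have hs1 : s ≠ 1 := fun e => hts (e ▸ Commute.one_right _)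
  obtain ⟨c, hc⟩ := involution_to_std h ht1 ht
  set s1 := c * s * c⁻¹ with hs1def
  have hs11 : s1 * s1 = 1 := by
    rw [hs1def, show c * s * c⁻¹ * (c * s * c⁻¹) = c * (s * s) * c⁻¹ by group, hs, mul_one, mul_inv_cancel]
  obtain ⟨p, hp, hfix⟩ := exists_fixed_of_sq_one h hs11
  have hne : p ≠ inf F := by
    rintro rfl
    obtain ⟨a, β, u, e⟩ := (mem_stab_inf h).1 hfix
    have h3 := congrArg (fun x : G => x.1.val 1 1) (e ▸ hs11)
    simp [Subgroup.coe_mul, Matrix.mul_apply, Fin.sum_univ_four, Umat, Dmat] at h3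
    have := h.charP
    have hu : u = 1 := Units.ext (CharTwo.sq_inj.1 (by rw [Units.val_one, one_pow]; linear_combination h3))
    rw [hu, map_one, mul_one] at e
    have ha : a = 0 := sq_eq_one_cases h (b := β) (by rw [← e]; exact hs11)
    subst ha
    refine hts ((Commute.conj_iff c).1 ?_)
    rw [hc, ← hs1def, e]
    show uE h 0 1 * uE h 0 β = uE h 0 β * uE h 0 1
    simp [uE_mul, add_comm]
  obtain ⟨⟨v, hv⟩, hvp, -⟩ := existsUnique_unip h hp (pt_mem (F := F) (m := m) 0 0) hne (pt_ne_inf _ _)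
  have hfix2 : (v * s1 * v⁻¹) • pt m (0 : F) 0 = pt m 0 0 := by
    rw [← hvp, ← mul_smul, show v * s1 * v⁻¹ * v = v * s1 by group, mul_smul]
    show v • s1 • p = v • p
    rw [hfix]
  set s2 := v * s1 * v⁻¹
  have hs22 : s2 * s2 = 1 := by
    rw [show s2 * s2 = v * (s1 * s1) * v⁻¹ by simp only [s2]; group, hs11, mul_one, mul_inv_cancel]
  set z := wE h * s2 * wE h
  have hz : z * z = 1 := by
    rw [show z * z = wE h * s2 * (wE h * wE h) * s2 * wE h by simp only [z]; group, wE_mul_wE, mul_one,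
      mul_assoc (wE h) s2, hs22, mul_one, wE_mul_wE]
  have hzf : z ∈ MulAction.stabilizer G (inf F) := by
    show z • inf F = inf F
    rw [mul_smul, mul_smul, wE_smul_inf' h, hfix2, wE_smul_zero' h]
  obtain ⟨a, l, u, e⟩ := (mem_stab_inf h).1 hzf
  have h3 := congrArg (fun x : G => x.1.val 1 1) (e ▸ hz)
  simp [Subgroup.coe_mul, Matrix.mul_apply, Fin.sum_univ_four, Umat, Dmat] at h3
  have := h.charP
  have hu : u = 1 := Units.ext (CharTwo.sq_inj.1 (by rw [Units.val_one, one_pow]; linear_combination h3))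
  rw [hu, map_one, mul_one] at e
  have ha : a = 0 := sq_eq_one_cases h (b := l) (by rw [← e]; exact hz)
  subst ha
  obtain ⟨va, vb, rfl⟩ := exists_uE h hv
  have hvt : uE h va vb * uE h 0 1 * (uE h va vb)⁻¹ = uE h 0 1 := by
    rw [mul_inv_eq_iff_eq_mul, uE_mul, uE_mul]
    simp [add_comm, add_left_comm]
  have hlow : low h l = s2 := by
    rw [low, ← e, show wE h * z * wE h = (wE h * wE h) * s2 * (wE h * wE h) by simp only [z]; group,
      wE_mul_wE, one_mul, mul_one]
  refine ⟨uE h va vb * c, 1, l, one_ne_zero, fun hl => hs1 ?_, ?_, ?_⟩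
  · have h0 : z = 1 := by rw [e, hl, uE_zero]
    have h2 : s2 = 1 := by rw [← hlow, hl, low, uE_zero, mul_one, wE_mul_wE]
    have h1 : s1 = 1 := conj_eq_one_iff.1 h2
    exact conj_eq_one_iff.1 h1
  · rw [show uE h va vb * c * t * (uE h va vb * c)⁻¹ = uE h va vb * (c * t * c⁻¹) * (uE h va vb)⁻¹ by group,
      hc, hvt]
  · rw [hlow]
    simp only [s2, s1]
    group
where
  wE_smul_inf' (h : IsSzField F m) : wE h • inf F = pt m (0 : F) 0 := W_smul_inf
  wE_smul_zero' (h : IsSzField F m) : wE h • pt m (0 : F) 0 = inf F := W_smul_pt_zero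

section abstract

universe u

variable {S : Type u} [Group S] [Finite S] (hS : Cfsg.Lie.IsoSuzuki S)
include hS

omit [Finite S] in
/-- A model over a field. -/
theorem model : ∃ (F : Type) (_ : Field F) (m : ℕ) (h : IsSzField F m),
    1 ≤ m ∧ Nonempty (S ≃* SzG F m) := by
  obtain ⟨F, iF, iT, m, hm, hF, ⟨e⟩⟩ := hS
  have h : @IsSzField F iF m := isSzField_of_card hm hF
  exact ⟨F, iF, m, h, hm, ⟨MulEquiv.trans e (lieEquiv h).symm⟩⟩

theorem exists_five {t s : S} (ht : t * t = 1) (hs : s * s = 1) (hts : ¬ Commute t s) :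
    ∃ u, u * u = 1 ∧ Commute u t ∧ orderOf (s * u) = 5 := by
  obtain ⟨F, _, m, h, -, ⟨e⟩⟩ := model hS
  obtain ⟨c, b, l, hb, hl, ec, es⟩ := normal_pair h (t := e t) (s := e s) (by rw [← map_mul, ht, map_one])
    (by rw [← map_mul, hs, map_one]) fun hc => hts (by simpa using hc.map e.symm)
  have hi : l⁻¹ ≠ 0 := inv_ne_zero hl
  refine ⟨e.symm (c⁻¹ * uE h 0 l⁻¹ * c), ?_, ?_, ?_⟩
  · rw [← map_mul, show c⁻¹ * uE h 0 l⁻¹ * c * (c⁻¹ * uE h 0 l⁻¹ * c) =
      c⁻¹ * (uE h 0 l⁻¹ * uE h 0 l⁻¹) * c by group, central_sq, mul_one, inv_mul_cancel, map_one]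
  · have hc := (Commute.conj_iff c⁻¹).2 ((commute_central_iff h hb).2 ⟨l⁻¹, rfl⟩).2
    rw [← ec, show c⁻¹ * (c * e t * c⁻¹) * c⁻¹⁻¹ = e t by group, inv_inv] at hc
    simpa using hc.map e.symm
  · rw [← e.orderOf_eq, map_mul, e.apply_symm_apply,
      show e s * (c⁻¹ * uE h 0 l⁻¹ * c) = c⁻¹ * (c * e s * c⁻¹ * uE h 0 l⁻¹) * c⁻¹⁻¹ by group,
      Invol.orderOf_conj_eq, es, five_iff h hl hi, mul_inv_cancel₀ hl]

theorem five_unique {t s u v : S} (ht : t * t = 1) (hs : s * s = 1) (hts : ¬ Commute t s)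
    (hu : u * u = 1) (hut : Commute u t) (hsu : orderOf (s * u) = 5)
    (hv : v * v = 1) (hvt : Commute v t) (hsv : orderOf (s * v) = 5) : u = v := by
  obtain ⟨F, _, m, h, -, ⟨e⟩⟩ := model hS
  obtain ⟨c, b, l, hb, hl, ec, es⟩ := normal_pair h (t := e t) (s := e s) (by rw [← map_mul, ht, map_one])
    (by rw [← map_mul, hs, map_one]) fun hc => hts (by simpa using hc.map e.symm)
  have key : ∀ w : S, w * w = 1 → Commute w t → orderOf (s * w) = 5 →
      c * e w * c⁻¹ = uE h 0 l⁻¹ := by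
    intro w hw hwt hsw
    obtain ⟨β, hβ⟩ := (commute_central_iff h hb (u := c * e w * c⁻¹)).1 ⟨by
      rw [show c * e w * c⁻¹ * (c * e w * c⁻¹) = c * (e w * e w) * c⁻¹ by group, ← map_mul, hw, map_one,
        mul_one, mul_inv_cancel], by
      rw [← ec]; exact (Commute.conj_iff c).2 (hwt.map e)⟩
    rw [← e.orderOf_eq, map_mul,
      show e s * e w = c⁻¹ * ((c * e s * c⁻¹) * (c * e w * c⁻¹)) * c⁻¹⁻¹ by group,
      Invol.orderOf_conj_eq, es, hβ] at hsw
    have hβ0 : β ≠ 0 := by
      rintro rfl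
      rw [uE_zero, mul_one] at hsw
      have := orderOf_dvd_of_pow_eq_one (show low h l ^ 2 = 1 by rw [pow_two, low_sq])
      rw [hsw] at this
      norm_num at this
    rw [hβ, eq_inv_of_mul_eq_one_right ((five_iff h hl hβ0).1 hsw)]
  exact e.injective (mul_left_cancel (mul_right_cancel ((key u hu hut hsu).trans (key v hv hvt hsv).symm)))

/-- The order, and the number of involutions with the identity centralising an involution. -/
theorem counts : ∃ m : ℕ, 1 ≤ m ∧
    Nat.card S = (2 ^ (2 * m + 1)) ^ 2 * ((2 ^ (2 * m + 1)) ^ 2 + 1) * (2 ^ (2 * m + 1) - 1) ∧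
    ∀ t : S, t * t = 1 → t ≠ 1 → {u : S | u * u = 1 ∧ Commute u t}.ncard = 2 ^ (2 * m + 1) := by
  obtain ⟨F, _, m, h, hm, ⟨e⟩⟩ := model hS
  have := h.finite
  refine ⟨m, hm, ?_, fun t ht ht1 => ?_⟩
  · rw [Nat.card_congr e.toEquiv, card_Sz h, h.card]
  obtain ⟨c, hc⟩ := involution_to_std h (g := e t) (fun h1 => ht1 (by simpa using h1))
    (by rw [← map_mul, ht, map_one])
  set f : S ≃* SzG F m := e.trans (MulAut.conj c)
  have hft : f t = uE h 0 1 := hc
  have himg : f '' {u : S | u * u = 1 ∧ Commute u t} = Set.range fun β => uE h 0 β := by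
    ext g
    obtain ⟨u, rfl⟩ := f.surjective g
    rw [f.injective.mem_set_image]
    constructor
    · rintro ⟨hu, hut⟩
      obtain ⟨β, hβ⟩ := (commute_central_iff h one_ne_zero (u := f u)).1
        ⟨by rw [← map_mul, hu, map_one], hft ▸ hut.map f⟩
      exact ⟨β, hβ.symm⟩
    · rintro ⟨β, hβ⟩
      obtain ⟨h1, h2⟩ := (commute_central_iff h one_ne_zero (u := f u)).2 ⟨β, hβ.symm⟩
      refine ⟨f.injective (by rw [map_mul, h1, map_one]), ?_⟩
      rw [← hft] at h2
      simpa using h2.map f.symm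
  rw [← Set.ncard_image_of_injective _ f.injective, himg, ← Nat.card_coe_set_eq,
    Nat.card_range_of_injective fun a b hab => (uE_inj h hab).2, h.card]

/-- An element of order four centralising the involutions that centralise a given one. -/
theorem exists_root {t : S} (ht : t * t = 1) (ht1 : t ≠ 1) :
    ∃ g : S, g ^ 4 = 1 ∧ g * g ≠ 1 ∧ Commute (g * g) t ∧
      ∀ u : S, u * u = 1 → Commute u t → Commute g u := by
  obtain ⟨F, _, m, h, -, ⟨e⟩⟩ := model hS
  have := h.finite
  obtain ⟨c, hc⟩ := involution_to_std h (g := e t) (fun h1 => ht1 (by simpa using h1))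
    (by rw [← map_mul, ht, map_one])
  set f : S ≃* SzG F m := e.trans (MulAut.conj c)
  have hft : f t = uE h 0 1 := hc
  refine ⟨f.symm (uE h 1 0), ?_, ?_, ?_, fun u hu hut => ?_⟩
  · rw [← map_pow, pow_succ, pow_succ, pow_two, mul_assoc _ (uE h 1 0), uE_sq, central_sq, map_one]
  · rw [← map_mul, uE_sq, ne_eq, map_eq_one_iff _ f.symm.injective, uE_eq_one, sg_one, one_mul]
    exact fun h' => one_ne_zero h'.2
  · have hc' := ((commute_central_iff h (b := (1 : F)) one_ne_zero).2 ⟨sg m (1 : F) * 1, rfl⟩).2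
    rw [← hft, ← uE_sq] at hc'
    simpa using hc'.map f.symm
  · obtain ⟨β, hβ⟩ := (commute_central_iff h one_ne_zero (u := f u)).1
      ⟨by rw [← map_mul, hu, map_one], hft ▸ hut.map f⟩
    have hc' : Commute (uE h 1 0) (f u) := by
      rw [hβ]
      show uE h 1 0 * uE h 0 β = uE h 0 β * uE h 1 0
      simp [uE_mul]
    simpa using hc'.map f.symm

/-- All involutions are conjugate. -/
theorem conj_involution {t u : S} (ht : t * t = 1) (ht1 : t ≠ 1) (hu : u * u = 1) (hu1 : u ≠ 1) :
    ∃ g : S, g * t * g⁻¹ = u := by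
  obtain ⟨F, _, m, h, -, ⟨e⟩⟩ := model hS
  obtain ⟨c, hc⟩ := involution_to_std h (g := e t) (fun h1 => ht1 (by simpa using h1))
    (by rw [← map_mul, ht, map_one])
  obtain ⟨c', hc'⟩ := involution_to_std h (g := e u) (fun h1 => hu1 (by simpa using h1))
    (by rw [← map_mul, hu, map_one])
  refine ⟨e.symm (c'⁻¹ * c), e.injective ?_⟩
  rw [map_mul, map_mul, map_inv, e.apply_symm_apply,
    show c'⁻¹ * c * e t * (c'⁻¹ * c)⁻¹ = c'⁻¹ * (c * e t * c⁻¹) * c' by group, hc, ← hc']
  group

theorem not_three : ¬ 3 ∣ Nat.card S := by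
  obtain ⟨m, -, hcard, -⟩ := counts hS
  rw [hcard]
  set q := 2 ^ (2 * m + 1) with hq
  have h4 : q % 3 = 2 := by
    rw [hq, pow_succ, pow_mul, Nat.mul_mod, Nat.pow_mod]; norm_num
  intro hd
  rcases (Nat.prime_three.dvd_mul).1 hd with hd | hd
  · rcases (Nat.prime_three.dvd_mul).1 hd with hd | hd
    · have := Nat.prime_three.dvd_of_dvd_pow hd; omega
    · have := Nat.mod_eq_zero_of_dvd hd
      rw [Nat.add_mod, Nat.pow_mod, h4] at this
      norm_num at this
  · obtain ⟨k, hk⟩ := hd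
    clear_value q
    omega

theorem simple : IsSimpleGroup S := by
  obtain ⟨F, _, m, h, -, ⟨e⟩⟩ := model hS
  have := isSimpleGroup_Sz h
  have : Nontrivial S := e.toEquiv.nontrivial
  exact IsSimpleGroup.isSimpleGroup_of_surjective e.symm.toMonoidHom e.symm.surjective

end abstract

end CfsgLib.SuzFive
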