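import Cfsg.Agent.RootSubgroups.UThreeFix
import Mathlib.LinearAlgebra.Eigenspace.Zero

/-!
In `PSU₃(q)`, `q` even, elements of two-power order in the group generated by pairwise commuting
involutions and one more involution not commuting with all of them square to one: this group fixes an
anisotropic vector.
-/

set_option autoImplicit false
set_option linter.style.haveILetI false
set_option linter.unusedSectionVars false

namespace CfsgLib.UThreeFix

open Matrix CfsgLib.Forms CfsgLib.Unitary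

variable {F : Type*} [Field F] [Finite F] [CharP F 2] {q : ℕ} (hF : Nat.card F = q ^ 2)
include hF

local notation "hm" => Cfsg.hermForm 3 F q

/-- An involution of the projective group lifts to one. -/
theorem exists_lift {s : Cfsg.PSU 3 F q} (hs : s * s = 1) :
    ∃ g : Cfsg.SU 3 F q, QuotientGroup.mk' (Subgroup.center _) g = s ∧ g * g = 1 := by
  set Z := Subgroup.center (Cfsg.SU 3 F q)
  obtain ⟨g, rfl⟩ := QuotientGroup.mk'_surjective Z s
  have hz : g * g ∈ Z := (QuotientGroup.eq_one_iff _).1 (by rw [← hs]; rfl)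
  obtain ⟨a, ha⟩ := (mem_center_SU_iff hF (by norm_num)).1 hz
  have h := (g * g).1.2
  rw [ha, Matrix.det_smul, Matrix.det_one, mul_one, Fintype.card_fin] at h
  have h3 : (g * g) ^ 3 = 1 := by
    refine Subtype.ext (Subtype.ext ?_)
    have e : suMat (g * g) = a • 1 := ha
    show suMat (g * g) ^ 3 = 1
    rw [e, smul_pow, h, one_pow, one_smul]
  refine ⟨g * (g * g), ?_, ?_⟩
  · rw [map_mul, map_mul, hs, mul_one]
  · rw [show g * (g * g) * (g * (g * g)) = (g * g) ^ 3 by rw [pow_succ, pow_two]; group]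
    exact h3

/-- A unipotent isometry fixing an anisotropic vector squares to one. -/
theorem sq_one_of_fix {g : Cfsg.SU 3 F q} {k : ℕ} (hg : g ^ 2 ^ k = 1) {v : Fin 3 → F}
    (hv : hm v v ≠ 0) (hfix : suMat g *ᵥ v = v) : g * g = 1 := by
  haveI : CharP (Matrix (Fin 3) (Fin 3) F) 2 := inferInstance
  set N := Matrix.mulVecLin (suMat g - 1) with hN
  have happ : ∀ x, N x = suMat g *ᵥ x - x := fun x => by
    rw [hN, Matrix.mulVecLin_apply, Matrix.sub_mulVec, Matrix.one_mulVec]
  let φ : (Fin 3 → F) →ₗ[F] F :=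
    { toFun := fun w => hm w v
      map_add' := fun u w => herm_add_left ..
      map_smul' := fun a w => by simp [herm_smul_left] }
  have hφN : ∀ x, φ (N x) = 0 := fun x => by
    show hm (N x) v = 0
    rw [happ, herm_sub_left hF]
    conv_lhs => arg 1; arg 5; rw [← hfix]
    rw [su_preserves, sub_self]
  set W := LinearMap.ker φ
  have hW : Module.finrank F W = 2 := by
    have h := LinearMap.finrank_range_add_finrank_ker φ
    have hr : LinearMap.range φ = ⊤ := LinearMap.range_eq_top.2 fun a =>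
      ⟨(a * (hm v v)⁻¹) • v, by
        show hm ((a * (hm v v)⁻¹) • v) v = a
        rw [herm_smul_left, mul_assoc, inv_mul_cancel₀ hv, mul_one]⟩
    rw [hr, finrank_top, Module.finrank_self, Module.finrank_fin_fun] at h
    change 1 + Module.finrank F W = 3 at h
    omega
  have hWN : ∀ x ∈ W, N x ∈ W := fun x _ => hφN x
  set R := N.restrict hWN with hR
  have hnil : IsNilpotent (suMat g - 1) := ⟨2 ^ k, by
    rw [sub_pow_char_pow_of_commute _ _ (Commute.one_right _), one_pow]
    have e : suMat g ^ 2 ^ k = 1 := by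
      rw [← suMat_one (F := F) (q := q) (n := 3), ← hg]
      clear hg
      induction 2 ^ k with
      | zero => rfl
      | succ n ih => rw [pow_succ, pow_succ, ih, suMat_mul]
    rw [e, sub_self]⟩
  have hNnil : IsNilpotent N := by
    obtain ⟨n, hn⟩ := hnil
    refine ⟨n, ?_⟩
    rw [hN, show Matrix.mulVecLin (suMat g - 1) = Matrix.toLin' (suMat g - 1) from rfl, ← Matrix.toLin'_pow,
      hn, map_zero]
  have hR2 : R ^ 2 = 0 := by
    have h := LinearMap.aeval_self_charpoly R
    rwa [(Module.End.isNilpotent.restrict hWN hNnil).charpoly_eq_X_pow_finrank, hW, map_pow,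
      Polynomial.aeval_X] at h
  have hN2 : ∀ x, N (N x) = 0 := by
    intro x
    set c := φ x * (hm v v)⁻¹
    have hxW : x - c • v ∈ W := by
      show φ (x - c • v) = 0
      rw [map_sub, map_smul, show φ v = hm v v from rfl, smul_eq_mul, mul_assoc, inv_mul_cancel₀ hv,
        mul_one, sub_self]
    have h := congrArg Subtype.val (LinearMap.congr_fun hR2 ⟨x - c • v, hxW⟩)
    rw [pow_two] at h
    change N (N (x - c • v)) = 0 at h
    rwa [map_sub, map_smul, show N v = 0 by rw [happ, hfix, sub_self], smul_zero, sub_zero] at h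
  refine su_ext fun x => ?_
  have h := hN2 x
  rw [happ, happ, Matrix.mulVec_sub, Matrix.mulVec_mulVec, ← suMat_mul] at h
  rw [suMat_one, Matrix.one_mulVec]
  funext i
  have hi := congrFun h i
  simp only [Pi.sub_apply, Pi.zero_apply] at hi
  linear_combination hi + ((suMat g *ᵥ x) i - x i) * CharTwo.two_eq_zero (R := F)

/-- Two-elements of the generated group square to one. -/
theorem two_sq {S : Set (Cfsg.PSU 3 F q)} (hS : ∀ s ∈ S, s * s = 1)
    (hcomm : ∀ s ∈ S, ∀ s' ∈ S, Commute s s') {x : Cfsg.PSU 3 F q} (hx : x * x = 1)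
    (hnc : ∃ s ∈ S, ¬ Commute s x) {w : Cfsg.PSU 3 F q} (hw : w ∈ Subgroup.closure (S ∪ {x})) {k : ℕ}
    (hwk : w ^ 2 ^ k = 1) : w * w = 1 := by
  set Z := Subgroup.center (Cfsg.SU 3 F q)
  set π := QuotientGroup.mk' Z with hπ
  choose f hf using fun s : {s // s ∈ S} => exists_lift hF (hS s s.2)
  obtain ⟨gx, hgx, hgx2⟩ := exists_lift hF hx
  choose P hP using fun s : {s // s ∈ S} => exists_point hF (hf s).2
  obtain ⟨R, hR⟩ := exists_point hF hgx2
  have hlc : ∀ g h : Cfsg.SU 3 F q, g * g = 1 → h * h = 1 → Commute (π g) (π h) → Commute g h := by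
    intro g h hg hh hgh
    have hz : g * h * (g * h) ∈ Z := (QuotientGroup.eq_one_iff _).1 (by
      rw [show ((g * h * (g * h) : Cfsg.SU 3 F q) : Cfsg.PSU 3 F q) = π g * π h * (π g * π h) from rfl,
        hgh.symm.mul_mul_mul_comm, ← map_mul, ← map_mul, hg, hh, map_one, one_mul])
    set z := g * h * (g * h) with hzdef
    have hgi : g⁻¹ = g := inv_eq_of_mul_eq_one_right hg
    have hhi : h⁻¹ = h := inv_eq_of_mul_eq_one_right hh
    have hinv : h * z * h⁻¹ = z⁻¹ := by
      rw [hzdef, _root_.mul_inv_rev, _root_.mul_inv_rev, hgi, hhi,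
        show h * (g * h * (g * h)) * h = h * g * h * g * (h * h) by group, hh, mul_one]
      group
    rw [Subgroup.mem_center_iff.1 hz h, mul_inv_cancel_right] at hinv
    obtain ⟨a, ha⟩ := (mem_center_SU_iff hF (by norm_num)).1 hz
    have h3 := z.1.2
    rw [ha, Matrix.det_smul, Matrix.det_one, mul_one, Fintype.card_fin] at h3
    have hzz : z * z = 1 := by
      nth_rw 2 [hinv]
      exact mul_inv_cancel z
    have hz3 : z ^ 3 = 1 := by
      refine Subtype.ext (Subtype.ext ?_)
      have e : suMat z = a • 1 := ha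
      show suMat z ^ 3 = 1
      rw [e, smul_pow, h3, one_pow, one_smul]
    rw [pow_succ, pow_two, hzz, one_mul, hzdef, mul_eq_one_iff_eq_inv, _root_.mul_inv_rev, hgi, hhi] at hz3
    exact hz3
  obtain ⟨p0, hp0, hp0i⟩ : ∃ p0 : Fin 3 → F, (∀ s, ∃ a : F, P s = a • p0) ∧ hm p0 p0 = 0 := by
    by_cases h0 : ∀ s, P s = 0
    · exact ⟨0, fun s => ⟨0, by rw [h0, smul_zero]⟩, herm_zero_left hF _⟩
    push Not at h0
    obtain ⟨s0, hs0⟩ := h0
    refine ⟨P s0, fun s => eq_smul_of_orth hF (hP s0).1 hs0 (hP s).1 ?_, (hP s0).1⟩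
    have hc : Commute (f s) (f s0) := hlc _ _ (hf s).2 (hf s0).2 (by
      rw [(hf s).1, (hf s0).1]; exact hcomm _ s.2 _ s0.2)
    exact orth_of_commute hF hc (hP s0).1 (hP s).2.2.2.1 (hP s0).2.2.2.1 (hP s0).2.2.2.2
      (hP s).2.2.2.2
  let φ : (Fin 3 → F) →ₗ[F] (Fin 2 → F) :=
    { toFun := fun v => ![hm v p0, hm v R]
      map_add' := fun u v => by ext i; fin_cases i <;> simp [herm_add_left]
      map_smul' := fun a v => by ext i; fin_cases i <;> simp [herm_smul_left] }
  obtain ⟨v, hv, hv0⟩ : ∃ v ∈ LinearMap.ker φ, v ≠ 0 := by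
    refine (Submodule.ne_bot_iff _).1 fun hk => ?_
    have h := LinearMap.finrank_le_finrank_of_injective (LinearMap.ker_eq_bot.1 hk)
    simp at h
  have hvp : hm v p0 = 0 := congrFun (LinearMap.mem_ker.1 hv) 0
  have hvR : hm v R = 0 := congrFun (LinearMap.mem_ker.1 hv) 1
  have hffix : ∀ s, suMat (f s) *ᵥ v = v := fun s => by
    obtain ⟨b, hb⟩ := hp0 s
    exact (hP s).2.2.1 v (by rw [hb, herm_smul_right hF, hvp, mul_zero])
  have hxfix : suMat gx *ᵥ v = v := hR.2.2.1 v hvR
  -- the vector is anisotropic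
  have hvv : hm v v ≠ 0 := by
    intro h0
    obtain ⟨s, hs, hsx⟩ := hnc
    obtain ⟨b, hb⟩ := hp0 ⟨s, hs⟩
    obtain ⟨a, ha⟩ := eq_smul_of_orth hF h0 hv0 hp0i hvp
    obtain ⟨a', ha'⟩ := eq_smul_of_orth hF h0 hv0 hR.1 hvR
    refine hsx ?_
    have hc : Commute (f ⟨s, hs⟩) gx := su_ext fun y => by
      obtain ⟨α, hα⟩ := (hP ⟨s, hs⟩).2.2.2.1 y
      obtain ⟨β, hβ⟩ := hR.2.2.2.1 y
      rw [hb, ha, smul_smul, smul_smul] at hα
      rw [ha', smul_smul] at hβ
      rw [suMat_mul, suMat_mul, ← Matrix.mulVec_mulVec, ← Matrix.mulVec_mulVec, sub_eq_iff_eq_add.1 hβ,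
        sub_eq_iff_eq_add.1 hα, Matrix.mulVec_add, Matrix.mulVec_add, Matrix.mulVec_smul,
        Matrix.mulVec_smul, hffix, hxfix, sub_eq_iff_eq_add.1 hβ, sub_eq_iff_eq_add.1 hα]
      abel
    have h' := hc.map π
    rwa [(hf ⟨s, hs⟩).1, hgx] at h'
  set H := Subgroup.closure (Set.range f ∪ {gx})
  have hfixH : ∀ g ∈ H, suMat g *ᵥ v = v := by
    intro g hg
    induction hg using Subgroup.closure_induction with
    | mem a ha =>
      rcases ha with ⟨s, rfl⟩ | rfl
      exacts [hffix s, hxfix]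
    | one => rw [suMat_one, Matrix.one_mulVec]
    | mul a b _ _ iha ihb => rw [suMat_mul, ← Matrix.mulVec_mulVec, ihb, iha]
    | inv a _ iha =>
      calc suMat a⁻¹ *ᵥ v = suMat a⁻¹ *ᵥ (suMat a *ᵥ v) := by rw [iha]
        _ = v := su_inv_mulVec a v
  obtain ⟨g, hg, rfl⟩ : ∃ g ∈ H, π g = w := by
    have hle : Subgroup.closure (S ∪ {x}) ≤ H.map π := (Subgroup.closure_le _).2 (by
      rintro s (hs | rfl)
      · exact ⟨f ⟨s, hs⟩, Subgroup.subset_closure (Or.inl ⟨_, rfl⟩), (hf _).1⟩
      · exact ⟨gx, Subgroup.subset_closure (Or.inr rfl), hgx⟩)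
    exact hle hw
  have hgk : g ^ 2 ^ k = 1 := by
    have hz : g ^ 2 ^ k ∈ Z := (QuotientGroup.eq_one_iff _).1 (by rw [← hwk, ← map_pow]; rfl)
    obtain ⟨a, ha⟩ := (mem_center_SU_iff hF (by norm_num)).1 hz
    have ha' : suMat (g ^ 2 ^ k) = a • 1 := ha
    have h1 := hfixH _ (H.pow_mem hg (2 ^ k))
    rw [ha', Matrix.smul_mulVec, Matrix.one_mulVec] at h1
    have ha1 : a = 1 := by
      have h2 : (a - 1) • v = 0 := by rw [sub_smul, h1, one_smul, sub_self]
      exact sub_eq_zero.1 ((smul_eq_zero.1 h2).resolve_right hv0)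
    exact su_ext fun y => by rw [ha', ha1, one_smul, suMat_one]
  rw [← map_mul, sq_one_of_fix hF hgk hvv (hfixH g hg), map_one]

end CfsgLib.UThreeFix
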