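import Cfsg.Agent.RootSubgroups.OddLinear
import Cfsg.Agent.RootSubgroups.OddQuot
import Cfsg.Agent.RootSubgroups.SuzFive
import Cfsg.Agent.RootSubgroups.PSLThree
import Cfsg.Agent.RootSubgroups.UThreeTwo

/-!
The two kinds of the group generated by the twins of an odd transposition and one partner: a product of
order three with a twin, or a Suzuki quotient.  In a component of the centraliser of an element all
pairs have one kind.
-/

set_option autoImplicit false
set_option linter.unusedSectionVars false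

namespace CfsgLib.OddTrans

open Cfsg CfsgLib.RootInv CfsgLib.OddClass Subgroup

universe u

variable {G : Type u} [Group G] [Finite G] {D : Set G} {d x : G}

/-- A twin of `d` gives with `x` a product of order three. -/
def Three (D : Set G) (d x : G) : Prop := ∃ e ∈ twins D d, orderOf (x * e) = 3

/-- The quotient of the block group is a Suzuki group. -/
abbrev SzKind (D : Set G) (d x : G) : Prop :=
  Cfsg.Lie.IsoSuzuki (↥(blockGroup D d x) ⧸ Cfsg.pCore 2 ↥(blockGroup D d x))

theorem three_conj (hD : IsRootInvolutionSet D) {g : G} (h : Three D d x) :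
    Three D (g * d * g⁻¹) (g * x * g⁻¹) := by
  obtain ⟨e, he, ho⟩ := h
  refine ⟨g * e * g⁻¹, ⟨hD.conj_mem e he.1 g, he.2.conj hD g⟩, ?_⟩
  rw [show g * x * g⁻¹ * (g * e * g⁻¹) = g * (x * e) * g⁻¹ by group, Invol.orderOf_conj_eq, ho]

theorem three_of_same {d' : G} (h : Same D d' d) (ht : Three D d x) : Three D d' x := by
  obtain ⟨e, he, ho⟩ := ht
  exact ⟨e, ⟨he.1, he.2.trans h.symm⟩, ho⟩

theorem three_conj_fixed (hD : IsRootInvolutionSet D) {g : G} (hg : Commute g d) :
    Three D d (g * x * g⁻¹) ↔ Three D d x := by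
  constructor
  · intro h
    have h' := three_conj hD (g := g⁻¹) h
    rwa [show g⁻¹ * (g * x * g⁻¹) * g⁻¹⁻¹ = x by group, hg.inv_left.eq, mul_inv_cancel_right] at h'
  · intro h
    have h' := three_conj hD (g := g) h
    rwa [hg.eq, mul_inv_cancel_right] at h'

variable (C : OddBlock.Deg D) (hd : d ∈ D) (hx : x ∈ D) (hxd : ¬ Commute x d)
include C hd hx hxd

/-- Orders are kept by the block quotient. -/
theorem block_order {a b : ↥(blockGroup D d x)} (ha : a ∈ blockSet D d x) (hb : b ∈ blockSet D d x)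
    (h : ¬ Commute a.1 b.1) : orderOf (blockMap D d x a * blockMap D d x b) = orderOf (a.1 * b.1) := by
  have : Fact (Nat.Prime 2) := ⟨Nat.prime_two⟩
  rw [← map_mul, show a.1 * b.1 = ((a * b : ↥(blockGroup D d x)) : G) from rfl, Subgroup.orderOf_coe]
  refine Nat.dvd_antisymm (orderOf_map_dvd _ _) (orderOf_dvd_of_pow_eq_one ?_)
  set j := orderOf (blockMap D d x (a * b))
  have hodd : Odd (orderOf (a * b)) := by
    rw [← Subgroup.orderOf_coe]; exact C.odd_of (blockSet_mem C hd ha) (blockSet_mem C hd hb) h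
  have hmem : (a * b) ^ j ∈ Cfsg.pCore 2 ↥(blockGroup D d x) := (QuotientGroup.eq_one_iff _).1 (by
    show blockMap D d x ((a * b) ^ j) = 1
    rw [map_pow, pow_orderOf_eq_one])
  obtain ⟨k, hk⟩ := (Solvable.isPGroup_pCore 2) ⟨_, hmem⟩
  have h1 : ((a * b) ^ j) ^ 2 ^ k = 1 := congrArg Subtype.val hk
  exact odd_pow_two_pow (hodd.of_dvd_nat (orderOf_pow_dvd j)) h1

theorem not_three (hS : SzKind D d x) : ¬ Three D d x := by
  rintro ⟨e, he, ho⟩
  have hxe := not_commute_twins hx hxd he
  have hxS := partner_mem_blockSet C hd hx hxd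
  have heS := twin_mem_blockSet C hd hx hxd he
  have h := block_order C hd hx hxd hxS heS hxe
  rw [ho] at h
  exact SuzFive.not_three hS (h ▸ orderOf_dvd_natCard _)

theorem base_image_ne : blockMap D d x ⟨d, twin_mem_block (mem_twins_self hd)⟩ ≠ 1 := by
  intro h1
  refine hxd (lift_commute C hd hx hxd (partner_mem_blockSet C hd hx hxd) (base_mem_blockSet C hd) ?_)
  rw [h1]
  exact Commute.one_right _

/-- A twin with product of order five. -/
theorem exists_five (hS : SzKind D d x) : ∃ e ∈ twins D d, orderOf (x * e) = 5 := by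
  set π := blockMap D d x
  have hdS := base_mem_blockSet (x := x) C hd
  have hxS := partner_mem_blockSet C hd hx hxd
  set d' : ↥(blockGroup D d x) := ⟨d, twin_mem_block (mem_twins_self hd)⟩
  set x' : ↥(blockGroup D d x) := ⟨x, partner_mem_block⟩
  have hsq : ∀ k ∈ blockSet D d x, π k * π k = 1 := fun k hk => by
    rw [← map_mul, blockSet_sq C hd hk, map_one]
  have hnc : ¬ Commute (π d') (π x') := fun h => hxd (lift_commute C hd hx hxd hdS hxS h).symm
  obtain ⟨u, hu, hut, ho⟩ := SuzFive.exists_five hS (hsq _ hdS) (hsq _ hxS) hnc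
  have hu1 : u ≠ 1 := by
    rintro rfl
    rw [mul_one] at ho
    have h2 : π x' ^ 2 = 1 := by rw [pow_two, hsq _ hxS]
    have := orderOf_dvd_of_pow_eq_one h2
    rw [ho] at this
    norm_num at this
  obtain ⟨g, hg⟩ := SuzFive.conj_involution hS (hsq _ hdS) (base_image_ne C hd hx hxd) hu hu1
  obtain ⟨g', rfl⟩ := QuotientGroup.mk'_surjective _ g
  have hk : g' * d' * g'⁻¹ ∈ blockSet D d x := ⟨g', rfl⟩
  have hπ : π (g' * d' * g'⁻¹) = u := by rw [map_mul, map_mul, map_inv]; exact hg
  have hkd := lift_commute C hd hx hxd hk hdS (by rw [hπ]; exact hut)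
  have hkt := twin_of_commute C hd hx hxd hk hkd
  refine ⟨_, hkt, ?_⟩
  rw [← ho, ← hπ]
  exact (block_order C hd hx hxd hxS hk (not_commute_twins hx hxd hkt)).symm

variable (hO : Cfsg.pCore 2 G = ⊥)
include hO

/-- The root group has the order of the field; the order of the quotient. -/
theorem suzuki_counts (hS : SzKind D d x) : ∃ m : ℕ, 1 ≤ m ∧
    Nat.card ↥(closure (twins D d)) = 2 ^ (2 * m + 1) ∧
    Nat.card (↥(blockGroup D d x) ⧸ Cfsg.pCore 2 ↥(blockGroup D d x)) =
      (2 ^ (2 * m + 1)) ^ 2 * ((2 ^ (2 * m + 1)) ^ 2 + 1) * (2 ^ (2 * m + 1) - 1) := by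
  obtain ⟨m, hm, hcard, hcount⟩ := SuzFive.counts hS
  refine ⟨m, hm, ?_, hcard⟩
  set π := blockMap D d x
  have hdS := base_mem_blockSet (x := x) C hd
  set d' : ↥(blockGroup D d x) := ⟨d, twin_mem_block (mem_twins_self hd)⟩
  have hUK : closure (twins D d) ≤ blockGroup D d x := closure_mono Set.subset_union_left
  have hd2 : π d' * π d' = 1 := by rw [← map_mul, blockSet_sq C hd hdS, map_one]
  set φ : ↥(closure (twins D d)) →* _ := π.comp (Subgroup.inclusion hUK)
  have hinj : Function.Injective φ := (injective_iff_map_eq_one _).2 fun o ho =>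
    Subtype.ext (eq_one_of_image C hd hO o.2 hx hxd (hUK o.2) ho)
  rw [← hcount (π d') hd2 (base_image_ne C hd hx hxd), ← Nat.card_coe_set_eq,
    ← Nat.card_range_of_injective hinj]
  refine Nat.card_congr (Equiv.setCongr ?_)
  ext y
  constructor
  · rintro ⟨o, rfl⟩
    refine ⟨?_, ?_⟩
    · rw [← map_mul, show o * o = 1 from Subtype.ext (twinProd_sq C hd o.2), map_one]
    · exact (show Commute (Subgroup.inclusion hUK o) d' from
        Subtype.ext (twinProd_commute C hd o.2 hd (Commute.refl d)).symm.eq).map π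
  · rintro ⟨hy, hyt⟩
    by_cases hy1 : y = 1
    · exact ⟨1, by rw [map_one, hy1]⟩
    obtain ⟨g, hg⟩ := SuzFive.conj_involution hS hd2 (base_image_ne C hd hx hxd) hy hy1
    obtain ⟨g', rfl⟩ := QuotientGroup.mk'_surjective _ g
    have hk : g' * d' * g'⁻¹ ∈ blockSet D d x := ⟨g', rfl⟩
    have hπ : π (g' * d' * g'⁻¹) = y := by rw [map_mul, map_mul, map_inv]; exact hg
    have hkd := lift_commute C hd hx hxd hk hdS (by rw [hπ]; exact hyt)
    exact ⟨⟨_, subset_closure (twin_of_commute C hd hx hxd hk hkd)⟩, hπ⟩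

/-- A two-element centralising the twins, whose square is a twin times the 2-core. -/
theorem exists_root (hS : SzKind D d x) :
    ∃ g : ↥(blockGroup D d x), (∃ k, g ^ 2 ^ k = 1) ∧ blockMap D d x (g * g) ≠ 1 ∧
      (∀ e ∈ twins D d, Commute g.1 e) ∧
      ∃ (u : G) (hu : u ∈ twins D d), blockMap D d x (g * g) = blockMap D d x ⟨u, twin_mem_block hu⟩ := by
  have : Fact (Nat.Prime 2) := ⟨Nat.prime_two⟩
  set π := blockMap D d x
  have hdS := base_mem_blockSet (x := x) C hd
  set d' : ↥(blockGroup D d x) := ⟨d, twin_mem_block (mem_twins_self hd)⟩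
  have hd2 : π d' * π d' = 1 := by rw [← map_mul, blockSet_sq C hd hdS, map_one]
  obtain ⟨y, hy4, hy2, hyt, hyc⟩ := SuzFive.exists_root hS hd2 (base_image_ne C hd hx hxd)
  obtain ⟨g, rfl⟩ := QuotientGroup.mk'_surjective _ y
  refine ⟨g, ?_, by rwa [map_mul], fun e he => ?_, ?_⟩
  · obtain ⟨k, hk⟩ := (Solvable.isPGroup_pCore 2) ⟨g ^ 4, (QuotientGroup.eq_one_iff _).1 (by
      show π (g ^ 4) = 1
      rw [map_pow]; exact hy4)⟩
    refine ⟨k + 2, ?_⟩
    have h1 : (g ^ 4) ^ 2 ^ k = 1 := congrArg Subtype.val hk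
    rwa [← pow_mul, show 4 * 2 ^ k = 2 ^ (k + 2) by ring] at h1
  · have heS := twin_mem_blockSet C hd hx hxd he
    set e' : ↥(blockGroup D d x) := ⟨e, twin_mem_block he⟩
    have hed : Commute (π e') (π d') :=
      (show Commute e' d' from Subtype.ext (twins_commute hd he (mem_twins_self hd)).eq).map π
    have hge := hyc (π e') (by rw [← map_mul, blockSet_sq C hd heS, map_one]) hed
    have hk : g * e' * g⁻¹ ∈ blockSet D d x := by
      obtain ⟨g1, hg1⟩ := heS
      refine ⟨g * g1, ?_⟩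
      show g.1 * g1.1 * d * (g.1 * g1.1)⁻¹ = g.1 * e * g.1⁻¹
      rw [show e = g1.1 * d * g1.1⁻¹ from hg1.symm]
      group
    have hπ : π (g * e' * g⁻¹) = π e' := by
      rw [map_mul, map_mul, map_inv, show π g * π e' = π e' * π g from hge.eq, mul_inv_cancel_right]
    have hkt := twin_of_commute C hd hx hxd hk (lift_commute C hd hx hxd hk hdS (by rw [hπ]; exact hed))
    have h1 := eq_one_of_image C hd hO (o := (g * e' * g⁻¹).1 * e)
      (mul_mem (subset_closure hkt) (subset_closure he)) hx hxd (g * e' * g⁻¹ * e').2 (by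
        rw [show (⟨(g * e' * g⁻¹).1 * e, (g * e' * g⁻¹ * e').2⟩ : ↥(blockGroup D d x)) = g * e' * g⁻¹ * e' from rfl,
          map_mul, hπ, ← map_mul, blockSet_sq C hd heS, map_one])
    rw [mul_eq_one_iff_eq_inv, RootInv.inv C.root he.1] at h1
    show g.1 * e = e * g.1
    exact mul_inv_eq_iff_eq_mul.1 h1
  · obtain ⟨k, hk⟩ := SuzFive.conj_involution hS hd2 (base_image_ne C hd hx hxd)
      (show π g * π g * (π g * π g) = 1 by rw [← mul_assoc, ← pow_two, ← pow_succ, ← pow_succ]; exact hy4) hy2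
    obtain ⟨k', rfl⟩ := QuotientGroup.mk'_surjective _ k
    have hkS : k' * d' * k'⁻¹ ∈ blockSet D d x := ⟨k', rfl⟩
    have hπ : π (k' * d' * k'⁻¹) = π (g * g) := by rw [map_mul, map_mul, map_inv, map_mul]; exact hk
    have hkd := lift_commute C hd hx hxd hkS hdS (by rw [hπ, map_mul]; exact hyt)
    exact ⟨_, twin_of_commute C hd hx hxd hkS hkd, hπ.symm⟩

/-- One of the two kinds. -/
theorem three_or_suzuki (hcrit : RootBlock.Criterion.{u}) : Three D d x ∨ SzKind D d x := by
  rcases block_kinds C hd hx hxd hO hcrit with ⟨F, i1, i2, hq, ⟨f⟩⟩ | h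
  swap
  · exact Or.inr h
  refine Or.inl ?_
  have h2 : 2 ∣ Fintype.card F := by
    rw [hq]
    have h := orderOf_dvd_natCard (⟨d, subset_closure (mem_twins_self hd)⟩ : ↥(closure (twins D d)))
    rwa [← Subgroup.orderOf_coe, C.root.orderOf_eq d hd] at h
  have : CharP F 2 := ringChar.of_eq (FiniteField.even_card_iff_char_two.2 (Nat.mod_eq_zero_of_dvd h2))
  have hdS := base_mem_blockSet (x := x) C hd
  have hxS := partner_mem_blockSet C hd hx hxd
  set d' : ↥(blockGroup D d x) := ⟨d, twin_mem_block (mem_twins_self hd)⟩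
  set x' : ↥(blockGroup D d x) := ⟨x, partner_mem_block⟩
  have hnc : ¬ Commute (f d') (f x') := fun h => hxd (by
    have h' := h.map f.symm
    simp only [MulEquiv.symm_apply_apply] at h'
    exact (congrArg Subtype.val h'.eq).symm)
  obtain ⟨u, hu, hut, ho⟩ := PSLEven.exists_three
    (show f d' * f d' = 1 by rw [← map_mul, blockSet_sq C hd hdS, map_one])
    (show f x' * f x' = 1 by rw [← map_mul, blockSet_sq C hd hxS, map_one]) hnc
  have hu1 : u ≠ 1 := by
    rintro rfl
    rw [mul_one] at ho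
    have h2' : f x' ^ 2 = 1 := by rw [pow_two, ← map_mul, blockSet_sq C hd hxS, map_one]
    have := orderOf_dvd_of_pow_eq_one h2'
    rw [ho] at this
    norm_num at this
  obtain ⟨g, hg⟩ := PSLEven.exists_conj_involution (t := f d')
    (by rw [← map_mul, blockSet_sq C hd hdS, map_one])
    (fun h => hnc (h ▸ Commute.one_left _)) hu hu1
  obtain ⟨g', rfl⟩ := f.surjective g
  have hk : g' * d' * g'⁻¹ ∈ blockSet D d x := ⟨g', rfl⟩
  have hfk : f (g' * d' * g'⁻¹) = u := by rw [map_mul, map_mul, map_inv]; exact hg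
  have hkd : Commute (g' * d' * g'⁻¹) d' := by
    have h' := hut.map f.symm
    rwa [← hfk, MulEquiv.symm_apply_apply, MulEquiv.symm_apply_apply] at h'
  refine ⟨_, twin_of_commute C hd hx hxd hk (congrArg Subtype.val hkd.eq), ?_⟩
  rw [show x * (g' * d' * g'⁻¹).1 = ((x' * (g' * d' * g'⁻¹) : ↥(blockGroup D d x)) : G) from rfl,
    Subgroup.orderOf_coe, ← f.orderOf_eq, map_mul, hfk, ho]

/-- Two-elements of a linear block square to one. -/
theorem two_sq_of_three (hcrit : RootBlock.Criterion.{u}) (h3 : Three D d x)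
    {g : ↥(blockGroup D d x)} {k : ℕ} (hg : g ^ 2 ^ k = 1) : g * g = 1 := by
  rcases block_kinds C hd hx hxd hO hcrit with ⟨F, i1, i2, hq, ⟨f⟩⟩ | h
  swap
  · exact absurd h3 (not_three C hd hx hxd h)
  have h2 : 2 ∣ Fintype.card F := by
    rw [hq]
    have h := orderOf_dvd_natCard (⟨d, subset_closure (mem_twins_self hd)⟩ : ↥(closure (twins D d)))
    rwa [← Subgroup.orderOf_coe, C.root.orderOf_eq d hd] at h
  have : CharP F 2 := ringChar.of_eq (FiniteField.even_card_iff_char_two.2 (Nat.mod_eq_zero_of_dvd h2))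
  have h1 := PSLEven.two_sq (g := f g) (k := k) (by rw [← map_pow, hg, map_one])
  exact f.injective (by rw [map_mul, h1, map_one])

/-- A Suzuki block inside a subgroup has a two-element not squaring into the kernel. -/
theorem suzuki_sq (hS : SzKind D d x) {H : Subgroup G} (hKH : blockGroup D d x ≤ H) :
    ∃ g : ↥(blockGroup D d x), (∃ k, g ^ 2 ^ k = 1) ∧
      zMap ↥H (Subgroup.inclusion hKH g) * zMap ↥H (Subgroup.inclusion hKH g) ≠ 1 := by
  have : Fact (Nat.Prime 2) := ⟨Nat.prime_two⟩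
  obtain ⟨g, hg, hg2, -, -⟩ := exists_root C hd hx hxd hO hS
  refine ⟨g, hg, fun h => hg2 ?_⟩
  rw [← map_mul, ← map_mul] at h
  have hmem : Subgroup.inclusion hKH (g * g) ∈ Cfsg.twoZCore ↥H := (QuotientGroup.eq_one_iff _).1 h
  clear h hg2
  generalize g * g = z at hmem ⊢
  set ι := Subgroup.inclusion hKH with hι
  set π := blockMap D d x
  have hcore : ∀ k : ↥(blockGroup D d x), ι k ∈ Cfsg.pCore 2 ↥H → π k = 1 := by
    intro k hk
    have hle : (Cfsg.pCore 2 ↥H).comap ι ≤ Cfsg.pCore 2 ↥(blockGroup D d x) := by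
      refine le_sSup ⟨Subgroup.Normal.comap (Subgroup.sSup_normal _ fun _ h => h.1) _, ?_⟩
      exact (Solvable.isPGroup_pCore 2).comap_of_injective ι (Subgroup.inclusion_injective hKH)
    exact (QuotientGroup.eq_one_iff k).2 (hle hk)
  have hc : π z ∈ center (↥(blockGroup D d x) ⧸ Cfsg.pCore 2 ↥(blockGroup D d x)) := by
    refine mem_center_iff.2 fun y => ?_
    obtain ⟨k, rfl⟩ := QuotientGroup.mk'_surjective _ y
    have h1 := mem_center_iff.1 (mem_comap.1 hmem) (QuotientGroup.mk' (Cfsg.pCore 2 ↥H) (ι k))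
    have h2 : ι (k * z * k⁻¹ * z⁻¹) ∈ Cfsg.pCore 2 ↥H := (QuotientGroup.eq_one_iff _).1 (by
      show QuotientGroup.mk' (Cfsg.pCore 2 ↥H) (ι (k * z * k⁻¹ * z⁻¹)) = 1
      rw [map_mul ι, map_mul ι, map_mul ι, map_inv ι, map_inv ι, map_mul, map_mul, map_mul, map_inv,
        map_inv, h1]
      group)
    have h3 := hcore _ h2
    rw [map_mul, map_mul, map_mul, map_inv, map_inv, mul_inv_eq_one, mul_inv_eq_iff_eq_mul] at h3
    exact h3
  have := SuzFive.simple hS
  rcases (inferInstance : (center (↥(blockGroup D d x) ⧸ Cfsg.pCore 2 ↥(blockGroup D d x))).Normal).eq_bot_or_eq_top with e | e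
  · exact mem_bot.1 (e ▸ hc)
  · exfalso
    refine hxd (lift_commute C hd hx hxd (partner_mem_blockSet C hd hx hxd) (base_mem_blockSet C hd) ?_)
    exact (mem_center_iff.1 (e ▸ mem_top _) _)

end CfsgLib.OddTrans
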