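import Cfsg.Agent.RootSubgroups.OddGeom

/-!
Two lines through a point: the kernels of the line action in their groups, and the commutator maps
between them.
-/

set_option autoImplicit false
set_option linter.unusedSectionVars false

namespace CfsgLib.OddTrans

open Cfsg CfsgLib.RootInv CfsgLib.OddClass Subgroup

universe u

variable {G : Type u} [Group G] [Finite G] {D : Set G}

/-- Lines through `N` towards `d` and `x`, a third class `a` on the first. -/
structure TwoLines (D : Set G) (N d x a : G) : Prop where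
  all : AllSz D
  hN : N ∈ D
  hd : d ∈ D
  hx : x ∈ D
  ha : a ∈ D
  dN : Commute d N
  xN : Commute x N
  aN : Commute a N
  ad : Commute a d
  xd : ¬ Commute x d
  naN : ¬ Same D a N
  nad : ¬ Same D a d

/-- The members commuting with two points. -/
def line (D : Set G) (p q : G) : Set G := {s | s ∈ D ∧ Commute s p ∧ Commute s q}

/-- The group of a line. -/
abbrev lineGroup (D : Set G) (p q : G) : Subgroup G := closure (line D p q)

namespace TwoLines

variable {N d x a : G} (T : TwoLines D N d x a)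
include T

theorem deg : OddBlock.Deg D := T.all.deg

theorem ndN : ¬ Same D d N := fun h => T.xd ((h x T.hx).2 T.xN)

theorem nxN : ¬ Same D x N := fun h => T.xd ((h d T.hd).2 T.dN).symm

/-- Transitivity at the point. -/
theorem line_trans {r s t : G} (hr : r ∈ D) (hs : s ∈ D) (ht : t ∈ D) (hrN : Commute r N)
    (hsN : Commute s N) (htN : Commute t N) (hns : ¬ Same D s N) (hrs : Commute r s) (hst : Commute s t) :
    Commute r t :=
  T.all.clique T.hN hs hsN hns hr ht hrN hrs htN hst.symm

theorem line_comm {s t : G} (hs : s ∈ line D N d) (ht : t ∈ line D N d) : Commute s t :=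
  T.all.clique T.hN T.hd T.dN T.ndN hs.1 ht.1 hs.2.1 hs.2.2 ht.2.1 ht.2.2

theorem line_comm' {s t : G} (hs : s ∈ line D N x) (ht : t ∈ line D N x) : Commute s t :=
  T.all.clique T.hN T.hx T.xN T.nxN hs.1 ht.1 hs.2.1 hs.2.2 ht.2.1 ht.2.2

theorem third_line : a ∈ line D N d := ⟨T.ha, T.aN, T.ad⟩

theorem d_line : d ∈ line D N d := ⟨T.hd, T.dN, Commute.refl d⟩

theorem twins_N_line {e : G} (he : e ∈ twins D N) : e ∈ line D N d :=
  ⟨he.1, (twins_commute T.hN he (mem_twins_self T.hN)), ((he.2 d T.hd).2 T.dN).symm⟩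

theorem twins_d_line {e : G} (he : e ∈ twins D d) : e ∈ line D N d :=
  ⟨he.1, (commute_twins T.hN T.dN.symm he).symm, twins_commute T.hd he (mem_twins_self T.hd)⟩

theorem off_line {b : G} (hb : b ∈ line D N d) (hnb : ¬ Same D b N) : ¬ Commute x b := fun h =>
  hnb (T.all.same_of_common T.hd T.hx T.xd T.hN hb.1 T.dN.symm T.xN.symm hb.2.2 h.symm hb.2.1)

theorem xa : ¬ Commute x a := T.off_line T.third_line T.naN

/-- The lines exchange. -/
theorem swap : ∃ a', TwoLines D N x d a' := by
  have C := T.deg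
  have hD := C.root
  obtain ⟨g, hg, e⟩ := C.exists_conj_odd T.hd T.hx fun h => T.xd h.symm
  have hgN : Commute g N := commute_of_mem_closure hg T.dN T.xN
  have hfix : g * N * g⁻¹ = N := by rw [hgN.eq, mul_inv_cancel_right]
  refine ⟨g * a * g⁻¹, ⟨T.all, T.hN, T.hx, T.hd, hD.conj_mem a T.ha g, T.xN, T.dN, ?_, ?_,
    fun h => T.xd h.symm, fun h => T.naN ?_, fun h => T.nad ?_⟩⟩
  · have h := (Commute.conj_iff g).2 T.aN
    rwa [hfix] at h
  · exact e ▸ (Commute.conj_iff g).2 T.ad
  · have h' := h.conj hD g⁻¹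
    rw [show g⁻¹ * (g * a * g⁻¹) * g⁻¹⁻¹ = a by group, hgN.inv_left.eq, mul_inv_cancel_right] at h'
    exact h'
  · have h' := h.conj hD g⁻¹
    rwa [show g⁻¹ * (g * a * g⁻¹) * g⁻¹⁻¹ = a by group, show g⁻¹ * x * g⁻¹⁻¹ = d by rw [← e]; group] at h'

theorem group_sq {w : G} (hw : w ∈ lineGroup D N d) : w * w = 1 := by
  have hc : IsMulCommutative (lineGroup D N d) := Subgroup.isMulCommutative_closure fun s hs t ht =>
    (T.line_comm hs ht).eq
  induction hw using closure_induction with
  | mem s hs => exact RootInv.sq T.deg.root hs.1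
  | one => exact one_mul 1
  | mul u v hu hv ihu ihv =>
    have h : Commute v u := congrArg Subtype.val (hc.is_comm.comm (⟨v, hv⟩ : lineGroup D N d) ⟨u, hu⟩)
    rw [h.mul_mul_mul_comm, ihu, ihv, one_mul]
  | inv u hu ihu => rw [← _root_.mul_inv_rev, ihu, inv_one]

theorem group_comm {u v : G} (hu : u ∈ lineGroup D N d) (hv : v ∈ lineGroup D N d) : Commute u v := by
  have hc : IsMulCommutative (lineGroup D N d) := Subgroup.isMulCommutative_closure fun s hs t ht =>
    (T.line_comm hs ht).eq
  exact congrArg Subtype.val (hc.is_comm.comm (⟨u, hu⟩ : lineGroup D N d) ⟨v, hv⟩)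

theorem group_inv {w : G} (hw : w ∈ lineGroup D N d) : w⁻¹ = w :=
  inv_eq_of_mul_eq_one_right (T.group_sq hw)

theorem group_N {w : G} (hw : w ∈ lineGroup D N d) : Commute w N :=
  mem_centralizer_singleton_iff.1 ((closure_le (centralizer ({N} : Set G))).2
    (fun _ hs => mem_centralizer_singleton_iff.2 hs.2.1.eq) hw)

theorem mem_group {b : G} (hb : b ∈ line D N d) : b ∈ lineGroup D N d := subset_closure hb

theorem roots_le : closure (twins D N) ≤ lineGroup D N d :=
  closure_mono fun _ he => T.twins_N_line he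

/-- A root element of the point commutes with everything commuting with the point. -/
theorem root_commute {o : G} (ho : o ∈ closure (twins D N)) {s : G} (hs : s ∈ D) (hsN : Commute s N) :
    Commute s o := twinProd_commute T.deg T.hN ho hs hsN

/-- An element of the second line centralising a member off it is a root element of the point. -/
theorem mem_roots {w r : G} (hw : w ∈ lineGroup D N x) (hr : r ∈ D) (hrN : Commute r N)
    (hrx : ¬ Commute r x) (hrw : Commute r w) : w ∈ closure (twins D N) := by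
  obtain ⟨a', T'⟩ := T.swap
  have hra : ¬ Commute r a' := fun h =>
    hrx (T.all.clique T.hN T'.ha T'.aN T'.naN hr T.hx hrN h T.xN T'.ad.symm)
  rcases T.all.mem_twins_of_centralizes T.hx T'.ha T'.ad T'.nad hr hrx hra T.hN T.xN.symm hrN.symm
      T'.aN.symm (T'.group_sq hw) hrw
      (fun e he => T'.group_comm (T'.mem_group (T'.twins_d_line he)) hw)
      (T'.group_comm (T'.mem_group T'.third_line) hw) with h | h
  · exact h ▸ one_mem _
  · exact subset_closure h

theorem commute_of_root {o : G} (ho : o ∈ closure (twins D N)) : Commute d o :=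
  T.root_commute ho T.hd T.dN

/-- The elements fixing all lines through the point. -/
def ker : Subgroup G where
  carrier := {g | Commute g N ∧ ∀ r ∈ D, Commute r N → Commute (g * r * g⁻¹) r}
  one_mem' := ⟨Commute.one_left N, fun r _ _ => by simp⟩
  mul_mem' := by
    rintro g h ⟨hgN, hg⟩ ⟨hhN, hh⟩
    refine ⟨hgN.mul_left hhN, fun r hr hrN => ?_⟩
    have hD := T.deg.root
    set s := h * r * h⁻¹
    have hs : s ∈ D := hD.conj_mem r hr h
    have hsN : Commute s N := (hhN.mul_left hrN).mul_left hhN.inv_left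
    have hgsN : Commute (g * s * g⁻¹) N := (hgN.mul_left hsN).mul_left hgN.inv_left
    rw [show g * h * r * (g * h)⁻¹ = g * s * g⁻¹ by simp only [s]; group]
    by_cases hns : Same D s N
    · have hr' : Same D r N := by
        have h1 := hns.conj hD h⁻¹
        rwa [show h⁻¹ * s * h⁻¹⁻¹ = r by simp only [s]; group, hhN.inv_left.eq, mul_inv_cancel_right] at h1
      exact (hr' _ (hD.conj_mem s hs g)).2 hgsN
    · exact T.line_trans (hD.conj_mem s hs g) hs hr hgsN hsN hrN hns (hg s hs hsN) (hh r hr hrN)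
  inv_mem' := by
    rintro g ⟨hgN, hg⟩
    refine ⟨hgN.inv_left, fun r hr hrN => ?_⟩
    have h := hg (g⁻¹ * r * g⁻¹⁻¹) (T.deg.root.conj_mem r hr g⁻¹)
      ((hgN.inv_left.mul_left hrN).mul_left hgN.inv_left.inv_left)
    rw [show g * (g⁻¹ * r * g⁻¹⁻¹) * g⁻¹ = r by group] at h
    exact h.symm

theorem mem_ker {g : G} : g ∈ T.ker ↔ Commute g N ∧ ∀ r ∈ D, Commute r N → Commute (g * r * g⁻¹) r :=
  Iff.rfl

theorem ker_conj {g k : G} (hk : k ∈ T.ker) (hg : Commute g N) : g * k * g⁻¹ ∈ T.ker := by
  refine ⟨(hg.mul_left hk.1).mul_left hg.inv_left, fun r hr hrN => ?_⟩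
  have h := hk.2 (g⁻¹ * r * g⁻¹⁻¹) (T.deg.root.conj_mem r hr g⁻¹)
    ((hg.inv_left.mul_left hrN).mul_left hg.inv_left.inv_left)
  have h' := (Commute.conj_iff g).2 h
  rwa [show g * (g⁻¹ * r * g⁻¹⁻¹) * g⁻¹ = r by group,
    show g * (k * (g⁻¹ * r * g⁻¹⁻¹) * k⁻¹) * g⁻¹ = g * k * g⁻¹ * r * (g * k * g⁻¹)⁻¹ by group] at h'

theorem roots_le_ker : closure (twins D N) ≤ T.ker := fun o ho =>
  ⟨(T.root_commute ho T.hN (Commute.refl N)).symm, fun r hr hrN => by
    rw [(T.root_commute ho hr hrN).symm.eq, mul_inv_cancel_right]⟩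

/-- The kernel in the group of the first line. -/
def kerFst : Subgroup G := lineGroup D N d ⊓ T.ker

/-- The kernel in the group of the second line. -/
def kerSnd : Subgroup G := lineGroup D N x ⊓ T.ker

theorem swap_ker {a' : G} (T' : TwoLines D N x d a') : T'.kerFst = T.kerSnd ∧ T'.kerSnd = T.kerFst :=
  ⟨rfl, rfl⟩

/-- An element fixing the lines normalises the group of each line. -/
theorem ker_normalize {g : G} (hg : g ∈ T.ker) {w : G} (hw : w ∈ lineGroup D N d) :
    g * w * g⁻¹ ∈ lineGroup D N d := by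
  have hD := T.deg.root
  have hle : lineGroup D N d ≤ (lineGroup D N d).comap (MulAut.conj g).toMonoidHom := (closure_le _).2 (by
    rintro s ⟨hs, hsN, hsd⟩
    refine subset_closure ⟨hD.conj_mem s hs g, (hg.1.mul_left hsN).mul_left hg.1.inv_left, ?_⟩
    show Commute (g * s * g⁻¹) d
    by_cases hns : Same D s N
    · have h := hns.conj hD g
      rw [hg.1.eq, mul_inv_cancel_right] at h
      exact ((h d T.hd).2 T.dN).symm
    · exact T.line_trans (hD.conj_mem s hs g) hs T.hd ((hg.1.mul_left hsN).mul_left hg.1.inv_left) hsN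
        T.dN hns (hg.2 s hs hsN) hsd)
  exact hle hw

/-- An element of the second line fixing the first line fixes all. -/
theorem mem_ker_of_fix {β : G} (hβ : β ∈ lineGroup D N x) (h : Commute (β * d * β) d) : β ∈ T.ker := by
  obtain ⟨a', T'⟩ := T.swap
  have C := T.deg
  have hD := C.root
  have hβ2 := T'.group_sq hβ
  have hβN := T'.group_N hβ
  have hβi := T'.group_inv hβ
  refine ⟨hβN, fun r hr hrN => ?_⟩
  rw [hβi]
  by_contra hmove
  obtain ⟨m, hm, hmem, hrm, hmβ, hrmβ, -⟩ := C.exists_mid_inv hβ2 hr fun e => hmove e.symm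
  have hr2 : Commute (β * r * β) N := (hβN.mul_left hrN).mul_left hβN
  have hmN : Commute m N := commute_of_mem_closure hmem hrN hr2
  have hnmN : ¬ Same D m N := fun e => hrm ((e r hr).2 hrN)
  -- roots fix all lines, so `β` is none
  have hβroot : β ∉ closure (twins D N) := fun ho => hmove (by
    rw [show β * r * β = r by rw [← (T.root_commute ho hr hrN).eq, mul_assoc, hβ2, mul_one]])
  have hmx : Commute m x := by
    by_contra hmx
    exact hβroot (T.mem_roots hβ hm hmN hmx hmβ)
  have hrx : ¬ Commute r x := fun hrx => hmove (by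
    rw [show β * r * β = r by
      rw [← (T'.group_comm (T'.mem_group ⟨hr, hrN, hrx⟩) hβ).eq, mul_assoc, hβ2, mul_one]])
  have hmW : m ∈ lineGroup D N x := subset_closure ⟨hm, hmN, hmx⟩
  have ho := T.mem_roots (mul_mem hmW hβ) hr hrN hrx hrmβ
  have hdo : Commute d (m * β) := T.commute_of_root ho
  have hdmd : β * d * β = m * d * m := by
    have e : β = m * (m * β) := by rw [← mul_assoc, sq hD hm, one_mul]
    nth_rw 1 [e]
    rw [mul_assoc m (m * β) d, ← hdo.eq, show m * (d * (m * β)) * β = m * d * m * (β * β) by group, hβ2,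
      mul_one]
  rw [hdmd] at h
  have hmd : ¬ Commute m d := fun e =>
    hnmN (T.all.same_of_common T.hd T.hx T.xd T.hN hm T.dN.symm T.xN.symm e hmx hmN)
  have h4 : (m * d) ^ 4 = 1 := by
    rw [show 4 = 2 * 2 from rfl, pow_mul, pow_two (m * d),
      show m * d * (m * d) = m * d * m * d by group, pow_two, h.symm.mul_mul_mul_comm, sq hD T.hd, mul_one,
      show m * d * m * (m * d * m) = m * d * (m * m) * d * m by group, sq hD hm, mul_one,
      mul_assoc m d d, sq hD T.hd, mul_one, sq hD hm]
  have h1 := odd_pow_two_pow (C.odd_of hm T.hd hmd) (k := 2) h4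
  rw [mul_eq_one_iff_eq_inv, RootInv.inv hD T.hd] at h1
  exact hmd (h1 ▸ Commute.refl _)

/-- An element of the kernel of the second line fixing a class of the first is a root element. -/
theorem mem_roots_of_fix_class {β b : G} (hβ : β ∈ T.kerSnd) (hb : b ∈ line D N d) (hnb : ¬ Same D b N)
    (h : Same D (β * b * β) b) : β ∈ closure (twins D N) := by
  obtain ⟨a', T'⟩ := T.swap
  have := T.all.simple
  have C := T.deg
  have hD := C.root
  have hβ2 := T'.group_sq hβ.1
  have hxb := T.off_line hb hnb
  by_cases hbβ : β * b * β = b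
  · refine T.mem_roots hβ.1 hb.1 hb.2.1 (fun e => hxb e.symm) ?_
    show b * β = β * b
    nth_rw 1 [← hbβ]
    rw [mul_assoc, hβ2, mul_one]
  have hb2 : β * b * β ∈ D := by
    have := hD.conj_mem b hb.1 β
    rwa [T'.group_inv hβ.1] at this
  have hc : Commute b (β * b * β) := (twins_commute hb.1 ⟨hb2, h⟩ (mem_twins_self hb.1)).symm
  have he := twins_mul_mem C hb.1 (simple_core C) (mem_twins_self hb.1) ⟨hb2, h⟩ (Ne.symm hbβ)
  refine T.mem_roots hβ.1 he.1 ?_ (fun e => hxb ((he.2 x T.hx).1 e.symm)) ?_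
  · exact (commute_twins T.hN hb.2.1.symm he).symm
  · show b * (β * b * β) * β = β * (b * (β * b * β))
    rw [show b * (β * b * β) * β = b * (β * b) * (β * β) by group, hβ2, mul_one, hc.eq,
      show β * (β * b * β * b) = (β * β) * b * β * b by group, hβ2, one_mul]
    group

/-- Every class of the first line is the image of `d` under the kernel of the second. -/
theorem exists_translation {b : G} (hb : b ∈ line D N d) (hnb : ¬ Same D b N) :
    ∃ c ∈ T.kerSnd, Same D (c * d * c) b := by
  obtain ⟨a', T'⟩ := T.swap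
  have := T.all.simple
  have C := T.deg
  have hD := C.root
  by_cases hsd : Same D b d
  · exact ⟨1, one_mem _, by simpa using hsd.symm⟩
  obtain ⟨u, hu, b', hb', n, hn, hxn, -, hsw, hall⟩ :=
    pair_data C T.all.crit T.all.below T.hd hb.1 hb.2.2 hsd T.hx T.xd (T.off_line hb hnb)
  have hnN : Commute n N := hall N T.xN ((T.twins_d_line hu).2.1)
    (commute_twins T.hN hb.2.1.symm hb').symm
  have hcW : x * n ∈ lineGroup D N x :=
    mul_mem (subset_closure ⟨T.hx, T.xN, Commute.refl x⟩) (subset_closure ⟨hn, hnN, hxn.symm⟩)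
  have hci := T'.group_inv hcW
  have hs : Same D (x * n * d * (x * n)) b := by
    have h := hu.2.conj hD (x * n)
    rw [hci, hsw] at h
    exact h.symm.trans hb'.2
  refine ⟨x * n, ⟨hcW, T.mem_ker_of_fix hcW ?_⟩, hs⟩
  have hD' : x * n * d * (x * n) ∈ D := by
    have := hD.conj_mem d T.hd (x * n)
    rwa [hci] at this
  exact ((hs d T.hd).2 hb.2.2.symm).symm

/-- The commutator with a member. -/
abbrev delta (u β : G) : G := β * u * β * u

theorem delta_mem {u β : G} (hu : u ∈ line D N d) (hβ : β ∈ T.kerSnd) : delta u β ∈ T.kerFst := by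
  obtain ⟨a', T'⟩ := T.swap
  have hβi := T'.group_inv hβ.1
  have huW := T.mem_group hu
  refine ⟨mul_mem ?_ huW, ?_⟩
  · have := T.ker_normalize hβ.2 huW
    rwa [hβi] at this
  · rw [show delta u β = β * (u * β * u⁻¹) by rw [RootInv.inv T.deg.root hu.1, delta]; group]
    exact mul_mem hβ.2 (T.ker_conj hβ.2 hu.2.1)

/-- Commutator maps are injective modulo roots. -/
theorem mem_roots_of_delta {u β : G} (hu : u ∈ line D N d) (hnu : ¬ Same D u N) (hβ : β ∈ T.kerSnd)
    (h : delta u β ∈ closure (twins D N)) : β ∈ closure (twins D N) := by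
  obtain ⟨a', T'⟩ := T.swap
  have := T.all.simple
  have C := T.deg
  have hD := C.root
  have hu2 : β * u * β ∈ D := by
    have := hD.conj_mem u hu.1 β
    rwa [T'.group_inv hβ.1] at this
  rcases (Set.ext_iff.1 (closure_twins C T.hN (simple_core C)) _).1 h with ho | ho
  · exfalso
    have hl : Line D u (delta u β) := ⟨hu.1, ho.1, commute_twins hu.1 hu.2.1 ho, by
      rw [show u * delta u β = delta u β * u from (commute_twins hu.1 hu.2.1 ho).eq,
        show delta u β * u = β * u * β * (u * u) by simp only [delta]; group, sq hD hu.1, mul_one]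
      exact hu2⟩
    exact hnu ((C.same_of_line hl).trans ho.2)
  · rw [Set.mem_singleton_iff, delta, mul_eq_one_iff_eq_inv, RootInv.inv hD hu.1] at ho
    exact T.mem_roots_of_fix_class hβ hu hnu (by rw [ho]; exact fun s _ => Iff.rfl)

/-- A kernel element of the second line and one of the first commute modulo roots. -/
theorem commutator_mem_roots {α β : G} (hα : α ∈ T.kerFst) (hβ : β ∈ T.kerSnd) :
    β * α * β * α ∈ closure (twins D N) := by
  obtain ⟨a', T'⟩ := T.swap
  have h1 : β * α * β * α ∈ lineGroup D N d := mul_mem (by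
    have := T.ker_normalize hβ.2 hα.1
    rwa [T'.group_inv hβ.1] at this) hα.1
  have h2 : β * α * β * α ∈ lineGroup D N x := by
    rw [show β * α * β * α = β * (α * β * α⁻¹) by rw [T.group_inv hα.1]; group]
    exact mul_mem hβ.1 (T'.ker_normalize hα.2 hβ.1)
  exact T.mem_roots h2 T.hd T.dN (fun e => T.xd e.symm) (T.group_comm (T.mem_group T.d_line) h1)

theorem exists_not_root : ∃ β ∈ T.kerSnd, β ∉ closure (twins D N) := by
  obtain ⟨c, hc, hs⟩ := T.exists_translation T.third_line T.naN
  refine ⟨c, hc, fun ho => T.nad ?_⟩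
  obtain ⟨a', T'⟩ := T.swap
  have e : c * d * c = d := by rw [← (T.commute_of_root ho).eq, mul_assoc, T'.group_sq hc.1, mul_one]
  rw [e] at hs
  exact hs.symm

end TwoLines

end CfsgLib.OddTrans
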