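import Mathlib

/-!
A quadratic map over the field with two elements vanishing only at zero: the source has at most twice
the dimension of the target.
-/

set_option autoImplicit false
set_option linter.unusedSectionVars false

namespace CfsgLib.QuadBound

variable {V : Type*} [AddCommGroup V] [Module (ZMod 2) V]

/-- The degree of a function is at most `n`. -/
def DegLE : ℕ → (V → ZMod 2) → Prop
  | 0, φ => ∀ v, φ v = φ 0
  | n + 1, φ => ∀ h, DegLE n fun v => φ (v + h) + φ v

theorem DegLE.shift : ∀ {n : ℕ} {φ : V → ZMod 2}, DegLE n φ → ∀ c, DegLE n fun v => φ (v + c)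
  | 0, φ, h, c => fun v => (h (v + c)).trans (h (0 + c)).symm
  | n + 1, φ, h, c => fun k => by
    have := DegLE.shift (h k) c
    simpa [add_right_comm] using this

theorem DegLE.add : ∀ {n : ℕ} {φ ψ : V → ZMod 2}, DegLE n φ → DegLE n ψ → DegLE n (φ + ψ)
  | 0, φ, ψ, h, h' => fun v => by simp only [Pi.add_apply, h v, h' v]
  | n + 1, φ, ψ, h, h' => fun k => by
    have e : (fun v => (φ + ψ) (v + k) + (φ + ψ) v) =
        (fun v => φ (v + k) + φ v) + fun v => ψ (v + k) + ψ v := by
      funext v; simp only [Pi.add_apply]; ring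
    rw [e]
    exact DegLE.add (h k) (h' k)

theorem DegLE.const : ∀ (n : ℕ) (c : ZMod 2), DegLE n fun _ : V => c
  | 0, _ => fun _ => rfl
  | n + 1, c => fun _ => DegLE.const n (c + c)

theorem DegLE.mul : ∀ {n m : ℕ} {φ ψ : V → ZMod 2}, DegLE n φ → DegLE m ψ → DegLE (n + m) (φ * ψ) := by
  intro n m
  induction hk : n + m generalizing n m with
  | zero =>
    obtain ⟨rfl, rfl⟩ : n = 0 ∧ m = 0 := by omega
    intro φ ψ h h' v
    simp only [Pi.mul_apply, h v, h' v]
  | succ k ih =>
    intro φ ψ h h' c
    have e : (fun v => (φ * ψ) (v + c) + (φ * ψ) v) =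
        (fun v => φ (v + c) + φ v) * (fun v => ψ (v + c)) + φ * fun v => ψ (v + c) + ψ v := by
      funext v
      simp only [Pi.add_apply, Pi.mul_apply]
      linear_combination -(φ v * ψ (v + c)) * CharTwo.two_eq_zero (R := ZMod 2)
    rw [e]
    have zero : ∀ χ : V → ZMod 2, DegLE 0 χ → ∀ d, (fun v => χ (v + d) + χ v) = 0 := fun χ hχ d => by
      funext v
      show χ (v + d) + χ v = 0
      rw [hχ (v + d), hχ v, CharTwo.add_self_eq_zero]
    refine DegLE.add ?_ ?_
    · cases n with
      | zero => rw [zero φ h c, zero_mul]; exact DegLE.const k 0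
      | succ n => exact ih (by omega) (h c) (h'.shift c)
    · cases m with
      | zero => rw [zero ψ h' c, mul_zero]; exact DegLE.const k 0
      | succ m => exact ih (by omega) h (h' c)

theorem DegLE.comp {W : Type*} [AddCommGroup W] [Module (ZMod 2) W] (f : W →ₗ[ZMod 2] V) :
    ∀ {n : ℕ} {φ : V → ZMod 2}, DegLE n φ → DegLE n (φ ∘ f)
  | 0, φ, h => fun w => by simp only [Function.comp_apply, map_zero]; exact h _
  | n + 1, φ, h => fun k => by
    have := DegLE.comp f (h (f k))
    simpa [Function.comp_def, map_add] using this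

theorem DegLE.prod {ι : Type*} (s : Finset ι) (φ : ι → V → ZMod 2) {n : ℕ} (h : ∀ i ∈ s, DegLE n (φ i)) :
    DegLE (s.card * n) (∏ i ∈ s, φ i) := by
  classical
  induction s using Finset.induction_on with
  | empty =>
    rw [Finset.card_empty, zero_mul, Finset.prod_empty]
    exact DegLE.const 0 (1 : ZMod 2)
  | @insert i s hi ih =>
    rw [Finset.prod_insert hi, Finset.card_insert_of_notMem hi, Nat.succ_mul, Nat.add_comm]
    exact (h i (Finset.mem_insert_self i s)).mul (ih fun j hj => h j (Finset.mem_insert_of_mem hj))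

/-- The sum over a space of dimension above the degree vanishes. -/
theorem sum_eq_zero [Fintype V] {n : ℕ} {φ : V → ZMod 2} (h : DegLE n φ)
    (hn : n < Module.finrank (ZMod 2) V) : ∑ v, φ v = 0 := by
  classical
  induction n generalizing V with
  | zero =>
    have hc : (Fintype.card V : ZMod 2) = 0 := by
      rw [Module.card_eq_pow_finrank (K := ZMod 2), ZMod.card, Nat.cast_pow,
        show ((2 : ℕ) : ZMod 2) = 0 from rfl, zero_pow (by omega)]
    rw [Finset.sum_congr rfl fun v _ => h v, Finset.sum_const, Finset.card_univ, nsmul_eq_mul, hc, zero_mul]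
  | succ n ih =>
    set b := Module.finBasis (ZMod 2) V
    set i : Fin (Module.finrank (ZMod 2) V) := ⟨0, by omega⟩
    set χ := b.coord i
    have hv : χ (b i) = 1 := by simp [χ]
    set W := LinearMap.ker χ
    have hW : n < Module.finrank (ZMod 2) W := by
      have h1 := LinearMap.finrank_range_add_finrank_ker χ
      have h2 : LinearMap.range χ = ⊤ := LinearMap.range_eq_top.2 fun c =>
        ⟨c • b i, by rw [map_smul, hv, smul_eq_mul, mul_one]⟩
      rw [h2, finrank_top, Module.finrank_self] at h1
      change 1 + Module.finrank (ZMod 2) W = _ at h1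
      omega
    have h01 : ∀ c : ZMod 2, c = 0 ∨ c = 1 := by decide
    let f : W × ZMod 2 → V := fun p => (p.1 : V) + p.2 • b i
    have hf : Function.Bijective f := by
      constructor
      · rintro ⟨w, c⟩ ⟨w', c'⟩ e
        have e1 := congrArg χ e
        simp only [f, map_add, map_smul, hv, LinearMap.mem_ker.1 w.2, LinearMap.mem_ker.1 w'.2, smul_eq_mul,
          mul_one, zero_add] at e1
        subst e1
        exact Prod.ext (Subtype.ext (add_right_cancel e)) rfl
      · intro v
        refine ⟨(⟨v - χ v • b i, LinearMap.mem_ker.2 ?_⟩, χ v), ?_⟩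
        · rw [map_sub, map_smul, hv, smul_eq_mul, mul_one, sub_self]
        · simp [f]
    rw [← Fintype.sum_bijective f hf (fun p => φ (f p)) φ fun _ => rfl, Fintype.sum_prod_type]
    have : ∀ w : W, ∑ c : ZMod 2, φ (f (w, c)) = ((fun v => φ (v + b i) + φ v) ∘ W.subtype) w := fun w => by
      rw [show (Finset.univ : Finset (ZMod 2)) = {0, 1} from by decide, Finset.sum_pair (by decide)]
      simp [f, add_comm]
    rw [Finset.sum_congr rfl fun w _ => this w]
    exact ih ((h (b i)).comp W.subtype) hW

/-- A quadratic map vanishing only at zero. -/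
theorem finrank_le {U : Type*} [AddCommGroup U] [Module (ZMod 2) U] [Finite V] [Finite U] {z : V → U}
    (hz : ∀ v, z v = 0 ↔ v = 0)
    (hq : ∀ h h' v, z (v + h' + h) + z (v + h') + (z (v + h) + z v) = z (h' + h) + z h' + (z h + z 0)) :
    Module.finrank (ZMod 2) V ≤ 2 * Module.finrank (ZMod 2) U := by
  classical
  have := Fintype.ofFinite V
  by_contra hlt
  set b := Module.finBasis (ZMod 2) U
  set φ : V → ZMod 2 := ∏ i, fun v => 1 + b.coord i (z v)
  have hdeg : DegLE (Fintype.card (Fin (Module.finrank (ZMod 2) U)) * 2) φ := by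
    refine DegLE.prod Finset.univ _ fun i _ h h' v => ?_
    have e := congrArg (b.coord i) (hq h h' v)
    simp only [map_add] at e
    simp only [zero_add]
    linear_combination e
  rw [Fintype.card_fin] at hdeg
  have hsum := sum_eq_zero hdeg (by omega)
  have hone : ∀ c : ZMod 2, c ≠ 0 → 1 + c = 0 := by decide
  rw [Finset.sum_eq_single (0 : V) ?_ (fun h => absurd (Finset.mem_univ _) h)] at hsum
  · simp only [φ, Finset.prod_apply, (hz 0).2 rfl, map_zero, add_zero, Finset.prod_const_one] at hsum
    exact one_ne_zero hsum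
  · intro v _ hv
    have hzv : z v ≠ 0 := fun e => hv ((hz v).1 e)
    obtain ⟨i, hi⟩ : ∃ i, b.coord i (z v) ≠ 0 := by
      by_contra! h
      exact hzv (b.forall_coord_eq_zero_iff.1 h)
    simp only [φ, Finset.prod_apply]
    exact Finset.prod_eq_zero (Finset.mem_univ i) (hone _ hi)

/-- The same for elementary abelian groups. -/
theorem card_le {P Q : Type*} [CommGroup P] [CommGroup Q] [Finite P] [Finite Q] (hP : ∀ p : P, p * p = 1)
    (hQ : ∀ q : Q, q * q = 1) (z : P → Q) (b : P → P → Q) (hz : ∀ p, z p = 1 ↔ p = 1)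
    (hb1 : ∀ p p' q, b (p * p') q = b p q * b p' q) (hb2 : ∀ p q q', b p (q * q') = b p q * b p q')
    (hzmul : ∀ p q, z (p * q) = z p * z q * b p q) : Nat.card P ≤ Nat.card Q ^ 2 := by
  letI : Module (ZMod 2) (Additive P) := AddCommGroup.zmodModule fun v => by rw [two_nsmul]; exact hP v
  letI : Module (ZMod 2) (Additive Q) := AddCommGroup.zmodModule fun v => by rw [two_nsmul]; exact hQ v
  let Z : Additive P → Additive Q := fun v => Additive.ofMul (z v.toMul)
  let B : Additive P → Additive P → Additive Q := fun v w => Additive.ofMul (b v.toMul w.toMul)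
  have e0 : Z 0 = 0 := congrArg Additive.ofMul ((hz 1).2 rfl)
  have e1 : ∀ u v w, B (u + v) w = B u w + B v w := fun u v w => congrArg Additive.ofMul (hb1 _ _ _)
  have e2 : ∀ u v w, B u (v + w) = B u v + B u w := fun u v w => congrArg Additive.ofMul (hb2 _ _ _)
  have e3 : ∀ u v, Z (u + v) = Z u + Z v + B u v := fun u v => congrArg Additive.ofMul (hzmul _ _)
  have h := finrank_le (z := Z) (fun v => hz v.toMul) fun h h' v => by
    simp only [e3, e0, e1]
    have hv : ∀ y : Additive Q, y + y = 0 := fun y => hQ y.toMul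
    calc Z v + Z h' + B v h' + Z h + (B v h + B h' h) + (Z v + Z h' + B v h') + (Z v + Z h + B v h + Z v)
        = (Z v + Z v) + (Z v + Z v) + (Z h' + Z h') + (B v h' + B v h') + (B v h + B v h) +
            (Z h + Z h) + B h' h := by abel
      _ = B h' h := by simp only [hv, zero_add]
      _ = (Z h' + Z h') + (Z h + Z h) + B h' h := by simp only [hv, zero_add]
      _ = Z h' + Z h + B h' h + Z h' + (Z h + 0) := by abel
  rw [show Nat.card P = Nat.card (Additive P) from rfl, show Nat.card Q = Nat.card (Additive Q) from rfl,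
    Module.natCard_eq_pow_finrank (K := ZMod 2), Module.natCard_eq_pow_finrank (K := ZMod 2) (V := Additive Q),
    ← pow_mul, Nat.card_zmod]
  exact Nat.pow_le_pow_right (by norm_num) (by omega)

end CfsgLib.QuadBound
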