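import Cfsg.Agent.RootSubgroups.OddLines
import Cfsg.Agent.RootSubgroups.QuadBound

/-!
The commutator maps between the kernels of two lines modulo the roots of their point: bijective, and
the kernels have at most the square of the order of the root group.
-/

set_option autoImplicit false
set_option linter.unusedSectionVars false
set_option linter.style.haveILetI false

namespace CfsgLib.OddTrans.TwoLines

open Cfsg CfsgLib.RootInv CfsgLib.OddClass Subgroup

universe u

variable {G : Type u} [Group G] [Finite G] {D : Set G} {N d x a : G} (T : TwoLines D N d x a)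
include T

theorem roots_le_fst : closure (twins D N) ≤ T.kerFst := le_inf T.roots_le T.roots_le_ker

theorem roots_le_snd : closure (twins D N) ≤ T.kerSnd := by
  obtain ⟨a', T'⟩ := T.swap
  exact le_inf T'.roots_le T.roots_le_ker

theorem fst_root_comm {o w : G} (ho : o ∈ closure (twins D N)) (hw : w ∈ T.kerFst) : Commute w o :=
  T.group_comm hw.1 (T.roots_le ho)

theorem snd_root_comm {o w : G} (ho : o ∈ closure (twins D N)) (hw : w ∈ T.kerSnd) : Commute w o := by
  obtain ⟨a', T'⟩ := T.swap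
  exact T'.group_comm hw.1 (T'.roots_le ho)

theorem snd_sq {w : G} (hw : w ∈ T.kerSnd) : w * w = 1 := by
  obtain ⟨a', T'⟩ := T.swap
  exact T'.group_sq hw.1

theorem snd_inv {w : G} (hw : w ∈ T.kerSnd) : w⁻¹ = w := inv_eq_of_mul_eq_one_right (T.snd_sq hw)

theorem snd_comm {w w' : G} (hw : w ∈ T.kerSnd) (hw' : w' ∈ T.kerSnd) : Commute w w' := by
  obtain ⟨a', T'⟩ := T.swap
  exact T'.group_comm hw.1 hw'.1

theorem conj_fst {α β : G} (hα : α ∈ T.kerFst) (hβ : β ∈ T.kerSnd) : β * α * β ∈ T.kerFst := by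
  have h1 := T.ker_normalize hβ.2 hα.1
  have h2 : β * α * β⁻¹ ∈ T.ker := T.ker.mul_mem (T.ker.mul_mem hβ.2 hα.2) (T.ker.inv_mem hβ.2)
  rw [T.snd_inv hβ] at h1 h2
  exact ⟨h1, h2⟩

/-- The commutator of kernel elements. -/
abbrev pairing (β α : G) : G := β * α * β * α

theorem pairing_add_snd {α β β' : G} (hα : α ∈ T.kerFst) (hβ : β ∈ T.kerSnd) (hβ' : β' ∈ T.kerSnd) :
    pairing (β * β') α = pairing β α * pairing β' α := by
  have ho := T.commutator_mem_roots hα hβ'
  have e : β' * α * β' = pairing β' α * α := by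
    simp only [pairing]; rw [mul_assoc _ α α, T.group_sq hα.1, mul_one]
  calc pairing (β * β') α = β * (β' * α * β') * β * α := by
        simp only [pairing]
        nth_rw 2 [(T.snd_comm hβ hβ').eq]
        group
    _ = pairing β' α * (β * α * β * α) := by
        rw [e, show β * (pairing β' α * α) * β * α = β * pairing β' α * (α * β * α) by group,
          (T.snd_root_comm ho hβ).eq]
        group
    _ = pairing β α * pairing β' α :=
        (twinProd_comm T.deg T.hN ho (T.commutator_mem_roots hα hβ)).eq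

theorem pairing_add_fst {α α' β : G} (hα : α ∈ T.kerFst) (hα' : α' ∈ T.kerFst) (hβ : β ∈ T.kerSnd) :
    pairing β (α * α') = pairing β α * pairing β α' := by
  have hc : Commute α (β * α' * β) := T.group_comm hα.1 (T.conj_fst hα' hβ).1
  calc pairing β (α * α') = β * α * (β * β) * α' * β * (α * α') := by
        rw [T.snd_sq hβ]; simp only [pairing]; group
    _ = β * α * β * ((β * α' * β) * α) * α' := by group
    _ = pairing β α * pairing β α' := by rw [← hc.eq]; simp only [pairing]; group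

theorem pairing_root {β o : G} (hβ : β ∈ T.kerSnd) (ho : o ∈ closure (twins D N)) : pairing β o = 1 := by
  show β * o * β * o = 1
  rw [(T.snd_root_comm ho hβ).eq, mul_assoc o β β, T.snd_sq hβ, mul_one, twinProd_sq T.deg T.hN ho]

theorem root_pairing {α o : G} (hα : α ∈ T.kerFst) (ho : o ∈ closure (twins D N)) : pairing o α = 1 := by
  show o * α * o * α = 1
  rw [← (T.fst_root_comm ho hα).eq, mul_assoc α o o, twinProd_sq T.deg T.hN ho, mul_one,
    T.group_sq hα.1]

/-- The commutator with a twin of `d` on a product. -/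
theorem delta_mul {u β β' : G} (hu : u ∈ line D N d) (hβ : β ∈ T.kerSnd) (hβ' : β' ∈ T.kerSnd) :
    delta u (β * β') = delta u β * delta u β' * pairing β (delta u β') := by
  have hδ := T.delta_mem hu hβ'
  have hδ' := T.delta_mem hu hβ
  have hu2 := T.group_sq (T.mem_group hu)
  have e : β' * u * β' = delta u β' * u := by simp only [delta]; rw [mul_assoc _ u u, hu2, mul_one]
  have e' : β * delta u β' * β = pairing β (delta u β') * delta u β' := by
    simp only [pairing]; rw [mul_assoc _ (delta u β') (delta u β'), T.group_sq hδ.1, mul_one]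
  calc delta u (β * β') = β * (β' * u * β') * β * u := by
        simp only [delta]
        nth_rw 2 [(T.snd_comm hβ hβ').eq]
        group
    _ = β * delta u β' * (β * β) * u * β * u := by rw [e, T.snd_sq hβ]; group
    _ = β * delta u β' * β * delta u β := by simp only [delta]; group
    _ = pairing β (delta u β') * (delta u β' * delta u β) := by rw [e']; group
    _ = delta u β * delta u β' * pairing β (delta u β') := by
        rw [(T.group_comm hδ.1 hδ'.1).eq,
          (T.fst_root_comm (T.commutator_mem_roots hδ hβ) (mul_mem hδ' hδ)).eq]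

theorem delta_root {u β o : G} (hu : u ∈ line D N d) (hβ : β ∈ T.kerSnd) (ho : o ∈ closure (twins D N)) :
    delta u (β * o) = delta u β := by
  have h1 : delta u o = 1 := by
    simp only [delta]
    rw [← (T.root_commute ho hu.1 hu.2.1).eq, mul_assoc u o o, twinProd_sq T.deg T.hN ho, mul_one,
      T.group_sq (T.mem_group hu)]
  rw [T.delta_mul hu hβ (T.roots_le_snd ho), h1, mul_one, T.pairing_root hβ (one_mem _), mul_one]

/-- The roots inside the first kernel. -/
abbrev rootsFst : Subgroup ↥T.kerFst := (closure (twins D N)).subgroupOf T.kerFst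

/-- The roots inside the second kernel. -/
abbrev rootsSnd : Subgroup ↥T.kerSnd := (closure (twins D N)).subgroupOf T.kerSnd

instance : IsMulCommutative ↥T.kerFst := ⟨⟨fun p q => Subtype.ext (T.group_comm p.2.1 q.2.1).eq⟩⟩

theorem snd_normal : T.rootsSnd.Normal := ⟨fun n hn g => by
  rw [show g * n * g⁻¹ = n by
    rw [show g * n = n * g from Subtype.ext (T.snd_comm g.2 n.2).eq, mul_inv_cancel_right]]
  exact hn⟩

theorem fst_normal : T.rootsFst.Normal := ⟨fun n hn g => by
  rw [show g * n * g⁻¹ = n by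
    rw [show g * n = n * g from Subtype.ext (T.group_comm g.2.1 n.2.1).eq, mul_inv_cancel_right]]
  exact hn⟩

/-- The commutator map modulo roots. -/
theorem exists_map {u : G} (hu : u ∈ line D N d) (hnu : ¬ Same D u N) :
    letI := T.snd_normal
    letI := T.fst_normal
    ∃ f : ↥T.kerSnd ⧸ T.rootsSnd →* ↥T.kerFst ⧸ T.rootsFst, Function.Injective f ∧
      ∀ β : ↥T.kerSnd, f (QuotientGroup.mk β) = QuotientGroup.mk ⟨delta u β.1, T.delta_mem hu β.2⟩ := by
  letI := T.snd_normal
  letI := T.fst_normal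
  let φ : ↥T.kerSnd →* ↥T.kerFst ⧸ T.rootsFst :=
    MonoidHom.mk' (fun β => QuotientGroup.mk ⟨delta u β.1, T.delta_mem hu β.2⟩) fun β β' => by
      have hδ' := T.delta_mem hu β'.2
      rw [← QuotientGroup.mk_mul, QuotientGroup.eq, mem_subgroupOf]
      show (delta u (β.1 * β'.1))⁻¹ * (delta u β.1 * delta u β'.1) ∈ closure (twins D N)
      rw [T.delta_mul hu β.2 β'.2, _root_.mul_inv_rev, inv_mul_cancel_right]
      exact inv_mem (T.commutator_mem_roots hδ' β.2)
  have hker : T.rootsSnd ≤ φ.ker := fun β hβ => by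
    rw [MonoidHom.mem_ker]
    refine (QuotientGroup.eq_one_iff _).2 ?_
    show delta u β.1 ∈ closure (twins D N)
    have hβ' : β.1 ∈ closure (twins D N) := hβ
    rw [show delta u β.1 = delta u (1 * β.1) by rw [one_mul], T.delta_root hu (one_mem _) hβ']
    simp [delta, T.group_sq (T.mem_group hu)]
  refine ⟨QuotientGroup.lift T.rootsSnd φ hker, (injective_iff_map_eq_one _).2 fun q hq => ?_, fun β => rfl⟩
  obtain ⟨β, rfl⟩ := QuotientGroup.mk_surjective q
  rw [QuotientGroup.eq_one_iff]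
  have hm : (⟨delta u β.1, T.delta_mem hu β.2⟩ : ↥T.kerFst) ∈ T.rootsFst := (QuotientGroup.eq_one_iff _).1 hq
  exact T.mem_roots_of_delta hu hnu β.2 hm

theorem card_le_card : Nat.card (↥T.kerSnd ⧸ T.rootsSnd) ≤ Nat.card (↥T.kerFst ⧸ T.rootsFst) := by
  letI := T.snd_normal
  letI := T.fst_normal
  obtain ⟨f, hf, -⟩ := T.exists_map T.d_line T.ndN
  exact Nat.card_le_card_of_injective f hf

theorem card_eq : Nat.card (↥T.kerSnd ⧸ T.rootsSnd) = Nat.card (↥T.kerFst ⧸ T.rootsFst) := by
  obtain ⟨a', T'⟩ := T.swap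
  exact le_antisymm T.card_le_card T'.card_le_card

/-- The kernels are at most the square of the root group. -/
theorem card_le_sq : Nat.card (↥T.kerSnd ⧸ T.rootsSnd) ≤ Nat.card ↥(closure (twins D N)) ^ 2 := by
  letI := T.snd_normal
  letI := T.fst_normal
  have := T.all.simple
  have C := T.deg
  have hO := simple_core C
  obtain ⟨v, -, hv, -⟩ := C.exists_twin T.hd
  obtain ⟨v0, hvt, hne⟩ : ∃ v0 ∈ twins D d, v0 ≠ d := by
    obtain ⟨v, hl, hv, -⟩ := C.exists_twin T.hd
    exact ⟨v, hv, (RootInv.line_ne C.root hl).symm⟩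
  have hvL := T.twins_d_line hvt
  have hnv : ¬ Same D v0 N := fun h => T.ndN (hvt.2.symm.trans h)
  obtain ⟨fu, hfu, efu⟩ := T.exists_map T.d_line T.ndN
  obtain ⟨fv, hfv, efv⟩ := T.exists_map hvL hnv
  have hbij : Function.Bijective fv := ⟨hfv, by
    have := Fintype.ofFinite (↥T.kerSnd ⧸ T.rootsSnd)
    have := Fintype.ofFinite (↥T.kerFst ⧸ T.rootsFst)
    exact ((Fintype.bijective_iff_injective_and_card fv).2 ⟨hfv, by
      rw [← Nat.card_eq_fintype_card, ← Nat.card_eq_fintype_card, T.card_eq]⟩).2⟩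
  set γ : ↥T.kerSnd ⧸ T.rootsSnd →* ↥T.kerSnd ⧸ T.rootsSnd :=
    (MulEquiv.ofBijective fv hbij).symm.toMonoidHom.comp fu
  have hγ : ∀ p, fv (γ p) = fu p := fun p => (MulEquiv.ofBijective fv hbij).apply_symm_apply _
  let σ : ↥T.kerSnd ⧸ T.rootsSnd → G := fun p => (Quotient.out p).1
  have hσ : ∀ p, σ p ∈ T.kerSnd := fun p => (Quotient.out p).2
  have hσmk : ∀ p, (QuotientGroup.mk ⟨σ p, hσ p⟩ : ↥T.kerSnd ⧸ T.rootsSnd) = p := fun p =>
    QuotientGroup.out_eq' p
  -- changing a representative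
  have hrep : ∀ {β β' : G} (hβ : β ∈ T.kerSnd) (hβ' : β' ∈ T.kerSnd),
      (QuotientGroup.mk ⟨β, hβ⟩ : ↥T.kerSnd ⧸ T.rootsSnd) = QuotientGroup.mk ⟨β', hβ'⟩ →
      ∃ o ∈ closure (twins D N), β' = β * o := fun {β β'} hβ hβ' e =>
    ⟨β⁻¹ * β', mem_subgroupOf.1 (QuotientGroup.eq.1 e), by group⟩
  have hc : ∀ {α : G}, α ∈ T.kerFst → ∀ {β β' : G} (hβ : β ∈ T.kerSnd) (hβ' : β' ∈ T.kerSnd),
      (QuotientGroup.mk ⟨β, hβ⟩ : ↥T.kerSnd ⧸ T.rootsSnd) = QuotientGroup.mk ⟨β', hβ'⟩ →
      pairing β' α = pairing β α := fun {α} hα {β β'} hβ hβ' e => by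
    obtain ⟨o, ho, rfl⟩ := hrep hβ hβ' e
    rw [T.pairing_add_snd hα hβ (T.roots_le_snd ho), T.root_pairing hα ho, mul_one]
  have hd' : ∀ {u : G}, u ∈ line D N d → ∀ {β β' : G} (hβ : β ∈ T.kerSnd) (hβ' : β' ∈ T.kerSnd),
      (QuotientGroup.mk ⟨β, hβ⟩ : ↥T.kerSnd ⧸ T.rootsSnd) = QuotientGroup.mk ⟨β', hβ'⟩ →
      delta u β' = delta u β := fun {u} hu {β β'} hβ hβ' e => by
    obtain ⟨o, ho, rfl⟩ := hrep hβ hβ' e
    rw [T.delta_root hu hβ ho]
  -- pairing with the image under the map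
  let τ : ↥T.kerSnd ⧸ T.rootsSnd → G := fun p => delta d (σ p)
  have hτ : ∀ p, τ p ∈ T.kerFst := fun p => T.delta_mem T.d_line (hσ p)
  have hτv : ∀ p, ∃ o ∈ closure (twins D N), delta v0 (σ (γ p)) = τ p * o := fun p => by
    have e : (QuotientGroup.mk ⟨τ p, hτ p⟩ : ↥T.kerFst ⧸ T.rootsFst) =
        QuotientGroup.mk ⟨delta v0 (σ (γ p)), T.delta_mem hvL (hσ _)⟩ := by
      have e1 := efu ⟨σ p, hσ p⟩
      have e2 := efv ⟨σ (γ p), hσ _⟩
      rw [hσmk] at e1 e2
      rw [← e1, ← e2, hγ]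
    exact ⟨(τ p)⁻¹ * delta v0 (σ (γ p)), mem_subgroupOf.1 (QuotientGroup.eq.1 e), by group⟩
  let z0 : ↥T.kerSnd ⧸ T.rootsSnd → G := fun p => delta d (σ p) * delta v0 (σ (γ p))
  have hz0 : ∀ p, z0 p ∈ closure (twins D N) := fun p => by
    obtain ⟨o, ho, e⟩ := hτv p
    show τ p * delta v0 (σ (γ p)) ∈ _
    rw [e, ← mul_assoc, T.group_sq (hτ p).1, one_mul]
    exact ho
  have hτmul : ∀ p q, ∃ o ∈ closure (twins D N), τ (p * q) = τ p * τ q * o := fun p q => by
    refine ⟨pairing (σ p) (τ q), T.commutator_mem_roots (hτ q) (hσ p), ?_⟩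
    show delta d (σ (p * q)) = _
    rw [hd' T.d_line (mul_mem (hσ p) (hσ q)) (hσ (p * q)) (by
      rw [hσmk]
      show QuotientGroup.mk ((⟨σ p, hσ p⟩ : ↥T.kerSnd) * ⟨σ q, hσ q⟩) = _
      rw [QuotientGroup.mk_mul, hσmk, hσmk]), T.delta_mul T.d_line (hσ p) (hσ q)]
  letI : CommGroup (↥T.kerSnd ⧸ T.rootsSnd) :=
    { (inferInstance : Group (↥T.kerSnd ⧸ T.rootsSnd)) with
      mul_comm := fun p q => by
        obtain ⟨p, rfl⟩ := QuotientGroup.mk_surjective p
        obtain ⟨q, rfl⟩ := QuotientGroup.mk_surjective q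
        rw [← QuotientGroup.mk_mul, ← QuotientGroup.mk_mul]
        congr 1
        exact Subtype.ext (T.snd_comm p.2 q.2).eq }
  letI : CommGroup ↥(closure (twins D N)) :=
    { (inferInstance : Group ↥(closure (twins D N))) with
      mul_comm := fun p q => Subtype.ext (twinProd_comm C T.hN p.2 q.2).eq }
  refine QuadBound.card_le (fun p => ?_) (fun q => Subtype.ext (twinProd_sq C T.hN q.2))
    (fun p => (⟨z0 p, hz0 p⟩ : ↥(closure (twins D N))))
    (fun p q => ⟨pairing (σ p) (τ q) * pairing (σ (γ p)) (τ q),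
      mul_mem (T.commutator_mem_roots (hτ q) (hσ p)) (T.commutator_mem_roots (hτ q) (hσ _))⟩)
    (fun p => ⟨fun h => ?_, fun h => ?_⟩) (fun p p' q => ?_) (fun p q q' => ?_) fun p q => ?_
  · obtain ⟨p, rfl⟩ := QuotientGroup.mk_surjective p
    rw [← QuotientGroup.mk_mul, show p * p = 1 from Subtype.ext (T.snd_sq p.2), QuotientGroup.mk_one]
  · -- only the trivial class gives the trivial value
    have h' : z0 p = 1 := congrArg Subtype.val h
    by_contra hp
    have hβ : σ p ∉ closure (twins D N) := fun ho => hp (by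
      rw [← hσmk p]; exact (QuotientGroup.eq_one_iff _).2 ho)
    set β := σ p
    set δ := σ (γ p)
    set A1 := β * d * β
    set A2 := δ * v0 * δ
    have hA1 : A1 ∈ line D N d ∧ A1 ∈ lineGroup D N d := by
      have hD := C.root
      have h1 : A1 ∈ D := by
        have := hD.conj_mem d T.hd β
        rwa [T.snd_inv (hσ p)] at this
      refine ⟨⟨h1, ((hσ p).2.1.mul_left T.dN).mul_left (hσ p).2.1, ?_⟩, ?_⟩
      · have := (hσ p).2.2 d T.hd T.dN
        rwa [T.snd_inv (hσ p)] at this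
      · have := T.ker_normalize (hσ p).2 (T.mem_group T.d_line)
        rwa [T.snd_inv (hσ p)] at this
    have hA2 : A2 ∈ D ∧ A2 ∈ lineGroup D N d := by
      constructor
      · have := C.root.conj_mem v0 hvt.1 δ
        rwa [T.snd_inv (hσ _)] at this
      · have := T.ker_normalize (hσ (γ p)).2 (T.mem_group hvL)
        rwa [T.snd_inv (hσ _)] at this
    have hprod : A1 * A2 = d * v0 := by
      have hc : Commute A2 d := T.group_comm hA2.2 (T.mem_group T.d_line)
      have e : z0 p = A1 * A2 * (d * v0) := by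
        show A1 * d * (A2 * v0) = _
        rw [show A1 * d * (A2 * v0) = A1 * (d * A2) * v0 by group, ← hc.eq]
        group
      rw [e, mul_eq_one_iff_eq_inv, T.group_inv (mul_mem (T.mem_group T.d_line) (T.mem_group hvL))] at h'
      exact h'
    have hdv := twins_mul_mem C T.hd hO (mem_twins_self T.hd) hvt hne.symm
    have hl : Line D A1 A2 := ⟨hA1.1.1, hA2.1, T.group_comm hA1.2 hA2.2, hprod ▸ hdv.1⟩
    have hs3 := C.same_of_line (line_third C.root hl)
    have h1 : Same D A1 (A1 * A2) := hs3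
    rw [hprod] at h1
    exact hβ (T.mem_roots_of_fix_class (hσ p) T.d_line T.ndN (h1.trans hdv.2))
  · subst h
    refine Subtype.ext ?_
    show z0 1 = 1
    have hσ1 : σ 1 ∈ closure (twins D N) := mem_subgroupOf.1 ((QuotientGroup.eq_one_iff _).1 (hσmk 1))
    have e : ∀ {u : G}, u ∈ line D N d → delta u (σ 1) = 1 := fun {u} hu => by
      rw [show σ 1 = 1 * σ 1 by rw [one_mul], T.delta_root hu (one_mem _) hσ1]
      simp [delta, T.group_sq (T.mem_group hu)]
    show delta d (σ 1) * delta v0 (σ (γ 1)) = 1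
    rw [map_one, e T.d_line, e hvL, one_mul]
  · refine Subtype.ext ?_
    show pairing (σ (p * p')) (τ q) * pairing (σ (γ (p * p'))) (τ q) =
      pairing (σ p) (τ q) * pairing (σ (γ p)) (τ q) * (pairing (σ p') (τ q) * pairing (σ (γ p')) (τ q))
    have e : ∀ r r', pairing (σ (r * r')) (τ q) = pairing (σ r) (τ q) * pairing (σ r') (τ q) := fun r r' => by
      rw [← T.pairing_add_snd (hτ q) (hσ r) (hσ r')]
      refine hc (hτ q) (mul_mem (hσ r) (hσ r')) (hσ _) ?_
      rw [hσmk]
      show QuotientGroup.mk ((⟨σ r, hσ r⟩ : ↥T.kerSnd) * ⟨σ r', hσ r'⟩) = _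
      rw [QuotientGroup.mk_mul, hσmk, hσmk]
    rw [e, map_mul, e]
    exact (twinProd_comm C T.hN (T.commutator_mem_roots (hτ q) (hσ p'))
      (T.commutator_mem_roots (hτ q) (hσ _))).mul_mul_mul_comm _ _
  · refine Subtype.ext ?_
    show pairing (σ p) (τ (q * q')) * pairing (σ (γ p)) (τ (q * q')) =
      pairing (σ p) (τ q) * pairing (σ (γ p)) (τ q) * (pairing (σ p) (τ q') * pairing (σ (γ p)) (τ q'))
    obtain ⟨o, ho, e⟩ := hτmul q q'
    have e' : ∀ r, pairing (σ r) (τ (q * q')) = pairing (σ r) (τ q) * pairing (σ r) (τ q') := fun r => by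
      rw [e, T.pairing_add_fst (mul_mem (hτ q) (hτ q')) (T.roots_le_fst ho) (hσ r),
        T.pairing_add_fst (hτ q) (hτ q') (hσ r), T.pairing_root (hσ r) ho, mul_one]
    rw [e', e']
    exact (twinProd_comm C T.hN (T.commutator_mem_roots (hτ q') (hσ p))
      (T.commutator_mem_roots (hτ q) (hσ _))).mul_mul_mul_comm _ _
  · refine Subtype.ext ?_
    show z0 (p * q) = z0 p * z0 q * (pairing (σ p) (τ q) * pairing (σ (γ p)) (τ q))
    have e : ∀ {u : G}, u ∈ line D N d → ∀ r r', delta u (σ (r * r')) =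
        delta u (σ r) * delta u (σ r') * pairing (σ r) (delta u (σ r')) := fun {u} hu r r' => by
      rw [← T.delta_mul hu (hσ r) (hσ r')]
      refine hd' hu (mul_mem (hσ r) (hσ r')) (hσ _) ?_
      rw [hσmk]
      show QuotientGroup.mk ((⟨σ r, hσ r⟩ : ↥T.kerSnd) * ⟨σ r', hσ r'⟩) = _
      rw [QuotientGroup.mk_mul, hσmk, hσmk]
    obtain ⟨o, ho, eo⟩ := hτv q
    have ep : pairing (σ (γ p)) (delta v0 (σ (γ q))) = pairing (σ (γ p)) (τ q) := by
      rw [eo, T.pairing_add_fst (hτ q) (T.roots_le_fst ho) (hσ _), T.pairing_root (hσ _) ho, mul_one]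
    show delta d (σ (p * q)) * delta v0 (σ (γ (p * q))) = _
    rw [e T.d_line, map_mul, e hvL, ep]
    show delta d (σ p) * delta d (σ q) * pairing (σ p) (τ q) *
        (delta v0 (σ (γ p)) * delta v0 (σ (γ q)) * pairing (σ (γ p)) (τ q)) =
      delta d (σ p) * delta v0 (σ (γ p)) * (delta d (σ q) * delta v0 (σ (γ q))) *
        (pairing (σ p) (τ q) * pairing (σ (γ p)) (τ q))
    have hV : ∀ {u : G}, u ∈ line D N d → ∀ r, delta u (σ r) ∈ lineGroup D N d :=
      fun hu r => (T.delta_mem hu (hσ r)).1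
    have ho1 := T.roots_le (T.commutator_mem_roots (hτ q) (hσ p))
    rw [(T.group_comm ho1 (mul_mem (hV hvL (γ p)) (hV hvL (γ q)))).mul_mul_mul_comm,
      (T.group_comm (hV T.d_line q) (hV hvL (γ p))).mul_mul_mul_comm]

end CfsgLib.OddTrans.TwoLines
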