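import Cfsg.Agent.RootSubgroups.OddMaps
import Cfsg.Agent.RootSubgroups.FixedFree
import Cfsg.Agent.KGroup.Primitive2

/-!
The Suzuki block acts on the two line kernels modulo roots; comparing with a root of another point gives
a contradiction: some pair has a product of order three.
-/

set_option autoImplicit false
set_option linter.unusedSectionVars false
set_option linter.style.haveILetI false

namespace CfsgLib.OddTrans.TwoLines

open Cfsg CfsgLib.RootInv CfsgLib.OddClass Subgroup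

universe u

variable {G : Type u} [Group G] [Finite G] {D : Set G} {N d x a : G} (T : TwoLines D N d x a)
include T

/-- The products of the two kernels. -/
def both : Subgroup G where
  carrier := {g | ∃ α ∈ T.kerFst, ∃ β ∈ T.kerSnd, g = α * β}
  one_mem' := ⟨1, one_mem _, 1, one_mem _, (one_mul 1).symm⟩
  mul_mem' := by
    rintro _ _ ⟨α, hα, β, hβ, rfl⟩ ⟨α', hα', β', hβ', rfl⟩
    exact ⟨α * (β * α' * β), mul_mem hα (T.conj_fst hα' hβ), β * β', mul_mem hβ hβ', by
      rw [show α * (β * α' * β) * (β * β') = α * β * α' * (β * β) * β' by group, T.snd_sq hβ]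
      group⟩
  inv_mem' := by
    rintro _ ⟨α, hα, β, hβ, rfl⟩
    exact ⟨β * α * β, T.conj_fst hα hβ, β, hβ, by
      rw [_root_.mul_inv_rev, T.snd_inv hβ, T.group_inv hα.1, mul_assoc _ β β, T.snd_sq hβ, mul_one]⟩

theorem fst_le_both : T.kerFst ≤ T.both := fun α hα => ⟨α, hα, 1, one_mem _, (mul_one α).symm⟩

theorem snd_le_both : T.kerSnd ≤ T.both := fun β hβ => ⟨1, one_mem _, β, hβ, (one_mul β).symm⟩

/-- The elements normalising the products and centralising the roots. -/
def stab : Subgroup G :=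
  Subgroup.normalizer (T.both : Set G) ⊓ centralizer ((closure (twins D N) : Subgroup G) : Set G)

theorem mem_stab_of {g : G} (hN : ∀ o ∈ closure (twins D N), Commute g o)
    (h1 : ∀ α ∈ T.kerFst, g * α * g⁻¹ ∈ T.both) (h2 : ∀ β ∈ T.kerSnd, g * β * g⁻¹ ∈ T.both) :
    g ∈ T.stab := by
  refine ⟨?_, mem_centralizer_iff.2 fun o ho => ((hN o ho).symm).eq⟩
  have hle : T.both.map (MulAut.conj g).toMonoidHom ≤ T.both := by
    rintro _ ⟨_, ⟨α, hα, β, hβ, rfl⟩, rfl⟩
    show g * (α * β) * g⁻¹ ∈ T.both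
    rw [show g * (α * β) * g⁻¹ = g * α * g⁻¹ * (g * β * g⁻¹) by group]
    exact mul_mem (h1 α hα) (h2 β hβ)
  have heq : T.both.map (MulAut.conj g).toMonoidHom = T.both :=
    eq_of_le_of_card_ge hle (le_of_eq (Subgroup.card_map_of_injective (MulAut.conj g).injective).symm)
  refine Subgroup.mem_normalizer_iff.2 fun w => ⟨fun hw => hle ⟨w, hw, rfl⟩, fun hw => ?_⟩
  rw [← heq] at hw
  obtain ⟨w', hw', e⟩ := hw
  exact (MulAut.conj g).injective e ▸ hw'

theorem conj_fst_of_fix {g : G} (hgN : Commute g N) (hgd : Commute g d) {α : G} (hα : α ∈ T.kerFst) :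
    g * α * g⁻¹ ∈ T.kerFst := by
  have hle : lineGroup D N d ≤ (lineGroup D N d).comap (MulAut.conj g).toMonoidHom := (closure_le _).2 (by
    rintro s ⟨hs, hsN, hsd⟩
    exact subset_closure ⟨T.deg.root.conj_mem s hs g, (hgN.mul_left hsN).mul_left hgN.inv_left,
      (hgd.mul_left hsd).mul_left hgd.inv_left⟩)
  exact ⟨hle hα.1, T.ker_conj hα.2 hgN⟩

/-- An element fixing the two points of each line. -/
theorem mem_stab_of_fix {g : G} (hgR : ∀ e ∈ twins D N, Commute g e) (hgd : Commute g d)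
    (hgx : Commute g x) : g ∈ T.stab := by
  obtain ⟨a', T'⟩ := T.swap
  have hgN := hgR N (mem_twins_self T.hN)
  refine T.mem_stab_of (fun o ho => ?_) (fun α hα => T.fst_le_both (T.conj_fst_of_fix hgN hgd hα))
    fun β hβ => T.snd_le_both (T'.conj_fst_of_fix hgN hgx hβ)
  exact mem_centralizer_singleton_iff.1 ((closure_le (centralizer ({g} : Set G))).2
    (fun e he => mem_centralizer_singleton_iff.2 (hgR e he).symm.eq) ho) |> fun h => (show Commute o g from h).symm

theorem block_stab : blockGroup D d x ≤ T.stab := by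
  obtain ⟨a', T'⟩ := T.swap
  have C := T.deg
  refine (closure_le _).2 ?_
  rintro u (hu | hu)
  · have huL := T.twins_d_line hu
    have hui : u⁻¹ = u := RootInv.inv C.root hu.1
    refine T.mem_stab_of (fun o ho => T.root_commute ho hu.1 huL.2.1) (fun α hα => T.fst_le_both ?_)
      fun β hβ => ?_
    · rw [(T.group_comm (T.mem_group huL) hα.1).eq, mul_inv_cancel_right]; exact hα
    · rw [hui, show u * β * u = β * delta u β by
        simp only [delta]
        rw [show β * (β * u * β * u) = β * β * u * β * u by group, T.snd_sq hβ, one_mul]]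
      exact mul_mem (T.snd_le_both hβ) (T.fst_le_both (T.delta_mem huL hβ))
  · rw [Set.mem_singleton_iff.1 hu]
    have hxL := T'.d_line
    have hxi : x⁻¹ = x := RootInv.inv C.root T.hx
    refine T.mem_stab_of (fun o ho => T.root_commute ho T.hx T.xN) (fun α hα => ?_)
      fun β hβ => T.snd_le_both ?_
    · rw [hxi, show x * α * x = α * delta x α by
        simp only [delta]
        rw [show α * (α * x * α * x) = α * α * x * α * x by group, T.group_sq hα.1, one_mul]]
      exact mul_mem (T.fst_le_both hα) (T.snd_le_both (T'.delta_mem hxL hα))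
    · rw [(T'.group_comm (T'.mem_group hxL) hβ.1).eq, mul_inv_cancel_right]; exact hβ

/-- The roots inside the products. -/
abbrev rootsBoth : Subgroup ↥T.both := (closure (twins D N)).subgroupOf T.both

theorem both_root_comm {o m : G} (ho : o ∈ closure (twins D N)) (hm : m ∈ T.both) : Commute m o := by
  obtain ⟨α, hα, β, hβ, rfl⟩ := hm
  exact (T.fst_root_comm ho hα).mul_left (T.snd_root_comm ho hβ)

theorem both_normal : T.rootsBoth.Normal := ⟨fun n hn g => by
  rw [show g * n * g⁻¹ = n by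
    rw [show g * n = n * g from Subtype.ext (T.both_root_comm (mem_subgroupOf.1 hn) g.2).eq,
      mul_inv_cancel_right]]
  exact hn⟩

/-- The module. -/
abbrev Module' : Type u := ↥T.both ⧸ T.rootsBoth

/-- The action. -/
theorem exists_action :
    letI := T.both_normal
    ∃ ρ : ↥T.stab →* MulAut T.Module', ∀ (g : ↥T.stab) (m : ↥T.both) (h : g.1 * m.1 * g.1⁻¹ ∈ T.both),
      ρ g (QuotientGroup.mk m) = QuotientGroup.mk ⟨g.1 * m.1 * g.1⁻¹, h⟩ := by
  letI := T.both_normal
  let θ : ↥T.stab →* MulAut ↥T.both :=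
    (T.both.normalizerMonoidHom).comp (Subgroup.inclusion inf_le_left)
  have hθ : ∀ g : ↥T.stab, T.rootsBoth.map ((θ g : ↥T.both ≃* ↥T.both) : ↥T.both →* ↥T.both) = T.rootsBoth := by
    intro g
    refine eq_of_le_of_card_ge ?_ (le_of_eq (Subgroup.card_map_of_injective (θ g).injective).symm)
    rintro _ ⟨o, ho, rfl⟩
    show g.1 * o.1 * g.1⁻¹ ∈ closure (twins D N)
    rw [← mem_centralizer_iff.1 g.2.2 o.1 ho, mul_inv_cancel_right]
    exact ho
  let ρ : ↥T.stab → MulAut T.Module' := fun g => QuotientGroup.congr _ _ (θ g) (hθ g)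
  have hρ : ∀ g m, ρ g (QuotientGroup.mk m) = QuotientGroup.mk (θ g m) := fun g m => rfl
  refine ⟨MonoidHom.mk' ρ fun g g' => MulEquiv.ext fun q => ?_, fun g m h => rfl⟩
  obtain ⟨m, rfl⟩ := QuotientGroup.mk_surjective q
  rw [MulAut.mul_apply, hρ, hρ, hρ, map_mul, MulAut.mul_apply]

theorem module_sq (q : letI := T.both_normal; T.Module') : letI := T.both_normal; q * q = 1 := by
  letI := T.both_normal
  obtain ⟨⟨m, α, hα, β, hβ, rfl⟩, rfl⟩ := QuotientGroup.mk_surjective q
  rw [← QuotientGroup.mk_mul, QuotientGroup.eq_one_iff, mem_subgroupOf]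
  show α * β * (α * β) ∈ closure (twins D N)
  rw [show α * β * (α * β) = α * (β * α * β * α) * α⁻¹ by group]
  rw [(T.fst_root_comm (T.commutator_mem_roots hα hβ) hα).eq, mul_inv_cancel_right]
  exact T.commutator_mem_roots hα hβ

theorem module_card : Nat.card T.Module' ≤ Nat.card ↥(closure (twins D N)) ^ 4 := by
  letI := T.both_normal
  letI := T.fst_normal
  letI := T.snd_normal
  let F : (↥T.kerFst ⧸ T.rootsFst) × (↥T.kerSnd ⧸ T.rootsSnd) → T.Module' := fun p =>
    QuotientGroup.mk ⟨(Quotient.out p.1).1 * (Quotient.out p.2).1,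
      _, (Quotient.out p.1).2, _, (Quotient.out p.2).2, rfl⟩
  have hsurj : Function.Surjective F := fun q => by
    obtain ⟨⟨m, α, hα, β, hβ, rfl⟩, rfl⟩ := QuotientGroup.mk_surjective q
    refine ⟨(QuotientGroup.mk ⟨α, hα⟩, QuotientGroup.mk ⟨β, hβ⟩), ?_⟩
    have e1 := QuotientGroup.eq.1 (QuotientGroup.out_eq' (QuotientGroup.mk ⟨α, hα⟩ : ↥T.kerFst ⧸ T.rootsFst))
    have e2 := QuotientGroup.eq.1 (QuotientGroup.out_eq' (QuotientGroup.mk ⟨β, hβ⟩ : ↥T.kerSnd ⧸ T.rootsSnd))
    rw [mem_subgroupOf] at e1 e2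
    set α0 := Quotient.out (QuotientGroup.mk ⟨α, hα⟩ : ↥T.kerFst ⧸ T.rootsFst)
    set β0 := Quotient.out (QuotientGroup.mk ⟨β, hβ⟩ : ↥T.kerSnd ⧸ T.rootsSnd)
    refine QuotientGroup.eq.2 (mem_subgroupOf.2 ?_)
    show (α0.1 * β0.1)⁻¹ * (α * β) ∈ closure (twins D N)
    have e1' : α0.1⁻¹ * α ∈ closure (twins D N) := e1
    have e2' : β0.1⁻¹ * β ∈ closure (twins D N) := e2
    rw [show (α0.1 * β0.1)⁻¹ * (α * β) = β0.1⁻¹ * (α0.1⁻¹ * α) * β by group,
      (T.snd_root_comm e1' (inv_mem β0.2)).eq, mul_assoc]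
    exact mul_mem e1' e2'
  refine (Nat.card_le_card_of_surjective F hsurj).trans ?_
  rw [Nat.card_prod, ← T.card_eq, show 4 = 2 + 2 from rfl, pow_add]
  exact Nat.mul_le_mul T.card_le_sq T.card_le_sq

/-- The setting used by the arguments below. -/
theorem module_setting : ∃ f : ℕ, 3 ≤ f ∧
    (letI := T.both_normal
    ∀ ρ : ↥T.stab →* MulAut T.Module', (∀ (g : ↥T.stab) (m : ↥T.both) (h : g.1 * m.1 * g.1⁻¹ ∈ T.both),
      ρ g (QuotientGroup.mk m) = QuotientGroup.mk ⟨g.1 * m.1 * g.1⁻¹, h⟩) →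
    ∃ (r : ℕ) (_ : Fact r.Prime) (h : ↥(blockGroup D d x)), r ≠ 2 ∧ Nat.card T.Module' ≤ 2 ^ (4 * f) ∧
      (∀ j, r ∣ 2 ^ j - 1 → 4 * f ∣ j) ∧ (ρ (Subgroup.inclusion T.block_stab h)) ^ r = 1 ∧
      ρ (Subgroup.inclusion T.block_stab h) ≠ 1) := by
  have := T.all.simple
  have : Fact (Nat.Prime 2) := ⟨Nat.prime_two⟩
  have C := T.deg
  have hO := simple_core C
  have hS : SzKind D d x := (three_or_suzuki C T.hd T.hx T.xd hO T.all.crit).resolve_left
    (T.all.noThree d T.hd x T.hx T.xd)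
  obtain ⟨m, hm, hq, hK⟩ := suzuki_counts C T.hd T.hx T.xd hO hS
  have hR : Nat.card ↥(closure (twins D N)) = 2 ^ (2 * m + 1) := by
    obtain ⟨g, hg⟩ := C.cls d T.hd N T.hN
    rw [← hq, ← Nat.card_congr ((closure (twins D d)).equivMapOfInjective (MulAut.conj g).toMonoidHom
      (MulAut.conj g).injective).toEquiv.symm, MonoidHom.map_closure]
    suffices himg : twins D N = (MulAut.conj g).toMonoidHom '' twins D d by rw [himg]
    ext e
    constructor
    · intro he
      refine ⟨g⁻¹ * e * g⁻¹⁻¹, ⟨C.root.conj_mem e he.1 g⁻¹, ?_⟩, ?_⟩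
      · have h := he.2.conj C.root g⁻¹
        rwa [hg, show g⁻¹ * (g * d * g⁻¹) * g⁻¹⁻¹ = d by group] at h
      · show g * (g⁻¹ * e * g⁻¹⁻¹) * g⁻¹ = e
        group
    · rintro ⟨e', he', rfl⟩
      refine ⟨C.root.conj_mem e' he'.1 g, ?_⟩
      have h := he'.2.conj C.root g
      rwa [← hg] at h
  refine ⟨2 * m + 1, by omega, ?_⟩
  letI := T.both_normal
  intro ρ hρ
  obtain ⟨r, hr, hdiv⟩ := Primitive2.exists_primitive (k := 4 * (2 * m + 1)) (by omega) (by omega)
  haveI := Fact.mk hr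
  set q := 2 ^ (2 * m + 1) with hqdef
  have hr2 : r ≠ 2 := by
    rintro rfl
    have h := (hdiv (4 * (2 * m + 1))).2 dvd_rfl
    have h2 : 2 ∣ 2 ^ (4 * (2 * m + 1)) := dvd_pow_self 2 (by omega)
    have := Nat.one_le_two_pow (n := 4 * (2 * m + 1))
    omega
  set K := blockGroup D d x
  set π := blockMap D d x
  have hrK : r ∣ Nat.card (↥K ⧸ Cfsg.pCore 2 ↥K) := by
    rw [hK]
    have h4 : r ∣ q ^ 4 - 1 := by
      rw [hqdef, ← pow_mul, mul_comm]
      exact (hdiv _).2 dvd_rfl
    have h2 : ¬ r ∣ q ^ 2 - 1 := fun h => by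
      rw [hqdef, ← pow_mul] at h
      have := Nat.le_of_dvd (by omega) ((hdiv _).1 h)
      omega
    rw [show q ^ 4 - 1 = (q ^ 2 + 1) * (q ^ 2 - 1) by
      rw [← Nat.sq_sub_sq, one_pow]; congr 1; ring] at h4
    exact Dvd.dvd.mul_right (Dvd.dvd.mul_left ((hr.dvd_mul.1 h4).resolve_right h2) _) _
  obtain ⟨h0, hh0⟩ := exists_prime_orderOf_dvd_card' r
    (hrK.trans (Subgroup.card_quotient_dvd_card _))
  set φ : ↥K →* MulAut T.Module' := ρ.comp (Subgroup.inclusion T.block_stab) with hφ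
  refine ⟨r, ⟨hr⟩, h0, hr2, ?_, fun j hj => (hdiv j).1 hj, ?_, ?_⟩
  · refine T.module_card.trans (le_of_eq ?_)
    rw [hR, hqdef, ← pow_mul, mul_comm]
  · rw [← map_pow, ← map_pow, ← hh0, pow_orderOf_eq_one, map_one, map_one]
  intro h1
  have hπ : π h0 ≠ 1 := fun e => by
    obtain ⟨k, hk⟩ := (Solvable.isPGroup_pCore 2) ⟨h0, (QuotientGroup.eq_one_iff h0).1 e⟩
    have hk' : h0 ^ 2 ^ k = 1 := congrArg Subtype.val hk
    have := hr.two_le
    have h1 := orderOf_dvd_of_pow_eq_one hk'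
    rw [hh0] at h1
    exact hr2 ((Nat.prime_dvd_prime_iff_eq hr Nat.prime_two).1 (hr.dvd_of_dvd_pow h1))
  have hsimple := SuzFive.simple hS
  have htop : φ.ker.map π = ⊤ := by
    rcases ((inferInstance : φ.ker.Normal).map π (QuotientGroup.mk'_surjective _)).eq_bot_or_eq_top with e | e
    · exact absurd (mem_bot.1 (e ▸ mem_map_of_mem π (show h0 ∈ φ.ker from h1))) hπ
    · exact e
  have hp : IsPGroup 2 φ.range := by
    rintro ⟨_, k, rfl⟩
    obtain ⟨k0, hk0, e⟩ := htop ▸ mem_top (π k)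
    have hQ : k0⁻¹ * k ∈ Cfsg.pCore 2 ↥K := (QuotientGroup.eq_one_iff _).1 (by
      show π (k0⁻¹ * k) = 1
      rw [map_mul, map_inv, e, inv_mul_cancel])
    obtain ⟨j, hj⟩ := (Solvable.isPGroup_pCore 2) ⟨_, hQ⟩
    refine ⟨j, Subtype.ext ?_⟩
    show φ k ^ 2 ^ j = 1
    have e1 : φ k = φ (k0⁻¹ * k) := by rw [map_mul, map_inv, MonoidHom.mem_ker.1 hk0, inv_one, one_mul]
    rw [e1, ← map_pow, show (k0⁻¹ * k) ^ 2 ^ j = 1 from congrArg Subtype.val hj, map_one]
  have hperf : commutator φ.range = ⊤ := by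
    have h := congrArg (Subgroup.map φ.rangeRestrict) (commutator_block C T.hd T.hx T.xd)
    rw [_root_.commutator_def, Subgroup.map_commutator, Subgroup.map_top_of_surjective _ φ.rangeRestrict_surjective,
      ← _root_.commutator_def] at h
    exact h
  have hsub : Subsingleton φ.range := by
    by_contra hns
    have := not_subsingleton_iff_nontrivial.1 hns
    have := hp.isNilpotent
    exact (Group.IsSolvable.commutator_lt_top_of_nontrivial (G := φ.range)).ne hperf
  -- the second point moves the first kernel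
  obtain ⟨a', T'⟩ := T.swap
  obtain ⟨α, hα, hαR⟩ := T'.exists_not_root
  have hα' : α ∈ T.kerFst := hα
  set x' : ↥K := ⟨x, partner_mem_block⟩
  have hx' : φ x' = 1 := congrArg Subtype.val (hsub.elim ⟨φ x', x', rfl⟩ 1)
  have hmem : x * α * x⁻¹ ∈ T.both := by
    rw [RootInv.inv C.root T.hx, show x * α * x = α * delta x α by
      simp only [delta]
      rw [show α * (α * x * α * x) = α * α * x * α * x by group, T.group_sq hα'.1, one_mul]]
    exact mul_mem (T.fst_le_both hα') (T.snd_le_both (T'.delta_mem T'.d_line hα))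
  have h := hρ (Subgroup.inclusion T.block_stab x') ⟨α, T.fst_le_both hα'⟩ hmem
  rw [show ρ (Subgroup.inclusion T.block_stab x') = 1 from hx', MulAut.one_apply, QuotientGroup.eq] at h
  have h' : α⁻¹ * (x * α * x⁻¹) ∈ closure (twins D N) := h
  refine hαR (T'.mem_roots_of_delta T'.d_line T'.ndN hα ?_)
  rw [RootInv.inv C.root T.hx, T.group_inv hα'.1] at h'
  simpa [delta, mul_assoc] using h'

end CfsgLib.OddTrans.TwoLines
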