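import Cfsg.Agent.RootSubgroups.OddComp

/-!
A commuting pair and a common odd partner: an involution in the centraliser of the partner exchanging
twins of the two, and an involution centralising everything commuting with the pair.
-/

set_option autoImplicit false
set_option linter.unusedSectionVars false

namespace CfsgLib.OddTrans

open Cfsg CfsgLib.RootInv CfsgLib.OddClass Subgroup

universe u

variable {G : Type u} [Group G] [Finite G] {D : Set G} [IsSimpleGroup G]
  (C : OddBlock.Deg D) (hcrit : RootBlock.Criterion.{u}) (IH : ClaimBelow.{u} (Nat.card G))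
  {d a x : G} (hd : d ∈ D) (ha : a ∈ D) (had : Commute a d) (hns : ¬ Same D a d)
  (hx : x ∈ D) (hxd : ¬ Commute x d) (hxa : ¬ Commute x a)

omit [Finite G] [IsSimpleGroup G] in
theorem braid_of_three {s e : G} (hs : s * s = 1) (he : e * e = 1) (h : orderOf (s * e) = 3) :
    e * s * e = s * e * s := by
  have h3 := pow_orderOf_eq_one (s * e)
  rw [h, pow_succ, pow_two] at h3
  have hsi : s⁻¹ = s := inv_eq_of_mul_eq_one_right hs
  have hei : e⁻¹ = e := inv_eq_of_mul_eq_one_right he
  have h4 : s * e * s * (e * s * e) = 1 := by rw [← h3]; group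
  rw [eq_inv_of_mul_eq_one_right h4, mul_inv_rev, mul_inv_rev, hsi, hei, mul_assoc]

include C hcrit IH hd ha had hns hx hxd hxa

/-- Twins of the pair exchanged by `x n`. -/
theorem pair_data : ∃ u ∈ twins D d, ∃ a' ∈ twins D a, ∃ n ∈ D, Commute x n ∧ x ≠ n ∧
    x * n * u * (x * n) = a' ∧
    ∀ w : G, Commute x w → Commute u w → Commute a' w → Commute n w := by
  have hD := C.root
  obtain ⟨d', hd', m, hm, -, -, -, -, hxy, hEy, hAy, g, hg⟩ := C.exists_center hd ha had hns hx hxd
  set y := m * (d' * a)
  have hy1 : y ≠ 1 := fun e => hg (e ▸ Commute.one_right g)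
  have hdc := twin_mem_comp C hx hxy hd hxd hEy (mem_twins_self hd)
  have hac := twin_mem_comp C hx hxy ha hxa hAy (mem_twins_self ha)
  have hdisj : ∀ u ∈ twins D d, ∀ v ∈ twins D a, u ≠ v := fun u hu v hv e =>
    hns (hv.2.symm.trans (e ▸ hu.2))
  have hcomm : ∀ u ∈ twins D d, ∀ v ∈ twins D a, Commute u v := fun u hu v hv =>
    commute_twins hu.1 (commute_twins ha had hu).symm hv
  have three : Three D d x → Three D a x → ∃ u ∈ twins D d, ∃ a' ∈ twins D a, ∃ n ∈ D, Commute x n ∧
      x ≠ n ∧ x * n * u * (x * n) = a' ∧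
      ∀ w : G, Commute x w → Commute u w → Commute a' w → Commute n w := by
    rintro ⟨u, hu, hou⟩ ⟨a', ha', hoa⟩
    have hx2 := sq hD hx
    have hu2 := sq hD hu.1
    have ha2 := sq hD ha'.1
    have bu := braid_of_three hx2 hu2 hou
    have ba := braid_of_three hx2 ha2 hoa
    have hua := hcomm u hu a' ha'
    set t := a' * u with ht
    have ht2 : t * t = 1 := by rw [ht, hua.mul_mul_mul_comm, ha2, hu2, one_mul]
    have hti : t⁻¹ = t := inv_eq_of_mul_eq_one_right ht2
    have hn : t * x * t ∈ D := by
      have := hD.conj_mem x hx t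
      rwa [hti] at this
    have hn1 : t * x * t = a' * (x * u * x) * a' := by
      rw [← bu, ht, show a' * u * x * (a' * u) = a' * u * x * (u * a') by rw [hua.eq]]
      group
    have hxn : Commute x (t * x * t) := by
      have h1 : Commute (x * a' * x) (x * u * x) := by
        have h := (Commute.conj_iff x).2 hua.symm
        rwa [RootInv.inv hD hx] at h
      have h2 : Commute (a' * x * a') (x * u * x) := ba ▸ h1
      have h3 := (Commute.conj_iff a').2 h2
      rw [RootInv.inv hD ha'.1, ← hn1,
        show a' * (a' * x * a') * a' = (a' * a') * x * (a' * a') by group, ha2, one_mul, mul_one] at h3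
      exact h3
    have hne : x ≠ t * x * t := by
      intro e
      have hc : Commute x t := by
        show x * t = t * x
        nth_rw 1 [e]
        rw [mul_assoc _ t t, ht2, mul_one]
      exact not_commute_twins hx hxd hu
        (commute_left' hD C.no_four hx hu.1 ha'.1 (hdisj u hu a' ha') hua (hua.eq ▸ hc))
    refine ⟨u, hu, a', ha', _, hn, hxn, hne, ?_, fun w h1 h2 h3 => ((h3.mul_left h2).mul_left h1).mul_left
      (h3.mul_left h2)⟩
    set n := t * x * t with hndef
    have hnun : n * u * n = a' * x * a' := by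
      have e1 : t * u * t = u := by
        rw [show t * u = u * t by
          rw [ht, mul_assoc, ← mul_assoc u a' u, hua.eq, mul_assoc], mul_assoc, ht2, mul_one]
      calc n * u * n = t * x * (t * u * t) * x * t := by rw [hndef]; group
        _ = t * (u * x * u) * t := by rw [e1, bu]; group
        _ = a' * (u * u) * x * (u * u) * a' := by
          nth_rw 2 [show t = u * a' from hua.symm.eq ▸ ht]
          rw [ht]; group
        _ = a' * x * a' := by rw [hu2, mul_one, mul_one]
    calc x * n * u * (x * n) = x * (n * u * n) * x := by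
          rw [hxn.eq]
          nth_rw 1 [← hxn.eq]
          group
      _ = (x * x) * a' * (x * x) := by rw [hnun, ba]; group
      _ = a' := by rw [hx2, one_mul, mul_one]
  rcases comp_kinds C hx hxy hd hxd hEy hy1 hcrit IH with ⟨-, h3⟩ | ⟨-, h3 | ⟨hsz, hno⟩⟩
  · exact three (h3 d hdc x self_mem_comp hEy hxd) (h3 a hac x self_mem_comp hAy hxa)
  · exact three (h3 d hdc x self_mem_comp hEy hxd) (h3 a hac x self_mem_comp hAy hxa)
  have hO := simple_core C
  obtain ⟨u, hu, hou⟩ := exists_five C hd hx hxd
    ((three_or_suzuki C hd hx hxd hO hcrit).resolve_left (hno d hdc x self_mem_comp hEy hxd))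
  obtain ⟨a', ha', hoa⟩ := exists_five C ha hx hxa
    ((three_or_suzuki C ha hx hxa hO hcrit).resolve_left (hno a hac x self_mem_comp hAy hxa))
  have huc := twin_mem_comp C hx hxy hd hxd hEy hu
  have hauc := twin_mem_comp C hx hxy ha hxa hAy ha'
  set H := compGroup D y x
  have CH := comp_setting C hx hxy hd hxd hEy
  set π := zMap ↥H
  set u' : ↥H := ⟨u, subset_closure huc⟩
  set v' : ↥H := ⟨a', subset_closure hauc⟩
  set x' : ↥H := ⟨x, subset_closure self_mem_comp⟩
  set d₀ : ↥H := ⟨d, subset_closure hdc⟩
  have hxS : x' ∈ traceSet H (comp D y x) := self_mem_comp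
  have hnu : ¬ Commute x' u' := fun h => not_commute_twins hx hxd hu (congrArg Subtype.val h.eq)
  have hnv : ¬ Commute x' v' := fun h => not_commute_twins hx hxa ha' (congrArg Subtype.val h.eq)
  have o1 : orderOf (π x' * π u') = 5 := by
    rw [quot_order CH hxS huc hnu, ← Subgroup.orderOf_coe]; exact hou
  have o2 : orderOf (π x' * π v') = 5 := by
    rw [quot_order CH hxS hauc hnv, ← Subgroup.orderOf_coe]; exact hoa
  have hsqH : ∀ k ∈ traceSet H (comp D y x), π k * π k = 1 := fun k hk => by
    rw [← map_mul, show k * k = 1 from RootInv.sq CH.root hk, map_one]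
  have heq : π u' = π v' := SuzFive.five_unique hsz (hsqH d₀ hdc) (hsqH x' hxS)
    (fun h => hxd (congrArg Subtype.val (quot_commute CH hdc hxS h).eq).symm)
    (hsqH u' huc) ((show Commute u' d₀ from Subtype.ext (twins_commute hd hu (mem_twins_self hd)).eq).map π)
    o1 (hsqH v' hauc)
    ((show Commute v' d₀ from Subtype.ext (hcomm d (mem_twins_self hd) a' ha').symm.eq).map π) o2
  have hvD : x * a' * x ∈ D := conj hD ha'.1 hx
  have hmove : ¬ Commute u (x * a' * x) := by
    intro h
    have h1 : Commute (π u') (π x' * π u' * π x') := by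
      have h2 := (show Commute u' (x' * v' * x') from Subtype.ext h.eq).map π
      rwa [map_mul, map_mul, ← heq] at h2
    have h4 : (π x' * π u') ^ 4 = 1 := by
      rw [show 4 = 2 * 2 from rfl, pow_mul, pow_two (π x' * π u'),
        show π x' * π u' * (π x' * π u') = π x' * π u' * π x' * π u' by group, pow_two,
        h1.mul_mul_mul_comm, hsqH u' huc, mul_one,
        show π x' * π u' * π x' * (π x' * π u' * π x') = π x' * π u' * (π x' * π x') * π u' * π x' by group,
        hsqH x' hxS, mul_one, mul_assoc (π x') (π u') (π u'), hsqH u' huc, mul_one, hsqH x' hxS]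
    have h5 := orderOf_dvd_of_pow_eq_one h4
    rw [o1] at h5
    norm_num at h5
  obtain ⟨n, hn, hnmem, hne⟩ := OddClass.exists_mid hD hu.1 hvD (C.odd_of hu.1 hvD hmove)
  have hnu' : ¬ Commute u n := fun h => hmove (by
    rw [← hne, ← h.eq, mul_assoc, sq hD hn, mul_one])
  have hall : ∀ w : G, Commute x w → Commute u w → Commute a' w → Commute n w := fun w h1 h2 h3 =>
    commute_of_mem_closure hnmem h2 ((h1.mul_left h3).mul_left h1)
  have hnc : n ∈ comp D y x := comp_step huc hn (hall y hxy (mem_comp hx hxy huc).2 (mem_comp hx hxy hauc).2) hnu'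
  set n' : ↥H := ⟨n, subset_closure hnc⟩
  have hπn : π n' = π x' := by
    refine OddClass.mid_unique (d := π u') ?_ ?_ ?_
    · rw [quot_order CH (a := n') (b := u') hnc huc fun h => hnu' (congrArg Subtype.val h.eq).symm, ← Subgroup.orderOf_coe]
      exact C.odd_of hn hu.1 fun h => hnu' h.symm
    · rw [o1]; decide
    · rw [← map_mul, ← map_mul, show n' * u' * n' = x' * v' * x' from Subtype.ext hne, map_mul, map_mul, ← heq]
  have hxn : Commute x n :=
    congrArg Subtype.val (quot_commute CH (a := x') (b := n') hxS hnc (hπn.symm ▸ Commute.refl (π x'))).eq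
  refine ⟨u, hu, a', ha', n, hn, hxn, ?_, ?_, hall⟩
  · rintro rfl
    exact hdisj u hu a' ha' (mul_left_cancel (mul_right_cancel hne))
  · calc x * n * u * (x * n) = x * (n * u * n) * x := by
          rw [hxn.eq]
          nth_rw 1 [← hxn.eq]
          group
      _ = (x * x) * a' * (x * x) := by rw [hne]; group
      _ = a' := by rw [sq hD hx, one_mul, mul_one]

/-- An involution centralising `x`, the twins of the pair, and all members commuting with the pair. -/
theorem line_center : ∃ y : G, y * y = 1 ∧ y ≠ 1 ∧ Commute x y ∧ (∀ e ∈ twins D d, Commute e y) ∧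
    (∀ e ∈ twins D a, Commute e y) ∧ ∀ b ∈ D, Commute b d → Commute b a → Commute b y := by
  have hD := C.root
  obtain ⟨u, hu, a', ha', n, hn, hxn, hxne, hsw, hall⟩ :=
    pair_data C hcrit IH hd ha had hns hx hxd hxa
  have hxu := not_commute_twins hx hxd hu
  have hua : Commute a' u := (commute_twins hu.1 (commute_twins ha had hu).symm ha').symm
  have hnsu : ¬ Same D a' u := fun h => hns ((ha'.2.symm.trans h).trans hu.2)
  obtain ⟨d', hd', m, hm, hmd', hma', hxm, hy2, hxy, hEy, hAy, g, hg⟩ :=
    C.exists_center hu.1 ha'.1 hua hnsu hx hxu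
  set y := m * (d' * a') with hy
  have huy : Commute u y := hEy u (mem_twins_self hu.1)
  have hay : Commute a' y := hAy a' (mem_twins_self ha'.1)
  have hny : Commute n y := hall y hxy huy hay
  set c := x * n with hc
  have hc2 : c * c = 1 := by rw [hc, hxn.symm.mul_mul_mul_comm, sq hD hx, sq hD hn, one_mul]
  have hci : c⁻¹ = c := inv_eq_of_mul_eq_one_right hc2
  have hca : c * a' * c = u := by
    rw [← hsw, show c * (c * u * c) * c = (c * c) * u * (c * c) by group, hc2, one_mul, mul_one]
  refine ⟨y, hy2, fun e => hg (e ▸ Commute.one_right g), hxy,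
    fun e he => hEy e ⟨he.1, he.2.trans hu.2.symm⟩, fun e he => hAy e ⟨he.1, he.2.trans ha'.2.symm⟩,
    fun b hb hbd hba => ?_⟩
  have hbu : Commute b u := commute_twins hb hbd hu
  have hba' : Commute b a' := commute_twins hb hba ha'
  have hbd' : Commute b d' := commute_twins hb hbu hd'
  by_cases hbm : Commute b m
  · exact hbm.mul_right (hbd'.mul_right hba')
  exfalso
  set d'' := c * d' * c with hd''
  have hd''t : d'' ∈ twins D a' := by
    refine ⟨?_, ?_⟩
    · have := hD.conj_mem d' hd'.1 c
      rwa [hci] at this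
    · have h := hd'.2.conj hD c
      rw [hci] at h
      rwa [show c * u * c = a' from hsw] at h
  have hbd'' : Commute b d'' := commute_twins hb hba' hd''t
  set m' := c * m * c
  have hm' : m' ∈ D := by
    have := hD.conj_mem m hm c
    rwa [hci] at this
  have hyc : y = m' * (d'' * u) := by
    have hcy : Commute c y := hxy.mul_left hny
    rw [← hca, hd'', show m' * (c * d' * c * (c * a' * c)) = c * m * (c * c) * d' * (c * c) * a' * c by
      simp only [m']; group, hc2, mul_one, mul_one,
      show c * m * d' * a' * c = c * (m * (d' * a')) * c by group, ← hy, hcy.eq, mul_assoc, hc2, mul_one]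
  have hflip : ∀ {p q r : G}, p ∈ D → q ∈ D → r ∈ D → Commute q r → Commute p (q * r) →
      Commute b q → Commute b r → p * (q * r) * b * (p * (q * r)) = p * b * p := by
    intro p q r hp hq hr hqr hp' hbq hbr
    have hqr2 : q * r * (q * r) = 1 := by
      rw [hqr.symm.mul_mul_mul_comm, sq hD hq, sq hD hr, one_mul]
    calc p * (q * r) * b * (p * (q * r)) = p * (q * r) * b * ((q * r) * p) := by rw [hp'.eq]
      _ = p * (b * ((q * r) * (q * r))) * p := by
        rw [show p * (q * r) * b * (q * r * p) = p * ((q * r) * b) * (q * r) * p by group,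
          ← (hbq.mul_right hbr).eq]
        group
      _ = p * b * p := by rw [hqr2, mul_one]
  have e1 : y * b * y = m * b * m :=
    hflip hm hd'.1 ha'.1 (commute_twins hd'.1 (commute_twins ha'.1 hua hd').symm (mem_twins_self ha'.1))
      (hmd'.mul_right hma') hbd' hba'
  have e2 : y * b * y = m' * b * m' := by
    rw [hyc]
    refine hflip hm' hd''t.1 hu.1 ((commute_twins hu.1 hua.symm hd''t).symm) ?_ hbd'' hbu
    have h := (Commute.conj_iff c).2 (hmd'.mul_right hma')
    rwa [hci, show c * (d' * a') * c = c * d' * (c * c) * a' * c by rw [hc2]; group,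
      show c * d' * (c * c) * a' * c = c * d' * c * (c * a' * c) by group, hca] at h
  have hbm' : ¬ Commute b m' := fun h => hbm (by
    have e3 : m * b * m = b := by rw [← e1, e2, ← h.eq, mul_assoc, sq hD hm', mul_one]
    show b * m = m * b
    nth_rw 1 [← e3]
    rw [mul_assoc, sq hD hm, mul_one])
  have hmm : m = m' := OddClass.mid_unique (C.odd_of hm hb fun h => hbm h.symm)
    (C.odd_of hm' hb fun h => hbm' h.symm) (e1.symm.trans e2)
  have hmc : Commute m c := by
    show m * c = c * m
    nth_rw 1 [hmm]
    simp only [m']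
    rw [mul_assoc, hc2, mul_one]
  exact hxm (commute_left' hD C.no_four hm hx hn hxne hxn hmc).symm

end CfsgLib.OddTrans
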