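import Cfsg.Agent.RootSubgroups.OddBlock
import Cfsg.Agent.RootSubgroups.BlockRows

/-!
The commuting graph of a set of root involutions with a line is connected, or the quotient by the
centre modulo the 2-core is one of the three rank one groups, given the criterion.
-/

set_option autoImplicit false
set_option linter.unusedSectionVars false

namespace CfsgLib.OddBlock

open Cfsg CfsgLib.RootInv Subgroup

universe u

variable {G : Type u} [Group G] [Finite G] {D : Set G}

/-- If the graph of odd products is disconnected, the commuting graph is connected. -/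
theorem comm_connected_of_not_odd (hD : IsRootInvolutionSet D)
    (hodd : ¬ IsConnectedSet (OddAdj D) D) : IsConnectedSet (CommAdj D) D := by
  obtain ⟨a, ha, b, hb, hab⟩ : ∃ a ∈ D, ∃ b ∈ D, ¬ Relation.ReflTransGen (OddAdj D) a b := by
    simpa [IsConnectedSet] using hodd
  have far : ∀ x ∈ D, ∀ y ∈ D, ¬ Relation.ReflTransGen (OddAdj D) x y →
      Relation.ReflTransGen (CommAdj D) x y := by
    intro x hx y hy h
    have hne : x ≠ y := fun e => h (e ▸ .refl)
    rcases hD.pair x hx y hy with e | e | ⟨e, -⟩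
    · exact .single ⟨hx, hy, hne, e⟩
    · exact absurd (.single ⟨hx, hy, hne, e⟩) h
    · obtain ⟨hc, hxc, hyc, -, hl⟩ := four hD hx hy e
      exact (Relation.ReflTransGen.single (r := CommAdj D) ⟨hx, hc, line_ne hD hl, hxc.eq⟩).tail
        ⟨hc, hy, (line_ne hD (line_second hD hx hy e)).symm, hyc.eq.symm⟩
  intro x hx y hy
  by_cases hxy : Relation.ReflTransGen (OddAdj D) x y
  swap
  · exact far x hx y hy hxy
  obtain ⟨z, hz, hxz⟩ : ∃ z ∈ D, ¬ Relation.ReflTransGen (OddAdj D) x z := by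
    by_contra! h
    exact hab ((reach_symm hD (h a ha)).trans (h b hb))
  exact (far x hx z hz hxz).trans
    (far z hz y hy fun e => hxz (hxy.trans (reach_symm hD e)))

/-- The dichotomy, given the criterion. -/
theorem dichotomy_row (hcrit : RootBlock.Criterion.{u}) (hD : IsRootInvolutionSet D)
    (hDD : (D ∩ Cfsg.commutingProducts D).Nonempty) :
    IsConnectedSet (CommAdj D) D ∨
    (∃ (F : Type) (_ : Field F) (_ : Fintype F), CharP F 2 ∧ 4 ≤ Fintype.card F ∧
      Nonempty (G ⧸ Cfsg.twoZCore G ≃* Matrix.ProjectiveSpecialLinearGroup (Fin 2) F)) ∨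
    Cfsg.Lie.IsoSuzuki (G ⧸ Cfsg.twoZCore G) ∨
    (∃ (F : Type) (_ : Field F) (_ : Fintype F) (q : ℕ), CharP F 2 ∧ Fintype.card F = q ^ 2 ∧ 4 ≤ q ∧
      Nonempty (G ⧸ Cfsg.twoZCore G ≃* Cfsg.PSU 3 F q)) := by
  by_cases hconn : IsConnectedSet (CommAdj D) D
  · exact Or.inl hconn
  by_cases hodd : IsConnectedSet (OddAdj D) D
  swap
  · exact Or.inl (comm_connected_of_not_odd hD hodd)
  refine Or.inr ?_
  have hcl := class_of_connected hD hodd
  obtain ⟨-, hsimple⟩ := radical_main hD hodd hDD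
  have hlineG : ∃ a p, Line D a p := by
    obtain ⟨x, hx, u, hu, v, hv, huv, -, rfl⟩ := hDD
    exact ⟨u, v, hu, hv, huv, hx⟩
  obtain ⟨a₀, p₀, hl₀⟩ := hlineG
  have hpairG : ∃ a ∈ D, ∃ b ∈ D, a ≠ b ∧ Odd (orderOf (a * b)) := by
    rcases (hodd a₀ hl₀.mem p₀ hl₀.mem').cases_head with h | ⟨w, hw, -⟩
    · exact absurd h (line_ne hD hl₀)
    · exact ⟨a₀, hl₀.mem, w, hw.2.1, hw.2.2.1, hw.2.2.2⟩
  -- no product of order four
  have hfour : ∀ a ∈ D, ∀ b ∈ D, orderOf (a * b) ≠ 4 := by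
    intro a ha b hb h4
    have hnd : IsNondegenerateRootInvolutionSet D :=
      ⟨hD, ⟨a₀, hl₀.mem, p₀, hl₀.mem', line_ne hD hl₀, hl₀.comm.eq⟩, hpairG, ⟨a, ha, b, hb, h4⟩⟩
    have hP := RootBlock.prodAdj_connected hcrit hnd ⟨hD, ⟨a, ha⟩, hcl⟩
    exact hconn fun x hx y hy =>
      (hP x hx y hy).lift id fun _ _ h => ⟨h.1, h.2.1, h.2.2.1, h.2.2.2.1⟩
  set Z := Cfsg.twoZCore G
  set π := QuotientGroup.mk' Z with hπ
  have hker : ∀ g, π g = 1 ↔ g ∈ Z := fun g => QuotientGroup.eq_one_iff g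
  have hne : ∀ p ∈ D, ∀ q ∈ D, p ≠ q → Odd (orderOf (p * q)) → π p ≠ π q := by
    intro p hp q hq hne hodd' e
    refine odd_pair_quotient hD hq hp hne hodd' ?_
    have := sSup_normal (G := G) {N | N.Normal ∧ IsPGroup 2 N} fun _ h => h.1
    have hmem : p * q ∈ Z := (hker _).1 (by rw [map_mul, e, ← map_mul, sq hD hq, map_one])
    rw [← QuotientGroup.eq_one_iff]
    have h1 := mem_center_iff.1 (mem_comap.1 hmem) (QuotientGroup.mk' (Cfsg.pCore 2 G) p)
    rw [← map_mul, ← map_mul] at h1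
    simp only [QuotientGroup.mk'_apply] at h1
    rw [← mul_assoc, sq hD hp, one_mul] at h1
    rw [inv hD hp, inv hD hq, QuotientGroup.mk_mul, ← h1, ← QuotientGroup.mk_mul, sq hD hq,
      QuotientGroup.mk_one]
  have hDZ : ∀ d ∈ D, d ∉ Z := by
    intro d hd h
    obtain ⟨p, hp, q, hq, hpq, hodd'⟩ := hpairG
    obtain ⟨g, rfl⟩ := hcl d hd p hp
    obtain ⟨g', rfl⟩ := hcl d hd q hq
    exact hne _ hp _ hq hpq hodd' (((hker _).2 ((inferInstance : Z.Normal).conj_mem d h g)).trans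
      ((hker _).2 ((inferInstance : Z.Normal).conj_mem d h g')).symm)
  set E := π '' D with hE
  have hoE : ∀ d ∈ D, orderOf (π d) = 2 := fun d hd =>
    Invol.orderOf_eq_two (by rw [← map_mul, sq hD hd, map_one]) fun e => hDZ d hd ((hker _).1 e)
  have hpairE : ∀ a ∈ D, ∀ b ∈ D, π a * π b = π b * π a ∨ Odd (orderOf (π a * π b)) := by
    intro a ha b hb
    rcases hD.pair a ha b hb with h | h | ⟨h, -⟩
    · left; rw [← map_mul, h, map_mul]
    · right; rw [← map_mul]; exact h.of_dvd_nat (orderOf_map_dvd π _)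
    · exact absurd h (hfour a ha b hb)
  have hDeg : Deg E := by
    refine ⟨⟨?_, ?_, ?_, ?_⟩, ?_, ?_, ⟨π a₀, π p₀, ⟨a₀, hl₀.mem, rfl⟩, ⟨p₀, hl₀.mem', rfl⟩,
      hl₀.comm.map π, ⟨_, hl₀.mul_mem, map_mul π _ _⟩⟩⟩
    · rintro _ ⟨d, hd, rfl⟩; exact hoE d hd
    · rw [hE, ← MonoidHom.map_closure, hD.generates,
        map_top_of_surjective π (QuotientGroup.mk'_surjective Z)]
    · rintro _ ⟨d, hd, rfl⟩ g
      obtain ⟨k, rfl⟩ := QuotientGroup.mk'_surjective Z g
      exact ⟨k * d * k⁻¹, hD.conj_mem d hd k, by simp [hπ]⟩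
    · rintro _ ⟨a, ha, rfl⟩ _ ⟨b, hb, rfl⟩
      exact (hpairE a ha b hb).imp_right Or.inl
    · rintro _ ⟨a, ha, rfl⟩ _ ⟨b, hb, rfl⟩ h4
      rcases hpairE a ha b hb with h | h
      · have h2 : (π a * π b) ^ 2 = 1 := by
          rw [pow_two, (show Commute (π a) (π b) from h).symm.mul_mul_mul_comm, ← map_mul, ← map_mul,
            sq hD ha, sq hD hb, map_one, one_mul]
        have := orderOf_dvd_of_pow_eq_one h2
        rw [h4] at this
        omega
      · rw [h4] at h; exact absurd h (by decide)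
    · rintro _ ⟨a, ha, rfl⟩ _ ⟨b, hb, rfl⟩
      obtain ⟨g, rfl⟩ := hcl a ha b hb
      exact ⟨π g, by simp⟩
  -- the commuting graph of the image is disconnected
  have hbad : ∃ a ∈ E, ∃ b ∈ E, ¬ Cc E a b := by
    by_contra! hall
    refine hconn fun x hx y hy => ?_
    have hcomm : ∀ u ∈ D, ∀ v ∈ D, π u = π v → Relation.ReflTransGen (CommAdj D) u v := by
      intro u hu v hv e
      by_cases huv : u = v
      · rw [huv]
      rcases hD.pair u hu v hv with h | h | ⟨h, -⟩
      · exact .single ⟨hu, hv, huv, h⟩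
      · exact absurd e (hne u hu v hv huv h)
      · exact absurd h (hfour u hu v hv)
    have key : ∀ w, Cc E (π x) w → ∀ v ∈ D, π v = w → Relation.ReflTransGen (CommAdj D) x v := by
      intro w hw
      induction hw with
      | refl => exact fun v hv e => hcomm x hx v hv e.symm
      | tail _ hpq ih =>
        intro v hv e
        obtain ⟨u, hu, hu'⟩ := hpq.1
        refine (ih u hu hu').trans ?_
        by_cases huv : u = v
        · rw [huv]
        rcases hD.pair u hu v hv with h | h | ⟨h, -⟩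
        · exact .single ⟨hu, hv, huv, h⟩
        · have h2 : (π (u * v)) ^ 2 = 1 := by
            rw [map_mul, pow_two, (show Commute (π u) (π v) by
              rw [hu', e]; exact hpq.2.2.2).symm.mul_mul_mul_comm, ← map_mul, ← map_mul, sq hD hu,
              sq hD hv, map_one, one_mul]
          have h3 : π (u * v) = 1 :=
            odd_pow_two_pow (h.of_dvd_nat (orderOf_map_dvd π _)) (k := 1) (by rw [pow_one]; exact h2)
          refine absurd ?_ (hne u hu v hv huv h)
          rw [map_mul] at h3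
          rw [eq_inv_of_mul_eq_one_left h3, Invol.inv_eq_self (hoE v hv)]
        · exact absurd h (hfour u hu v hv)
    exact key _ (hall _ ⟨x, hx, rfl⟩ _ ⟨y, hy, rfl⟩) y hy rfl
  have := hsimple
  obtain ⟨H, hH⟩ := hDeg.exists_stronglyEmbedded hbad hcrit
  have : Fact (Nat.Prime 2) := ⟨Nat.prime_two⟩
  rcases Bender.Consumers.three_of_simple Bender.Consumers.structure_all hH with
    ⟨F, i1, i2, ⟨n, hn, hc⟩, he⟩ | h | ⟨F, i1, i2, n, hn, hc, he⟩
  · refine Or.inl ⟨F, i1, i2, charP_of_card_eq_prime_pow (f := n) hc, ?_, he⟩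
    rw [hc]
    calc 4 = 2 ^ 2 := rfl
      _ ≤ 2 ^ n := Nat.pow_le_pow_right (by norm_num) hn
  · exact Or.inr (Or.inl h)
  · refine Or.inr (Or.inr ⟨F, i1, i2, 2 ^ n, charP_of_card_eq_prime_pow (f := n * 2) (by rw [hc, pow_mul]),
      hc, ?_, he⟩)
    calc 4 = 2 ^ 2 := rfl
      _ ≤ 2 ^ n := Nat.pow_le_pow_right (by norm_num) hn

end CfsgLib.OddBlock
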