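import Cfsg.Agent.RootSubgroups.OddClass

/-!
Odd transpositions with a line: components in the centraliser of an involution, and the twin theorem:
a conjugate of `d` inside the group of its twins and one odd partner that commutes with `d` is a twin.
-/

set_option autoImplicit false
set_option linter.unusedSectionVars false

namespace CfsgLib.OddTrans

open Cfsg CfsgLib.RootInv CfsgLib.OddClass Subgroup

universe u

variable {G : Type u} [Group G] [Finite G] {D : Set G}

/-- The component of `x` for non-commuting among the members centralising `w`. -/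
def comp (D : Set G) (w x : G) : Set G :=
  {s | Relation.ReflTransGen (fun a b => b ∈ D ∧ Commute b w ∧ ¬ Commute a b) x s}

/-- The members of `D` in a subgroup. -/
def traceSet (H : Subgroup G) (S : Set G) : Set H := {h | (h : G) ∈ S}

section comp

variable {w x : G}

omit [Finite G] in
theorem self_mem_comp : x ∈ comp D w x := Relation.ReflTransGen.refl

omit [Finite G] in
theorem mem_comp (hx : x ∈ D) (hxw : Commute x w) {s : G} (hs : s ∈ comp D w x) :
    s ∈ D ∧ Commute s w := by
  rcases hs.cases_tail with h | ⟨b, -, hb⟩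
  · exact h ▸ ⟨hx, hxw⟩
  · exact ⟨hb.1, hb.2.1⟩

omit [Finite G] in
theorem comp_step {s t : G} (hs : s ∈ comp D w x) (ht : t ∈ D) (htw : Commute t w)
    (h : ¬ Commute s t) : t ∈ comp D w x := Relation.ReflTransGen.tail hs ⟨ht, htw, h⟩

theorem comp_conj (hD : IsRootInvolutionSet D) (hx : x ∈ D) (hxw : Commute x w) {g t : G}
    (hg : g ∈ closure (comp D w x)) (ht : t ∈ comp D w x) : g * t * g⁻¹ ∈ comp D w x := by
  have base : ∀ s ∈ comp D w x, ∀ t ∈ comp D w x, s * t * s⁻¹ ∈ comp D w x := by
    intro s hs t ht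
    obtain ⟨hsD, hsw⟩ := mem_comp hx hxw hs
    obtain ⟨htD, htw⟩ := mem_comp hx hxw ht
    by_cases hc : Commute s t
    · rwa [hc.eq, mul_inv_cancel_right]
    refine comp_step hs (hD.conj_mem t htD s) ((hsw.mul_left htw).mul_left hsw.inv_left) fun h => hc ?_
    have h' := (Commute.conj_iff s).2 h
    rw [inv hD hsD, show s * (s * t * s) * s = s * s * t * (s * s) by group, sq hD hsD, one_mul,
      one_mul, mul_one] at h'
    exact h'
  refine (?_ : ∀ t ∈ comp D w x, g * t * g⁻¹ ∈ comp D w x ∧ g⁻¹ * t * g⁻¹⁻¹ ∈ comp D w x) t ht |>.1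
  induction hg using closure_induction with
  | mem s hs =>
    intro t ht
    refine ⟨base s hs t ht, ?_⟩
    rw [inv hD (mem_comp hx hxw hs).1]
    exact base s hs t ht
  | one => intro t ht; simpa using ht
  | mul a b _ _ iha ihb =>
    intro t ht
    constructor
    · rw [show a * b * t * (a * b)⁻¹ = a * (b * t * b⁻¹) * a⁻¹ by group]
      exact (iha _ (ihb t ht).1).1
    · rw [show (a * b)⁻¹ * t * (a * b)⁻¹⁻¹ = b⁻¹ * (a⁻¹ * t * a⁻¹⁻¹) * b⁻¹⁻¹ by group]
      exact (ihb _ (iha t ht).2).2
  | inv a _ iha =>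
    intro t ht
    exact ⟨(iha t ht).2, by simpa using (iha t ht).1⟩

theorem closure_comp_ne_top (hx : x ∈ D) (hxw : Commute x w) {g : G} (hg : ¬ Commute g w) :
    closure (comp D w x) ≠ ⊤ := fun e => hg (mem_centralizer_singleton_iff.1
      ((closure_le (centralizer ({w} : Set G))).2
        (fun _ hs => mem_centralizer_singleton_iff.2 (mem_comp hx hxw hs).2.eq) (e ▸ mem_top g)))

end comp

theorem commute_left' (hD : IsRootInvolutionSet D) (hfour : ∀ a ∈ D, ∀ b ∈ D, orderOf (a * b) ≠ 4)
    {s u v : G} (hs : s ∈ D) (hu : u ∈ D) (hv : v ∈ D) (hne : u ≠ v) (huv : Commute u v)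
    (h : Commute s (u * v)) : Commute s u := by
  by_contra hn
  have hsu : Commute (u * v) (s * u) :=
    h.symm.mul_right (((Commute.refl u).mul_right huv).symm)
  have hodd : Odd (orderOf (s * u)) := by
    rcases hD.pair s hs u hu with e | e | ⟨e, -⟩
    · exact absurd e hn
    · exact e
    · exact absurd e (hfour s hs u hu)
  refine not_mul_eq_invol_mul_odd hD hs hv (z := u * v) (g := s * u) ?_ hsu ?_ hodd ?_
  · refine Invol.orderOf_eq_two ?_ fun e => hne ?_
    · rw [huv.symm.mul_mul_mul_comm, sq hD hu, sq hD hv, one_mul]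
    · rwa [mul_eq_one_iff_eq_inv, inv hD hv] at e
  · intro e
    rw [mul_eq_one_iff_eq_inv, inv hD hu] at e
    exact hn (e ▸ Commute.refl _)
  · rw [hsu.eq, show s * u * (u * v) = s * (u * u) * v by group, sq hD hu, mul_one]

omit [Finite G] in
theorem mem_twins_self {d : G} (hd : d ∈ D) : d ∈ twins D d := ⟨hd, fun _ _ => Iff.rfl⟩

omit [Finite G] in
theorem twins_commute {d u v : G} (hd : d ∈ D) (hu : u ∈ twins D d) (hv : v ∈ twins D d) :
    Commute u v := (hv.2 u hu.1).2 ((hu.2 d hd).2 (Commute.refl d)).symm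

omit [Finite G] in
theorem commute_twins {d s e : G} (hs : s ∈ D) (h : Commute s d) (he : e ∈ twins D d) : Commute s e :=
  (he.2 s hs).2 h

omit [Finite G] in
theorem not_commute_twins {d s e : G} (hs : s ∈ D) (h : ¬ Commute s d) (he : e ∈ twins D d) :
    ¬ Commute s e := fun hc => h ((he.2 s hs).1 hc)

end CfsgLib.OddTrans

namespace CfsgLib.OddBlock.Deg

open Cfsg CfsgLib.RootInv CfsgLib.OddClass CfsgLib.OddTrans Subgroup

universe u

variable {G : Type u} [Group G] [Finite G] {D : Set G} (C : CfsgLib.OddBlock.Deg D)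
include C

theorem odd_of {a b : G} (ha : a ∈ D) (hb : b ∈ D) (h : ¬ Commute a b) : Odd (orderOf (a * b)) :=
  (C.pair ha hb).resolve_left h

theorem exists_conj_odd {a b : G} (ha : a ∈ D) (hb : b ∈ D) (h : ¬ Commute a b) :
    ∃ g ∈ closure ({a, b} : Set G), g * a * g⁻¹ = b :=
  Invol.exists_conj_of_odd (C.root.orderOf_eq a ha) (C.root.orderOf_eq b hb) (C.odd_of ha hb h)

/-- An involution moving a member off its commuting set has a member centralising it. -/
theorem exists_mid_inv {t r : G} (ht : t * t = 1) (hr : r ∈ D) (h : ¬ Commute r (t * r * t)) :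
    ∃ m ∈ D, m ∈ closure ({r, t * r * t} : Set G) ∧ ¬ Commute r m ∧ Commute m t ∧
      Commute r (m * t) ∧ m * r * m = t * r * t := by
  have hD := C.root
  have hti : t⁻¹ = t := inv_eq_of_mul_eq_one_right ht
  have hr' : t * r * t ∈ D := by
    have := hD.conj_mem r hr t
    rwa [hti] at this
  obtain ⟨m, hm, hmem, e⟩ := OddClass.exists_mid hD hr hr' (C.odd_of hr hr' h)
  have key : ∀ w ∈ D, w * r * w = t * r * t → ¬ Commute r w := fun w hw hwe hc => h (by
    rw [← hwe, ← hc.eq, mul_assoc, sq hD hw, mul_one])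
  have hm2 : t * m * t ∈ D := by
    have := hD.conj_mem m hm t
    rwa [hti] at this
  have hback : m * (t * r * t) * m = r := by
    rw [← e, show m * (m * r * m) * m = (m * m) * r * (m * m) by group, sq hD hm, one_mul, mul_one]
  have e2 : t * m * t * r * (t * m * t) = t * r * t := by
    rw [show t * m * t * r * (t * m * t) = t * (m * (t * r * t) * m) * t by group, hback]
  have o1 := C.odd_of hm hr fun e' => key m hm e e'.symm
  have o2 := C.odd_of hm2 hr fun e' => key _ hm2 e2 e'.symm
  have hmt : t * m * t = m := OddClass.mid_unique o2 o1 (e2.trans e.symm)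
  have hc : Commute m t := by
    show m * t = t * m
    nth_rw 1 [← hmt]
    rw [mul_assoc, ht, mul_one]
  refine ⟨m, hm, hmem, key m hm e, hc, ?_, e⟩
  show r * (m * t) = m * t * r
  calc r * (m * t) = m * (m * r * m) * t := by
        rw [show m * (m * r * m) * t = (m * m) * r * m * t by group, sq hD hm, one_mul, mul_assoc]
    _ = m * (t * r * t) * t := by rw [e]
    _ = m * t * r := by rw [show m * (t * r * t) * t = m * t * r * (t * t) by group, ht, mul_one]

theorem ncard_commute {a b : G} {g : G} (h : g * a * g⁻¹ = b) :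
    {s | s ∈ D ∧ Commute s a}.ncard = {s | s ∈ D ∧ Commute s b}.ncard := by
  have hD := C.root
  rw [← Set.ncard_image_of_injective _ (MulAut.conj g).injective]
  congr 1
  ext s
  constructor
  · rintro ⟨t, ⟨ht, hta⟩, rfl⟩
    exact ⟨hD.conj_mem t ht g, h ▸ (Commute.conj_iff g).2 hta⟩
  · rintro ⟨hs, hsb⟩
    refine ⟨g⁻¹ * s * g⁻¹⁻¹, ⟨hD.conj_mem s hs _, ?_⟩, ?_⟩
    · rw [show a = g⁻¹ * b * g⁻¹⁻¹ by rw [← h]; group, Commute.conj_iff]
      exact hsb
    · simp only [MulAut.conj_apply]
      group

/-- An inclusion of commuting sets is an equality. -/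
theorem same_of_subset {a b : G} (ha : a ∈ D) (hb : b ∈ D)
    (h : ∀ s ∈ D, Commute s a → Commute s b) : Same D a b := by
  obtain ⟨g, hg⟩ := C.cls a ha b hb
  have heq := Set.eq_of_subset_of_ncard_le
    (show {s | s ∈ D ∧ Commute s a} ⊆ {s | s ∈ D ∧ Commute s b} from fun s hs => ⟨hs.1, h s hs.1 hs.2⟩)
    (C.ncard_commute hg.symm).ge
  exact fun s hs => ⟨h s hs, fun hc => ((Set.ext_iff.1 heq s).2 ⟨hs, hc⟩).2⟩

theorem same_of_line {a p : G} (hl : Line D a p) : Same D a p := fun s hs => by
  constructor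
  · intro h
    by_contra hn
    exact line_not_commute C.root (line_symm C.root hl) hs (fun e => hn (e ▸ Commute.refl _))
      (C.odd_of hs hl.mem' hn) h.eq
  · intro h
    by_contra hn
    exact line_not_commute C.root hl hs (fun e => hn (e ▸ Commute.refl _)) (C.odd_of hs hl.mem hn) h.eq

/-- Every member has a line of twins. -/
theorem exists_twin {d : G} (hd : d ∈ D) :
    ∃ d1, Line D d d1 ∧ d1 ∈ twins D d ∧ d * d1 ∈ twins D d := by
  obtain ⟨a, p, hl⟩ := C.line
  obtain ⟨g, rfl⟩ := C.cls a hl.mem d hd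
  have hl' := line_conj C.root hl g
  exact ⟨_, hl', ⟨hl'.mem', (C.same_of_line hl').symm⟩,
    ⟨hl'.mul_mem, (C.same_of_line (line_third C.root hl')).symm⟩⟩

/-- A member `a` commuting with `d`, not a twin, and an odd partner `x`: an involution centralising the
twins of `d`, the twins of `a`, and `x`, not central. -/
theorem exists_center {d a x : G} (hd : d ∈ D) (ha : a ∈ D) (had : Commute a d)
    (hns : ¬ Same D a d) (hx : x ∈ D) (hxd : ¬ Commute x d) :
    ∃ d' ∈ twins D d, ∃ m ∈ D, Commute m d' ∧ Commute m a ∧ ¬ Commute x m ∧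
      (m * (d' * a)) * (m * (d' * a)) = 1 ∧ Commute x (m * (d' * a)) ∧
      (∀ e ∈ twins D d, Commute e (m * (d' * a))) ∧ (∀ e ∈ twins D a, Commute e (m * (d' * a))) ∧
      ∃ g : G, ¬ Commute g (m * (d' * a)) := by
  have hD := C.root
  obtain ⟨d1, hl, hd1, hd3⟩ := C.exists_twin hd
  have hdd := mem_twins_self hd
  have haE : ∀ e ∈ twins D d, a ≠ e := fun e he h => hns (h ▸ he.2)
  obtain ⟨d', hd', hB⟩ : ∃ d' ∈ twins D d, ¬ Commute (a * x * a) (d' * x * d') := by
    by_contra! hall
    set d3 := d * d1 with hd3def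
    have hp1 : d * x * d ∈ D := conj hD hx hd
    have hp2 : d1 * x * d1 ∈ D := conj hD hx hd1.1
    have hdd1 : Commute d d1 := hl.comm
    have hxd3 := not_commute_twins hx hxd hd3
    have hq : d1 * x * d1 = d3 * (d * x * d) * d3 := by
      rw [hd3def]
      conv_rhs => arg 1; arg 1; rw [hdd1.eq]
      rw [show d1 * d * (d * x * d) * (d * d1) = d1 * (d * d) * x * (d * d) * d1 by group, sq hD hd,
        mul_one, mul_one]
    have hpq : ¬ Commute (d * x * d) (d1 * x * d1) := by
      intro hc
      have hc' := (Commute.conj_iff d).2 hc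
      rw [inv hD hd, show d * (d * x * d) * d = (d * d) * x * (d * d) by group, sq hD hd, one_mul,
        mul_one, show d * (d1 * x * d1) * d = (d * d1) * x * (d1 * d) by group, ← hdd1.eq, ← hd3def] at hc'
      refine hxd3 ?_
      have h4 : (x * d3) ^ 4 = 1 := by
        have e : (x * d3) ^ 2 = x * (d3 * x * d3) := by rw [pow_two]; group
        rw [show 4 = 2 * 2 from rfl, pow_mul, e, pow_two, hc'.symm.mul_mul_mul_comm, sq hD hx,
          one_mul, show d3 * x * d3 * (d3 * x * d3) = d3 * x * (d3 * d3) * x * d3 by group,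
          sq hD hd3.1, mul_one, mul_assoc d3 x x, sq hD hx, mul_one, sq hD hd3.1]
      by_contra hn
      have := odd_pow_two_pow (C.odd_of hx hd3.1 hn) (k := 2) h4
      rw [mul_eq_one_iff_eq_inv, inv hD hd3.1] at this
      exact hn (this ▸ Commute.refl _)
    obtain ⟨w, hw, hwmem, ew⟩ := OddClass.exists_mid hD hp1 hp2 (C.odd_of hp1 hp2 hpq)
    have kw : ∀ w ∈ D, w * (d * x * d) * w = d1 * x * d1 → ¬ Commute w (d * x * d) := fun w hw e hc =>
      hpq (by rw [← e, hc.eq, mul_assoc _ w w, sq hD hw, mul_one])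
    have hwd : w = d3 := OddClass.mid_unique (C.odd_of hw hp1 (kw w hw ew))
      (C.odd_of hd3.1 hp1 (kw d3 hd3.1 hq.symm)) (ew.trans hq)
    have h := commute_of_mem_closure hwmem (hall d hdd).symm (hall d1 hd1).symm
    rw [hwd] at h
    refine hxd3 ?_
    have had3 : Commute a d3 := commute_twins ha had hd3
    have h' := (Commute.conj_iff a).2 h.symm
    rw [inv hD ha, show a * (a * x * a) * a = (a * a) * x * (a * a) by group, sq hD ha, one_mul, mul_one,
      had3.eq, mul_assoc, sq hD ha, mul_one] at h'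
    exact h'
  have had' : Commute a d' := commute_twins ha had hd'
  set t := d' * a with htdef
  have ht : t * t = 1 := by rw [htdef, had'.mul_mul_mul_comm, sq hD hd'.1, sq hD ha, one_mul]
  have hmove : ¬ Commute x (t * x * t) := by
    intro hc
    refine hB ?_
    have h' := (Commute.conj_iff d').2 hc
    rw [inv hD hd'.1, htdef] at h'
    rw [show d' * (d' * a * x * (d' * a)) * d' = (d' * d') * (a * x * (d' * a * d')) by group,
      sq hD hd'.1, one_mul, ← had'.eq, mul_assoc a d' d', sq hD hd'.1, mul_one] at h'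
    exact h'.symm
  obtain ⟨m, hm, -, hxm, hmt, hxy, -⟩ := C.exists_mid_inv ht hx hmove
  have hne := (haE d' hd').symm
  have hmd' : Commute m d' := commute_left' hD C.no_four hm hd'.1 ha hne had'.symm hmt
  have hma : Commute m a := commute_left' hD C.no_four hm ha hd'.1 hne.symm had'
    (had'.eq ▸ (htdef ▸ hmt : Commute m (d' * a)))
  have hmd : Commute m d := (hd'.2 m hm).1 hmd'
  refine ⟨d', hd', m, hm, hmd', hma, hxm, ?_, hxy, fun e he => ?_, fun e he => ?_, ?_⟩
  · rw [hmt.symm.mul_mul_mul_comm, sq hD hm, ht, one_mul]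
  · exact (commute_twins hm hmd he).symm.mul_right
      ((twins_commute hd he hd').mul_right (commute_twins ha had he).symm)
  · exact (commute_twins hm hma he).symm.mul_right
      ((commute_twins hd'.1 had'.symm he).symm.mul_right
        (twins_commute ha he (mem_twins_self ha)))
  · by_contra! hcen
    refine hns ?_
    have hsub : ∀ s ∈ D, Commute s m → Commute s t := fun s hs h => by
      have h1 := h.mul_right (hcen s)
      rwa [← mul_assoc, sq hD hm, one_mul] at h1
    have hs1 : Same D m a := C.same_of_subset hm ha fun s hs h =>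
      commute_left' hD C.no_four hs ha hd'.1 hne.symm had' (had'.eq ▸ (htdef ▸ hsub s hs h :
        Commute s (d' * a)))
    have hs2 : Same D m d' := C.same_of_subset hm hd'.1 fun s hs h =>
      commute_left' hD C.no_four hs hd'.1 ha hne had'.symm (hsub s hs h)
    exact (hs1.symm.trans hs2).trans hd'.2

/-- The setting passes to a component containing a line. -/
theorem deg_comp {w x d d1 : G} (hx : x ∈ D) (hxw : Commute x w) (hd : d ∈ comp D w x)
    (hd1 : d1 ∈ comp D w x) (hl : Line D d d1) (h3 : d * d1 ∈ comp D w x) :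
    CfsgLib.OddBlock.Deg (traceSet (closure (comp D w x)) (comp D w x)) := by
  have hD := C.root
  have hmem : ∀ h ∈ traceSet (closure (comp D w x)) (comp D w x), (h : G) ∈ D :=
    fun h hh => (mem_comp hx hxw hh).1
  refine ⟨⟨fun h hh => ?_, ?_, fun h hh g => ?_, fun a ha b hb => ?_⟩, fun a ha b hb => ?_,
    fun a ha b hb => ?_, ⟨⟨d, subset_closure hd⟩, ⟨d1, subset_closure hd1⟩, hd, hd1,
      Subtype.ext hl.comm.eq, h3⟩⟩
  · rw [← Subgroup.orderOf_coe]; exact hD.orderOf_eq _ (hmem h hh)
  · exact closure_closure_coe_preimage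
  · exact comp_conj hD hx hxw g.2 hh
  · rcases C.pair (hmem a ha) (hmem b hb) with h | h
    · exact Or.inl (Subtype.ext h.eq)
    · exact Or.inr (Or.inl (by rw [← Subgroup.orderOf_coe]; exact h))
  · rw [← Subgroup.orderOf_coe]; exact C.no_four _ (hmem a ha) _ (hmem b hb)
  · have reach : ∀ s, s ∈ comp D w x → ∃ g ∈ closure (comp D w x), g * x * g⁻¹ = s := by
      intro s hs
      induction hs with
      | refl => exact ⟨1, one_mem _, by simp⟩
      | @tail p q hp hpq ih =>
        obtain ⟨g, hg, e⟩ := ih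
        have hq : q ∈ comp D w x := comp_step hp hpq.1 hpq.2.1 hpq.2.2
        obtain ⟨k, hk, e'⟩ := C.exists_conj_odd (mem_comp hx hxw hp).1 hpq.1 hpq.2.2
        have hkH : k ∈ closure (comp D w x) := (closure_le _).2 (by
          rintro y (rfl | rfl)
          exacts [subset_closure hp, subset_closure hq]) hk
        exact ⟨k * g, mul_mem hkH hg, by rw [← e', ← e]; group⟩
    obtain ⟨g, hg, e⟩ := reach _ ha
    obtain ⟨g', hg', e'⟩ := reach _ hb
    refine ⟨⟨g', hg'⟩ * (⟨g, hg⟩ : closure (comp D w x))⁻¹, Subtype.ext ?_⟩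
    show (b : G) = g' * g⁻¹ * a * (g' * g⁻¹)⁻¹
    rw [← e, ← e']
    group

end CfsgLib.OddBlock.Deg

namespace CfsgLib.OddTrans

open Cfsg CfsgLib.RootInv CfsgLib.OddClass Subgroup

universe u

/-- A conjugate of `d` in the group of its twins and one odd partner, commuting with `d`, is a twin. -/
theorem same_of_block {G : Type u} [Group G] [Finite G] {D : Set G} (C : OddBlock.Deg D) {d x : G}
    (hd : d ∈ D) (hx : x ∈ D) (hxd : ¬ Commute x d) {k : G} (hk : k ∈ closure (twins D d ∪ {x}))
    (hf : Commute (k * d * k⁻¹) d) : Same D (k * d * k⁻¹) d := by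
  obtain ⟨n, hn⟩ : ∃ n, Nat.card G = n := ⟨_, rfl⟩
  induction n using Nat.strong_induction_on generalizing G with
  | _ n ih =>
    subst hn
    have hD := C.root
    have hfD : k * d * k⁻¹ ∈ D := hD.conj_mem d hd k
    refine (C.same_of_subset hd hfD fun a ha had => ?_).symm
    by_cases hns : Same D a d
    · exact (commute_twins hfD hf ⟨ha, hns⟩).symm
    by_cases hxa : Commute x a
    · have hle : closure (twins D d ∪ {x}) ≤ centralizer ({a} : Set G) := (closure_le _).2 (by
        rintro e (he | rfl)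
        exacts [mem_centralizer_singleton_iff.2 (commute_twins ha had he).symm.eq,
          mem_centralizer_singleton_iff.2 hxa.eq])
      have hka : Commute k a := mem_centralizer_singleton_iff.1 (hle hk)
      exact ((hka.mul_left had.symm).mul_left hka.inv_left).symm
    obtain ⟨d', hd', m, -, -, -, -, -, hxy, hEy, hAy, g, hg⟩ := C.exists_center hd ha had hns hx hxd
    set y := m * (d' * a)
    have hin : ∀ e ∈ twins D d, e ∈ comp D y x := fun e he =>
      comp_step self_mem_comp he.1 (hEy e he) (not_commute_twins hx hxd he)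
    have hain : a ∈ comp D y x := comp_step self_mem_comp ha (hAy a (mem_twins_self ha)) hxa
    obtain ⟨d1, hl, hd1, hd3⟩ := C.exists_twin hd
    have hdin := hin d (mem_twins_self hd)
    set H := closure (comp D y x)
    have C' := C.deg_comp hx hxy hdin (hin d1 hd1) hl (hin _ hd3)
    have hHlt : Nat.card H < Nat.card G := by
      refine lt_of_le_of_ne (Subgroup.card_le_card_group H) fun e => ?_
      exact closure_comp_ne_top hx hxy hg (eq_top_of_card_eq H e)
    have hKH : closure (twins D d ∪ {x}) ≤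
        (closure (twins (traceSet H (comp D y x)) ⟨d, subset_closure hdin⟩ ∪
          {⟨x, subset_closure self_mem_comp⟩})).map H.subtype := by
      rw [MonoidHom.map_closure]
      refine closure_mono ?_
      rintro e (he | rfl)
      · refine ⟨⟨e, subset_closure (hin e he)⟩, Or.inl ⟨hin e he, fun s hs => ?_⟩, rfl⟩
        exact ⟨fun h => Subtype.ext ((he.2 s (mem_comp hx hxy hs).1).1 (congrArg Subtype.val h.eq)).eq,
          fun h => Subtype.ext ((he.2 s (mem_comp hx hxy hs).1).2 (congrArg Subtype.val h.eq)).eq⟩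
      · exact ⟨_, Or.inr rfl, rfl⟩
    obtain ⟨k', hk', rfl⟩ := hKH hk
    have hS := ih _ hHlt C' (d := ⟨d, subset_closure hdin⟩) (x := ⟨x, subset_closure self_mem_comp⟩)
      hdin self_mem_comp (fun h => hxd (congrArg Subtype.val h.eq)) (k := k') hk'
      (Subtype.ext hf.eq) rfl
    exact congrArg Subtype.val
      ((hS ⟨a, subset_closure hain⟩ hain).2 (Subtype.ext had.eq)).eq

end CfsgLib.OddTrans
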