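import Cfsg.Agent.RootSubgroups.OddBlockQuot

/-!
Odd transpositions with a line and trivial 2-core: the twins of a member form a group with the identity,
and the 2-core of the group they generate with an odd partner is central in it.
-/

set_option autoImplicit false
set_option linter.unusedSectionVars false

namespace CfsgLib.OddTrans

open Cfsg CfsgLib.RootInv CfsgLib.OddClass Subgroup

universe u

variable {G : Type u} [Group G] [Finite G] {D : Set G} {d : G} (C : OddBlock.Deg D) (hd : d ∈ D)
include C hd

theorem twinProd_commute {o : G} (ho : o ∈ closure (twins D d)) {s : G} (hs : s ∈ D)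
    (h : Commute s d) : Commute s o := by
  induction ho using closure_induction with
  | mem e he => exact commute_twins hs h he
  | one => exact Commute.one_right _
  | mul a b _ _ iha ihb => exact iha.mul_right ihb
  | inv a _ iha => exact iha.inv_right

theorem twinProd_sq {o : G} (ho : o ∈ closure (twins D d)) : o * o = 1 := by
  induction ho using closure_induction with
  | mem e he => exact RootInv.sq C.root he.1
  | one => rw [one_mul]
  | inv a _ iha => rw [← _root_.mul_inv_rev, iha, inv_one]
  | mul a b ha hb iha ihb =>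
    have hab : Commute a b := by
      clear iha ihb
      induction hb using closure_induction with
      | mem e he =>
        exact (twinProd_commute C hd ha he.1 (twins_commute hd he (mem_twins_self hd))).symm
      | one => exact Commute.one_right _
      | mul p q _ _ ihp ihq => exact ihp.mul_right ihq
      | inv p _ ihp => exact ihp.inv_right
    rw [hab.symm.mul_mul_mul_comm, iha, ihb, one_mul]

theorem twinProd_comm {o o' : G} (ho : o ∈ closure (twins D d)) (ho' : o' ∈ closure (twins D d)) :
    Commute o o' := by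
  have h := twinProd_sq C hd (mul_mem ho ho')
  rw [mul_eq_one_iff_eq_inv, _root_.mul_inv_rev, inv_eq_of_mul_eq_one_right (twinProd_sq C hd ho),
    inv_eq_of_mul_eq_one_right (twinProd_sq C hd ho')] at h
  exact h

omit [Finite G] C hd in
/-- Conjugates by involutions of the group stay in the class. -/
theorem blockSet_conj {x : G} {k t : ↥(blockGroup D d x)} (hk : k ∈ blockSet D d x) (ht : t * t = 1) :
    t * k * t ∈ blockSet D d x := by
  obtain ⟨g, hg⟩ := hk
  refine ⟨t * g, ?_⟩
  have hti : t.1⁻¹ = t.1 := inv_eq_of_mul_eq_one_right (congrArg Subtype.val ht)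
  show t.1 * g.1 * d * (t.1 * g.1)⁻¹ = t.1 * k.1 * t.1
  rw [← hg, _root_.mul_inv_rev, hti]
  group

/-- The midpoint of a moved partner is a twin. -/
theorem mid_twin {o : G} (ho : o ∈ closure (twins D d)) {s : G} (hs : s ∈ D) (hsd : ¬ Commute s d)
    (hmove : ¬ Commute s (o * s * o)) {m : G} (hm : m ∈ D)
    (hmem : m ∈ closure ({s, o * s * o} : Set G)) (hsm : ¬ Commute s m)
    (he : m * s * m = o * s * o) : m ∈ twins D d := by
  set π := blockMap D d s
  obtain ⟨hoK, hπ⟩ := image_prod C hd hs hsd ho
  set s' : ↥(blockGroup D d s) := ⟨s, partner_mem_block⟩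
  set o' : ↥(blockGroup D d s) := ⟨o, hoK⟩
  have hs' : s' ∈ blockSet D d s := partner_mem_blockSet C hd hs hsd
  have hoi : o⁻¹ = o := inv_eq_of_mul_eq_one_right (twinProd_sq C hd ho)
  have hs2 : o' * s' * o' ∈ blockSet D d s :=
    blockSet_conj hs' (Subtype.ext (twinProd_sq C hd ho))
  have hmK : m ∈ blockGroup D d s := (closure_le _).2 (by
    rintro y (rfl | rfl)
    exacts [s'.2, (o' * s' * o').2]) hmem
  set m' : ↥(blockGroup D d s) := ⟨m, hmK⟩
  have hm' : m' ∈ blockSet D d s := blockSet_step C hd hs' hm hsm
  rcases hπ with h1 | ⟨w, hw, h1⟩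
  · exact absurd (lift_commute C hd hs hsd hs' hs2 (by
      rw [map_mul, map_mul, h1, one_mul, mul_one])) hmove
  have hw' := twin_mem_blockSet C hd hs hsd hw
  set w' : ↥(blockGroup D d s) := ⟨w, twin_mem_block hw⟩
  have hG := block_gen C hd hs hsd
  have e1 : π m' * π s' * π m' = π w' * π s' * π w' := by
    rw [← h1, ← map_mul, ← map_mul, ← map_mul, ← map_mul]
    congr 1
    exact Subtype.ext he
  have key : ∀ a ∈ blockSet D d s, ¬ Commute s a.1 → Odd (orderOf (π a * π s')) := fun a ha hsa =>
    hG.odd ⟨a, ha, rfl⟩ ⟨s', hs', rfl⟩ fun h => hsa (lift_commute C hd hs hsd ha hs' h).symm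
  have hmw : π m' = π w' := OddClass.mid_unique (key m' hm' hsm)
    (key w' hw' (not_commute_twins hs hsd hw)) e1
  refine twin_of_commute C hd hs hsd hm' (lift_commute C hd hs hsd hm' (base_mem_blockSet C hd) ?_)
  rw [hmw]
  exact (show Commute w' ⟨d, twin_mem_block (mem_twins_self hd)⟩ from
    Subtype.ext (twins_commute hd hw (mem_twins_self hd)).eq).map π

/-- A product of twins centralising a partner commutes every member with its image. -/
theorem commute_conj_of_commute {v : G} (hv : v ∈ closure (twins D d)) {s : G} (hs : s ∈ D)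
    (hsd : ¬ Commute s d) (hsv : Commute s v) {r : G} (hr : r ∈ D) : Commute r (v * r * v) := by
  have hv2 := twinProd_sq C hd hv
  by_contra hmove
  have hrd : ¬ Commute r d := fun h => hmove (by
    rw [← (twinProd_commute C hd hv hr h).eq, mul_assoc, hv2, mul_one])
  obtain ⟨m, hm, hmem, hrm, -, -, he⟩ := C.exists_mid_inv hv2 hr hmove
  have hmd := mid_twin C hd hv hr hrd hmove hm hmem hrm he
  obtain ⟨g, hg, hgd⟩ := C.exists_conj_odd hd hs fun h => hsd h.symm
  have hgv : Commute g v :=
    commute_of_mem_closure hg (twinProd_commute C hd hv hd (Commute.refl d)) hsv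
  have hvs : v ∈ closure (twins D s) := by
    have h1 : g * v * g⁻¹ ∈ (closure (twins D d)).map (MulAut.conj g).toMonoidHom := ⟨v, hv, rfl⟩
    rw [MonoidHom.map_closure, hgv.eq, mul_inv_cancel_right] at h1
    refine closure_mono ?_ h1
    rintro _ ⟨e, he', rfl⟩
    refine ⟨C.root.conj_mem e he'.1 g, ?_⟩
    have := he'.2.conj C.root g
    rwa [hgd] at this
  have hrs : ¬ Commute r s := fun h => hmove (by
    rw [← (twinProd_commute C hs hvs hr h).eq, mul_assoc, hv2, mul_one])
  have hms := mid_twin C hs hvs hr hrs hmove hm hmem hrm he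
  exact hsd ((hmd.2 s hs).1 (twins_commute hs (mem_twins_self hs) hms))

/-- If every member commutes with its image, a product of twins lies in the 2-core. -/
theorem mem_core_of_forall {o : G} (ho : o ∈ closure (twins D d))
    (hall : ∀ r ∈ D, Commute r (o * r * o)) : o ∈ Cfsg.pCore 2 G := by
  have : Fact (Nat.Prime 2) := ⟨Nat.prime_two⟩
  have hD := C.root
  have ho2 := twinProd_sq C hd ho
  have hoi : o⁻¹ = o := inv_eq_of_mul_eq_one_right ho2
  refine Invol.mem_pCore_of_pairs o fun g => ?_
  set b := g * d * g⁻¹ with hb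
  have hbD : b ∈ D := hD.conj_mem d hd g
  set o' := g * o * g⁻¹
  have ho' : o' ∈ closure (twins D b) := by
    have h1 : o' ∈ (closure (twins D d)).map (MulAut.conj g).toMonoidHom := ⟨o, ho, rfl⟩
    rw [MonoidHom.map_closure] at h1
    refine closure_mono ?_ h1
    rintro _ ⟨e, he, rfl⟩
    exact ⟨hD.conj_mem e he.1 g, he.2.conj hD g⟩
  have hgen : ∀ e ∈ twins D b, Commute (o * e * o) o' := by
    intro e he
    have heD : o * e * o ∈ D := by
      have := hD.conj_mem e he.1 o
      rwa [hoi] at this
    exact twinProd_commute C hbD ho' heD ((he.2 _ heD).1 (hall e he.1).symm)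
  have hco : Commute (o * o' * o) o' := by
    have hle : closure (twins D b) ≤
        (centralizer ({o'} : Set G)).comap (MulAut.conj o).toMonoidHom := (closure_le _).2 fun e he => by
      show o * e * o⁻¹ ∈ centralizer ({o'} : Set G)
      rw [hoi]
      exact mem_centralizer_singleton_iff.2 (hgen e he).eq
    have h1 : o * o' * o⁻¹ ∈ centralizer ({o'} : Set G) := hle ho'
    rw [hoi] at h1
    exact mem_centralizer_singleton_iff.1 h1
  have ho'2 := twinProd_sq C hbD ho'
  refine isPGroup_pair ho2 ho'2 ?_
  have e1 : (o * o') ^ 2 = o * o' * o * o' := by rw [pow_two]; group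
  rw [show 4 = 2 * 2 from rfl, pow_mul, e1, pow_two, hco.symm.mul_mul_mul_comm, ho'2,
    show o * o' * o * (o * o' * o) = o * o' * (o * o) * o' * o by group, ho2]
  simp [mul_assoc, ho'2, ho2]

/-- A product of twins centralising a partner lies in the 2-core. -/
theorem mem_core_of_commute {v : G} (hv : v ∈ closure (twins D d)) {s : G} (hs : s ∈ D)
    (hsd : ¬ Commute s d) (hsv : Commute s v) : v ∈ Cfsg.pCore 2 G :=
  mem_core_of_forall C hd hv fun _ hr => commute_conj_of_commute C hd hv hs hsd hsv hr

/-- A product of twins taking one partner to a member commuting with it lies in the 2-core. -/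
theorem mem_core_of_fixed {o : G} (ho : o ∈ closure (twins D d)) {x : G} (hx : x ∈ D)
    (hxd : ¬ Commute x d) (hxo : Commute x (o * x * o)) : o ∈ Cfsg.pCore 2 G := by
  refine mem_core_of_forall C hd ho fun r hr => ?_
  by_contra hmove
  have hD := C.root
  have ho2 := twinProd_sq C hd ho
  have hrd : ¬ Commute r d := fun h => hmove (by
    rw [← (twinProd_commute C hd ho hr h).eq, mul_assoc, ho2, mul_one])
  obtain ⟨m, hm, hmem, hrm, hmo, hrmo, he⟩ := C.exists_mid_inv ho2 hr hmove
  have hmd := mid_twin C hd ho hr hrd hmove hm hmem hrm he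
  set v := m * o with hvdef
  have hv : v ∈ closure (twins D d) := mul_mem (subset_closure hmd) ho
  have hxv := commute_conj_of_commute C hd hv hr hrd hrmo hx
  have hv2 := twinProd_sq C hd hv
  have hvi : v⁻¹ = v := inv_eq_of_mul_eq_one_right hv2
  have hvK : v ∈ blockGroup D d x := closure_mono Set.subset_union_left hv
  have hxS := partner_mem_blockSet C hd hx hxd
  have hvS : (⟨v, hvK⟩ * ⟨x, partner_mem_block⟩ * ⟨v, hvK⟩ : ↥(blockGroup D d x)) ∈ blockSet D d x :=
    blockSet_conj hxS (Subtype.ext hv2)
  have hS : Same D x (v * x * v) := same_of_commute C hd hx hxd hxS hvS hxv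
  have hoxD : o * x * o ∈ D := by
    have := hD.conj_mem x hx o
    rwa [inv_eq_of_mul_eq_one_right ho2] at this
  have hcm : Commute (o * x * o) (v * x * v) := (hS _ hoxD).1 hxo.symm
  have h1 := (Commute.conj_iff v).2 hcm
  have hvo : v * o = m := by rw [hvdef, mul_assoc, ho2, mul_one]
  have hov : o * v = m := by rw [(twinProd_comm C hd ho hv).eq, hvo]
  rw [hvi, show v * (o * x * o) * v = v * o * x * (o * v) by group, hvo, hov,
    show v * (v * x * v) * v = v * v * x * (v * v) by group, hv2, one_mul, mul_one] at h1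
  refine not_commute_twins hx hxd hmd ?_
  have h4 : (x * m) ^ 4 = 1 := by
    have e : (x * m) ^ 2 = x * (m * x * m) := by rw [pow_two]; group
    rw [show 4 = 2 * 2 from rfl, pow_mul, e, pow_two, h1.mul_mul_mul_comm, sq hD hx,
      one_mul, show m * x * m * (m * x * m) = m * x * (m * m) * x * m by group, sq hD hm,
      mul_one, mul_assoc m x x, sq hD hx, mul_one, sq hD hm]
  by_contra hn
  have := odd_pow_two_pow (C.odd_of hx hm hn) (k := 2) h4
  rw [mul_eq_one_iff_eq_inv, inv hD hm] at this
  exact hn (this ▸ Commute.refl _)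

omit hd in
/-- Every member has an odd partner. -/
theorem exists_partner {d : G} (hd : d ∈ D) : ∃ x ∈ D, ¬ Commute x d := by
  by_contra! hall
  have hD := C.root
  have hc : ∀ g, Commute g d := fun g => by
    have hle : closure D ≤ centralizer ({d} : Set G) :=
      (closure_le _).2 fun s hs => mem_centralizer_singleton_iff.2 (hall s hs).eq
    exact mem_centralizer_singleton_iff.1 (hle (by rw [hD.generates]; exact mem_top g))
  obtain ⟨d1, hl, -, -⟩ := C.exists_twin hd
  obtain ⟨g, e⟩ := C.cls d hd d1 hl.mem'
  refine RootInv.line_ne hD hl ?_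
  rw [e, (hc g).eq, mul_inv_cancel_right]

variable (hO : Cfsg.pCore 2 G = ⊥)
include hO

theorem eq_one_of_fixed {o : G} (ho : o ∈ closure (twins D d)) {x : G} (hx : x ∈ D)
    (hxd : ¬ Commute x d) (hxo : Commute x (o * x * o)) : o = 1 := by
  have h := mem_core_of_fixed C hd ho hx hxd hxo
  rwa [hO, mem_bot] at h

theorem eq_one_of_image {o : G} (ho : o ∈ closure (twins D d)) {x : G} (hx : x ∈ D)
    (hxd : ¬ Commute x d) (hoK : o ∈ blockGroup D d x) (h1 : blockMap D d x ⟨o, hoK⟩ = 1) : o = 1 := by
  refine eq_one_of_fixed C hd hO ho hx hxd ?_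
  have hxS := partner_mem_blockSet C hd hx hxd
  have hs2 : (⟨o, hoK⟩ * ⟨x, partner_mem_block⟩ * ⟨o, hoK⟩ : ↥(blockGroup D d x)) ∈ blockSet D d x :=
    blockSet_conj hxS (Subtype.ext (twinProd_sq C hd ho))
  exact lift_commute C hd hx hxd hxS hs2 (by rw [map_mul, map_mul, h1, one_mul, mul_one])

/-- The product of two twins is a twin. -/
theorem twins_mul_mem {u v : G} (hu : u ∈ twins D d) (hv : v ∈ twins D d) (hne : u ≠ v) :
    u * v ∈ twins D d := by
  obtain ⟨x, hx, hxd⟩ := exists_partner C hd
  have huv : u * v ∈ closure (twins D d) := mul_mem (subset_closure hu) (subset_closure hv)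
  obtain ⟨hK, h | ⟨w, hw, h⟩⟩ := image_prod C hd hx hxd huv
  · have := eq_one_of_image C hd hO huv hx hxd hK h
    rw [mul_eq_one_iff_eq_inv, RootInv.inv C.root hv.1] at this
    exact absurd this hne
  have hz : u * v * w ∈ closure (twins D d) := mul_mem huv (subset_closure hw)
  have hzK : u * v * w ∈ blockGroup D d x := mul_mem hK (twin_mem_block hw)
  have h1 : blockMap D d x ⟨u * v * w, hzK⟩ = 1 := by
    rw [show (⟨u * v * w, hzK⟩ : ↥(blockGroup D d x)) = ⟨u * v, hK⟩ * ⟨w, twin_mem_block hw⟩ from rfl,
      map_mul, h, ← map_mul, blockSet_sq C hd (twin_mem_blockSet C hd hx hxd hw), map_one]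
  have := eq_one_of_image C hd hO hz hx hxd hzK h1
  rw [mul_eq_one_iff_eq_inv, RootInv.inv C.root hw.1] at this
  exact this ▸ hw

/-- The twins with the identity form a group. -/
theorem closure_twins : (closure (twins D d) : Set G) = twins D d ∪ {1} := by
  refine Set.Subset.antisymm ?_ ?_
  · intro o ho
    induction ho using closure_induction with
    | mem e he => exact Or.inl he
    | one => exact Or.inr rfl
    | mul a b _ _ iha ihb =>
      rcases iha with ha | ha
      · rcases ihb with hb | hb
        · by_cases hne : a = b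
          · exact Or.inr (by rw [Set.mem_singleton_iff, hne]; exact RootInv.sq C.root hb.1)
          · exact Or.inl (twins_mul_mem C hd hO ha hb hne)
        · rw [Set.mem_singleton_iff] at hb; rw [hb, mul_one]; exact Or.inl ha
      · rw [Set.mem_singleton_iff] at ha; rw [ha, one_mul]; exact ihb
    | inv a _ iha =>
      rcases iha with ha | ha
      · rw [RootInv.inv C.root ha.1]; exact Or.inl ha
      · rw [Set.mem_singleton_iff] at ha; rw [ha, inv_one]; exact Or.inr rfl
  · rintro o (ho | ho)
    · exact subset_closure ho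
    · rw [Set.mem_singleton_iff] at ho; rw [ho]; exact one_mem _

/-- The 2-core of the generated group is central in it. -/
theorem core_le_center {x : G} (hx : x ∈ D) (hxd : ¬ Commute x d) :
    Cfsg.pCore 2 ↥(blockGroup D d x) ≤ center ↥(blockGroup D d x) := by
  set K := blockGroup D d x
  have hnormal : (Cfsg.pCore 2 ↥K).Normal := Subgroup.sSup_normal _ (fun _ h => h.1)
  set d' : ↥K := ⟨d, twin_mem_block (mem_twins_self hd)⟩
  have hbase : ∀ q ∈ Cfsg.pCore 2 ↥K, Commute q d' := by
    intro q hq
    set f : ↥K := q * d' * q⁻¹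
    have hf : f ∈ blockSet D d x := ⟨q, rfl⟩
    have hπf : blockMap D d x f = blockMap D d x d' := by
      rw [map_mul, map_mul, map_inv, show blockMap D d x q = 1 from (QuotientGroup.eq_one_iff q).2 hq,
        one_mul, inv_one, mul_one]
    have hfd : Commute f.1 d :=
      lift_commute C hd hx hxd hf (base_mem_blockSet C hd) (hπf ▸ Commute.refl _)
    have hft := twin_of_commute C hd hx hxd hf hfd
    have ho : f.1 * d ∈ closure (twins D d) :=
      mul_mem (subset_closure hft) (subset_closure (mem_twins_self hd))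
    have h1 := eq_one_of_image C hd hO ho hx hxd (f * d').2 (by
      rw [show (⟨f.1 * d, (f * d').2⟩ : ↥K) = f * d' from rfl, map_mul, hπf, ← map_mul,
        blockSet_sq C hd (base_mem_blockSet C hd), map_one])
    rw [mul_eq_one_iff_eq_inv, RootInv.inv C.root hd] at h1
    have : f = d' := Subtype.ext h1
    exact mul_inv_eq_iff_eq_mul.1 this
  intro q hq
  rw [mem_center_iff]
  intro k
  have hgen : closure (blockSet D d x) = ⊤ := by
    rw [eq_top_iff, ← closure_closure_coe_preimage (k := twins D d ∪ {x})]
    refine (closure_le _).2 fun k hk => subset_closure ?_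
    rcases hk with hk | hk
    · exact twin_mem_blockSet C hd hx hxd hk
    · have : k = ⟨x, partner_mem_block⟩ := Subtype.ext hk
      exact this ▸ partner_mem_blockSet C hd hx hxd
  have hle : closure (blockSet D d x) ≤ centralizer ({q} : Set ↥K) := (closure_le _).2 fun a ha => by
    obtain ⟨g, hg⟩ := ha
    have ha' : a = g * d' * g⁻¹ := Subtype.ext hg.symm
    refine mem_centralizer_singleton_iff.2 ?_
    have h := (Commute.conj_iff g).2 (hbase _ (hnormal.conj_mem q hq g⁻¹))
    rw [show g * (g⁻¹ * q * g⁻¹⁻¹) * g⁻¹ = q by group, ← ha'] at h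
    exact h.symm.eq
  exact mem_centralizer_singleton_iff.1 (hle (hgen ▸ mem_top k))

end CfsgLib.OddTrans
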