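import Cfsg.Agent.RootSubgroups.RankOne
import Mathlib.SetTheory.Cardinal.Finite
import Mathlib.GroupTheory.Commutator.Basic

set_option autoImplicit false

/-!
A special rank one group with abelian unipotent subgroups of more than three elements is perfect.
-/

namespace CfsgLib.RankOne

open Cfsg commutatorElement

variable {G : Type*} [Group G] {A B : Subgroup G}

theorem eq_of_conjBy_right_eq (h : IsRankOnePair A B) {x y : G} (hx : x ∈ A) (hy : y ∈ A)
    (e : conjBy B x = conjBy B y) : x = y := by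
  have h1 : conjBy B (y⁻¹ * x) = B := by
    rw [← conjBy_conjBy, e, conjBy_conjBy, inv_mul_cancel, conjBy_one]
  exact (inv_mul_eq_one.1 (eq_one_of_mem_of_fix h (mul_mem (inv_mem hy) hx) h1)).symm

theorem eq_of_common_mem (h : IsRankOnePair A B) {C D : Subgroup G} (hC : C ∈ unipotentSubgroups A B)
    (hD : D ∈ unipotentSubgroups A B) {x : G} (hxC : x ∈ C) (hxD : x ∈ D) (hx : x ≠ 1) : C = D := by
  by_contra hne
  obtain ⟨g, -, rfl, rfl⟩ := two_transitive h hC hD hne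
  rw [mem_conjBy] at hxC hxD
  have hm : g⁻¹ * x * g ∈ A ⊓ B := ⟨hxC, hxD⟩
  rw [inf_eq_bot h, Subgroup.mem_bot] at hm
  exact hx (by
    calc x = g * (g⁻¹ * x * g) * g⁻¹ := by group
      _ = 1 := by rw [hm, mul_one, mul_inv_cancel])

/-- An element of `⟨A, B⟩` interchanging `A` and `B`. -/
structure Swaps (A B : Subgroup G) (n : G) : Prop where
  mem : n ∈ A ⊔ B
  left : conjBy A n = B
  right : conjBy B n = A

theorem Swaps.inv {n : G} (hn : Swaps A B n) : Swaps A B n⁻¹ := by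
  refine ⟨inv_mem hn.mem, ?_, ?_⟩
  · conv_lhs => rw [← hn.right, conjBy_conjBy, inv_mul_cancel, conjBy_one]
  · conv_lhs => rw [← hn.left, conjBy_conjBy, inv_mul_cancel, conjBy_one]

theorem exists_swaps (h : IsSpecialRankOnePair A B) {a : G} (ha : a ∈ A) {b : G} (hb : b ∈ B) (ha1 : a ≠ 1)
    (hb1 : b ≠ 1) (he : conjBy A b⁻¹ = conjBy B a⁻¹) :
    Swaps A B (a * b⁻¹ * a) ∧ (a * b⁻¹ * a) * a * (a * b⁻¹ * a)⁻¹ = b⁻¹ := by
  obtain ⟨c, hc⟩ : ∃ c, c = b⁻¹ := ⟨_, rfl⟩
  have hcB : c ∈ B := hc ▸ inv_mem hb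
  have hc1 : c ≠ 1 := hc ▸ inv_ne_one.2 hb1
  have hrel : c * a * c⁻¹ = a⁻¹ * c * a := by
    have := h.2 a ha ha1 b hb hb1 he
    rw [hc, inv_inv]; exact this
  have hbraid : a * c * a = c * a * c := by
    have e1 : a * (c * a * c⁻¹) = c * a := by rw [hrel]; group
    calc a * c * a = (a * (c * a * c⁻¹)) * c := by group
      _ = c * a * c := by rw [e1]
  rw [← hc]
  have hwA : conjBy A (a * c * a) = B := by
    rw [← conjBy_conjBy, conjBy_of_mem ha, ← conjBy_conjBy, hc, he, conjBy_conjBy, mul_inv_cancel, conjBy_one]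
  have hwa : (a * c * a) * a * (a * c * a)⁻¹ = c := by
    rw [mul_inv_eq_iff_eq_mul]
    calc a * c * a * a = c * a * c * a := by rw [hbraid]
      _ = c * (a * c * a) := by group
  have hwc : (a * c * a) * c * (a * c * a)⁻¹ = a := by
    rw [mul_inv_eq_iff_eq_mul]
    calc a * c * a * c = a * (c * a * c) := by group
      _ = a * (a * c * a) := by rw [hbraid]
  have hmem : a * c * a ∈ A ⊔ B :=
    mul_mem (mul_mem (Subgroup.mem_sup_left ha) (Subgroup.mem_sup_right hcB)) (Subgroup.mem_sup_left ha)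
  refine ⟨⟨hmem, hwA, ?_⟩, hwa⟩
  refine eq_of_common_mem h.1 (conjBy_mem_unipotent (right_mem_unipotent h.1) hmem) (left_mem_unipotent A B)
    (x := a) ?_ ha ha1
  have hm := conj_mem_conjBy (g := a * c * a) hcB
  rwa [hwc] at hm

theorem exists_swaps_of_left (h : IsSpecialRankOnePair A B) {a : G} (ha : a ∈ A) (ha1 : a ≠ 1) :
    ∃ w, Swaps A B w ∧ w = a * (w * a * w⁻¹) * a := by
  obtain ⟨b, hb, hb1, he⟩ := h.1.cond_left a ha ha1
  obtain ⟨hs, hwa⟩ := exists_swaps h ha hb ha1 hb1 he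
  exact ⟨_, hs, by rw [hwa]⟩

/-- The action of a swap on the points other than `A` and `B`. -/
theorem Swaps.act (h : IsSpecialRankOnePair A B) {n : G} (hn : Swaps A B n) {x : G} (hx : x ∈ A) (hx1 : x ≠ 1) :
    ∃ z ∈ A, z ≠ 1 ∧ conjBy (conjBy B x) n = conjBy B z ∧ z * x ∈ ⁅A ⊔ B, A ⊔ B⁆ := by
  obtain ⟨c, hc⟩ : ∃ c, c = n * x * n⁻¹ := ⟨_, rfl⟩
  have hcB : c ∈ B := by rw [hc, ← hn.left]; exact conj_mem_conjBy hx
  have hc1 : c ≠ 1 := fun e => hx1 (conj_eq_one_iff.1 (hc ▸ e))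
  obtain ⟨y, hy, hy1, he⟩ := h.1.cond_right c⁻¹ (inv_mem hcB) (inv_ne_one.2 hc1)
  obtain ⟨hs, hwy⟩ := exists_swaps h hy (inv_mem hcB) hy1 (inv_ne_one.2 hc1) he.symm
  rw [inv_inv] at hs hwy he
  refine ⟨y⁻¹, inv_mem hy, inv_ne_one.2 hy1, ?_, ?_⟩
  · rw [conjBy_conjBy, show n * x = c * n by rw [hc]; group, ← conjBy_conjBy, hn.right, ← he]
  · have hxX : x ∈ A ⊔ B := Subgroup.mem_sup_left hx
    have hyX : y ∈ A ⊔ B := Subgroup.mem_sup_left hy
    have e : y⁻¹ * x = ⁅y⁻¹, y * c * y⁆ * ⁅n, x⁻¹⁆ := by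
      have e1 : ⁅y⁻¹, y * c * y⁆ = y⁻¹ * c := by
        rw [commutatorElement_def, inv_inv]
        conv_rhs => rw [← hwy]
        group
      have e2 : ⁅n, x⁻¹⁆ = c⁻¹ * x := by
        rw [commutatorElement_def, hc]; group
      rw [e1, e2]; group
    rw [e]
    exact mul_mem (Subgroup.commutator_mem_commutator (inv_mem hyX) hs.mem)
      (Subgroup.commutator_mem_commutator hn.mem (inv_mem hxX))

theorem exists_notMem_of_three_lt (h : 3 < ENat.card A) (x y z : G) : ∃ a ∈ A, a ≠ x ∧ a ≠ y ∧ a ≠ z := by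
  by_contra hcon
  push Not at hcon
  classical
  have hsub : (A : Set G) ⊆ ({x, y, z} : Set G) := fun a ha => by
    by_cases h1 : a = x
    · exact Or.inl h1
    by_cases h2 : a = y
    · exact Or.inr (Or.inl h2)
    exact Or.inr (Or.inr (hcon a ha h1 h2))
  have h1 : (A : Set G).encard ≤ 3 := by
    refine (Set.encard_le_encard hsub).trans ?_
    refine (Set.encard_insert_le _ _).trans ?_
    refine (add_le_add_left (Set.encard_insert_le _ _) 1).trans ?_
    rw [Set.encard_singleton]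
    norm_num
  exact absurd h1 (not_le.2 h)

theorem left_le_commutator (h : IsSpecialRankOnePair A B) (hA : IsMulCommutative A) (h3 : 3 < ENat.card A) :
    A ≤ ⁅A ⊔ B, A ⊔ B⁆ := by
  set D := ⁅A ⊔ B, A ⊔ B⁆ with hD
  have hcomm : ∀ {x y : G}, x ∈ A → y ∈ A → x * y = y * x := fun {x y} hx hy =>
    congrArg Subtype.val (hA.is_comm.comm (⟨x, hx⟩ : A) ⟨y, hy⟩)
  -- the action of `w = a c a` read through the three factors
  have hexp : ∀ {a w : G}, w = a * (w * a * w⁻¹) * a → ∀ C : Subgroup G,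
      conjBy C w = conjBy (conjBy (conjBy (conjBy (conjBy C a) w⁻¹) a) w) a := by
    intro a w e C
    simp only [conjBy_conjBy]
    congr 1
    conv_lhs => rw [e]
    group
  obtain ⟨e, he, heD, he1⟩ : ∃ e ∈ A, e ∈ D ∧ e ≠ 1 := by
    by_contra hcon
    push Not at hcon
    have hinv : ∀ {n x z : G}, x ∈ A → z ∈ A → conjBy (conjBy B x) n = conjBy B z → z * x ∈ D → z = x⁻¹ :=
      fun hx hz _ hzx => eq_inv_of_mul_eq_one_left (hcon _ (mul_mem hz hx) hzx)
    have key : ∀ a ∈ A, a ≠ 1 → ∀ x ∈ A, x ≠ 1 → a * x ≠ 1 → a * x = x⁻¹ := by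
      intro a ha ha1 x hx hx1 hax
      obtain ⟨w, hw, hwe⟩ := exists_swaps_of_left h ha ha1
      obtain ⟨z, hz, -, hze, hzx⟩ := hw.act h hx hx1
      rw [hinv hx hz hze hzx] at hze
      obtain ⟨u, hu, -, hue, hux⟩ := hw.inv.act h (mul_mem ha hx) hax
      rw [hinv (mul_mem ha hx) hu hue hux] at hue
      obtain ⟨s, hs, -, hse, hsx⟩ := hw.act h (inv_mem hx) (inv_ne_one.2 hx1)
      rw [hinv (inv_mem hx) hs hse hsx, inv_inv] at hse
      have e2 : a * (a * x)⁻¹ = x⁻¹ := by rw [mul_inv_rev, hcomm ha (mul_mem (inv_mem hx) (inv_mem ha))]; group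
      have := hexp hwe (conjBy B x)
      rw [hze, conjBy_conjBy B x a, hue, conjBy_conjBy B _ a, e2, hse, conjBy_conjBy] at this
      exact (eq_of_conjBy_right_eq h.1 (mul_mem ha hx) (inv_mem hx) this.symm)
    obtain ⟨x, hx, hx1, -, -⟩ := exists_notMem_of_three_lt h3 1 1 1
    obtain ⟨a₁, ha₁, h11, h12, -⟩ := exists_notMem_of_three_lt h3 1 x⁻¹ 1
    obtain ⟨a₂, ha₂, h21, h22, h23⟩ := exists_notMem_of_three_lt h3 1 x⁻¹ a₁
    apply h23
    have e1 := key a₁ ha₁ h11 x hx hx1 fun e => h12 (eq_inv_of_mul_eq_one_left e)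
    have e2 := key a₂ ha₂ h21 x hx hx1 fun e => h22 (eq_inv_of_mul_eq_one_left e)
    exact mul_right_cancel (e2.trans e1.symm)
  intro a ha
  by_contra haD
  have ha1 : a ≠ 1 := fun e => haD (e ▸ one_mem _)
  obtain ⟨w, hw, hwe⟩ := exists_swaps_of_left h ha ha1
  obtain ⟨z, hz, -, hze, hzx⟩ := hw.act h he he1
  have hzD : z ∈ D := by
    have := mul_mem hzx (inv_mem heD)
    rwa [mul_inv_cancel_right] at this
  have hae : a * e ≠ 1 := fun h1 => haD (by rw [eq_inv_of_mul_eq_one_left h1]; exact inv_mem heD)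
  obtain ⟨u, hu, -, hue, hux⟩ := hw.inv.act h (mul_mem ha he) hae
  have htD : a * u ∈ D := by
    rw [hcomm ha hu]
    have := mul_mem hux (inv_mem heD)
    rwa [← mul_assoc, mul_inv_cancel_right] at this
  have := hexp hwe (conjBy B e)
  rw [hze, conjBy_conjBy B e a, hue, conjBy_conjBy B u a] at this
  by_cases ht1 : a * u = 1
  · rw [ht1, conjBy_one, hw.right, conjBy_of_mem ha] at this
    exact conjBy_right_ne_left h.1 hz this
  · obtain ⟨s, hs, -, hse, hsx⟩ := hw.act h (mul_mem ha hu) ht1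
    have hsD : s ∈ D := by
      have := mul_mem hsx (inv_mem htD)
      rwa [mul_inv_cancel_right] at this
    rw [hse, conjBy_conjBy B s a] at this
    have e3 := eq_of_conjBy_right_eq h.1 hz (mul_mem ha hs) this
    apply haD
    rw [show a = z * s⁻¹ by rw [e3, mul_inv_cancel_right]]
    exact mul_mem hzD (inv_mem hsD)

end CfsgLib.RankOne
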