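import Cfsg.Agent.RootSubgroups.RankOne
import Cfsg.Prelude.Def_Transfer

set_option autoImplicit false

/-!
Rank one groups with a quadratic module (Timmesfeld I.2).
-/

namespace CfsgLib.RankOne

open Cfsg

variable {X : Type*} [Group X] {A B : Subgroup X} {N : Type*} [AddCommGroup N] [DistribMulAction X N]

/-- The endomorphism `n ↦ x • n - n`. -/
def del (x : X) : N →+ N where
  toFun n := x • n - n
  map_zero' := by simp
  map_add' m n := by simp [smul_add]; abel

theorem del_apply (x : X) (n : N) : del x n = x • n - n := rfl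

theorem del_mul (x y : X) (n : N) : del (x * y) n = x • del y n + del x n := by
  simp only [del_apply, mul_smul, smul_sub]; abel

theorem smul_eq_add_del (x : X) (n : N) : x • n = n + del x n := by simp [del_apply]

theorem del_one (n : N) : del (1 : X) n = 0 := by simp [del_apply]

theorem del_conj (g x : X) (n : N) : del (g * x * g⁻¹) n = g • del x (g⁻¹ • n) := by
  simp [del_apply, mul_smul, smul_sub]

variable (hq : ∀ a ∈ A, ∀ a' ∈ A, ∀ n : N, a' • (a • n - n) = a • n - n)

include hq in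
theorem smul_del {a a' : X} (ha : a ∈ A) (ha' : a' ∈ A) (n : N) :
    a' • del a n = del a n := hq a ha a' ha' n

include hq in
theorem del_mul_mem {a a' : X} (ha : a ∈ A) (ha' : a' ∈ A) (n : N) :
    del (a * a') n = del a n + del a' n := by
  rw [del_mul, smul_del hq ha' ha, add_comm]

include hq in
theorem del_pow_mem {a : X} (ha : a ∈ A) (n : N) : ∀ k : ℕ, del (a ^ k) n = k • del a n
  | 0 => by simp [del_one]
  | k + 1 => by rw [pow_succ, del_mul_mem hq (pow_mem ha k) ha, del_pow_mem ha n k, succ_nsmul]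

theorem fixed_of_sup_eq_top (h : A ⊔ B = ⊤) {n : N} (hA : ∀ a ∈ A, a • n = n)
    (hB : ∀ b ∈ B, b • n = n) (x : X) : x • n = n := by
  have : A ⊔ B ≤ MulAction.stabilizer X n :=
    sup_le (fun a ha => hA a ha) (fun b hb => hB b hb)
  exact this (h.symm ▸ Subgroup.mem_top x)

theorem exists_factor (K : Subgroup X) [K.Normal] (hK : K ⊔ A = ⊤) (x : X) :
    ∃ k ∈ K, ∃ a ∈ A, x = k * a := by
  have := Subgroup.mem_top x
  rw [← hK, Subgroup.mem_sup_of_normal_left] at this
  obtain ⟨k, hk, a, ha, he⟩ := this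
  exact ⟨k, hk, a, ha, he.symm⟩

include hq in
/-- A faithful quadratic module forces `A` to be torsion free or elementary abelian. -/
theorem torsionFree_or_elementary (h : IsRankOneGroup X A B)
    (hf : ∀ x : X, (∀ v : N, x • v = v) → x = 1) :
    (∀ a ∈ A, a ≠ 1 → ¬ IsOfFinOrder a) ∨ ∃ p : ℕ, p.Prime ∧ IsElementaryAbelian p A := by
  by_contra hcon
  push Not at hcon
  obtain ⟨⟨a₀, ha₀, ha₁, hfin⟩, hnone⟩ := hcon
  have hord : orderOf a₀ ≠ 1 := fun he => ha₁ (orderOf_eq_one_iff.1 he)
  obtain ⟨p, hp, hdvd⟩ := Nat.exists_prime_and_dvd hord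
  obtain ⟨a, ha, hap, ha1⟩ : ∃ a ∈ A, a ^ p = 1 ∧ a ≠ 1 := by
    obtain ⟨m, hm⟩ := hdvd
    refine ⟨a₀ ^ m, pow_mem ha₀ m, by rw [← pow_mul, mul_comm, ← hm, pow_orderOf_eq_one], fun he => ?_⟩
    have := orderOf_dvd_of_pow_eq_one he
    rw [hm] at this
    have hm0 : 0 < m := Nat.pos_of_ne_zero fun h0 => hfin.orderOf_pos.ne' (by rw [hm, h0, mul_zero])
    have := Nat.le_of_dvd hm0 this
    nlinarith [hp.two_le]
  let K : Subgroup X :=
    { carrier := {x | ∀ v : N, x • (p • v) = p • v}
      one_mem' := fun v => one_smul _ _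
      mul_mem' := fun {x y} hx hy v => by rw [mul_smul, hy v, hx v]
      inv_mem' := fun {x} hx v => by rw [inv_smul_eq_iff, hx v] }
  have hKmem : ∀ {x}, x ∈ K → ∀ v : N, x • (p • v) = p • v := fun hx => hx
  have hKn : K.Normal := ⟨fun x hx g v => by
    rw [mul_smul, mul_smul, smul_comm g⁻¹ p v, hKmem hx, ← smul_comm g⁻¹ p v, smul_inv_smul]⟩
  have haK : a ∈ K := fun v => by
    have : p • del a v = 0 := by rw [← del_pow_mem hq ha, hap, del_one]
    rw [smul_eq_add_del a, ← map_nsmul] at *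
    rw [this, add_zero]
  have htop : K ⊔ A = ⊤ := (normal_sup_or_central h K).resolve_right
    fun hc => ha1 (eq_one_of_mem_center h ha (hc haK))
  have heq : ∀ {x y : X}, (∀ v : N, x • v = y • v) → x = y := fun {x y} hxy =>
    eq_of_mul_inv_eq_one (hf _ fun v => by rw [mul_smul, hxy, smul_inv_smul])
  have hkill : ∀ u ∈ A, ∀ c ∈ A, ∀ w : N, del u (del c w) = 0 := fun u hu c hc w => by
    rw [del_apply u, smul_del hq hc hu, sub_self]
  refine hnone p hp ⟨⟨⟨fun u v => Subtype.ext (heq fun n => ?_)⟩⟩, ?_⟩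
  · show ((u : X) * v) • n = ((v : X) * u) • n
    rw [smul_eq_add_del ((u : X) * v), smul_eq_add_del ((v : X) * u), del_mul_mem hq u.2 v.2,
      del_mul_mem hq v.2 u.2, add_comm (del (u : X) n)]
  · intro u hu
    refine eq_one_of_mem_center h (pow_mem hu p) (Subgroup.mem_center_iff.2 fun x => heq fun v => ?_)
    obtain ⟨k, hk, c, hc, rfl⟩ := exists_factor K htop x
    have hup : ∀ w : N, del (u ^ p) w = del u (p • w) := fun w => by
      rw [del_pow_mem hq hu, map_nsmul]
    rw [mul_smul (k * c), mul_smul (u ^ p), smul_eq_add_del (u ^ p) v, smul_eq_add_del (u ^ p) ((k * c) • v),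
      smul_add, hup, hup, ← smul_comm (k * c) p v, mul_smul k c (p • v), smul_comm c p v, hKmem hk,
      ← smul_comm c p v, map_nsmul]
    congr 1
    rw [mul_smul, smul_comm c p (del u v), smul_del hq hu hc, hKmem hk, smul_eq_add_del c (p • v),
      map_add, hkill u hu c hc, add_zero, map_nsmul]

include hq in
/-- A rank one group with abelian unipotents and a quadratic module that is not quadratic for the
whole group is special. -/
theorem isSpecial_of_quadratic (h : IsRankOneGroup X A B) (hab : HasAbelianUnipotents A B)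
    (hX : ∃ x y : X, ∃ n : N, y • (x • n - n) ≠ x • n - n) : IsSpecialRankOnePair A B := by
  refine ⟨h.2, fun a ha ha1 b hb hb1 he => ?_⟩
  set g := a * b⁻¹ with hg
  have hgA : conjBy A g = B := eqn_iff.1 he
  have hBconj : ∀ d ∈ B, g⁻¹ * d * g ∈ A := fun d hd => by
    rw [← hgA, mem_conjBy] at hd; exact hd
  have hqB : ∀ d ∈ B, ∀ d' ∈ B, ∀ n : N, d' • del d n = del d n := by
    intro d hd d' hd' n
    have e : d = g * (g⁻¹ * d * g) * g⁻¹ := by group
    rw [e, del_conj, ← mul_smul, show d' * g = g * (g⁻¹ * d' * g) by group, mul_smul,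
      smul_del hq (hBconj d hd) (hBconj d' hd')]
  -- fixed points
  let CA : AddSubgroup N :=
    { carrier := {n | ∀ c ∈ A, c • n = n}
      add_mem' := fun hm hn c hc => by rw [smul_add, hm c hc, hn c hc]
      zero_mem' := fun c _ => smul_zero c
      neg_mem' := fun hn c hc => by rw [smul_neg, hn c hc] }
  let CB : AddSubgroup N :=
    { carrier := {n | ∀ c ∈ B, c • n = n}
      add_mem' := fun hm hn c hc => by rw [smul_add, hm c hc, hn c hc]
      zero_mem' := fun c _ => smul_zero c
      neg_mem' := fun hn c hc => by rw [smul_neg, hn c hc] }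
  have hCA : ∀ {n}, n ∈ CA ↔ ∀ c ∈ A, c • n = n := Iff.rfl
  have hCB : ∀ {n}, n ∈ CB ↔ ∀ c ∈ B, c • n = n := Iff.rfl
  have hAimg : ∀ c ∈ A, ∀ n, del c n ∈ CA := fun c hc n c' hc' => smul_del hq hc hc' n
  have hBimg : ∀ c ∈ B, ∀ n, del c n ∈ CB := fun c hc n c' hc' => hqB c hc c' hc' n
  have hαC : ∀ {n}, n ∈ CA → del a n = 0 := fun hn => by rw [del_apply, hn a ha, sub_self]
  have hβC : ∀ {n}, n ∈ CB → del b n = 0 := fun hn => by rw [del_apply, hn b hb, sub_self]
  have hbinv : ∀ n : N, del b⁻¹ n = - del b n := fun n => by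
    have h1 := del_mul (N := N) b⁻¹ b n
    rw [inv_mul_cancel, del_one, hBimg b hb n b⁻¹ (inv_mem hb)] at h1
    rw [eq_neg_iff_add_eq_zero, add_comm]; exact h1.symm
  have hainv : ∀ n : N, del a⁻¹ n = - del a n := fun n => by
    have h1 := del_mul (N := N) a⁻¹ a n
    rw [inv_mul_cancel, del_one, hAimg a ha n a⁻¹ (inv_mem ha)] at h1
    rw [eq_neg_iff_add_eq_zero, add_comm]; exact h1.symm
  have hgC : ∀ {n}, n ∈ CA → g • n ∈ CB := fun {n} hn d hd => by
    rw [← mul_smul, show d * g = g * (g⁻¹ * d * g) by group, mul_smul, hn _ (hBconj d hd)]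
  have hZfix : ∀ {n}, n ∈ CA → n ∈ CB → ∀ x : X, x • n = n := fun h1 h2 =>
    fixed_of_sup_eq_top h.1 h1 h2
  set α := del (N := N) a with hα
  set β := del (N := N) b with hβ
  have hgval : ∀ n, g • n = n - β n + α (n - β n) := fun n => by
    rw [hg, mul_smul, smul_eq_add_del b⁻¹ n, hbinv, ← sub_eq_add_neg, smul_eq_add_del a]
  -- the two basic congruences
  have hu : ∀ u ∈ CA, α (β u) - u ∈ CA ∧ α (β u) - u ∈ CB := by
    intro u hu
    set w := g • u with hw
    have hwB := hgC hu
    have e1 : w = u - β u - α (β u) := by rw [hw, hgval, map_sub, hαC hu, zero_sub, ← sub_eq_add_neg]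
    refine ⟨sub_mem (hAimg a ha _) hu, ?_⟩
    have : α (β u) - u = -(w + β u) := by rw [e1]; abel
    rw [this]
    exact neg_mem (add_mem hwB (hBimg b hb u))
  have hαα : ∀ m, α (α m) = 0 := fun m => hαC (hAimg a ha m)
  have hαZ : ∀ {z}, z ∈ CA → z ∈ CB → α z = 0 := fun h1 _ => hαC h1
  have hβαβ : ∀ u ∈ CA, β (α (β u)) = β u := fun u hu' => by
    have := hβC (hu u hu').2
    rwa [map_sub, sub_eq_zero] at this
  -- c := conjugate of a
  set c := g * a * g⁻¹ with hc
  have hcB : c ∈ B := hgA ▸ conj_mem_conjBy ha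
  let H : Subgroup X :=
    { carrier := {x | ∀ n : N, ∀ y : X, y • del x n = del x n}
      one_mem' := fun n y => by rw [del_one, smul_zero]
      mul_mem' := fun {x x'} hx hx' n y => by rw [del_mul, hx' n x, smul_add, hx n y, hx' n y]
      inv_mem' := fun {x} hx n y => by
        have e : del x⁻¹ n = - del x (x⁻¹ • n) := by simp [del_apply]
        rw [e, smul_neg, hx (x⁻¹ • n) y] }
  have hHn : H.Normal := ⟨fun x hx k n y => by
    rw [del_conj, hx (k⁻¹ • n) k, hx (k⁻¹ • n) y]⟩
  have hcb : c * b ∈ H := by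
    intro n y
    have e1 : del (c * b) n = del c n + β n := by rw [del_mul, hBimg b hb n c hcB, add_comm]
    have hgd : ∀ m, g • (α (g⁻¹ • m)) = del c m := fun m => by rw [hc, del_conj]
    have hginv : ∀ m, g⁻¹ • m = m - α m + β (m - α m) := fun m => by
      rw [hg, mul_inv_rev, inv_inv, mul_smul, smul_eq_add_del a⁻¹ m, hainv, ← sub_eq_add_neg,
        smul_eq_add_del b]
    obtain ⟨p1, q1⟩ := hu (α n) (hAimg a ha n)
    have r1 : β (α (β (α n))) = β (α n) := hβαβ _ (hAimg a ha n)
    have r2 : β (α (β n)) - β n ∈ CA ∧ β (α (β n)) - β n ∈ CB := by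
      refine ⟨?_, sub_mem (hBimg b hb _) (hBimg b hb _)⟩
      set u := g⁻¹ • β n with hu'
      have huA : u ∈ CA := fun e he' => by
        rw [hu', ← mul_smul, show e * g⁻¹ = g⁻¹ * (g * e * g⁻¹) by group, mul_smul,
          hBimg b hb n _ (hgA ▸ conj_mem_conjBy he')]
      have e2 : u = β n - α (β n) - β (α (β n)) := by
        rw [hu', hginv, map_sub, hβC (hBimg b hb n), zero_sub, ← sub_eq_add_neg]
      have : β (α (β n)) - β n = -(u + α (β n)) := by rw [e2]; abel
      rw [this]
      exact neg_mem (add_mem huA (hAimg a ha _))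
    have r3 : α (β (α (β n))) = α (β n) := by
      have := hαZ r2.1 r2.2
      rwa [map_sub, sub_eq_zero] at this
    have key : del c n + β n = -(α (β (α n)) - α n) - (β (α (β n)) - β n) := by
      rw [← hgd, hginv, map_add, map_sub α n, hαC (hAimg a ha n), sub_zero, map_sub β, map_sub α,
        hgval]
      simp only [map_add, map_sub, hαα, r1, r3]
      abel
    rw [e1, key, smul_sub, smul_neg, hZfix p1 q1 y, hZfix r2.1 r2.2 y]
  have hcentral : H ≤ Subgroup.center X := by
    refine (normal_sup_or_central h H).resolve_left fun htop => ?_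
    obtain ⟨x₀, y₀, n₀, hne⟩ := hX
    -- every difference is fixed by all of `X`
    obtain ⟨k, hk, a', ha', hge⟩ := exists_factor H htop g
    have hgu : ∀ {u}, u ∈ CA → g • u = u + del k u := fun {u} hu' => by
      rw [hge, mul_smul, hu' a' ha', smul_eq_add_del]
    have hkZ : ∀ u, del k u ∈ CA ∧ del k u ∈ CB := fun u =>
      ⟨fun e _ => hk u e, fun e _ => hk u e⟩
    have hCAB : ∀ {u}, u ∈ CA → u ∈ CB := fun {u} hu' => by
      have := sub_mem (hgC hu') (hkZ u).2
      rwa [hgu hu', add_sub_cancel_right] at this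
    have hA' : A ≤ H := fun e he' n y => hZfix (hAimg e he' n) (hCAB (hAimg e he' n)) y
    have : H = ⊤ := by rw [← htop, sup_eq_left.2 hA']
    exact hne ((this ▸ Subgroup.mem_top x₀ : x₀ ∈ H) n₀ y₀)
  have h1 : c * b = 1 := by
    apply eq_one_of_mem_of_fix (RankOnePair_symm h.2) (mul_mem hcB hb)
    exact conjBy_eq_self_iff.2 (Subgroup.center_le_normalizer _ (hcentral hcb))
  have hcb' : c = b⁻¹ := eq_inv_of_mul_eq_one_left h1
  calc b⁻¹ * a * b = a⁻¹ * (g * a * g⁻¹) * a := by rw [hg]; group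
    _ = a⁻¹ * b⁻¹ * a := by rw [← hc, hcb']

end CfsgLib.RankOne
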