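import Cfsg.Agent.RootSubgroups.BadPairLarge
import Cfsg.Agent.RootSubgroups.SL2Pair

set_option autoImplicit false

/-!
In a class of abstract root subgroups with two different commuting members every rank one pair is special.
-/

universe u

namespace CfsgLib.RootSubgroups

open Cfsg CfsgLib.RankOne CfsgLib.SL2Pair commutatorElement

theorem exists_square_ne_one {k : Type*} [Field k] (hk : 3 < ENat.card k) : ∃ t : k, t ≠ 0 ∧ t * t ≠ 1 := by
  by_contra hcon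
  push Not at hcon
  have hsub : (Set.univ : Set k) ⊆ {0, 1, -1} := fun t _ => by
    by_cases ht : t = 0
    · exact Or.inl ht
    · exact Or.inr ((mul_self_eq_one_iff.1 (hcon t ht)).imp id id)
  have hle : (Set.univ : Set k).encard ≤ 3 := (Set.encard_mono hsub).trans
    ((Set.encard_insert_le _ _).trans
      (le_trans (add_le_add ((Set.encard_insert_le _ _).trans (by rw [Set.encard_singleton])) le_rfl) (by norm_num)))
  rw [Set.encard_univ] at hle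
  exact absurd hle (not_le.2 hk)

variable {G : Type u} [Group G] {S : Set (Subgroup G)} {A B C P : Subgroup G}

theorem BadPair.false_of_sl2 (H : BadPair S A B C P) {A₀ B₀ : Subgroup G} (hA₀ : A₀ ≤ A) (hB₀ : B₀ ≤ B)
    {k : Type u} [Field k] (hk : 3 < ENat.card k) (hpsl : IsPSL2PairOver k A₀ B₀) : False := by
  obtain ⟨φ, hrange, hker, hup, -⟩ := hpsl
  obtain ⟨t, ht0, ht⟩ := exists_square_ne_one hk
  obtain ⟨δ, hδ⟩ : ∃ δ : Matrix.SpecialLinearGroup (Fin 2) k,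
      (δ : Matrix (Fin 2) (Fin 2) k) = !![t, 0; 0, t⁻¹] :=
    ⟨⟨!![t, 0; 0, t⁻¹], by simp [Matrix.det_fin_two, ht0]⟩, rfl⟩
  have hconj : δ * up (1 : k) = up (t * t) * δ := by
    ext i j; fin_cases i <;> fin_cases j <;> simp [hδ, up_coe, Matrix.mul_apply, Fin.sum_univ_two, ht0]
  have hmem : ∀ c : k, φ (up c) ∈ A := fun c =>
    hA₀ (hup ▸ Subgroup.mem_map_of_mem φ (mem_upper.2 ⟨c, rfl⟩))
  have hne : ∀ c : k, c ≠ 0 → φ (up c) ≠ 1 := fun c hc e => by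
    have h := Subgroup.mem_center_iff.1 (hker (MonoidHom.mem_ker.2 e)) (low 1)
    have h' := congrArg (fun g : Matrix.SpecialLinearGroup (Fin 2) k => (g : Matrix (Fin 2) (Fin 2) k) 0 0) h
    simp [up_coe, low_coe, Matrix.mul_apply, Fin.sum_univ_two] at h'
    exact hc h'
  have hx : φ δ ∈ A ⊔ B := (sup_le_sup hA₀ hB₀) (hrange ▸ ⟨δ, rfl⟩)
  have he : φ δ * φ (up 1) * (φ δ)⁻¹ = φ (up (t * t)) := by
    rw [← map_mul, hconj, map_mul, mul_inv_cancel_right]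
  have hfix : conjBy A (φ δ) = A := by
    refine eq_of_common_mem H.rankOne (conjBy_mem_unipotent (left_mem_unipotent A B) hx) (left_mem_unipotent A B)
      ?_ (hmem (t * t)) (hne _ (mul_ne_zero ht0 ht0))
    exact he ▸ conj_mem_conjBy (hmem 1)
  rw [H.centralise hx hfix (hmem 1)] at he
  refine hne (t * t - 1) (sub_ne_zero.2 ht) ?_
  rw [sub_eq_add_neg, ← up_mul, ← up_inv, map_mul, map_inv, ← he, mul_inv_cancel]

theorem noSmallOrder_of_class (hS : IsRootSubgroupClass S) (hA : A ∈ S) (h : IsSpecialRankOnePair A P)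
    (hsmall : ¬ ∀ D ∈ S, ∀ x ∈ D, 0 < orderOf x ∧ orderOf x ≤ 3) : NoSmallOrder S := by
  have htoA : ∀ {D : Subgroup G}, D ∈ S → ∀ {x : G}, x ∈ D → ∃ g : G, g * x * g⁻¹ ∈ A := by
    intro D hD x hx
    obtain ⟨g, rfl⟩ := hS.2.2 D hD A hA
    exact ⟨g, conj_mem_conjBy hx⟩
  rcases elementary_or_divisible h (hS.1.commutative A hA) with ⟨p, hp, hpA⟩ | ⟨htf, -⟩
  · have hpS : ∀ D ∈ S, ∀ x ∈ D, x ^ p = 1 := fun D hD x hx => by
      obtain ⟨g, hg⟩ := htoA hD hx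
      have := hpA _ hg
      rwa [_root_.conj_pow, conj_eq_one_iff] at this
    haveI := Fact.mk hp
    have hp3 : 3 < p := by
      by_contra hle
      apply hsmall
      intro D hD x hx
      by_cases hx1 : x = 1
      · simp [hx1]
      · rw [orderOf_eq_prime (hpS D hD x hx) hx1]
        exact ⟨hp.pos, not_lt.1 hle⟩
    intro D hD x hx hx1 k hk hk4 e
    have hdvd : p ∣ k := orderOf_eq_prime (hpS D hD x hx) hx1 ▸ orderOf_dvd_of_pow_eq_one e
    have hp4 : p = 4 := le_antisymm ((Nat.le_of_dvd hk hdvd).trans hk4) hp3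
    subst hp4
    norm_num at hp
  · intro D hD x hx hx1 k hk _ e
    obtain ⟨g, hg⟩ := htoA hD hx
    exact htf _ hg (fun e' => hx1 (conj_eq_one_iff.1 e'))
      (isOfFinOrder_iff_pow_eq_one.2 ⟨k, hk, by rw [_root_.conj_pow, e, mul_one, mul_inv_cancel]⟩)

theorem special_of_commuting_pair (hS : IsRootSubgroupClass S) (hcomm : ∃ A ∈ S, ∃ C ∈ S, A ≠ C ∧ ⁅A, C⁆ = ⊥)
    (hH : IsDegenerateRootSet S → (∀ A ∈ S, ∀ a ∈ A, 0 < orderOf a ∧ orderOf a ≤ 3) →
      ∀ A ∈ S, ∀ B ∈ rankOnePartners S A, ∃ A₀ B₀ : Subgroup G, A₀ ≤ A ∧ B₀ ≤ B ∧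
        ∃ (k : Type u) (_ : Field k), 3 < ENat.card k ∧ IsPSL2PairOver k A₀ B₀)
    (hA : A ∈ S) (hB : B ∈ rankOnePartners S A) : IsSpecialRankOnePair A B := by
  obtain ⟨hB, hAB⟩ := hB
  by_cases hdeg : IsDegenerateRootSet S
  swap
  · refine special_of_nondegenerate hS ⟨hcomm, ⟨A, hA, B, hB, hAB⟩, ?_⟩ hA hB hAB
    simpa [IsDegenerateRootSet] using hdeg
  by_contra hns
  have hbad : ∀ D ∈ S, D ≠ A → ⁅D, A⁆ = ⊥ → ⁅D, B⁆ = ⊥ := fun D hD hne hDA =>
    (commute_or_rankOne hS.1 hdeg hD hB).resolve_right fun h =>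
      hns (special_of_witness hS.1 hA hB hD hAB h ((Subgroup.commutator_comm A D).trans hDA) hne.symm)
  obtain ⟨A₀, hA₀, C₀, hC₀, hne, hcomm⟩ := hcomm
  obtain ⟨g, hg⟩ := hS.2.2 A₀ hA₀ A hA
  have hneC : A ≠ conjBy C₀ g := fun e => hne (conjBy_injective g (hg.symm.trans e))
  have hAC : ⁅A, conjBy C₀ g⁆ = ⊥ := hg ▸ comm_conj hcomm g
  have hC := hS.1.conj_mem C₀ hC₀ g
  obtain ⟨P, hP, hAP, hCP⟩ := exists_common_partner hS hdeg hA hC hAC
    (partner_of_class hS ⟨A, hA, B, hB, hAB⟩ hC)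
  have H : BadPair S A B (conjBy C₀ g) P := ⟨hS.1, hdeg, hA, hB, hC, hP, hAB, hAP, hCP, hAC, hneC, hbad⟩
  by_cases hsmall : ∀ D ∈ S, ∀ x ∈ D, 0 < orderOf x ∧ orderOf x ≤ 3
  · obtain ⟨A₁, B₁, hA₁, hB₁, k, _, hk, hpsl⟩ := hH hdeg hsmall A hA B ⟨hB, hAB⟩
    exact H.false_of_sl2 hA₁ hB₁ hk hpsl
  · exact H.false_of_noSmallOrder (noSmallOrder_of_class hS hA (H.special (left_mem_unipotent A B)) hsmall)

end CfsgLib.RootSubgroups
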