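import Cfsg.Agent.RootSubgroups.SL2Pair
import Mathlib.FieldTheory.Finite.Basic
import Mathlib.RingTheory.IntegralDomain

set_option autoImplicit false

/-!
A pair of braided one-parameter subgroups over the prime field gives a homomorphic image of `SL₂(p)`.
-/

namespace CfsgLib.Steinberg

variable {p : ℕ} [Fact p.Prime] {G : Type*} [Group G]

local notation "F" => ZMod p

/-- Two one-parameter subgroups over `ZMod p`, braided at every non-zero parameter. -/
structure Data (p : ℕ) (G : Type*) [Group G] where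
  A : ZMod p → G
  C : ZMod p → G
  A_add : ∀ x y : ZMod p, A (x + y) = A x * A y
  C_add : ∀ x y : ZMod p, C (x + y) = C x * C y
  braid : ∀ x : ZMod p, x ≠ 0 → A x * C x⁻¹ * A x = C x⁻¹ * A x * C x⁻¹

namespace Data

variable (D : Data p G) {x y u v l m t : ZMod p}

theorem A_zero : D.A 0 = 1 := by
  have := D.A_add 0 0
  rwa [add_zero, eq_comm, mul_eq_left] at this

theorem C_zero : D.C 0 = 1 := by
  have := D.C_add 0 0
  rwa [add_zero, eq_comm, mul_eq_left] at this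

theorem A_neg (x : F) : D.A (-x) = (D.A x)⁻¹ :=
  eq_inv_of_mul_eq_one_left (by rw [← D.A_add, neg_add_cancel, D.A_zero])

theorem C_neg (x : F) : D.C (-x) = (D.C x)⁻¹ :=
  eq_inv_of_mul_eq_one_left (by rw [← D.C_add, neg_add_cancel, D.C_zero])

theorem A_nsmul (n : ℕ) (x : F) : D.A (n * x) = D.A x ^ n := by
  induction n with
  | zero => simp [D.A_zero]
  | succ n ih => rw [Nat.cast_succ, add_mul, one_mul, D.A_add, ih, pow_succ]

theorem C_nsmul (n : ℕ) (x : F) : D.C (n * x) = D.C x ^ n := by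
  induction n with
  | zero => simp [D.C_zero]
  | succ n ih => rw [Nat.cast_succ, add_mul, one_mul, D.C_add, ih, pow_succ]

/-- The element `A x · C x⁻¹ · A x`. -/
def w (x : F) : G := D.A x * D.C x⁻¹ * D.A x

theorem w_eq (hx : x ≠ 0) : D.w x = D.C x⁻¹ * D.A x * D.C x⁻¹ := D.braid x hx

theorem w_neg (x : F) : D.w (-x) = (D.w x)⁻¹ := by
  rw [w, w, inv_neg, D.A_neg, D.C_neg]; group

theorem w_conjA (hx : x ≠ 0) (y : F) : D.w x * D.A y = D.C (y / x ^ 2) * D.w x := by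
  have e : D.w x * D.A x * (D.w x)⁻¹ = D.C x⁻¹ := by
    rw [mul_inv_eq_iff_eq_mul]
    calc D.w x * D.A x = D.C x⁻¹ * D.A x * D.C x⁻¹ * D.A x := by rw [D.w_eq hx]
      _ = D.C x⁻¹ * D.w x := by rw [w]; group
  obtain ⟨k, hk⟩ : ∃ k : ℕ, (k : F) = y / x := ⟨(y / x).val, ZMod.natCast_zmod_val _⟩
  have hy : y = (k : F) * x := by rw [hk, div_mul_cancel₀ y hx]
  have hy2 : y / x ^ 2 = (k : F) * x⁻¹ := by rw [hk]; field_simp
  rw [hy2, hy, D.A_nsmul, D.C_nsmul, ← e, conj_pow, inv_mul_cancel_right]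

theorem w_conjC (hx : x ≠ 0) (y : F) : D.w x * D.C y = D.A (x ^ 2 * y) * D.w x := by
  have e : D.w x * D.C x⁻¹ * (D.w x)⁻¹ = D.A x := by
    rw [mul_inv_eq_iff_eq_mul]
    calc D.w x * D.C x⁻¹ = D.A x * (D.C x⁻¹ * D.A x * D.C x⁻¹) := by rw [w]; group
      _ = D.A x * D.w x := by rw [D.w_eq hx]
  obtain ⟨k, hk⟩ : ∃ k : ℕ, (k : F) = y * x := ⟨(y * x).val, ZMod.natCast_zmod_val _⟩
  have hy : y = (k : F) * x⁻¹ := by rw [hk, mul_inv_cancel_right₀ hx]
  have hy2 : x ^ 2 * y = (k : F) * x := by rw [hk]; ring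
  rw [hy2, hy, D.A_nsmul, D.C_nsmul, ← e, conj_pow, inv_mul_cancel_right]

theorem w_w (hx : x ≠ 0) (hy : y ≠ 0) : D.w x * D.w y = D.w (x ^ 2 / y) * D.w x := by
  have hz : x ^ 2 / y ≠ 0 := div_ne_zero (pow_ne_zero 2 hx) hy
  have h1 : D.w x * D.A y = D.C (x ^ 2 / y)⁻¹ * D.w x := by rw [D.w_conjA hx, inv_div]
  have h2 : D.w x * D.C y⁻¹ = D.A (x ^ 2 / y) * D.w x := by rw [D.w_conjC hx, div_eq_mul_inv]
  calc D.w x * D.w y = D.w x * D.A y * D.C y⁻¹ * D.A y := by rw [w.eq_def D y]; group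
    _ = D.C (x ^ 2 / y)⁻¹ * (D.w x * D.C y⁻¹) * D.A y := by rw [h1]; group
    _ = D.C (x ^ 2 / y)⁻¹ * D.A (x ^ 2 / y) * (D.w x * D.A y) := by rw [h2]; group
    _ = D.w (x ^ 2 / y) * D.w x := by rw [h1, D.w_eq hz]; group

theorem C_eq (y : F) : D.C y = D.A (-y⁻¹) * D.w y⁻¹ * D.A (-y⁻¹) := by
  rw [w, inv_inv, D.A_neg]; group

theorem w_rel (hx : x ≠ 0) (hy : y ≠ 0) (hxy : x + y ≠ 0) :
    D.w x * D.w y = D.w (x ^ 2 / (x + y)) * D.w (x * y / (x + y)) := by
  have hq : x ^ 2 / (x + y) ≠ 0 := div_ne_zero (pow_ne_zero 2 hx) hxy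
  have key : D.w (-(x ^ 2 / (x + y))) * D.w x * D.w y = D.w (x * y / (x + y)) := by
    have e1 : D.C (x * y / (x + y))⁻¹ = D.C x⁻¹ * D.C y⁻¹ := by
      rw [← D.C_add]; congr 1; field_simp; ring
    rw [D.C_eq, D.C_eq x⁻¹, D.C_eq y⁻¹, inv_inv, inv_inv, inv_inv] at e1
    have e2 : D.w x * D.A (-x + -y) = D.C ((-x + -y) / x ^ 2) * D.w x := D.w_conjA hx _
    have e3 : ((-x + -y) / x ^ 2)⁻¹ = -(x ^ 2 / (x + y)) := by
      rw [inv_div, ← div_neg]; congr 1; ring
    rw [D.C_eq, e3, neg_neg] at e2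
    have e5 : D.A (x ^ 2 / (x + y)) * D.w x * D.w y =
        D.w x * D.w y * D.A (y ^ 2 / (x + y)) := by
      rw [mul_assoc (D.w x) (D.w y) (D.A (y ^ 2 / (x + y))), D.w_conjA hy, ← mul_assoc (D.w x), D.w_conjC hx]
      congr 3; field_simp
    have e4 : D.A (-x) * D.A (x ^ 2 / (x + y)) * D.w (-(x ^ 2 / (x + y))) *
        (D.A (x ^ 2 / (x + y)) * D.w x * D.w y) * D.A (-y) =
        D.A (-(x * y / (x + y))) * D.w (x * y / (x + y)) * D.A (-(x * y / (x + y))) := by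
      rw [e1]
      calc _ = D.A (-x) * (D.w x * D.A (-x + -y)) * D.w y * D.A (-y) := by rw [e2]; group
        _ = _ := by rw [D.A_add]; group
    rw [e5] at e4
    have f1 : D.A (-x) * D.A (x ^ 2 / (x + y)) = D.A (-(x * y / (x + y))) := by
      rw [← D.A_add]; congr 1; field_simp; ring
    have f2 : D.A (y ^ 2 / (x + y)) * D.A (-y) = D.A (-(x * y / (x + y))) := by
      rw [← D.A_add]; congr 1; field_simp; ring
    rw [f1] at e4
    calc D.w (-(x ^ 2 / (x + y))) * D.w x * D.w y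
        = (D.A (-(x * y / (x + y))))⁻¹ * (D.A (-(x * y / (x + y))) * D.w (-(x ^ 2 / (x + y))) *
            (D.w x * D.w y * D.A (y ^ 2 / (x + y))) * D.A (-y)) *
            (D.A (y ^ 2 / (x + y)) * D.A (-y))⁻¹ := by group
      _ = D.w (x * y / (x + y)) := by rw [e4, f2]; group
  rw [← key, D.w_neg]; group

/-- `g` conjugates `A y` to `A (k y)` and `C y` to `C (y / k)`. -/
def Scales (g : G) (k : F) : Prop := ∀ y, g * D.A y = D.A (k * y) * g ∧ g * D.C y = D.C (y / k) * g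

/-- `g` commutes with every `w x`. -/
def CommW (g : G) : Prop := ∀ x : F, x ≠ 0 → Commute g (D.w x)

theorem scales_ww (hx : x ≠ 0) (hy : y ≠ 0) : D.Scales (D.w x * D.w y) ((x / y) ^ 2) := by
  intro z
  constructor
  · rw [mul_assoc, D.w_conjA hy, ← mul_assoc, D.w_conjC hx, mul_assoc]
    congr 2; field_simp
  · rw [mul_assoc, D.w_conjC hy, ← mul_assoc, D.w_conjA hx, mul_assoc]
    congr 2; field_simp

variable {D} in
theorem Scales.mul {g g' : G} {k k' : F} (h : D.Scales g k) (h' : D.Scales g' k') : D.Scales (g * g') (k * k') := by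
  intro z
  constructor
  · rw [mul_assoc, (h' z).1, ← mul_assoc, (h _).1, mul_assoc (D.A _), mul_assoc k]
  · rw [mul_assoc, (h' z).2, ← mul_assoc, (h _).2, mul_assoc (D.C _), div_div, mul_comm k' k]

theorem scales_one : D.Scales 1 1 := fun z => by simp

variable {D} in
theorem Scales.pow {g : G} {k : F} (h : D.Scales g k) (n : ℕ) : D.Scales (g ^ n) (k ^ n) := by
  induction n with
  | zero => rw [pow_zero, pow_zero]; exact D.scales_one
  | succ n ih => rw [pow_succ, pow_succ]; exact ih.mul h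

variable {D} in
theorem commW_of_scales {g g' : G} {k : F} (h : D.Scales g k) (h' : D.Scales g' k) : D.CommW (g⁻¹ * g') := by
  intro z _
  have hA : ∀ z, Commute (g⁻¹ * g') (D.A z) := fun z => by
    show g⁻¹ * g' * D.A z = D.A z * (g⁻¹ * g')
    rw [mul_assoc, (h' z).1]
    calc g⁻¹ * (D.A (k * z) * g') = g⁻¹ * (D.A (k * z) * g) * (g⁻¹ * g') := by group
      _ = g⁻¹ * (g * D.A z) * (g⁻¹ * g') := by rw [(h z).1]
      _ = D.A z * (g⁻¹ * g') := by group
  have hC : ∀ z, Commute (g⁻¹ * g') (D.C z) := fun z => by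
    show g⁻¹ * g' * D.C z = D.C z * (g⁻¹ * g')
    rw [mul_assoc, (h' z).2]
    calc g⁻¹ * (D.C (z / k) * g') = g⁻¹ * (D.C (z / k) * g) * (g⁻¹ * g') := by group
      _ = g⁻¹ * (g * D.C z) * (g⁻¹ * g') := by rw [(h z).2]
      _ = D.C z * (g⁻¹ * g') := by group
  exact ((hA z).mul_right (hC _)).mul_right (hA z)

variable {D} in
theorem CommW.ww {g : G} (hg : D.CommW g) (hx : x ≠ 0) (hy : y ≠ 0) : Commute g (D.w x * D.w y) :=
  (hg x hx).mul_right (hg y hy)

theorem exists_generator : ∃ γ : F, γ ≠ 0 ∧ ∀ x : F, x ≠ 0 → ∃ n : ℕ, x = γ ^ n := by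
  obtain ⟨g, hg⟩ := IsCyclic.exists_monoid_generator (α := Fˣ)
  refine ⟨g, g.ne_zero, fun x hx => ?_⟩
  obtain ⟨n, hn⟩ := Submonoid.mem_powers_iff _ _ |>.1 (hg (Units.mk0 x hx))
  exact ⟨n, by simpa using (congrArg Units.val hn).symm⟩

theorem ww_commute (hx : x ≠ 0) (hy : y ≠ 0) (hu : u ≠ 0) (hv : v ≠ 0) :
    Commute (D.w x * D.w y) (D.w u * D.w v) := by
  obtain ⟨γ, hγ, hgen⟩ := exists_generator (p := p)
  obtain ⟨i, hi⟩ := hgen (x / y) (div_ne_zero hx hy)
  obtain ⟨j, hj⟩ := hgen (u / v) (div_ne_zero hu hv)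
  have hg0 := D.scales_ww hγ one_ne_zero
  rw [div_one] at hg0
  have h1 := hg0.pow i
  have h2 := hg0.pow j
  rw [← pow_mul, mul_comm 2 i, pow_mul, ← hi] at h1
  rw [← pow_mul, mul_comm 2 j, pow_mul, ← hj] at h2
  have hz1 : D.CommW (((D.w γ * D.w 1) ^ i)⁻¹ * (D.w x * D.w y)) := commW_of_scales h1 (D.scales_ww hx hy)
  have hz2 : D.CommW (((D.w γ * D.w 1) ^ j)⁻¹ * (D.w u * D.w v)) := commW_of_scales h2 (D.scales_ww hu hv)
  have key : ∀ {a b : G}, D.CommW a → Commute a b → Commute ((D.w γ * D.w 1) ^ i) b → True := fun _ _ _ => trivial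
  clear key
  have e1 : Commute ((D.w γ * D.w 1) ^ i) (D.w u * D.w v) := by
    rw [show D.w u * D.w v = (D.w γ * D.w 1) ^ j * (((D.w γ * D.w 1) ^ j)⁻¹ * (D.w u * D.w v)) by group]
    exact (Commute.pow_pow_self _ i j).mul_right ((hz2.ww hγ one_ne_zero).symm.pow_left i)
  rw [show D.w x * D.w y = (D.w γ * D.w 1) ^ i * (((D.w γ * D.w 1) ^ i)⁻¹ * (D.w x * D.w y)) by group]
  exact e1.mul_left (hz1.ww hu hv)

/-- The product `w (l x) · w (l t x)` does not depend on `x`. -/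
def Inv (t l : F) : Prop := ∀ x : F, x ≠ 0 → D.w (l * x) * D.w (l * (t * x)) = D.w x * D.w (t * x)

variable {D} in
theorem Inv.mul (ht : t ≠ 0) (hl : l ≠ 0) (hm : m ≠ 0) (h : D.Inv t l) (h' : D.Inv t m) : D.Inv t (m * l) := by
  intro x hx
  have e1 := h' (l * x) (mul_ne_zero hl hx)
  have e2 := h x hx
  rw [show t * (l * x) = l * (t * x) by ring] at e1
  rw [mul_assoc m l x, mul_assoc m l (t * x), e1, e2]

theorem inv_sq (ht : t ≠ 0) (hm : m ≠ 0) : D.Inv t (m ^ 2) := by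
  intro x hx
  have htx : t * x ≠ 0 := mul_ne_zero ht hx
  have key : ∀ z : F, z ≠ 0 → D.w m * D.w 1 * D.w z = D.w (m ^ 2 * z) * (D.w m * D.w 1) := fun z hz => by
    rw [mul_assoc, D.w_w one_ne_zero hz, ← mul_assoc, D.w_w hm (div_ne_zero (pow_ne_zero 2 one_ne_zero) hz),
      mul_assoc]
    congr 2; field_simp
  have h1 : D.w m * D.w 1 * (D.w x * D.w (t * x)) =
      D.w (m ^ 2 * x) * D.w (m ^ 2 * (t * x)) * (D.w m * D.w 1) := by
    rw [← mul_assoc, key x hx, mul_assoc, key _ htx, ← mul_assoc]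
  rw [(D.ww_commute hm one_ne_zero hx htx).eq] at h1
  exact (mul_right_cancel h1).symm

theorem inv_recip (ht : t ≠ 0) : D.Inv t t⁻¹ := by
  intro x hx
  rw [show t⁻¹ * (t * x) = x from inv_mul_cancel_left₀ ht x, D.w_w hx (mul_ne_zero ht hx)]
  congr 2; field_simp

theorem inv_succ (ht : t ≠ 0) (ht1 : 1 + t ≠ 0) : D.Inv t (1 + t)⁻¹ := by
  intro x hx
  have hxy : x + t * x ≠ 0 := by
    rw [show x + t * x = (1 + t) * x by ring]; exact mul_ne_zero ht1 hx
  rw [D.w_rel hx (mul_ne_zero ht hx) hxy]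
  congr 2 <;> field_simp

theorem inv_all (ht : t ≠ 0) (hl : l ≠ 0) (h : D.Inv t l) (hns : ¬ IsSquare l) :
    ∀ m : F, m ≠ 0 → D.Inv t m := by
  intro m hm
  by_cases hsq : IsSquare m
  · obtain ⟨r, rfl⟩ := hsq
    rw [← sq]
    exact D.inv_sq ht (fun e => hm (by rw [e, mul_zero]))
  · have hsq2 : IsSquare (m * l⁻¹) := by
      obtain ⟨γ, hγ, hgen⟩ := exists_generator (p := p)
      obtain ⟨i, rfl⟩ := hgen m hm
      obtain ⟨j, rfl⟩ := hgen l hl
      have hi : Odd i := Nat.not_even_iff_odd.1 fun he => hsq (he.isSquare_pow γ)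
      have hj : Odd j := Nat.not_even_iff_odd.1 fun he => hns (he.isSquare_pow γ)
      have : IsSquare (γ ^ (i + j)) := (hi.add_odd hj).isSquare_pow γ
      obtain ⟨r, hr⟩ := this
      refine ⟨r / γ ^ j, ?_⟩
      rw [pow_add] at hr
      field_simp
      linear_combination hr
    obtain ⟨r, hr⟩ := hsq2
    have hr0 : r ≠ 0 := fun e => hm (by
      rw [← inv_mul_cancel_right₀ hl m] at *
      simp_all)
    rw [show m = r ^ 2 * l by rw [sq, ← hr, inv_mul_cancel_right₀ hl]]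
    exact h.mul ht hl (pow_ne_zero 2 hr0) (D.inv_sq ht hr0)

theorem w_sq_eq (hx : x ≠ 0) (hy : y ≠ 0) : D.w x * D.w x = D.w y * D.w y := by
  have hcomm : ∀ {z : F}, z ≠ 0 → D.CommW (D.w z * D.w z) := fun {z} hz => by
    have h := D.scales_ww hz hz
    rw [div_self hz, one_pow] at h
    simpa using commW_of_scales D.scales_one h
  by_cases hns : ∃ n : F, n ≠ 0 ∧ ¬ IsSquare n
  swap
  · push Not at hns
    obtain ⟨r, hr⟩ := hns (y / x) (div_ne_zero hy hx)
    have hr0 : r ≠ 0 := fun e => div_ne_zero hy hx (by rw [hr, e, mul_zero])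
    have h := D.inv_sq (t := 1) one_ne_zero hr0 x hx
    rw [one_mul, sq, ← hr, div_mul_cancel₀ y hx] at h
    exact h.symm
  obtain ⟨n, hn0, hn⟩ := hns
  obtain ⟨s, hs, h1, h2⟩ : ∃ s : F, s ≠ 0 ∧ (∀ l, l ≠ 0 → D.Inv s l) ∧ ∀ l, l ≠ 0 → D.Inv (-s) l := by
    have hfull : ∀ s : F, s ≠ 0 → ¬ IsSquare s → ∀ l, l ≠ 0 → D.Inv s l := fun s hs hsn =>
      D.inv_all hs (inv_ne_zero hs) (D.inv_recip hs) (by rwa [isSquare_inv])
    by_cases hneg : IsSquare (-1 : F)
    · refine ⟨n, hn0, hfull n hn0 hn, hfull (-n) (neg_ne_zero.2 hn0) fun h => hn ?_⟩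
      have := hneg.mul h
      rwa [neg_one_mul, neg_neg] at this
    · obtain ⟨q, hq0, hq⟩ : ∃ q : F, q ≠ 0 ∧ ¬ IsSquare (1 + q ^ 2) := by
        by_contra hcon
        push Not at hcon
        have hall : ∀ k : ℕ, IsSquare (k : F) := fun k => by
          induction k with
          | zero => exact ⟨0, by simp⟩
          | succ k ih =>
            obtain ⟨r, hr⟩ := ih
            by_cases hr0 : r = 0
            · rw [Nat.cast_succ, hr, hr0]; simp
            · rw [Nat.cast_succ, hr, add_comm, ← sq]; exact hcon r hr0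
        exact hneg (by simpa [ZMod.natCast_zmod_val] using hall (-1 : F).val)
      have hq2 : q ^ 2 ≠ 0 := pow_ne_zero 2 hq0
      have h1q : 1 + q ^ 2 ≠ 0 := fun e => hq ⟨0, by rw [e, mul_zero]⟩
      refine ⟨q ^ 2, hq2, D.inv_all hq2 (inv_ne_zero h1q) (D.inv_succ hq2 h1q) (by rwa [isSquare_inv]),
        hfull _ (neg_ne_zero.2 hq2) fun h => hneg ?_⟩
      obtain ⟨r, hr⟩ := h
      refine ⟨r / q, ?_⟩
      field_simp
      linear_combination hr
  have key : ∀ z : F, z ≠ 0 →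
      D.w z * D.w (s * z) * (D.w z * D.w (-s * z))⁻¹ = D.w (s * z) * D.w (s * z) := fun z hz => by
    rw [show D.w (-s * z) = (D.w (s * z))⁻¹ by rw [neg_mul, D.w_neg], mul_inv_rev, inv_inv]
    calc D.w z * D.w (s * z) * (D.w (s * z) * (D.w z)⁻¹) = D.w z * (D.w (s * z) * D.w (s * z)) * (D.w z)⁻¹ := by
          group
      _ = D.w (s * z) * D.w (s * z) := by rw [← (hcomm (mul_ne_zero hs hz) z hz).eq, mul_inv_cancel_right]
  have hkey : ∀ z : F, z ≠ 0 → D.w (s * z) * D.w (s * z) = D.w (s * 1) * D.w (s * 1) := fun z hz => by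
    rw [← key z hz, ← key 1 one_ne_zero]
    have a1 := h1 z hz 1 one_ne_zero
    have a2 := h2 z hz 1 one_ne_zero
    rw [mul_one, mul_one, mul_comm z s] at a1
    rw [mul_one, mul_one, mul_comm z (-s)] at a2
    rw [a1, a2, mul_one, mul_one]
  have e1 := hkey (x / s) (div_ne_zero hx hs)
  have e2 := hkey (y / s) (div_ne_zero hy hs)
  rw [mul_div_cancel₀ x hs] at e1
  rw [mul_div_cancel₀ y hs] at e2
  exact e1.trans e2.symm

/-- The diagonal element with parameter `x`. -/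
def h (x : F) : G := D.w x * (D.w 1)⁻¹

theorem h_mul (hx : x ≠ 0) (hy : y ≠ 0) : D.h (x * y) = D.h x * D.h y := by
  obtain ⟨γ, hγ, hgen⟩ := exists_generator (p := p)
  obtain ⟨e, he⟩ : ∃ e, e = D.h γ := ⟨_, rfl⟩
  have hw : D.w γ = e * D.w 1 := by rw [he, h, inv_mul_cancel_right]
  have hswap : D.w 1 * e⁻¹ = e * D.w 1 := by
    rw [← hw, he, h, mul_inv_rev, inv_inv, ← mul_assoc, D.w_sq_eq one_ne_zero hγ, mul_inv_cancel_right]
  have hstep : ∀ z : F, z ≠ 0 → D.w (γ ^ 2 * z) = e * D.w z * e⁻¹ := fun z hz => by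
    have h1 : D.w γ * D.w 1 * D.w z = D.w (γ ^ 2 * z) * (D.w γ * D.w 1) := by
      rw [mul_assoc, D.w_w one_ne_zero hz, ← mul_assoc, D.w_w hγ (div_ne_zero (pow_ne_zero 2 one_ne_zero) hz),
        mul_assoc]
      congr 2; field_simp
    have hc : Commute (D.w 1 * D.w 1) (D.w z) := by
      rw [D.w_sq_eq one_ne_zero hz]; exact Commute.mul_left (Commute.refl _) (Commute.refl _)
    calc D.w (γ ^ 2 * z) = D.w γ * D.w 1 * D.w z * (D.w γ * D.w 1)⁻¹ := by rw [h1, mul_inv_cancel_right]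
      _ = e * ((D.w 1 * D.w 1) * D.w z) * (e * (D.w 1 * D.w 1))⁻¹ := by rw [hw]; group
      _ = e * D.w z * e⁻¹ := by rw [hc.eq]; group
  have hpow : ∀ i : ℕ, D.w (γ ^ i) = e ^ i * D.w 1 ∧ D.w (γ ^ (i + 1)) = e ^ (i + 1) * D.w 1 := by
    intro i
    induction i with
    | zero => exact ⟨by simp, by simp [hw]⟩
    | succ i ih =>
      refine ⟨ih.2, ?_⟩
      rw [show γ ^ (i + 1 + 1) = γ ^ 2 * γ ^ i by ring, hstep _ (pow_ne_zero i hγ), ih.1]
      calc e * (e ^ i * D.w 1) * e⁻¹ = e * e ^ i * (D.w 1 * e⁻¹) := by group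
        _ = e ^ (i + 1 + 1) * D.w 1 := by rw [hswap, ← pow_succ', ← mul_assoc, ← pow_succ]
  have hh : ∀ i : ℕ, D.h (γ ^ i) = e ^ i := fun i => by rw [h, (hpow i).1, mul_inv_cancel_right]
  obtain ⟨i, rfl⟩ := hgen x hx
  obtain ⟨j, rfl⟩ := hgen y hy
  rw [← pow_add, hh, hh, hh, pow_add]

theorem h_one : D.h 1 = 1 := mul_inv_cancel _

theorem h_conjA (hx : x ≠ 0) (y : F) : D.h x * D.A y = D.A (x ^ 2 * y) * D.h x := by
  have h1 := ((D.scales_ww hx (neg_ne_zero.2 one_ne_zero)) y).1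
  rw [D.w_neg] at h1
  rw [h, h1]
  congr 2; ring

theorem h_w (hx : x ≠ 0) : D.h x * D.w 1 = D.w x := inv_mul_cancel_right _ _

theorem w_one_h (hx : x ≠ 0) : D.w 1 * D.h x = D.h x⁻¹ * D.w 1 := by
  rw [D.h_w (inv_ne_zero hx), h, ← mul_assoc, D.w_w one_ne_zero hx, mul_inv_cancel_right]
  congr 1; simp

theorem w_one_sq : D.w 1 * D.w 1 = D.h (-1) := by
  rw [h, D.w_neg, ← mul_inv_rev]
  refine eq_inv_of_mul_eq_one_left ?_
  calc D.w 1 * D.w 1 * (D.w 1 * D.w 1) = D.w 1 * D.w 1 * (D.w (-1) * D.w (-1)) := by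
        rw [D.w_sq_eq one_ne_zero (neg_ne_zero.2 one_ne_zero)]
    _ = 1 := by rw [D.w_neg]; group

theorem w_A_w (hy : y ≠ 0) :
    D.w 1 * D.A y * D.w 1 = D.A (-y⁻¹) * D.h (-y⁻¹) * D.w 1 * D.A (-y⁻¹) := by
  have e : D.w 1 * D.A y * D.w 1 = D.C y * (D.w 1 * D.w 1) := by
    rw [D.w_conjA one_ne_zero, mul_assoc, one_pow, div_one]
  have hc : D.A (-y⁻¹) * D.h (-1) = D.h (-1) * D.A (-y⁻¹) := by
    rw [D.h_conjA (neg_ne_zero.2 one_ne_zero)]; simp
  have hc2 : D.w 1 * D.h (-1) = D.h (-1) * D.w 1 := by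
    rw [D.w_one_h (neg_ne_zero.2 one_ne_zero)]; simp [inv_neg]
  rw [e, D.w_one_sq, D.C_eq, ← D.h_w (inv_ne_zero hy)]
  calc D.A (-y⁻¹) * (D.h y⁻¹ * D.w 1) * D.A (-y⁻¹) * D.h (-1)
      = D.A (-y⁻¹) * (D.h y⁻¹ * D.h (-1)) * D.w 1 * D.A (-y⁻¹) := by
        rw [mul_assoc _ (D.A (-y⁻¹)) (D.h (-1)), hc]
        calc _ = D.A (-y⁻¹) * D.h y⁻¹ * (D.w 1 * D.h (-1)) * D.A (-y⁻¹) := by group
          _ = _ := by rw [hc2]; group
    _ = _ := by rw [← D.h_mul (inv_ne_zero hy) (neg_ne_zero.2 one_ne_zero), mul_neg_one]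

open Classical in
/-- The value of the homomorphism on a matrix `(a b; c d)`. -/
noncomputable def val (a b c d : F) : G :=
  if c = 0 then D.A (a * b) * D.h a else D.A (a / c) * D.h (-c⁻¹) * D.w 1 * D.A (d / c)

theorem val_up {a b c d : F} (hdet : a * d - b * c = 1) (y : F) :
    D.val a (a * y + b) c (c * y + d) = D.val a b c d * D.A y := by
  unfold val
  split_ifs with hc
  · subst hc
    have ha : a ≠ 0 := fun e => by simp [e] at hdet
    rw [mul_assoc, D.h_conjA ha, ← mul_assoc, ← D.A_add]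
    congr 2; ring
  · rw [mul_assoc _ (D.A (d / c)), ← D.A_add]
    congr 2; field_simp; ring

theorem val_w {a b c d : F} (hdet : a * d - b * c = 1) :
    D.val (-b) a (-d) c = D.val a b c d * D.w 1 := by
  unfold val
  by_cases hc : c = 0
  · subst hc
    have hd : d ≠ 0 := fun e => by simp [e] at hdet
    have ha : a ≠ 0 := fun e => by simp [e] at hdet
    have had : a * d = 1 := by simpa using hdet
    rw [if_neg (neg_ne_zero.2 hd), if_pos rfl, zero_div, D.A_zero, mul_one]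
    congr 2
    · congr 1; field_simp; linear_combination (-b) * had
    · congr 1; field_simp; linear_combination -had
  · rw [if_neg hc]
    by_cases hd : d = 0
    · subst hd
      have hbc : b * c = -1 := by linear_combination -hdet
      have hb : b ≠ 0 := fun e => by simp [e] at hbc
      rw [neg_zero, if_pos rfl, zero_div, D.A_zero, mul_one, mul_assoc, D.w_one_sq, mul_assoc,
        ← D.h_mul (neg_ne_zero.2 (inv_ne_zero hc)) (neg_ne_zero.2 one_ne_zero)]
      congr 2 <;> field_simp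
      · linear_combination (-a) * hbc
      · linear_combination (-1 : F) * hbc
    · rw [if_neg (neg_ne_zero.2 hd)]
      have hk : -c⁻¹ ≠ 0 := neg_ne_zero.2 (inv_ne_zero hc)
      symm
      calc D.A (a / c) * D.h (-c⁻¹) * D.w 1 * D.A (d / c) * D.w 1
          = D.A (a / c) * D.h (-c⁻¹) * (D.w 1 * D.A (d / c) * D.w 1) := by group
        _ = D.A (a / c) * (D.h (-c⁻¹) * D.A (-(d / c)⁻¹)) * D.h (-(d / c)⁻¹) * D.w 1 * D.A (-(d / c)⁻¹) := by
            rw [D.w_A_w (div_ne_zero hd hc)]; group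
        _ = D.A (a / c + (-c⁻¹) ^ 2 * (-(d / c)⁻¹)) * (D.h (-c⁻¹) * D.h (-(d / c)⁻¹)) * D.w 1 *
              D.A (-(d / c)⁻¹) := by rw [D.h_conjA hk, D.A_add]; group
        _ = _ := by
            rw [← D.h_mul hk (neg_ne_zero.2 (inv_ne_zero (div_ne_zero hd hc)))]
            congr 3
            · congr 1; field_simp; linear_combination hdet
            · congr 1; field_simp
            · field_simp

open Cfsg CfsgLib.SL2Pair Matrix

local notation "SL2" => Matrix.SpecialLinearGroup (Fin 2) (ZMod p)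

/-- The value of the homomorphism on an element of `SL₂(p)`. -/
noncomputable def toFun' (g : SL2) : G := D.val (g.1 0 0) (g.1 0 1) (g.1 1 0) (g.1 1 1)

/-- The matrix `(0 1; -1 0)`. -/
def weyl : SL2 := ⟨!![0, 1; -1, 0], by simp [Matrix.det_fin_two]⟩

theorem weyl_coe : ((weyl : SL2) : Matrix (Fin 2) (Fin 2) F) = !![0, 1; -1, 0] := rfl

theorem det_eq (g : SL2) : g.1 0 0 * g.1 1 1 - g.1 0 1 * g.1 1 0 = 1 := by
  rw [← Matrix.det_fin_two]; exact g.2

theorem toFun_up (g : SL2) (y : F) : D.toFun' (g * up y) = D.toFun' g * D.A y := by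
  rw [toFun', toFun', ← D.val_up (det_eq g) y]
  simp [Matrix.mul_apply, Fin.sum_univ_two, up_coe]

theorem toFun_weyl (g : SL2) : D.toFun' (g * weyl) = D.toFun' g * D.w 1 := by
  rw [toFun', toFun', ← D.val_w (det_eq g)]
  simp [Matrix.mul_apply, Fin.sum_univ_two, weyl_coe]

theorem toFun_one : D.toFun' (1 : SL2) = 1 := by
  simp [toFun', val, D.A_zero, D.h_one]

theorem gen_induction {P : SL2 → Prop} (hup : ∀ y, P (up y)) (hw : P weyl) (h1 : P 1)
    (hmul : ∀ g k, P g → P k → P (g * k)) (hinv : ∀ g, P g → P g⁻¹) (g : SL2) : P g := by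
  let M : Subgroup SL2 :=
    { carrier := {g | P g}, one_mem' := h1, mul_mem' := fun hg hk => hmul _ _ hg hk, inv_mem' := fun hg => hinv _ hg }
  have hlow : ∀ c, low c ∈ M := fun c => by
    have : low c = weyl * up (-c) * weyl⁻¹ := by
      rw [eq_mul_inv_iff_mul_eq]
      ext i j; fin_cases i <;> fin_cases j <;> simp [weyl_coe, up_coe, low_coe, Matrix.mul_apply, Fin.sum_univ_two]
    rw [this]; exact M.mul_mem (M.mul_mem hw (hup _)) (M.inv_mem hw)
  have hle : lowerUnipotentSL2 (ZMod p) ⊔ upperUnipotentSL2 (ZMod p) ≤ M := sup_le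
    (fun x hx => by obtain ⟨c, rfl⟩ := mem_lower.1 hx; exact hlow c)
    (fun x hx => by obtain ⟨c, rfl⟩ := mem_upper.1 hx; exact hup c)
  exact hle (sup_eq_top (k := ZMod p) ▸ Subgroup.mem_top g)

theorem toFun_mul (g k : SL2) : D.toFun' (g * k) = D.toFun' g * D.toFun' k := by
  revert g
  refine gen_induction (P := fun k => ∀ g : SL2, D.toFun' (g * k) = D.toFun' g * D.toFun' k) ?_ ?_ ?_ ?_ ?_ k
  · intro y g
    rw [D.toFun_up, ← one_mul (up y), D.toFun_up, D.toFun_one, one_mul]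
  · intro g
    rw [D.toFun_weyl, ← one_mul (weyl (p := p)), D.toFun_weyl, D.toFun_one, one_mul]
  · intro g; rw [mul_one, D.toFun_one, mul_one]
  · intro k k' hk hk' g
    rw [← mul_assoc, hk', hk, hk' k, mul_assoc]
  · intro k hk g
    have h1 : D.toFun' k⁻¹ * D.toFun' k = 1 := by rw [← hk, inv_mul_cancel, D.toFun_one]
    rw [eq_inv_of_mul_eq_one_left h1, eq_mul_inv_iff_mul_eq, ← hk, inv_mul_cancel_right]

/-- The homomorphism `SL₂(p) → G`. -/
noncomputable def hom : SL2 →* G := MonoidHom.mk' D.toFun' D.toFun_mul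

theorem hom_up (y : F) : D.hom (up y) = D.A y := by
  have := D.toFun_up 1 y
  rwa [one_mul, D.toFun_one, one_mul] at this

theorem hom_weyl : D.hom weyl = D.w 1 := by
  have := D.toFun_weyl 1
  rwa [one_mul, D.toFun_one, one_mul] at this

theorem hom_range : D.hom.range = Subgroup.closure {D.A 1, D.C 1} := by
  have hA : ∀ y : F, D.A y = D.A 1 ^ y.val := fun y => by
    rw [← D.A_nsmul, mul_one, ZMod.natCast_zmod_val]
  refine le_antisymm ?_ ?_
  · rintro _ ⟨g, rfl⟩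
    have h1 : D.A 1 ∈ Subgroup.closure {D.A 1, D.C 1} := Subgroup.subset_closure (Or.inl rfl)
    have h2 : D.C 1 ∈ Subgroup.closure {D.A 1, D.C 1} := Subgroup.subset_closure (Or.inr rfl)
    refine gen_induction (P := fun g => D.hom g ∈ Subgroup.closure {D.A 1, D.C 1}) ?_ ?_ ?_ ?_ ?_ g
    · intro y; rw [D.hom_up, hA y]; exact pow_mem h1 _
    · rw [D.hom_weyl, w, inv_one]; exact mul_mem (mul_mem h1 h2) h1
    · rw [map_one]; exact one_mem _
    · intro a b ha hb; rw [map_mul]; exact mul_mem ha hb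
    · intro a ha; rw [map_inv]; exact inv_mem ha
  · rw [Subgroup.closure_le]
    rintro x (rfl | rfl)
    · exact ⟨up 1, D.hom_up 1⟩
    · refine ⟨up (-1 : ZMod p) * weyl (p := p) * up (-1 : ZMod p), ?_⟩
      rw [map_mul, map_mul, D.hom_up, D.hom_weyl, D.C_eq, inv_one]

end Data

end CfsgLib.Steinberg
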