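import Cfsg.Agent.RootSubgroups.Braid
import Cfsg.Agent.RootSubgroups.SteinbergPrime

set_option autoImplicit false

/-!
The structure of special rank one groups with abelian unipotent subgroups.
-/

namespace CfsgLib.RankOne

open Cfsg

variable {G : Type*} [Group G] {A B : Subgroup G} {p : ℕ} {a c d e : G}

theorem braid_of_partner (h : IsSpecialRankOnePair A B) {b : G} (ha : a ∈ A) (ha1 : a ≠ 1) (hb : b ∈ B)
    (hb1 : b ≠ 1) (he : conjBy A b⁻¹ = conjBy B a⁻¹) : Braid A B a b⁻¹ := by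
  refine ⟨ha, ha1, inv_mem hb, inv_ne_one.2 hb1, ?_⟩
  have hrel : b⁻¹ * a * b = a⁻¹ * b⁻¹ * a := h.2 a ha ha1 b hb hb1 he
  calc a * b⁻¹ * a = (a * (b⁻¹ * a * b)) * b⁻¹ := by group
    _ = b⁻¹ * a * b⁻¹ := by rw [hrel]; group

theorem pow_val_add [Fact p.Prime] (ha : a ^ p = 1) (x y : ZMod p) :
    a ^ (x + y).val = a ^ x.val * a ^ y.val := by
  rw [← pow_add, ZMod.val_add]; exact (pow_eq_pow_mod _ ha).symm

theorem exists_data [Fact p.Prime] (h : IsSpecialRankOnePair A B) (hA : IsMulCommutative A) (hp : a ^ p = 1)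
    (hb : Braid A B a c) : ∃ D : Steinberg.Data p G, D.A 1 = a ∧ D.C 1 = c := by
  have hc : c ^ p = 1 := hb.pow_eq_one_iff.1 hp
  refine ⟨⟨fun x => a ^ x.val, fun x => c ^ x.val, pow_val_add hp, pow_val_add hc, fun x hx => ?_⟩, by simp [ZMod.val_one], by simp [ZMod.val_one]⟩
  have hord : orderOf a = p := orderOf_eq_prime hp hb.neA
  have hx0 : x.val ≠ 0 := fun e => hx ((ZMod.val_eq_zero x).1 e)
  have hne : a ^ x.val ≠ 1 := pow_ne_one_of_lt_orderOf hx0 (hord.symm ▸ ZMod.val_lt x)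
  obtain ⟨d, hd⟩ := exists_braid h (pow_mem hb.memA x.val) hne
  have hdx : d ^ x.val = c := Braid.pow h hA x.val hb hd
  have hdp : d ^ p = 1 := hd.pow_eq_one_iff.1 (by rw [← pow_mul, mul_comm, pow_mul, hp, one_pow])
  have hde : c ^ x⁻¹.val = d := by
    rw [← hdx, ← pow_mul, pow_eq_pow_mod _ hdp]
    have h1 : x.val * x⁻¹.val ≡ 1 [MOD p] := by
      rw [← ZMod.natCast_eq_natCast_iff, Nat.cast_mul, ZMod.natCast_zmod_val, ZMod.natCast_zmod_val,
        mul_inv_cancel₀ hx, Nat.cast_one]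
    rw [show (x.val * x⁻¹.val) % p = 1 % p from h1, ← pow_eq_pow_mod _ hdp, pow_one]
  show a ^ x.val * c ^ x⁻¹.val * a ^ x.val = c ^ x⁻¹.val * a ^ x.val * c ^ x⁻¹.val
  rw [hde]; exact hd.eq

theorem center_cases [Fact p.Prime] {g : Matrix.SpecialLinearGroup (Fin 2) (ZMod p)}
    (hg : g ∈ Subgroup.center _) : g = 1 ∨ g = -1 := by
  obtain ⟨r, hr, he⟩ := Matrix.SpecialLinearGroup.mem_center_iff.1 hg
  rw [Fintype.card_fin, sq_eq_one_iff] at hr
  rcases hr with rfl | rfl
  · exact Or.inl (Subtype.ext (he.symm.trans (by ext i j; fin_cases i <;> fin_cases j <;> simp)))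
  · exact Or.inr (Subtype.ext (he.symm.trans (by ext i j; fin_cases i <;> fin_cases j <;> simp)))

theorem ker_le_center [Fact p.Prime] (D : Steinberg.Data p G) (hne : D.A 1 * D.C 1 ≠ D.C 1 * D.A 1) :
    D.hom.ker ≤ Subgroup.center _ := by
  have hX : IsRankOneGroup (Matrix.SpecialLinearGroup (Fin 2) (ZMod p)) (lowerUnipotentSL2 (ZMod p))
      (upperUnipotentSL2 (ZMod p)) := ⟨SL2Pair.sup_eq_top, SL2Pair.isRankOnePair⟩
  refine (normal_sup_or_central hX D.hom.ker).resolve_left fun htop => hne ?_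
  have hrange : D.hom.range = (lowerUnipotentSL2 (ZMod p)).map D.hom := by
    rw [MonoidHom.range_eq_map, ← htop, Subgroup.map_sup]
    exact sup_eq_right.2 (((Subgroup.map_eq_bot_iff _).2 le_rfl).trans_le bot_le)
  have hm : ∀ x ∈ ({D.A 1, D.C 1} : Set G), x ∈ (lowerUnipotentSL2 (ZMod p)).map D.hom := fun x hx => by
    rw [← hrange, D.hom_range]; exact Subgroup.subset_closure hx
  obtain ⟨u, hu, hu'⟩ := hm _ (Or.inl rfl)
  obtain ⟨v, hv, hv'⟩ := hm _ (Or.inr rfl)
  rw [← hu', ← hv', ← map_mul, ← map_mul, comm_of_abelian SL2Pair.commutative_lower hu hv]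

theorem Braid.not_commute (h : IsRankOnePair A B) (hb : Braid A B a c) : a * c ≠ c * a := by
  intro hc
  have e := hb.eq
  rw [hc] at e
  have hac : a = c := mul_left_cancel (a := c * a) (by rw [e])
  have : a ∈ A ⊓ B := ⟨hb.memA, hac ▸ hb.memB⟩
  rw [inf_eq_bot h, Subgroup.mem_bot] at this
  exact hb.neA this

theorem closure_pair_equiv [Fact p.Prime] (h : IsSpecialRankOnePair A B) (hA : IsMulCommutative A) (hp : a ^ p = 1)
    (hb : Braid A B a c) :
    Nonempty (↥(Subgroup.closure ({a, c} : Set G)) ≃* Matrix.SpecialLinearGroup (Fin 2) (ZMod p)) ∨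
    (p ≠ 2 ∧ Nonempty (↥(Subgroup.closure ({a, c} : Set G)) ≃* Matrix.ProjectiveSpecialLinearGroup (Fin 2) (ZMod p))) := by
  obtain ⟨D, hDA, hDC⟩ := exists_data h hA hp hb
  have hr : D.hom.range = Subgroup.closure ({a, c} : Set G) := by rw [D.hom_range, hDA, hDC]
  have hk := ker_le_center D (by rw [hDA, hDC]; exact hb.not_commute h.1)
  by_cases hbot : D.hom.ker = ⊥
  · exact Or.inl ⟨((MonoidHom.ofInjective ((MonoidHom.ker_eq_bot_iff _).1 hbot)).trans
      (MulEquiv.subgroupCongr hr)).symm⟩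
  · obtain ⟨g, hg, hg1⟩ := (Subgroup.bot_or_exists_ne_one _).resolve_left hbot
    have hgneg : g = -1 := (center_cases (hk hg)).resolve_left hg1
    subst hgneg
    refine Or.inr ⟨fun hp2 => hg1 ?_, ?_⟩
    · subst hp2
      ext i j
      simp [ZMod.neg_eq_self_mod_two]
    · have heq : D.hom.ker = Subgroup.center _ := le_antisymm hk fun x hx => by
        rcases center_cases hx with rfl | rfl
        · exact one_mem _
        · exact hg
      exact ⟨(((QuotientGroup.quotientMulEquivOfEq heq.symm).trans (QuotientGroup.quotientKerEquivRange D.hom)).trans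
        (MulEquiv.subgroupCongr hr)).symm⟩

theorem Swaps.mul_mem_diagonal {n m : G} (hn : Swaps A B n) (hm : Swaps A B m) :
    n * m ∈ rankOneDiagonal A B := by
  refine ⟨⟨mul_mem hn.mem hm.mem, ?_⟩, ?_⟩
  · exact conjBy_eq_self_iff.1 (by rw [← conjBy_conjBy, hm.left, hn.right])
  · exact conjBy_eq_self_iff.1 (by rw [← conjBy_conjBy, hm.right, hn.left])

theorem diagonal_commutator_le (A B : Subgroup G) : ⁅A, rankOneDiagonal A B⁆ ≤ A :=
  Subgroup.commutator_le.2 fun x hx k hk => by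
    rw [commutatorElement_def, mul_assoc x, mul_assoc x]
    exact mul_mem hx ((Subgroup.mem_normalizer_iff.1 hk.1.2 x⁻¹).1 (inv_mem hx))

theorem cube_mem (h : IsSpecialRankOnePair A B) (hA : IsMulCommutative A) (hb : Braid A B a c) (h2 : a ^ 2 ≠ 1) :
    a ^ 3 ∈ ⁅A, rankOneDiagonal A B⁆ := by
  obtain ⟨d, hd⟩ := exists_braid h (pow_mem hb.memA 2) h2
  have hdc : d ^ 2 = c := Braid.pow h hA 2 hb hd
  have hk := ((hd.swaps h.1).mul_mem_diagonal (hb.swaps h.1).inv)
  have hconj : ((a ^ 2 * d * a ^ 2) * (a * c * a)⁻¹) * a * ((a ^ 2 * d * a ^ 2) * (a * c * a)⁻¹)⁻¹ = a ^ 4 := by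
    calc _ = (a ^ 2 * d * a ^ 2) * ((a * c * a)⁻¹ * a * (a * c * a)) * (a ^ 2 * d * a ^ 2)⁻¹ := by group
      _ = (a ^ 2 * d * a ^ 2) * c * (a ^ 2 * d * a ^ 2)⁻¹ := by
          conv_lhs => arg 1; arg 2; arg 1; arg 2; rw [← hb.conj_right]
          group
      _ = a ^ 4 := by rw [← hdc, ← _root_.conj_pow, hd.conj_right, ← pow_mul]
  have hm := Subgroup.commutator_mem_commutator hb.memA hk
  rw [commutatorElement_def] at hm
  have := inv_mem hm
  convert this using 1
  calc a ^ 3 = a ^ 4 * a⁻¹ := by group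
    _ = _ := by rw [← hconj]; group

theorem eq_of_pow_prime {x : G} (hp : Nat.Coprime 3 p) (hx : x ^ p = 1) {K : Subgroup G} (h3 : x ^ 3 ∈ K) : x ∈ K := by
  have : x = x ^ ((3 : ℤ) * Nat.gcdA 3 p + (p : ℤ) * Nat.gcdB 3 p) := by
    rw [show ((3 : ℤ) * Nat.gcdA 3 p + (p : ℤ) * Nat.gcdB 3 p) = ((3 : ℕ) : ℤ) * Nat.gcdA 3 p + (p : ℤ) * Nat.gcdB 3 p
      from by norm_num, ← Nat.gcd_eq_gcd_ab, hp.gcd_eq_one, Nat.cast_one, zpow_one]
  rw [this, zpow_add, zpow_mul, zpow_mul, zpow_natCast, hx, one_zpow, mul_one]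
  exact zpow_mem (by exact_mod_cast h3) _

theorem four_le_card {K E : Subgroup G} {y : G} (hd : d ∈ K) (hy : y ∈ K) (hd1 : d ≠ 1) (hdE : d ∈ E)
    (hyE : y ∉ E) : 3 < ENat.card K := by
  by_contra hcon
  push Not at hcon
  classical
  have hfin : (({1, d, y, d * y} : Finset G) : Set G) ⊆ K := by
    intro z hz
    simp only [Finset.coe_insert, Finset.coe_singleton, Set.mem_insert_iff, Set.mem_singleton_iff] at hz
    rcases hz with rfl | rfl | rfl | rfl
    exacts [one_mem _, hd, hy, mul_mem hd hy]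
  have hy1 : y ≠ 1 := fun e => hyE (e ▸ one_mem _)
  have hdy : d ≠ y := fun e => hyE (e ▸ hdE)
  have hdy1 : d * y ≠ 1 := fun e => hyE (eq_inv_of_mul_eq_one_right e ▸ inv_mem hdE)
  have hcard : ({1, d, y, d * y} : Finset G).card = 4 := by
    rw [Finset.card_insert_of_notMem, Finset.card_insert_of_notMem, Finset.card_insert_of_notMem,
      Finset.card_singleton] <;>
      simp [Ne.symm hd1, Ne.symm hy1, Ne.symm hdy1, hdy, hd1, hy1]
  have h4 : (4 : ℕ∞) ≤ (K : Set G).encard := by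
    rw [show (4 : ℕ∞) = ((4 : ℕ) : ℕ∞) from rfl, ← hcard, ← Set.encard_coe_eq_coe_finsetCard]
    exact Set.encard_le_encard hfin
  exact absurd (h4.trans hcon) (by norm_num)

theorem three_lt_diagonal_commutator (h : IsSpecialRankOnePair A B) (hA : IsMulCommutative A)
    (h3 : 3 < ENat.card A) : 3 < ENat.card ↥⁅A, rankOneDiagonal A B⁆ := by
  rcases elementary_or_divisible h hA with ⟨p, hp, hexp⟩ | ⟨htf, -⟩
  swap
  · obtain ⟨a, ha, ha1⟩ := exists_ne_one_left h.1
    obtain ⟨c, hc⟩ := exists_braid h ha ha1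
    have hne : ∀ n : ℕ, 0 < n → a ^ n ≠ 1 := fun n hn e =>
      htf a ha ha1 (isOfFinOrder_iff_pow_eq_one.2 ⟨n, hn, e⟩)
    have hm := cube_mem h hA hc (hne 2 two_pos)
    refine lt_of_lt_of_eq (ENat.natCast_lt_top 3) (ENat.card_eq_top.2 ?_).symm
    refine Infinite.of_injective (fun n : ℕ => (⟨(a ^ 3) ^ n, pow_mem hm n⟩ : ↥⁅A, rankOneDiagonal A B⁆)) ?_
    intro n m e
    exact (injective_pow_iff_not_isOfFinOrder.2 (htf _ (pow_mem ha 3) (hne 3 (by norm_num))))
      (congrArg Subtype.val e)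
  have : Fact p.Prime := ⟨hp⟩
  by_contra hsmall
  by_cases h5 : p ≠ 2 ∧ p ≠ 3
  · apply hsmall
    have hle : A ≤ ⁅A, rankOneDiagonal A B⁆ := fun a ha => by
      by_cases ha1 : a = 1
      · rw [ha1]; exact one_mem _
      obtain ⟨c, hc⟩ := exists_braid h ha ha1
      refine eq_of_pow_prime ((Nat.coprime_primes Nat.prime_three hp).2 h5.2.symm) (hexp a ha) (cube_mem h hA hc ?_)
      intro e
      exact h5.1 ((Nat.prime_dvd_prime_iff_eq hp Nat.prime_two).1
        ((orderOf_eq_prime (hexp a ha) ha1) ▸ orderOf_dvd_of_pow_eq_one e))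
    rw [le_antisymm (diagonal_commutator_le A B) hle]
    exact h3
  have h23 : p = 2 ∨ p = 3 := by
    by_cases h2 : p = 2
    · exact Or.inl h2
    · exact Or.inr (by by_contra h3; exact h5 ⟨h2, h3⟩)
  obtain ⟨d, hd, hd1, hDE⟩ : ∃ d ∈ A, d ≠ 1 ∧ ⁅A, rankOneDiagonal A B⁆ ≤ Subgroup.zpowers d := by
    rcases Subgroup.bot_or_exists_ne_one ⁅A, rankOneDiagonal A B⁆ with hbot | ⟨d, hd, hd1⟩
    · obtain ⟨d, hd, hd1⟩ := exists_ne_one_left h.1
      exact ⟨d, hd, hd1, hbot ▸ bot_le⟩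
    · exact ⟨d, diagonal_commutator_le A B hd, hd1, fun y hy => by_contra fun hyE =>
        hsmall (four_le_card hd hy hd1 (Subgroup.mem_zpowers d) hyE)⟩
  obtain ⟨δ, hδ⟩ := exists_braid h hd hd1
  have hEcases : ∀ y ∈ Subgroup.zpowers d, y = 1 ∨ y = d ∨ y = d⁻¹ := by
    intro y hy
    obtain ⟨i, rfl⟩ := Subgroup.mem_zpowers_iff.1 hy
    have hord : orderOf d = p := orderOf_eq_prime (hexp d hd) hd1
    rw [← zpow_mod_orderOf, hord]
    have h1 := Int.emod_nonneg i (by exact_mod_cast hp.ne_zero : (p : ℤ) ≠ 0)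
    have h2 := Int.emod_lt_of_pos i (by exact_mod_cast hp.pos : (0 : ℤ) < p)
    rcases h23 with rfl | rfl
    · rcases (by omega : i % (2 : ℕ) = 0 ∨ i % (2 : ℕ) = 1) with e | e <;> rw [e]
      · exact Or.inl (zpow_zero d)
      · exact Or.inr (Or.inl (zpow_one d))
    · rcases (by omega : i % (3 : ℕ) = 0 ∨ i % (3 : ℕ) = 1 ∨ i % (3 : ℕ) = 2) with e | e | e <;> rw [e]
      · exact Or.inl (zpow_zero d)
      · exact Or.inr (Or.inl (zpow_one d))
      · exact Or.inr (Or.inr (eq_inv_of_mul_eq_one_left (by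
          rw [← zpow_add_one, show (2 : ℤ) + 1 = ((3 : ℕ) : ℤ) from rfl, zpow_natCast, hexp d hd])))
  obtain ⟨a, ha, haE⟩ : ∃ a ∈ A, a ∉ Subgroup.zpowers d := by
    obtain ⟨a, ha, e1, e2, e3⟩ := exists_notMem_of_three_lt h3 1 d d⁻¹
    exact ⟨a, ha, fun hm => by rcases hEcases a hm with e | e | e <;> contradiction⟩
  have ha1 : a ≠ 1 := fun e => haE (e ▸ one_mem _)
  obtain ⟨c, hc⟩ := exists_braid h ha ha1
  -- the two swaps agree on `A` modulo `⟨d⟩`
  have hmod : ∀ {y f : G}, Braid A B y f → ∀ x ∈ A, ∃ z ∈ Subgroup.zpowers d,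
      (y * f * y) * x * (y * f * y)⁻¹ = (d * δ * d) * (x * z) * (d * δ * d)⁻¹ := by
    intro y f hyf x hx
    have hk := ((hδ.swaps h.1).inv.mul_mem_diagonal (hyf.swaps h.1))
    have hm := hDE (Subgroup.commutator_mem_commutator (inv_mem hx) hk)
    rw [commutatorElement_def] at hm
    refine ⟨_, hm, ?_⟩
    group
  have hτd : (d * δ * d) * d * (d * δ * d)⁻¹ = δ := hδ.conj_left
  have hdx : a * d ≠ 1 := fun e => haE (eq_inv_of_mul_eq_one_left e ▸ inv_mem (Subgroup.mem_zpowers d))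
  obtain ⟨e, he⟩ := exists_braid h (mul_mem ha hd) hdx
  obtain ⟨z, hz, hzd⟩ := hmod hc d hd
  have hcase : (a * c * a) * d * (a * c * a)⁻¹ = δ ∨ (a * c * a) * d * (a * c * a)⁻¹ = δ⁻¹ := by
    rcases hEcases (d * z) (mul_mem (Subgroup.mem_zpowers d) hz) with e' | e' | e' <;> rw [e'] at hzd
    · rw [mul_one, mul_inv_cancel, conj_eq_one_iff] at hzd
      exact absurd hzd hd1
    · exact Or.inl (hzd.trans hτd)
    · refine Or.inr (hzd.trans ?_)
      rw [← conj_inv, hτd]
  have hBp : ∀ {y : G}, y ∈ B → y ^ p = 1 := fun {y} hy => by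
    have hm : (a * c * a) * y * (a * c * a)⁻¹ ∈ A := (hc.swaps h.1).right.le (conj_mem_conjBy hy)
    have := hexp _ hm
    rwa [_root_.conj_pow, conj_eq_one_iff] at this
  rcases hcase with hpos | hneg
  · have hr := hc.relation h hA hd he (hpos.symm ▸ hδ)
    have hee : e = c * e⁻¹ := he.unique_right h.1 hr
    have he2 : e * e = c := eq_mul_inv_iff_mul_eq.1 hee
    rcases h23 with rfl | rfl
    · exact hc.neB (by rw [← he2, ← sq]; exact hBp he.memB)
    · have hce : e = c⁻¹ := by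
        rw [← he2]
        refine eq_inv_of_mul_eq_one_left ?_
        have := hBp he.memB
        rwa [pow_three] at this
      have hda : a * d = a⁻¹ := (hce ▸ he).unique_left h.1 hc.inv
      apply haE
      have : d = a := by
        calc d = a⁻¹ * a⁻¹ := by rw [← mul_right_inj a, hda]; group
          _ = a := by
            have := hexp a ha
            rw [pow_three] at this
            rw [← mul_inv_rev]; exact (inv_eq_of_mul_eq_one_left this)
      exact this ▸ Subgroup.mem_zpowers d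
  · have hr := hc.relation h hA hd he (hneg.symm ▸ hδ.inv)
    let K : Subgroup G := (Subgroup.zpowers d).map (MulAut.conj (d * δ * d)).toMonoidHom
    have hKcase : ∀ y ∈ K, y = 1 ∨ y = δ ∨ y = δ⁻¹ := by
      rintro _ ⟨y, hy, rfl⟩
      simp only [MulEquiv.coe_toMonoidHom, MulAut.conj_apply]
      rcases hEcases y hy with rfl | rfl | rfl
      · left; group
      · right; left; exact hτd
      · right; right; rw [← conj_inv, hτd]
    have hcong : ∀ {y f g : G}, Braid A B y f → g ∈ Subgroup.zpowers d → y = a * g →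
        ((d * δ * d) * a * (d * δ * d)⁻¹)⁻¹ * f ∈ K := by
      intro y f g hyf hg hy
      obtain ⟨z, hz, hzy⟩ := hmod hyf y hyf.memA
      rw [hyf.conj_left] at hzy
      refine ⟨g * z, mul_mem hg hz, ?_⟩
      show (d * δ * d) * (g * z) * (d * δ * d)⁻¹ = _
      rw [hzy, hy]; group
    have k1 := hcong hc (one_mem _) (mul_one a).symm
    have k2 := hcong he (Subgroup.mem_zpowers d) rfl
    have k3 := hcong hr (inv_mem (Subgroup.mem_zpowers d)) rfl
    have hcK : c ∈ K := by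
      have h1 : e⁻¹ * c ∈ K := by
        have := mul_mem (inv_mem k2) k1
        convert this using 1; group
      have h2 : (c * e⁻¹)⁻¹ * c ∈ K := by
        have := mul_mem (inv_mem k3) k1
        convert this using 1; group
      have := mul_mem h2 h1
      convert this using 1; group
    rcases hKcase c hcK with rfl | rfl | rfl
    · exact hc.neB rfl
    · exact haE ((hc.unique_left h.1 hδ) ▸ Subgroup.mem_zpowers d)
    · exact haE ((hc.unique_left h.1 hδ.inv) ▸ inv_mem (Subgroup.mem_zpowers d))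

theorem structure_dichotomy {X : Type*} [Group X] {A B : Subgroup X} (h : IsRankOneGroup X A B)
    (hs : IsSpecialRankOnePair A B) (hA : IsMulCommutative A) :
    (ENat.card A ≤ 3 ∧ (Nonempty (X ≃* Matrix.SpecialLinearGroup (Fin 2) (ZMod 2)) ∨
        Nonempty (X ≃* Matrix.SpecialLinearGroup (Fin 2) (ZMod 3)) ∨
        Nonempty (X ≃* Matrix.ProjectiveSpecialLinearGroup (Fin 2) (ZMod 3)))) ∨
    (commutator X = ⊤ ∧ IsQuasisimple X ∧ 3 < ENat.card ↥⁅A, rankOneDiagonal A B⁆) := by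
  rcases le_or_gt (ENat.card A) 3 with h3 | h3
  · refine Or.inl ⟨h3, ?_⟩
    obtain ⟨a, ha, ha1⟩ := exists_ne_one_left hs.1
    obtain ⟨c, hc⟩ := exists_braid hs ha ha1
    have hAcyc : A ≤ Subgroup.zpowers a := fun y hy => by_contra fun hyE =>
      absurd h3 (not_le.2 (four_le_card ha hy ha1 (Subgroup.mem_zpowers a) hyE))
    have hfinA : Finite A := ENat.card_lt_top.1 (h3.trans_lt (ENat.natCast_lt_top 3))
    have hfin : IsOfFinOrder a := orderOf_pos_iff.1 (Subgroup.orderOf_mk a ha ▸ orderOf_pos _)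
    have hp := prime_orderOf hs hA ha ha1 hfin
    have hle : orderOf a ≤ 3 := by
      have h1 : orderOf a ≤ Nat.card A :=
        (Subgroup.orderOf_mk a ha) ▸ Nat.le_of_dvd Nat.card_pos (orderOf_dvd_natCard (⟨a, ha⟩ : A))
      have h2 : (Nat.card A : ℕ∞) ≤ ((3 : ℕ) : ℕ∞) := by
        rwa [← ENat.card_eq_coe_natCard]
      exact h1.trans (by exact_mod_cast h2)
    have htop : Subgroup.closure ({a, c} : Set X) = ⊤ := by
      rw [eq_top_iff, ← h.1]
      refine sup_le (hAcyc.trans ((Subgroup.zpowers_le).2 (Subgroup.subset_closure (Or.inl rfl)))) ?_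
      rw [← (hc.swaps hs.1).left]
      rintro _ ⟨y, hy, rfl⟩
      obtain ⟨i, rfl⟩ := Subgroup.mem_zpowers_iff.1 (hAcyc hy)
      show (a * c * a) * a ^ i * (a * c * a)⁻¹ ∈ Subgroup.closure ({a, c} : Set X)
      rw [← conj_zpow, hc.conj_left]
      have hm : c ∈ Subgroup.closure ({a, c} : Set X) := Subgroup.subset_closure (Or.inr rfl)
      exact zpow_mem hm i
    let E : ↥(Subgroup.closure ({a, c} : Set X)) ≃* X := (MulEquiv.subgroupCongr htop).trans Subgroup.topEquiv
    have : Fact (orderOf a).Prime := ⟨hp⟩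
    have hres := closure_pair_equiv hs hA (pow_orderOf_eq_one a) hc
    rcases (by have := hp.two_le; omega : orderOf a = 2 ∨ orderOf a = 3) with e2 | e3
    · rw [e2] at hres
      rcases hres with ⟨⟨i⟩⟩ | ⟨hne, -⟩
      · exact Or.inl ⟨E.symm.trans i⟩
      · exact absurd rfl hne
    · rw [e3] at hres
      rcases hres with ⟨⟨i⟩⟩ | ⟨-, ⟨i⟩⟩
      · exact Or.inr (Or.inl ⟨E.symm.trans i⟩)
      · exact Or.inr (Or.inr ⟨E.symm.trans i⟩)
  · have hperf : commutator X = ⊤ := by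
      have hAle : A ≤ commutator X :=
        (left_le_commutator hs hA h3).trans (Subgroup.commutator_mono le_top le_top)
      rw [eq_top_iff, ← h.1]
      refine sup_le hAle ?_
      obtain ⟨x, -, hx⟩ := exists_swap hs.1
      rw [← hx]
      rintro _ ⟨y, hy, rfl⟩
      exact (inferInstance : (commutator X).Normal).conj_mem y (hAle hy) x
    exact Or.inr ⟨hperf, isQuasisimple h ⟨hperf⟩, three_lt_diagonal_commutator hs hA h3⟩

end CfsgLib.RankOne
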