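import Cfsg.Agent.RootSubgroups.InvolutionGeneration
import Cfsg.Agent.RootSubgroups.OrderThree
import Mathlib.GroupTheory.Nilpotent

set_option autoImplicit false
set_option linter.unusedSectionVars false
set_option linter.style.haveILetI false

/-!
The isolated members among the members commuting with a fixed member of a class of root involutions.
-/

namespace CfsgLib.RootStructure

open Cfsg CfsgLib.RootInv

variable {G : Type*} [Group G] {D : Set G}

/-- The standing hypotheses. -/
structure Ctx (D : Set G) : Prop where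
  root : IsRootInvolutionSet D
  conjClass : ∀ a ∈ D, ∀ b ∈ D, ∃ g : G, b = g * a * g⁻¹
  group : ∀ d ∈ D, (sameCommutingSubgroup D d : Set G) = sameCommutingClass D d ∪ {1}

/-- The members commuting with `d` having no odd partner among these. -/
def lam (D : Set G) (d : G) : Set G :=
  {w | IsIsolatedElem (OddAdj (commutingMembers D d)) (commutingMembers D d) w}

theorem mem_lam {d w : G} : w ∈ lam D d ↔
    w ∈ commutingMembers D d ∧ ∀ v ∈ commutingMembers D d, v ≠ w → ¬ Odd (orderOf (w * v)) := by
  constructor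
  · rintro ⟨hw, h⟩
    exact ⟨hw, fun v hv hne hodd => (h v).1 ⟨hw, hv, hne.symm, hodd⟩⟩
  · rintro ⟨hw, h⟩
    refine ⟨hw, fun v => ⟨?_, ?_⟩⟩
    · rintro ⟨-, hv, hne, hodd⟩
      exact h v hv hne.symm hodd
    · rintro ⟨hv, -, hne, hodd⟩
      exact h v hv hne (by rwa [orderOf_mul_comm])

theorem lam_sub {d w : G} (h : w ∈ lam D d) : w ∈ commutingMembers D d := (mem_lam.1 h).1

theorem commute_of_mem {d w : G} (h : w ∈ commutingMembers D d) : Commute w d := h.2

/-! ### Involutions -/

theorem invol_conj (hD : IsRootInvolutionSet D) {a b : G} (hb : b ∈ D) : b * a * b⁻¹ = b * a * b := by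
  rw [inv hD hb]

theorem conj_mul (hD : IsRootInvolutionSet D) {b : G} (hb : b ∈ D) (p q : G) :
    b * (p * q) * b = (b * p * b) * (b * q * b) := by
  rw [show b * p * b * (b * q * b) = b * p * (b * b) * q * b by group, sq hD hb, mul_one]
  group

theorem conj_conj (hD : IsRootInvolutionSet D) {b : G} (hb : b ∈ D) (p : G) : b * (b * p * b) * b = p := by
  rw [show b * (b * p * b) * b = (b * b) * p * (b * b) by group, sq hD hb, one_mul, mul_one]

theorem conj_of_commute (hD : IsRootInvolutionSet D) {b p : G} (hb : b ∈ D) (h : Commute b p) :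
    b * p * b = p := by
  rw [h.eq, mul_assoc, sq hD hb, mul_one]

theorem commute_of_conj (hD : IsRootInvolutionSet D) {b p : G} (hb : b ∈ D) (h : b * p * b = p) :
    Commute b p := by
  show b * p = p * b
  conv_rhs => rw [← h]
  rw [mul_assoc _ b b, sq hD hb, mul_one]

theorem commute_conj (hD : IsRootInvolutionSet D) {b p q : G} (hb : b ∈ D) (h : Commute p q) :
    Commute (b * p * b) (b * q * b) := by
  show _ = _
  rw [← conj_mul hD hb, ← conj_mul hD hb, h.eq]

/-- An element of `D` with square product in `D` gives a product of order four. -/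
theorem four_of_sq (hD : IsRootInvolutionSet D) {a b c : G} (hc : c ∈ D) (h : (a * b) ^ 2 = c) :
    orderOf (a * b) = 4 := by
  haveI : Fact (Nat.Prime 2) := ⟨Nat.prime_two⟩
  have := orderOf_eq_prime_pow (p := 2) (n := 1) (x := a * b)
    (by rw [pow_one, h]; exact ne_one hD hc)
    (by rw [show 2 ^ (1 + 1) = 2 * 2 by norm_num, pow_mul, h, pow_two, sq hD hc])
  simpa using this

theorem four_symm (hD : IsRootInvolutionSet D) {a b : G} (ha : a ∈ D) (hb : b ∈ D)
    (h4 : orderOf (a * b) = 4) : orderOf (b * a) = 4 ∧ (b * a) ^ 2 = (a * b) ^ 2 := by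
  refine ⟨by rw [orderOf_mul_comm]; exact h4, ?_⟩
  rw [show b * a = (a * b)⁻¹ by rw [mul_inv_rev, inv hD ha, inv hD hb], inv_pow,
    inv hD (four hD ha hb h4).1]

theorem conj_eq_of_sq (hD : IsRootInvolutionSet D) {a b c : G} (ha : a ∈ D) (h : (a * b) ^ 2 = c) :
    b * a * b = a * c := by
  rw [← h, pow_two, show a * (a * b * (a * b)) = a * a * b * a * b by group, sq hD ha, one_mul]

theorem pow_four_of_pair (hD : IsRootInvolutionSet D) {a b : G} (ha : a ∈ D) (hb : b ∈ D)
    (h : ¬ (Odd (orderOf (a * b)) ∧ a ≠ b)) : (a * b) ^ 4 = 1 := by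
  rcases hD.pair a ha b hb with e | e | e
  · rw [show (4 : ℕ) = 2 * 2 by norm_num, pow_mul, (sq_mul_eq_one_iff hD ha hb).2 e, one_pow]
  · have : a = b := by by_contra hne; exact h ⟨e, hne⟩
    rw [this, sq hD hb, one_pow]
  · rw [← e.1]; exact pow_orderOf_eq_one _

/-! ### Classes -/

theorem class_mem {a b : G} (h : b ∈ sameCommutingClass D a) :
    b ∈ D ∧ commutingMembers D b = commutingMembers D a := ⟨h.1, h.2.symm⟩

theorem class_self {a : G} (ha : a ∈ D) : a ∈ sameCommutingClass D a := ⟨ha, rfl⟩

theorem class_commute {a b u : G} (h : commutingMembers D a = commutingMembers D b) (hu : u ∈ D) :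
    Commute u a ↔ Commute u b :=
  ⟨fun e => (show u ∈ commutingMembers D b from h ▸ (⟨hu, e⟩ : u ∈ commutingMembers D a)).2,
    fun e => (show u ∈ commutingMembers D a from h ▸ (⟨hu, e⟩ : u ∈ commutingMembers D b)).2⟩

theorem class_eq {a b : G} (h : commutingMembers D a = commutingMembers D b) :
    sameCommutingClass D a = sameCommutingClass D b := by
  simp only [sameCommutingClass, h]

theorem group_eq {a b : G} (h : commutingMembers D a = commutingMembers D b) :
    sameCommutingSubgroup D a = sameCommutingSubgroup D b := by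
  simp only [sameCommutingSubgroup, class_eq h]

theorem lam_eq {a b : G} (h : commutingMembers D a = commutingMembers D b) : lam D a = lam D b := by
  simp only [lam, h]

theorem mem_commuting_conj (hD : IsRootInvolutionSet D) {a u : G} (g : G) :
    u ∈ commutingMembers D (g * a * g⁻¹) ↔ g⁻¹ * u * g ∈ commutingMembers D a := by
  constructor
  · rintro ⟨hu, hc⟩
    refine ⟨by simpa using hD.conj_mem u hu g⁻¹, ?_⟩
    rw [show g⁻¹ * u * g * a = g⁻¹ * (u * (g * a * g⁻¹)) * g by group, hc]
    group
  · rintro ⟨hu, hc⟩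
    refine ⟨by simpa [mul_assoc] using hD.conj_mem _ hu g, ?_⟩
    rw [show u * (g * a * g⁻¹) = g * (g⁻¹ * u * g * a) * g⁻¹ by group, hc]
    group

theorem class_conj (hD : IsRootInvolutionSet D) {a b : G}
    (h : commutingMembers D a = commutingMembers D b) (g : G) :
    commutingMembers D (g * a * g⁻¹) = commutingMembers D (g * b * g⁻¹) := by
  ext u
  rw [mem_commuting_conj hD, mem_commuting_conj hD, h]

theorem class_conj_invol (hD : IsRootInvolutionSet D) {a b c : G} (hc : c ∈ D)
    (h : commutingMembers D a = commutingMembers D b) :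
    commutingMembers D (c * a * c) = commutingMembers D (c * b * c) := by
  have := class_conj hD h c
  rwa [inv hD hc] at this

theorem lam_conj (hD : IsRootInvolutionSet D) {d w : G} (g : G) (h : w ∈ lam D d) :
    g * w * g⁻¹ ∈ lam D (g * d * g⁻¹) := by
  obtain ⟨hw, h⟩ := mem_lam.1 h
  refine mem_lam.2 ⟨(mem_commuting_conj hD g).2 (by simpa [mul_assoc] using hw), fun v hv hne hodd => ?_⟩
  refine h _ ((mem_commuting_conj hD g).1 hv) (fun e => hne (by rw [← e]; group)) ?_
  rwa [show w * (g⁻¹ * v * g) = g⁻¹ * (g * w * g⁻¹ * v) * g⁻¹⁻¹ by group, Invol.orderOf_conj_eq]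

variable [Finite G] (K : Ctx D)

include K

theorem oddPartners_of_class {a b : G} (ha : a ∈ D) (hb : b ∈ D)
    (h : commutingMembers D a = commutingMembers D b) : oddPartners D a = oddPartners D b :=
  (sameCommuting_iff K.root K.conjClass ha hb).1 h

/-- Members of one class agree on products of order four. -/
theorem four_class {a b u : G} (ha : a ∈ D) (hb : b ∈ D) (hu : u ∈ D)
    (h : commutingMembers D a = commutingMembers D b) (h4 : orderOf (a * u) = 4) :
    orderOf (b * u) = 4 := by
  have hnc := not_commute_of_four K.root ha hu h4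
  refine four_of K.root hb hu (fun e => hnc ((class_commute h hu).2 e.symm).symm.eq) fun hodd => ?_
  by_cases hub : u = b
  · exact hnc ((class_commute h hu).2 (hub ▸ Commute.refl u)).symm.eq
  · have hm : u ∈ oddPartners D b := ⟨hu, hub, hodd⟩
    rw [← oddPartners_of_class K ha hb h] at hm
    have := hm.2.2
    rw [h4] at this
    exact absurd this (by decide)

theorem self_lam {d : G} (hd : d ∈ D) : d ∈ lam D d :=
  mem_lam.2 ⟨⟨hd, rfl⟩, fun _ hv hne hodd => not_commute_of_odd K.root hd hv.1 hne.symm hodd hv.2.symm⟩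

theorem lam_of_class {a b d : G} (ha : a ∈ commutingMembers D d) (hb : b ∈ lam D d)
    (h : commutingMembers D a = commutingMembers D b) : a ∈ lam D d := by
  obtain ⟨hb', hiso⟩ := mem_lam.1 hb
  refine mem_lam.2 ⟨ha, fun v hv hne hodd => ?_⟩
  have hm : v ∈ oddPartners D a := ⟨hv.1, hne, hodd⟩
  rw [oddPartners_of_class K ha.1 hb'.1 h] at hm
  exact hiso v hv hm.2.1 hm.2.2

theorem class_lam {d k : G} (hd : d ∈ D) (h : k ∈ sameCommutingClass D d) : k ∈ lam D d :=
  lam_of_class K (by rw [h.2]; exact ⟨h.1, rfl⟩) (self_lam K hd) h.2.symm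

theorem line_lam {d u : G} (h : Line D d u) : u ∈ lam D d := by
  refine mem_lam.2 ⟨⟨h.mem', h.comm.symm.eq⟩, fun v hv hne hodd => ?_⟩
  rw [orderOf_mul_comm] at hodd
  exact line_not_commute K.root (line_symm K.root h) hv.1 hne hodd hv.2

theorem mem_group {d : G} (hd : d ∈ D) {k : G} :
    k ∈ sameCommutingSubgroup D d ↔ k ∈ sameCommutingClass D d ∨ k = 1 := by
  rw [← SetLike.mem_coe, K.group d hd]
  simp [or_comm]

theorem class_commute_members {d k u : G} (hk : k ∈ sameCommutingClass D d)
    (hu : u ∈ commutingMembers D d) : Commute k u :=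
  ((class_commute hk.2.symm hu.1).2 hu.2).symm

theorem group_commute_members {d k u : G} (hd : d ∈ D) (hk : k ∈ sameCommutingSubgroup D d)
    (hu : u ∈ commutingMembers D d) : Commute k u := by
  rcases (mem_group K hd).1 hk with h | rfl
  · exact class_commute_members K h hu
  · exact Commute.one_left u

theorem group_sq {d k : G} (hd : d ∈ D) (hk : k ∈ sameCommutingSubgroup D d) : k * k = 1 := by
  rcases (mem_group K hd).1 hk with h | rfl
  · exact sq K.root h.1
  · exact one_mul 1

/-- An element of the class group centralised by a member outside the centraliser is trivial. -/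
theorem group_eq_one {d k x : G} (hd : d ∈ D) (hx : x ∈ D) (hxd : ¬ Commute x d)
    (hk : k ∈ sameCommutingSubgroup D d) (h : Commute x k) : k = 1 := by
  rcases (mem_group K hd).1 hk with h' | h'
  · exact absurd ((class_commute h'.2 hx).2 h) hxd
  · exact h'

theorem class_mul {d k k' : G} (hd : d ∈ D) (hk : k ∈ sameCommutingClass D d)
    (hk' : k' ∈ sameCommutingClass D d) (hne : k ≠ k') : k * k' ∈ sameCommutingClass D d := by
  rcases (mem_group K hd).1 (mul_mem (Subgroup.subset_closure hk) (Subgroup.subset_closure hk')) with h | h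
  · exact h
  · rw [mul_eq_one_iff_eq_inv, inv K.root hk'.1] at h
    exact absurd h hne

/-! ### The subgroup generated by the isolated members -/

theorem lam_pair {d w u : G} (hw : w ∈ lam D d) (hu : u ∈ commutingMembers D d)
    (hnc : ¬ Commute w u) : orderOf (w * u) = 4 := by
  obtain ⟨hw', hiso⟩ := mem_lam.1 hw
  exact four_of K.root hw'.1 hu.1 hnc fun hodd => hiso u hu (fun e => hnc (e ▸ Commute.refl w)) hodd

theorem lam_pow_four {d w u : G} (hw : w ∈ lam D d) (hu : u ∈ commutingMembers D d) : (w * u) ^ 4 = 1 := by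
  obtain ⟨hw', hiso⟩ := mem_lam.1 hw
  exact pow_four_of_pair K.root hw'.1 hu.1 fun h => hiso u hu h.2.symm h.1

theorem lam_conj_member {d w u : G} (hw : w ∈ lam D d) (hu : u ∈ commutingMembers D d) :
    u * w * u ∈ lam D d := by
  have h := lam_conj K.root u hw
  rw [inv K.root hu.1, conj_of_commute K.root hu.1 (show Commute u d from hu.2)] at h
  exact h

/-- `⟨Λ⟩` meets the members commuting with `d` in `Λ`, and is a nilpotent group. -/
theorem closure_lam {d : G} (hd : d ∈ D) :
    (∀ p ∈ Subgroup.closure (lam D d), p ∈ commutingMembers D d → p ∈ lam D d) ∧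
    Group.IsNilpotent (Subgroup.closure (lam D d)) := by
  set H := Subgroup.closure (commutingMembers D d)
  let D' : Set H := {w : H | (w : G) ∈ commutingMembers D d}
  have hord : ∀ x : H, orderOf (x : G) = orderOf x := fun x =>
    orderOf_injective H.subtype (Subgroup.subtype_injective H) x
  have hcd : ∀ g : H, Commute (g : G) d := fun g => by
    refine Subgroup.mem_centralizer_singleton_iff.1
      ((Subgroup.closure_le (Subgroup.centralizer ({d} : Set G))).2 ?_ g.2)
    intro u hu
    exact Subgroup.mem_centralizer_singleton_iff.2 hu.2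
  have hD' : IsRootInvolutionSet D' := by
    refine ⟨fun w hw => by rw [← hord]; exact K.root.orderOf_eq _ hw.1, ?_, fun w hw g => ?_,
      fun a ha b hb => ?_⟩
    · exact Subgroup.closure_closure_coe_preimage
    · refine ⟨K.root.conj_mem _ hw.1 (g : G), ?_⟩
      show ((g : G) * (w : G) * (g : G)⁻¹) * d = d * ((g : G) * (w : G) * (g : G)⁻¹)
      exact (((hcd g).mul_left (show Commute (w : G) d from hw.2)).mul_left (hcd g).inv_left).eq
    · rcases K.root.pair _ ha.1 _ hb.1 with h | h | ⟨h4, hs⟩
      · exact Or.inl (Subtype.ext h)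
      · exact Or.inr (Or.inl (by rw [← hord, Subgroup.coe_mul]; exact h))
      · refine Or.inr (Or.inr ⟨by rw [← hord, Subgroup.coe_mul]; exact h4, ?_⟩)
        refine ⟨by simpa using hs, ?_⟩
        show (((a * b) ^ 2 : H) : G) * d = d * (((a * b) ^ 2 : H) : G)
        exact (hcd _).eq
  have hW : Subtype.val '' {w | IsIsolatedElem (OddAdj D') D' w} = lam D d := by
    ext w
    constructor
    · rintro ⟨w', ⟨hw', hiso⟩, rfl⟩
      refine mem_lam.2 ⟨hw', fun v hv hne hodd => ?_⟩
      refine (hiso ⟨v, Subgroup.subset_closure hv⟩).1 ⟨hw', hv, fun e => hne (by rw [e]), ?_⟩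
      rw [← hord]; exact hodd
    · intro hw
      obtain ⟨hw', hiso⟩ := mem_lam.1 hw
      refine ⟨⟨w, Subgroup.subset_closure hw'⟩, ⟨hw', fun v => ⟨?_, ?_⟩⟩, rfl⟩
      · rintro ⟨-, hv, hne, hodd⟩
        refine hiso v hv (fun e => hne (Subtype.ext e.symm)) ?_
        rw [← hord] at hodd; exact hodd
      · rintro ⟨hv, -, hne, hodd⟩
        refine hiso v hv (fun e => hne (Subtype.ext e)) ?_
        rw [← hord, Subgroup.coe_mul, orderOf_mul_comm] at hodd; exact hodd
  obtain ⟨-, -, hp, hinter, -, -⟩ := isolated_main hD'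
  have hmap : (Subgroup.closure {w | IsIsolatedElem (OddAdj D') D' w}).map H.subtype =
      Subgroup.closure (lam D d) := by
    rw [MonoidHom.map_closure]; exact congrArg _ hW
  refine ⟨fun p hp' hpm => ?_, ?_⟩
  · rw [← hmap] at hp'
    obtain ⟨q, hq, rfl⟩ := hp'
    rw [← hW]
    refine ⟨q, ?_, rfl⟩
    rw [← hinter]
    exact ⟨hq, hpm⟩
  · rw [← hmap]
    haveI : Fact (Nat.Prime 2) := ⟨Nat.prime_two⟩
    exact (hp.map H.subtype).isNilpotent

theorem closure_lam_commute {d q : G} (hq : q ∈ Subgroup.closure (lam D d)) : Commute q d := by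
  refine Subgroup.mem_centralizer_singleton_iff.1 ((Subgroup.closure_le _).2 ?_ hq)
  intro u hu
  exact Subgroup.mem_centralizer_singleton_iff.2 (lam_sub hu).2

theorem lam_of_mem {d p : G} (hd : d ∈ D) (hp : p ∈ Subgroup.closure (lam D d)) (hpD : p ∈ D) :
    p ∈ lam D d :=
  (closure_lam K hd).1 p hp ⟨hpD, (closure_lam_commute K hp).eq⟩

theorem sq_mem_closure {d w u : G} (hw : w ∈ lam D d) (hu : u ∈ commutingMembers D d) :
    (w * u) ^ 2 ∈ Subgroup.closure (lam D d) := by
  rw [pow_two, show w * u * (w * u) = w * (u * w * u) by group]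
  exact mul_mem (Subgroup.subset_closure hw) (Subgroup.subset_closure (lam_conj_member K hw hu))

end CfsgLib.RootStructure
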