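import Cfsg.Agent.RootSubgroups.StructurePivot

set_option autoImplicit false
set_option linter.unusedSectionVars false

/-!
Commutators of isolated members with the companions of a pivot.
-/

namespace CfsgLib.RootStructure

open Cfsg CfsgLib.RootInv

variable {G : Type*} [Group G] {D : Set G}

/-- A member on lines with `d` and `e`, the product with `d` again on a line with `e`. -/
structure Side (D : Set G) (d e u : G) : Prop where
  mem : u ∈ commutingMembers D d
  ue : Line D u e
  du : Line D d u
  ude : Line D (u * d) e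

/-- In a line through `k` the orbit of `k` under a pair with product of order three. -/
theorem orb_shift (hD : IsRootInvolutionSet D) {o a k : G} (hok : Line D o k) (ha : a ∈ D)
    (h3 : orderOf (o * a) = 3) (h4 : orderOf (k * a) = 4) :
    o * (a * k * a) * o = k * (a * k * a) := by
  obtain ⟨-, -, -, haka, -⟩ := four hD hok.mem' ha h4
  rw [haka, (orbit hD (line_symm hD hok) ha h3 h4).2, ← mul_assoc, sq hD hok.mem', one_mul]

variable [Finite G] (K : Ctx D) {d e x u : G} (P : Pivot D d e x) (S : Side D d e u)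

include K P

theorem class_ne_pivot {k : G} (hk : k ∈ sameCommutingClass D d) :
    commutingMembers D k ≠ commutingMembers D e := by
  intro h
  have he := (lam_sub P.me).1
  have := four_class K hk.1 he P.mx h (four_class K P.md hk.1 P.mx hk.2 P.four)
  rw [P.three] at this
  omega

/-- A member interchanging the class of `d` with `e`. -/
theorem mirror {k : G} (hk : k ∈ sameCommutingClass D d) :
    ∃ a ∈ D, Commute a e ∧ a * k * a = k * e ∧ orderOf ((k * x) ^ 2 * a) = 3 ∧
      orderOf (k * a) = 4 ∧ orderOf (d * a) = 4 := by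
  have hD := K.root
  obtain ⟨h4, hsq, -, -⟩ := pivot_shift K P hk
  obtain ⟨-, -, -, -, ho, -⟩ := companion K P hk
  have h' := four_symm hD (lam_sub P.me).1 (lam_sub ho).1 h4
  obtain ⟨a, ha, hae, haka, h3, hka, -⟩ := exists_three K (lam_sub ho).1 (lam_sub P.me).1 hk.1
    (h'.2.trans hsq) (class_ne_pivot K P hk)
  exact ⟨a, ha, hae, haka, h3, hka, four_class K hk.1 P.md ha hk.2.symm hka⟩

theorem mirror_swap {k a : G} (hk : k ∈ sameCommutingClass D d) (ha : a ∈ D) (hae : Commute a e)
    (haka : a * k * a = k * e) :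
    ((k * x) ^ 2 * a * (k * x) ^ 2) * e * ((k * x) ^ 2 * a * (k * x) ^ 2) = k ∧
    ((k * x) ^ 2 * a * (k * x) ^ 2) * k * ((k * x) ^ 2 * a * (k * x) ^ 2) = e := by
  have hD := K.root
  have he := (lam_sub P.me).1
  obtain ⟨h4, hsq, -, hek⟩ := pivot_shift K P hk
  obtain ⟨-, hl, -, -, ho, -⟩ := companion K P hk
  set o := (k * x) ^ 2
  have hoD := (lam_sub ho).1
  have hoe : o * e * o = e * k := conj_eq_of_sq hD he hsq
  have hok : o * k * o = k := conj_of_commute hD hoD hl.comm.symm
  have h1 : a * e * a = e := conj_of_commute hD ha hae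
  constructor
  · rw [show o * a * o * e * (o * a * o) = o * (a * (o * e * o) * a) * o by group, hoe, conj_mul hD ha,
      h1, haka, hek.comm.symm.eq, ← mul_assoc e e k, sq hD he, one_mul, hok]
  · rw [show o * a * o * k * (o * a * o) = o * (a * (o * k * o) * a) * o by group, hok, haka,
      conj_mul hD hoD, hok, hoe, hek.comm.eq, ← mul_assoc, sq hD hk.1, one_mul]

include S

theorem side_four (h4 : orderOf (u * x) = 4) :
    Commute u ((d * x) ^ 2) ∧ Commute ((u * x) ^ 2) d := by
  have hD := K.root
  have he := (lam_sub P.me).1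
  have hd := P.md
  have hu := S.mem.1
  obtain ⟨hy, hdy, hxy, hxdx, -⟩ := four hD hd P.mx P.four
  obtain ⟨hσ, huσ, hxσ, hxux, -⟩ := four hD hu P.mx h4
  have hed := (pivot_shift K P (class_self hd)).2.2.2
  have hcud : Commute u d := S.du.comm.symm
  have hldd : Line D (u * d) d :=
    ⟨S.ude.mem, hd, hcud.mul_left (Commute.refl d), by rw [mul_assoc, sq hD hd, mul_one]; exact hu⟩
  have hxud : orderOf (u * d * x) = 4 := by
    refine four_of hD S.ude.mem P.mx (fun h => ?_) (fun hodd => ?_)
    · exact line_not_commute hD (line_symm hD S.ude) P.mx (ne_of_three hD P.mx P.three).symm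
        (odd_of_three P.three) h.symm
    · have hne : x ≠ u * d := fun h => by
        refine line_not_commute hD (line_symm hD S.ude) P.mx (ne_of_three hD P.mx P.three).symm
          (odd_of_three P.three) ?_
        rw [← h]
      rw [orderOf_mul_comm] at hodd
      rcases line_odd_or hD hldd P.mx hne hodd with h | h
      · rw [orderOf_mul_comm, P.four] at h; exact absurd h (by decide)
      · rw [mul_assoc, sq hD hd, mul_one, orderOf_mul_comm, h4] at h; exact absurd h (by decide)
  obtain ⟨-, h2⟩ := orbit hD S.ude P.mx P.three hxud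
  obtain ⟨-, hu2⟩ := orbit hD S.ue P.mx P.three h4
  obtain ⟨-, hd2⟩ := orbit hD (line_symm hD hed) P.mx P.three P.four
  obtain ⟨-, -, -, hxudx, -⟩ := four hD S.ude.mem P.mx hxud
  set σ := (u * x) ^ 2
  set y := (d * x) ^ 2
  set τ := (u * d * x) ^ 2
  have e1 : u * d * τ = (u * σ) * (d * y) := by rw [← hxudx, conj_mul hD P.mx, hxux, hxdx]
  have e2 : τ = σ * y := by rw [← h2, e1, conj_mul hD he, hu2, hd2]
  have e3 : d * σ * d = σ := by
    have h : u * d * (u * σ) * d * y = σ * y := by
      calc u * d * (u * σ) * d * y = u * d * ((u * σ) * (d * y)) := by group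
        _ = u * d * (u * d * τ) := by rw [e1]
        _ = (u * d) * (u * d) * τ := by group
        _ = σ * y := by rw [sq hD S.ude.mem, one_mul, e2]
    have h' := mul_right_cancel h
    rwa [show u * d * (u * σ) * d = (u * d * u) * σ * d by group, conj_of_commute hD hu hcud] at h'
  have hdσ := commute_of_conj hD hd e3
  have hσdy : Commute σ (x * d * x) := by
    have := commute_conj hD P.mx hdσ
    rw [conj_of_commute hD P.mx hxσ] at this
    exact this.symm
  have hu1 : Commute (u * σ) (x * d * x) := by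
    have := commute_conj hD P.mx hcud
    rwa [hxux] at this
  have hudy : Commute u (x * d * x) := by
    have := hu1.mul_left hσdy
    rwa [mul_assoc, sq hD hσ, mul_one] at this
  refine ⟨?_, hdσ.symm⟩
  have := hcud.mul_right hudy
  rwa [hxdx, ← mul_assoc, sq hD hd, one_mul] at this

/-- When `u` has no product of order four with `x`, it moves every companion. -/
theorem side_odd (h4 : orderOf (u * x) ≠ 4) :
    (u ≠ x ∧ Odd (orderOf (u * x))) ∧
      ∀ k ∈ sameCommutingClass D d, ¬ Commute u ((k * x) ^ 2) ∧ orderOf (u * (k * x) ^ 2) = 4 := by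
  have hD := K.root
  have hu := S.mem.1
  have hnc : ¬ Commute u x := fun h =>
    line_not_commute hD (line_symm hD S.ue) P.mx (ne_of_three hD P.mx P.three).symm
      (odd_of_three P.three) h.symm.eq
  have hne : u ≠ x := fun h => hnc (h ▸ Commute.refl u)
  have hodd : Odd (orderOf (u * x)) := by
    by_contra h
    exact h4 (four_of hD hu P.mx hnc h)
  refine ⟨⟨hne, hodd⟩, fun k hk => ?_⟩
  have hy : ¬ Commute u ((d * x) ^ 2) := fun h =>
    line_not_commute hD (companion K P (class_self P.md)).2.2.1 hu hne hodd h.eq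
  obtain ⟨-, -, -, -, ho, -⟩ := companion K P hk
  have hnco : ¬ Commute u ((k * x) ^ 2) := fun h =>
    hy ((class_commute (companion_class K P hk) hu).1 h)
  exact ⟨hnco, (four_symm hD (lam_sub ho).1 hu (lam_pair K ho S.mem (fun h => hnco h.symm))).1⟩

omit S in
theorem companion_mul {k k' : G} (hk : k ∈ sameCommutingClass D d) (hk' : k' ∈ sameCommutingClass D d) :
    (k * k' * x) ^ 2 = (k * x) ^ 2 * (k' * x) ^ 2 := by
  have hD := K.root
  obtain ⟨-, -, -, hxk, ho, -⟩ := companion K P hk
  obtain ⟨-, -, -, hxk', -, -⟩ := companion K P hk'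
  have c1 : Commute k' ((k * x) ^ 2) := class_commute_members K hk' (lam_sub ho)
  have c2 : Commute k k' := class_commute_members K hk (lam_sub (class_lam K P.md hk'))
  set o := (k * x) ^ 2
  set o' := (k' * x) ^ 2
  rw [pow_two, show k * k' * x * (k * k' * x) = k * k' * (x * (k * k') * x) by group, conj_mul hD P.mx,
    hxk, hxk', show k * k' * (k * o * (k' * o')) = (k * k' * k) * (o * k') * o' by group, ← c1.eq,
    conj_of_commute hD hk.1 c2,
    show k' * (k' * o) * o' = (k' * k') * (o * o') by group, sq hD hk'.1, one_mul]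

/-- The commutator with a companion, and the element commuting with `x` and `u` it determines. -/
theorem side_commutator (h4 : orderOf (u * x) ≠ 4) {k : G} (hk : k ∈ sameCommutingClass D d) :
    (u * (k * x) ^ 2) ^ 2 ∈ D ∧ Line D u ((u * (k * x) ^ 2) ^ 2) ∧
      Line D ((k * x) ^ 2) ((u * (k * x) ^ 2) ^ 2) ∧ (u * (k * x) ^ 2) ^ 2 ∈ lam D d ∧
      orderOf ((u * (k * x) ^ 2) ^ 2 * x) = 4 ∧
      ∃ k'' ∈ sameCommutingClass D d, Commute x ((u * (k * x) ^ 2) ^ 2 * k'') := by
  have hD := K.root
  have he := (lam_sub P.me).1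
  have hu := S.mem.1
  obtain ⟨⟨hux, hodd⟩, hall⟩ := side_odd K P S h4
  -- facts for every member of the class
  have facts : ∀ k ∈ sameCommutingClass D d, (u * (k * x) ^ 2) ^ 2 ∈ lam D d ∧
      Line D u ((u * (k * x) ^ 2) ^ 2) ∧ Line D ((k * x) ^ 2) ((u * (k * x) ^ 2) ^ 2) ∧
      x * (u * (x * k * x) * u) * x = k * (x * (u * (k * x) ^ 2) ^ 2 * x) := by
    intro k hk
    obtain ⟨-, hno4⟩ := hall k hk
    obtain ⟨-, hl, hxo, hxkx, ho, -⟩ := companion K P hk
    obtain ⟨hz, -, hoz, -, hluz⟩ := four hD hu (lam_sub ho).1 hno4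
    have hzl : (u * (k * x) ^ 2) ^ 2 ∈ lam D d := by
      refine lam_of_mem K P.md ?_ hz
      rw [(four_symm hD (lam_sub ho).1 hu (by rw [orderOf_mul_comm]; exact hno4)).2]
      exact sq_mem_closure K ho S.mem
    have hloz := line_second hD hu (lam_sub ho).1 hno4
    refine ⟨hzl, hluz, hloz, ?_⟩
    set o := (k * x) ^ 2
    set z := (u * o) ^ 2 with hzdef
    have huou : u * o * u = z * o := by
      rw [hzdef, pow_two, show u * o * (u * o) * o = u * o * u * (o * o) by group,
        sq hD (lam_sub ho).1, mul_one]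
    have c1 : Commute o (x * z * x) := by
      have := commute_conj hD P.mx hloz.comm
      rwa [conj_of_commute hD P.mx hxo.comm] at this
    rw [hxkx, conj_mul hD hu, conj_of_commute hD hu (class_commute_members K hk S.mem).symm, huou,
      show x * (k * (z * o)) * x = x * (k * z * o) * x by group, conj_mul hD P.mx, conj_mul hD P.mx,
      hxkx, conj_of_commute hD P.mx hxo.comm,
      show k * o * (x * z * x) * o = k * (o * (x * z * x) * o) by group,
      conj_of_commute hD (lam_sub ho).1 c1]
  obtain ⟨hzl, hluz, hloz, hk2⟩ := facts k hk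
  obtain ⟨hzdl, -, hldz, hd2⟩ := facts d (class_self P.md)
  obtain ⟨hkx, hl, hxo, hxkx, ho, -⟩ := companion K P hk
  obtain ⟨-, -, heo, hek⟩ := pivot_shift K P hk
  obtain ⟨-, -, -, hxdx, hy, -⟩ := companion K P (class_self P.md)
  set o := (k * x) ^ 2
  set z := (u * o) ^ 2 with hzdef
  have hzD := (lam_sub hzl).1
  -- `e` fixes `z`
  have hez : e * z * e = z := by
    have e1 : e * (u * o) * e = k * (u * o) := by
      rw [conj_mul hD he, conj_of_commute hD he S.ue.comm.symm, heo, ← mul_assoc,
        (class_commute_members K hk S.mem).symm.eq, mul_assoc]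
    have hc : Commute k (u * o) := (class_commute_members K hk S.mem).mul_right hl.comm
    rw [hzdef, pow_two, conj_mul hD he, e1, ← pow_two, hc.mul_pow, pow_two k, sq hD hk.1, one_mul,
      pow_two]
  -- `x` moves `z`
  have hzx : orderOf (z * x) = 4 := by
    refine four_of hD hzD P.mx (fun h => ?_) (fun h => ?_)
    · exact line_not_commute hD hluz P.mx hux.symm (by rw [orderOf_mul_comm]; exact hodd) h.symm
    · refine line_not_commute hD (line_symm hD hloz) P.mx ?_ (by rw [orderOf_mul_comm]; exact h)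
        hxo.comm.eq
      intro e'
      exact line_not_commute hD hluz P.mx hux.symm (by rw [orderOf_mul_comm]; exact hodd) (by rw [e'])
  -- `xzx` is a product of isolated members
  have hxdD : x * d * x ∈ D := conj hD P.md P.mx
  set d2 := x * (u * (x * d * x) * u) * x with hd2def
  have hd2D : d2 ∈ D := conj hD (conj hD hxdD hu) P.mx
  have hcd2 : Commute d d2 := by
    rw [hd2]
    refine (Commute.refl d).mul_right ?_
    have h1 : Commute (x * d * x) ((u * (d * x) ^ 2) ^ 2) := by
      rw [hxdx]
      exact (show Commute d _ from (lam_sub hzdl).2.symm).mul_left hldz.comm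
    have := commute_conj hD P.mx h1
    rwa [conj_conj hD P.mx] at this
  have hd2l : d2 ∈ lam D d := by
    refine line_lam K ⟨P.md, hd2D, hcd2, ?_⟩
    rw [hd2, ← mul_assoc, sq hD P.md, one_mul]
    exact conj hD (lam_sub hzdl).1 P.mx
  set k2 := x * (u * (x * k * x) * u) * x with hk2def
  have hk2c : commutingMembers D k2 = commutingMembers D d2 :=
    class_conj_invol hD P.mx (class_conj_invol hD hu (class_conj_invol hD P.mx hk.2.symm))
  have hk2D : k2 ∈ D := conj hD (conj hD (conj hD hk.1 P.mx) hu) P.mx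
  have hk2l : k2 ∈ lam D d := by
    refine lam_of_class K ⟨hk2D, ?_⟩ hd2l hk2c
    exact ((class_commute hk2c P.md).2 hcd2).symm.eq
  have hxzx : x * z * x ∈ Subgroup.closure (lam D d) := by
    have e1 : x * z * x = k * k2 := by rw [hk2, ← mul_assoc, sq hD hk.1, one_mul]
    rw [e1]
    exact mul_mem (Subgroup.subset_closure (class_lam K P.md hk)) (Subgroup.subset_closure hk2l)
  obtain ⟨ho'D, hzo', hxo', hxzx', -⟩ := four hD hzD P.mx hzx
  have hlxo' : Line D x ((z * x) ^ 2) := line_second hD hzD P.mx hzx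
  set o' := (z * x) ^ 2
  have ho'l : o' ∈ lam D d := by
    refine lam_of_mem K P.md ?_ ho'D
    have e1 : o' = z * (x * z * x) := by rw [hxzx', ← mul_assoc, sq hD hzD, one_mul]
    rw [e1]
    exact mul_mem (Subgroup.subset_closure hzl) hxzx
  have heo' := lam_pair K P.me (lam_sub ho'l) (fun h =>
    line_not_commute hD hlxo' he (ne_of_three hD P.mx P.three) (by rw [P.three]; decide) h.eq)
  have hk''D : (e * o') ^ 2 ∈ D := (four hD he ho'D heo').1
  set k'' := (e * o') ^ 2 with hk''def
  have hk'' : k'' ∈ sameCommutingClass D d :=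
    ((mem_group K P.md).1 (P.ec o' ho'l)).resolve_right (ne_one hD hk''D)
  refine ⟨hzD, hluz, hloz, hzl, hzx, k'', hk'', ?_⟩
  have hbr := braid hD he P.mx P.three
  have hfix : x * (e * (x * z * x) * e) * x = e * (x * z * x) * e := by
    rw [show x * (e * (x * z * x) * e) * x = (x * e * x) * z * (x * e * x) by group, ← hbr,
      show e * x * e * z * (e * x * e) = e * x * (e * z * e) * x * e by group, hez]
    group
  have heo'e : e * o' * e = k'' * o' := by
    rw [hk''def, pow_two, show e * o' * (e * o') * o' = e * o' * e * (o' * o') by group, sq hD ho'D,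
      mul_one]
  have hz2 : e * (x * z * x) * e = z * k'' * o' := by
    rw [hxzx', conj_mul hD he, hez, heo'e, mul_assoc]
  rw [hz2, conj_mul hD P.mx, conj_of_commute hD P.mx hxo'] at hfix
  exact commute_of_conj hD P.mx (mul_right_cancel hfix)

/-- The commutators with the companions lie in the class group. -/
theorem side_group (h4 : orderOf (u * x) ≠ 4) {k : G} (hk : k ∈ sameCommutingClass D d) :
    (u * (k * x) ^ 2) ^ 2 ∈ sameCommutingClass D d := by
  classical
  have hD := K.root
  have hu := S.mem.1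
  have hd := P.md
  obtain ⟨⟨hux, hodd⟩, hall⟩ := side_odd K P S h4
  -- multiplicativity
  have hmul : ∀ k ∈ sameCommutingClass D d, ∀ k' ∈ sameCommutingClass D d,
      (u * (k * k' * x) ^ 2) ^ 2 = (u * (k * x) ^ 2) ^ 2 * (u * (k' * x) ^ 2) ^ 2 := by
    intro k hk k' hk'
    rw [companion_mul K P hk hk']
    obtain ⟨-, -, -, -, ho, -⟩ := companion K P hk
    obtain ⟨-, -, -, -, ho', -⟩ := companion K P hk'
    obtain ⟨hz'D, -, hl', -, -, -⟩ := side_commutator K P S h4 hk'
    have hCC : commutingMembers D ((k * x) ^ 2) = commutingMembers D ((k' * x) ^ 2) :=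
      (companion_class K P hk).trans (companion_class K P hk').symm
    set o := (k * x) ^ 2
    set o' := (k' * x) ^ 2
    have c1 : Commute o ((u * o') ^ 2) := ((class_commute hCC hz'D).2 hl'.comm.symm).symm
    have c2 : Commute o o' := (class_commute hCC (lam_sub ho).1).1 (Commute.refl o)
    have e1 : ∀ p ∈ D, u * p * u = (u * p) ^ 2 * p := fun p hp => by
      rw [pow_two, show u * p * (u * p) * p = u * p * u * (p * p) by group, sq hD hp, mul_one]
    calc (u * (o * o')) ^ 2 = (u * (o * o') * u) * (o * o') := by rw [pow_two]; group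
      _ = ((u * o) ^ 2 * o) * ((u * o') ^ 2 * o') * (o * o') := by
          rw [conj_mul hD hu, e1 o (lam_sub ho).1, e1 o' (lam_sub ho').1]
      _ = (u * o) ^ 2 * (o * (u * o') ^ 2) * o' * (o * o') := by group
      _ = (u * o) ^ 2 * (u * o') ^ 2 * ((o * o') * (o * o')) := by rw [c1.eq]; group
      _ = _ := by
          rw [c2.symm.mul_mul_mul_comm, sq hD (lam_sub ho).1, sq hD (lam_sub ho').1, one_mul, mul_one]
  -- surjectivity of the central part
  choose φ hφ hφx using fun k : {k // k ∈ sameCommutingClass D d} =>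
    (side_commutator K P S h4 k.2).2.2.2.2.2
  let F : {k // k ∈ sameCommutingClass D d} → {k // k ∈ sameCommutingClass D d} :=
    fun k => ⟨φ k, hφ k⟩
  have hinj : Function.Injective F := by
    intro k k' h
    by_contra hne
    have hφe : φ k = φ k' := congrArg Subtype.val h
    have hkk' := class_mul K hd k.2 k'.2 (fun e => hne (Subtype.ext e))
    obtain ⟨hzD, -, -, -, hzx, -⟩ := side_commutator K P S h4 hkk'
    obtain ⟨-, -, -, hz'l, -, -⟩ := side_commutator K P S h4 k'.2
    refine not_commute_of_four hD hzD P.mx hzx ?_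
    have h2 := (hφx k).mul_right (hφx k')
    rw [hφe] at h2
    have hc : Commute (φ k') ((u * ((k' : G) * x) ^ 2) ^ 2) := class_commute_members K (hφ k') (lam_sub hz'l)
    rw [hc.mul_mul_mul_comm, sq hD (hφ k').1, mul_one, ← hmul _ k.2 _ k'.2] at h2
    exact h2.symm.eq
  obtain ⟨⟨k0, hk0⟩, hk0d⟩ := Finite.injective_iff_surjective.1 hinj ⟨d, class_self hd⟩
  have hφd : φ ⟨k0, hk0⟩ = d := congrArg Subtype.val hk0d
  have hN := hφx ⟨k0, hk0⟩
  rw [hφd] at hN
  obtain ⟨hzD, hluz, hloz, hzl, -, -⟩ := side_commutator K P S h4 hk0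
  obtain ⟨-, hno4⟩ := hall k0 hk0
  obtain ⟨-, -, -, -, ho0, -⟩ := companion K P hk0
  -- the part commuting with `x` and `u` vanishes
  have hz0 : (u * (k0 * x) ^ 2) ^ 2 = d := by
    set o0 := (k0 * x) ^ 2
    set z := (u * o0) ^ 2 with hzdef
    by_contra hne
    have hN1 : z * d ≠ 1 := fun h => hne (by rw [mul_eq_one_iff_eq_inv, inv hD hd] at h; exact h)
    have hzd : Commute z d := (lam_sub hzl).2
    have hN2 : (z * d) * (z * d) = 1 := by
      rw [hzd.symm.mul_mul_mul_comm, sq hD hzD, sq hD hd, one_mul]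
    have hNu : Commute (z * d) u := hluz.comm.symm.mul_left S.du.comm
    have huN : u * (z * d) ∈ D := by
      have hoo := conj_of_commute hD (lam_sub ho0).1 (show Commute o0 d from (lam_sub ho0).2)
      have h1 : o0 * (u * d) * o0 = u * z * d := by
        rw [conj_mul hD (lam_sub ho0).1, hoo, hzdef, pow_two,
          show u * (u * o0 * (u * o0)) * d = u * u * o0 * u * o0 * d by group, sq hD hu, one_mul]
      rw [← mul_assoc, ← h1]
      exact conj hD S.ude.mem (lam_sub ho0).1
    refine not_mul_eq_invol_mul_odd hD huN P.mx (Invol.orderOf_eq_two hN2 hN1) (g := u * x)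
      (hNu.mul_right hN.symm) (fun h => hux (by rw [mul_eq_one_iff_eq_inv, inv hD P.mx] at h; exact h))
      hodd ?_
    rw [← hNu.eq, mul_assoc]
  have hlod : Line D ((k0 * x) ^ 2) d := hz0 ▸ hloz
  -- the frame at the companion `o0`
  obtain ⟨a0, ha0, ha0e, ha0k, h30, hk0a, hda0⟩ := mirror K P hk0
  obtain ⟨ad, had, hade, hadd, -, -, -⟩ := mirror K P (class_self hd)
  obtain ⟨hs1, hs2⟩ := mirror_swap K P hk0 ha0 ha0e ha0k
  obtain ⟨ht1, ht2⟩ := mirror_swap K P (class_self hd) had hade hadd
  have hshift := orb_shift hD hlod ha0 h30 hda0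
  obtain ⟨hfD, -, -, hada, hldf⟩ := four hD hd ha0 hda0
  obtain ⟨-, -, -, -, hy, -⟩ := companion K P (class_self hd)
  have he := (lam_sub P.me).1
  set o0 := (k0 * x) ^ 2 with ho0def
  set y := (d * x) ^ 2
  set A := a0 * d * a0 with hAdef
  set f := (d * a0) ^ 2
  have hAD : A ∈ D := conj hD hd ha0
  have hdA : Commute d A := by rw [hada]; exact (Commute.refl d).mul_right hldf.comm
  have hfA : f = d * A := by rw [hada, ← mul_assoc, sq hD hd, one_mul]
  set t0 := o0 * a0 * o0 with ht0
  set td := y * ad * y with htd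
  have ht0D : t0 ∈ D := conj hD ha0 (lam_sub ho0).1
  have htdD : td ∈ D := conj hD had (lam_sub hy).1
  have hTi : (t0 * td)⁻¹ = td * t0 := by rw [mul_inv_rev, inv hD ht0D, inv hD htdD]
  have hTe : t0 * td * e * (t0 * td)⁻¹ = f := by
    rw [hTi, show t0 * td * e * (td * t0) = t0 * (td * e * td) * t0 by group, ht1, ht0,
      show o0 * a0 * o0 * d * (o0 * a0 * o0) = o0 * (a0 * (o0 * d * o0) * a0) * o0 by group,
      conj_of_commute hD (lam_sub ho0).1 hlod.comm, ← hAdef, hshift, hfA]
  have hTd : t0 * td * d * (t0 * td)⁻¹ = k0 := by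
    rw [hTi, show t0 * td * d * (td * t0) = t0 * (td * d * td) * t0 by group, ht2, hs1]
  have hfl : f ∈ lam D d := by
    have := lam_conj hD (t0 * td) P.me
    rwa [hTe, hTd, ← lam_eq hk0.2] at this
  have hfec : ∀ w ∈ lam D d, (f * w) ^ 2 ∈ sameCommutingSubgroup D d := by
    intro w hw
    set T := t0 * td with hT
    have hw' : T⁻¹ * w * T ∈ lam D d := by
      rw [lam_eq hk0.2] at hw
      have := lam_conj hD T⁻¹ hw
      rwa [inv_inv, ← hTd, show T⁻¹ * (T * d * T⁻¹) * T = d by group] at this
    have e1 : (f * w) ^ 2 = T * (e * (T⁻¹ * w * T)) ^ 2 * T⁻¹ := by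
      rw [← conj_pow, ← hTe]; congr 1; group
    rw [e1]
    rcases (mem_group K hd).1 (P.ec _ hw') with h | h
    · refine Subgroup.subset_closure ⟨hD.conj_mem _ h.1 T, ?_⟩
      rw [hk0.2, ← hTd]
      exact class_conj hD h.2 T
    · rw [h, mul_one, mul_inv_cancel]; exact one_mem _
  have hfsq : (f * o0) ^ 2 = d := by
    have e1 : o0 * f * o0 = A := by
      rw [hfA, conj_mul hD (lam_sub ho0).1, conj_of_commute hD (lam_sub ho0).1 hlod.comm, hshift,
        ← mul_assoc, sq hD hd, one_mul]
    rw [pow_two, show f * o0 * (f * o0) = f * (o0 * f * o0) by group, e1, hfA, mul_assoc, sq hD hAD,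
      mul_one]
  have hdne : commutingMembers D d ≠ commutingMembers D o0 := by
    intro h
    obtain ⟨-, -, -, -, -, hnc⟩ := companion K P hk0
    exact hnc ((class_commute h he).1 (lam_sub P.me).2)
  obtain ⟨x', hx', hx'o, hx'd, hfx', hdx', hdx'sq⟩ :=
    exists_three K (lam_sub hfl).1 (lam_sub ho0).1 hd hfsq hdne
  have P' : Pivot D d f x' := ⟨hd, hfl, hx', hfx', hdx', hfec⟩
  -- decompose
  obtain ⟨hzkD, hluzk, -, -, -, -⟩ := side_commutator K P S h4 hk
  obtain ⟨hnco, hno4k⟩ := hall k hk
  obtain ⟨-, -, -, -, ho, -⟩ := companion K P hk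
  have hCo : commutingMembers D ((k * x) ^ 2) = commutingMembers D o0 :=
    (companion_class K P hk).trans (companion_class K P hk0).symm
  set o := (k * x) ^ 2
  set kk := x' * (u * o * u) * x' with hkkdef
  have huo0 : u * o0 * u = d * o0 := by
    rw [← hz0, pow_two, show u * o0 * (u * o0) * o0 = u * o0 * u * (o0 * o0) by group,
      sq hD (lam_sub ho0).1, mul_one]
  have hkk : kk ∈ sameCommutingClass D d := by
    refine ⟨conj hD (conj hD (lam_sub ho).1 hu) hx', ?_⟩
    have h1 := class_conj_invol hD hx' (class_conj_invol hD hu hCo)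
    rw [huo0, ← hx'd, conj_conj hD hx'] at h1
    exact h1.symm
  obtain ⟨-, -, -, hx'k, ho'', -⟩ := companion K P' hkk
  have hCo' : commutingMembers D ((kk * x') ^ 2) = commutingMembers D o0 := by
    rw [companion_class K P' hkk, hdx'sq]
  set o'' := (kk * x') ^ 2
  have huou : u * o * u = kk * o'' := by
    rw [← hx'k, hkkdef, conj_conj hD hx']
  have hz : (u * o) ^ 2 = kk * (o'' * o) := by
    rw [pow_two, show u * o * (u * o) = u * o * u * o by group, huou, mul_assoc]
  have hcu : Commute u (o'' * o) := by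
    have h1 : Commute u (kk * (u * o) ^ 2) :=
      (class_commute_members K hkk S.mem).symm.mul_right hluzk.comm
    rwa [hz, ← mul_assoc, sq hD hkk.1, one_mul] at h1
  have hM : o'' * o = 1 := by
    have hm : o'' * o ∈ sameCommutingSubgroup D o0 :=
      mul_mem (Subgroup.subset_closure ⟨(lam_sub ho'').1, hCo'.symm⟩)
        (Subgroup.subset_closure ⟨(lam_sub ho).1, hCo.symm⟩)
    refine group_eq_one K (lam_sub ho0).1 hu ?_ hm hcu
    exact (hall k0 hk0).1
  rw [hz, hM, mul_one]
  exact hkk

/-- All commutators with companions lie in the class group. -/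
theorem side_mem_group {k : G} (hk : k ∈ sameCommutingClass D d) :
    (u * (k * x) ^ 2) ^ 2 ∈ sameCommutingSubgroup D d := by
  by_cases h4 : orderOf (u * x) = 4
  · obtain ⟨-, -, -, -, ho, -⟩ := companion K P hk
    have hc : Commute u ((k * x) ^ 2) :=
      (class_commute (companion_class K P hk) S.mem.1).2 (side_four K P S h4).1
    rw [(sq_mul_eq_one_iff K.root S.mem.1 (lam_sub ho).1).2 hc.eq]
    exact one_mem _
  · exact Subgroup.subset_closure (side_group K P S h4 hk)

/-- Every member of the class is such a commutator. -/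
theorem side_surjective (h4 : orderOf (u * x) ≠ 4) {k' : G} (hk' : k' ∈ sameCommutingClass D d) :
    ∃ k ∈ sameCommutingClass D d, (u * (k * x) ^ 2) ^ 2 = k' := by
  have hD := K.root
  let F : {k // k ∈ sameCommutingClass D d} → {k // k ∈ sameCommutingClass D d} :=
    fun k => ⟨_, side_group K P S h4 k.2⟩
  have hinj : Function.Injective F := by
    intro k₁ k₂ h
    by_contra hne
    have he : (u * ((k₁ : G) * x) ^ 2) ^ 2 = (u * ((k₂ : G) * x) ^ 2) ^ 2 := congrArg Subtype.val h
    have hkk := class_mul K P.md k₁.2 k₂.2 (fun e => hne (Subtype.ext e))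
    obtain ⟨-, -, -, -, ho1, -⟩ := companion K P k₁.2
    obtain ⟨-, -, -, -, ho2, -⟩ := companion K P k₂.2
    obtain ⟨-, -, -, -, ho12, -⟩ := companion K P hkk
    refine ((side_odd K P S h4).2 _ hkk).1 ?_
    rw [companion_mul K P k₁.2 k₂.2]
    set o₁ := ((k₁ : G) * x) ^ 2
    set o₂ := ((k₂ : G) * x) ^ 2
    have e1 : ∀ p ∈ D, u * p * u = (u * p) ^ 2 * p := fun p hp => by
      rw [pow_two, show u * p * (u * p) * p = u * p * u * (p * p) by group, sq hD hp, mul_one]
    refine commute_of_conj hD S.mem.1 ?_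
    have hc : Commute o₁ ((u * o₁) ^ 2) := (side_commutator K P S h4 k₁.2).2.2.1.comm
    have hz2 := sq hD (side_commutator K P S h4 k₁.2).1
    rw [conj_mul hD S.mem.1, e1 _ (lam_sub ho1).1, e1 _ (lam_sub ho2).1, ← he]
    calc (u * o₁) ^ 2 * o₁ * ((u * o₁) ^ 2 * o₂) = (u * o₁) ^ 2 * (o₁ * (u * o₁) ^ 2) * o₂ := by group
      _ = (u * o₁) ^ 2 * (u * o₁) ^ 2 * (o₁ * o₂) := by rw [hc.eq]; group
      _ = o₁ * o₂ := by rw [hz2, one_mul]
  obtain ⟨⟨k, hk⟩, h⟩ := Finite.injective_iff_surjective.1 hinj ⟨k', hk'⟩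
  exact ⟨k, hk, congrArg Subtype.val h⟩

end CfsgLib.RootStructure
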