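import Cfsg.Agent.RootSubgroups.StructureCommutator

set_option autoImplicit false
set_option linter.unusedSectionVars false

/-!
The root structure theorem: the members commuting with `d` without odd partner among these are `d` and the members
on lines with `d`, and their commutators lie in the class group of `d`.
-/

namespace CfsgLib.RootStructure

open Cfsg CfsgLib.RootInv
open scoped commutatorElement

variable {G : Type*} [Group G] [Finite G] {D : Set G} (K : Ctx D)

include K

/-- No isolated `C` with `(CR)² = e` when `(Rx)²` commutes with `d`. -/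
theorem no_quadratic {d e x C R : G} (he : e ∈ D) (hC : C ∈ lam D d) (hCe : Commute C e) (hR : Line D R e)
    (hx : x ∈ D) (h3 : orderOf (e * x) = 3) (h4 : orderOf (R * x) = 4)
    (hσd : Commute ((R * x) ^ 2) d) (hCR : (C * R) ^ 2 = e) : False := by
  have hD := K.root
  have hCD := (lam_sub hC).1
  obtain ⟨hσ, hRσ, -, -, -⟩ := four hD hR.mem hx h4
  obtain ⟨heσ, -⟩ := orbit hD hR hx h3 h4
  set σ := (R * x) ^ 2
  have h44 := lam_pow_four K hC (u := σ) ⟨hσ, hσd.eq⟩
  set q := (C * σ) ^ 2 with hqdef
  have hq1 : q = σ * C * σ * C := by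
    have e1 : q * q = 1 := by rw [hqdef, ← pow_add]; exact h44
    rw [← inv_eq_of_mul_eq_one_right e1, hqdef, pow_two]
    rw [mul_inv_rev, mul_inv_rev, inv hD hσ, inv hD hCD]
    group
  have hCq : Commute C q := by
    refine commute_of_conj hD hCD ?_
    conv_rhs => rw [hq1]
    rw [hqdef, pow_two, show C * (C * σ * (C * σ)) * C = C * C * σ * C * σ * C by group, sq hD hCD, one_mul]
  have hRCR : R * C * R = C * e := conj_eq_of_sq hD hCD hCR
  have heC : e * C * e = C := conj_of_commute hD he hCe.symm
  have h1 : e * σ = σ * R * e := by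
    have h0 : e * σ = (e * σ * e) * e := by rw [mul_assoc (e * σ) e e, sq hD he, mul_one]
    rw [h0, heσ, hRσ.eq]
  have heq : e * q * e = q * R * e := by
    rw [hqdef, pow_two, conj_mul hD he, conj_mul hD he, heC, heσ]
    calc C * (R * σ) * (C * (R * σ)) = C * (R * σ) * C * (R * σ) := by group
      _ = C * (σ * R) * C * (R * σ) := by rw [hRσ.eq]
      _ = C * σ * (R * C * R) * σ := by group
      _ = C * σ * C * (e * σ) := by rw [hRCR]; group
      _ = C * σ * (C * σ) * R * e := by rw [h1]; group
  have h2 : R = q⁻¹ * (e * q) := by rw [mul_right_cancel heq, inv_mul_cancel_left]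
  have hCR' : Commute C R := h2 ▸ hCq.inv_right.mul_right (hCe.mul_right hCq)
  rw [(sq_mul_eq_one_iff hD hCD hR.mem).2 hCR'.eq] at hCR
  exact ne_one hD he hCR.symm

/-- The pivot cannot be the square of a product of two isolated members one of which is on a line with `d`. -/
theorem no_member_pair {d e x C C' : G} (P : Pivot D d e x) (hC : C ∈ lam D d) (hC' : C' ∈ lam D d)
    (hdC' : Line D d C') (h4 : orderOf (C * C') = 4) (hsq : (C * C') ^ 2 = e) : False := by
  have hD := K.root
  have hd := P.md
  have hCD := (lam_sub hC).1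
  have hC'D := (lam_sub hC').1
  have he := (lam_sub P.me).1
  have hlCe : Line D C e := hsq ▸ (four hD hCD hC'D h4).2.2.2.2
  have hlC'e : Line D C' e := hsq ▸ line_second hD hCD hC'D h4
  have hCC'C : C * C' * C = C' * e :=
    conj_eq_of_sq hD hC'D ((four_symm hD hCD hC'D h4).2.trans hsq)
  -- lines through `C'`
  have hCk : ∀ k, k ∈ sameCommutingSubgroup D d → Line D C' k ∨ k = 1 → Line D (C' * k) e := by
    intro k hk h
    rcases h with h | rfl
    · refine ⟨h.mul_mem, he, hlC'e.comm.mul_left (group_commute_members K hd hk (lam_sub P.me)), ?_⟩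
      rw [show C' * k * e = C' * (k * e) by group, (group_commute_members K hd hk (lam_sub P.me)).eq,
        ← mul_assoc, ← hCC'C]
      have e1 : C * C' * C * k = C * (C' * k) * C := by
        rw [mul_assoc (C * C') C k, ← (group_commute_members K hd hk (lam_sub hC)).eq]; group
      rw [e1]
      exact conj hD h.mul_mem hCD
    · rw [mul_one]; exact hlC'e
  have S : Side D d e C' :=
    ⟨lam_sub hC', hlC'e, hdC', hCk d (Subgroup.subset_closure (class_self hd)) (Or.inl (line_symm hD hdC'))⟩
  by_cases h4x : orderOf (C' * x) = 4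
  · exact no_quadratic K he hC hlCe.comm hlC'e P.mx P.three h4x (side_four K P S h4x).2 hsq
  obtain ⟨k0, hk0, hz0⟩ := side_surjective K P S h4x (class_self hd)
  have hline : ∀ k ∈ sameCommutingClass D d, Line D C' k := fun k hk => by
    obtain ⟨k', hk', hz⟩ := side_surjective K P S h4x hk
    exact hz ▸ (side_commutator K P S h4x hk').2.1
  obtain ⟨-, hlk0, hlxo, hxk0, ho0, -⟩ := companion K P hk0
  obtain ⟨-, he0, -, hek0⟩ := pivot_shift K P hk0
  have hlod : Line D ((k0 * x) ^ 2) d := hz0 ▸ (side_commutator K P S h4x hk0).2.2.1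
  obtain ⟨a0, ha0, ha0e, ha0k, h30, hk0a, hda0⟩ := mirror K P hk0
  have hB0 := orb_shift hD hlod ha0 h30 hda0
  set o0 := (k0 * x) ^ 2 with ho0def
  have ho0D := (lam_sub ho0).1
  have ho0e : o0 * e * o0 = e * k0 := conj_eq_of_sq hD he he0
  have ho0C' : o0 * C' * o0 = C' * d := conj_eq_of_sq hD hC'D hz0
  have ha0ee : a0 * e * a0 = e := conj_of_commute hD ha0 ha0e
  have ha0ke : a0 * (k0 * e) * a0 = k0 := by
    rw [conj_mul hD ha0, ha0k, ha0ee, mul_assoc, sq hD he, mul_one]
  -- the classes of the images of the class of `d` under `a0`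
  have hclassA : ∀ k ∈ sameCommutingClass D d,
      commutingMembers D (a0 * k * a0) = commutingMembers D (k0 * e) := fun k hk => by
    rw [← ha0k]; exact class_conj_invol hD ha0 (hk.2.symm.trans hk0.2)
  have hin : ∀ p ∈ commutingMembers D d, Commute p e → p ∈ commutingMembers D (k0 * e) := fun p hp hpe =>
    ⟨hp.1, ((class_commute_members K hk0 hp).symm.mul_right hpe).eq⟩
  have hdin := hin d ⟨hd, rfl⟩ (lam_sub P.me).2.symm
  set B := a0 * d * a0 with hBdef
  have hBD : B ∈ D := conj hD hd ha0
  have hdB : Commute d B :=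
    (show d ∈ commutingMembers D B from (hclassA d (class_self hd)).symm ▸ hdin).2
  have hBm : B ∈ commutingMembers D d := ⟨hBD, hdB.symm.eq⟩
  -- the side conditions for the conjugate of `C'`
  set u := a0 * C' * a0 with hudef
  have huD : u ∈ D := conj hD hC'D ha0
  have huk0 : Commute u k0 := by
    have := commute_conj hD ha0
      (show Commute C' (k0 * e) from (hin C' (lam_sub hC') hlC'e.comm).2)
    rwa [ha0ke] at this
  have hlue : Line D u e := by
    have := line_conj hD hlC'e a0
    rwa [inv hD ha0, ha0ee, ← hudef] at this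
  have hC'k0e : Line D (C' * k0) e :=
    hCk k0 (Subgroup.subset_closure hk0) (Or.inl (hline k0 hk0))
  have hk0eC' : k0 * e * C' ∈ D := by
    have e1 : k0 * e * C' = o0 * (C' * d * e) * o0 := by
      rw [conj_mul hD ho0D, conj_mul hD ho0D, ho0C', conj_of_commute hD ho0D hlod.comm, ho0e,
        mul_assoc C' d d, sq hD hd, mul_one,
        show C' * (e * k0) = C' * e * k0 by group, hlC'e.comm.eq, mul_assoc]
      exact ((class_commute_members K hk0 (lam_sub P.me)).mul_right
        (class_commute_members K hk0 (lam_sub hC'))).eq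
    rw [e1]
    exact conj hD S.ude.mul_mem ho0D
  have S0 : Side D k0 e u := by
    refine ⟨⟨huD, huk0.eq⟩, hlue, ⟨hk0.1, huD, huk0.symm, ?_⟩, ?_⟩
    · rw [← ha0ke, hudef, ← conj_mul hD ha0]; exact conj hD hk0eC' ha0
    · refine ⟨?_, he, hlue.comm.mul_left hek0.comm.symm, ?_⟩
      · rw [huk0.eq, ← ha0ke, hudef, ← conj_mul hD ha0]; exact conj hD hk0eC' ha0
      · have e1 : u * k0 * e = a0 * (C' * k0) * a0 := by
          rw [conj_mul hD ha0, ha0k, ← hudef, ← mul_assoc]
        rw [e1]
        exact conj hD hC'k0e.mem ha0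
  have hud : Commute u d := (class_commute hk0.2.symm huD).1 huk0
  -- the correcting member of the class
  have hku := side_mem_group K (P.change K hk0) S0 (class_self hk0.1)
  rw [← group_eq hk0.2, ← ho0def] at hku
  set ku := (u * o0) ^ 2 with hkudef
  have hku2 := group_sq K hd hku
  set A := a0 * ku * a0 with hAdef
  obtain ⟨hA1, hA2, hA3⟩ : o0 * A * o0 = ku * A ∧ A * A = 1 ∧ Commute d A := by
    rcases (mem_group K hd).1 hku with h | h
    · have h4u : orderOf (u * o0) = 4 := four_of_sq hD h.1 hkudef.symm
      have hl : Line D o0 ku := line_second hD huD ho0D h4u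
      have hka : orderOf (ku * a0) = 4 := four_class K hd h.1 ha0 h.2 hda0
      exact ⟨orb_shift hD hl ha0 h30 hka, sq hD (conj hD h.1 ha0),
        (show d ∈ commutingMembers D A from (hclassA ku h).symm ▸ hdin).2⟩
    · rw [hAdef, h, mul_one, sq hD ha0, mul_one, sq hD ho0D]
      exact ⟨(one_mul 1).symm, one_mul 1, Commute.one_right d⟩
  set k' := ku * d with hk'def
  have hk' : k' ∈ sameCommutingSubgroup D d := mul_mem hku (Subgroup.subset_closure (class_self hd))
  have hk'd : Commute k' d := group_commute_members K hd hk' ⟨hd, rfl⟩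
  set C'' := C' * k' with hC''def
  have hor : ∀ k ∈ sameCommutingSubgroup D d, Line D C' k ∨ k = 1 := fun k hk =>
    ((mem_group K hd).1 hk).imp (hline k) id
  have hlC''e : Line D C'' e := hCk k' hk' (hor k' hk')
  have hC''d : C'' * d = C' * ku := by
    rw [hC''def, hk'def, mul_assoc, mul_assoc ku d d, sq hD hd, mul_one]
  have hoC'' : o0 * C'' * o0 = C'' * d := by
    rw [hC''def, conj_mul hD ho0D, ho0C',
      conj_of_commute hD ho0D (group_commute_members K hd hk' (lam_sub ho0)).symm, mul_assoc, ← hk'd.eq,
      ← mul_assoc]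
  set v := a0 * C'' * a0 with hvdef
  have hv : v = u * (A * B) := by rw [hvdef, hC''def, conj_mul hD ha0, hk'def, conj_mul hD ha0]
  have hdv : Commute d v := hv ▸ hud.symm.mul_right (hA3.mul_right hdB)
  have hov : o0 * v * o0 = v * d := by
    rw [hv, conj_mul hD ho0D u (A * B), conj_mul hD ho0D A B, conj_eq_of_sq hD huD hkudef.symm, hA1, hB0,
      show u * ku * (ku * A * (d * B)) = u * (ku * ku) * A * (d * B) by group, hku2, mul_one, hdB.eq]
    group
  have hcC'' : Commute C'' a0 := by
    by_contra hnc
    have h4a : orderOf (C'' * a0) = 4 := four_of hD hlC''e.mem ha0 hnc fun hodd => by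
      rw [orderOf_mul_comm] at hodd
      exact line_not_commute hD hlC''e ha0 (fun h => hnc (h ▸ Commute.refl a0)) hodd ha0e.eq
    have hl : Line D a0 ((C'' * a0) ^ 2) := line_second hD hlC''e.mem ha0 h4a
    have h2 : (C'' * a0) ^ 2 = C'' * v := by rw [hvdef, pow_two]; group
    refine line_not_commute hD hl ho0D (ne_of_three hD ha0 h30) (by rw [h30]; decide) ?_
    refine (commute_of_conj hD ho0D ?_).eq
    rw [h2, conj_mul hD ho0D, hoC'', hov, show C'' * d * (v * d) = C'' * (d * v) * d by group, hdv.eq,
      ← mul_assoc C'' v d, mul_assoc _ d d, sq hD hd, mul_one]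
  -- the modified partner
  set R := C'' * B with hRdef
  have hR1 : a0 * (C'' * d) * a0 = R := by
    rw [conj_mul hD ha0, conj_of_commute hD ha0 hcC''.symm, hRdef]
  have hlR : Line D R e := by
    have h := line_conj hD (hCk ku hku (hor ku hku)) a0
    rwa [inv hD ha0, ha0ee, ← hC''d, hR1] at h
  have hoR : Commute o0 R := commute_of_conj hD ho0D (by
    rw [hRdef, conj_mul hD ho0D, hoC'', hB0, show C'' * d * (d * B) = C'' * (d * d) * B by group,
      sq hD hd, mul_one])
  have hRd : Commute R d :=
    ((show Commute C' d from (lam_sub hC').2).mul_left hk'd).mul_left hdB.symm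
  have hCR : (C * R) ^ 2 = e := by
    have hcC : Commute C B := (show C ∈ commutingMembers D B from
      (hclassA d (class_self hd)).symm ▸ hin C (lam_sub hC) hlCe.comm).2
    have hcC' : Commute C' B := (show C' ∈ commutingMembers D B from
      (hclassA d (class_self hd)).symm ▸ hin C' (lam_sub hC') hlC'e.comm).2
    have hc1 : Commute C (k' * B) := ((group_commute_members K hd hk' (lam_sub hC)).symm).mul_right hcC
    have hc2 : Commute C' (k' * B) := ((group_commute_members K hd hk' (lam_sub hC')).symm).mul_right hcC'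
    have hkB : Commute k' B := group_commute_members K hd hk' hBm
    rw [hRdef, hC''def, show C * (C' * k' * B) = C * C' * (k' * B) by group, (hc1.mul_left hc2).mul_pow,
      hsq, pow_two, hkB.symm.mul_mul_mul_comm, group_sq K hd hk', sq hD hBD, one_mul, mul_one]
  have hRx : orderOf (R * x) = 4 := by
    refine four_of hD hlR.mem P.mx (fun h => ?_) (fun hodd => ?_)
    · exact line_not_commute hD (line_symm hD hlR) P.mx (ne_of_three hD P.mx P.three).symm
        (odd_of_three P.three) h.symm
    · refine line_not_commute hD hlxo hlR.mem ?_ hodd hoR.symm.eq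
      intro h
      refine line_not_commute hD (line_symm hD hlR) P.mx (ne_of_three hD P.mx P.three).symm
        (odd_of_three P.three) ?_
      rw [h]
  refine no_quadratic K he hC hlCe.comm hlR P.mx P.three hRx ?_ hCR
  obtain ⟨hσ, -, -, hxRx, -⟩ := four hD hlR.mem P.mx hRx
  have hRk0 : Commute R k0 := ((class_commute hk0.2.symm hlR.mem).2 hRd)
  have h1 : Commute (x * R * x) k0 := by
    have h := commute_conj hD P.mx (hRk0.mul_right hoR.symm)
    rwa [← hxk0, conj_conj hD P.mx] at h
  have hσk0 : Commute ((R * x) ^ 2) k0 := by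
    have h := hRk0.mul_left h1
    rwa [hxRx, ← mul_assoc, sq hD hlR.mem, one_mul] at h
  exact (class_commute hk0.2.symm hσ).1 hσk0

/-- An isolated member off the lines through `d` has a commutator outside the class group. -/
theorem isolated_line {d w : G} (hd : d ∈ D) (hw : w ∈ lam D d) (hne : w ≠ d)
    (hyp : ∀ c ∈ lam D d, Line D d c → orderOf (c * w) = 4 → (c * w) ^ 2 ∈ sameCommutingSubgroup D d) :
    Line D d w := by
  have hD := K.root
  by_contra hline
  obtain ⟨hwm, hiso⟩ := mem_lam.1 hw
  have hwd : Commute w d := hwm.2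
  obtain ⟨x, hx, hxw, hxd⟩ : ∃ x, x ∈ oddPartners D w ∧ ¬ Commute x w ∧ x ∉ oddPartners D d := by
    by_contra h
    push Not at h
    have hsub : oddPartners D w ⊆ oddPartners D d := fun x hx => h x hx fun hc =>
      not_commute_of_odd hD hwm.1 hx.1 hx.2.1.symm hx.2.2 hc.symm.eq
    have he := (sameCommuting_iff hD K.conjClass hwm.1 hd).2
      (oddPartners_eq_of_subset hD K.conjClass hwm.1 hd hsub)
    rcases (mem_group K hd).1 (mul_mem (Subgroup.subset_closure (class_self hd))
      (Subgroup.subset_closure (⟨hwm.1, he.symm⟩ : w ∈ sameCommutingClass D d))) with h' | h'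
    · exact hline ⟨hd, hwm.1, hwd.symm, h'.1⟩
    · rw [mul_eq_one_iff_eq_inv, inv hD hwm.1] at h'
      exact hne h'.symm
  have hodd : Odd (orderOf (w * x)) := hx.2.2
  have hnd : ¬ Commute x d := fun h => hiso x ⟨hx.1, h.eq⟩ hx.2.1 hodd
  have h4 : orderOf (d * x) = 4 := four_of hD hd hx.1 (fun h => hnd h.symm) fun h =>
    hxd ⟨hx.1, fun e => hnd (e ▸ Commute.refl d), h⟩
  have hlc := (four hD hd hx.1 h4).2.2.2.2
  have hlxc := line_second hD hd hx.1 h4
  set c := (d * x) ^ 2
  have hcl := line_lam K hlc
  have hwc : ¬ Commute w c := fun h =>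
    line_not_commute hD hlxc hwm.1 hx.2.1.symm hodd h.eq
  have h4wc := lam_pair K hw (lam_sub hcl) hwc
  obtain ⟨hz, hwz, -, -, -⟩ := four hD hwm.1 hlc.mem' h4wc
  have hzne : commutingMembers D ((w * c) ^ 2) ≠ commutingMembers D c := fun h =>
    hwc ((class_commute h hwm.1).1 hwz)
  obtain ⟨a, ha, hac, -, hwa, -, -⟩ := exists_three K hwm.1 hlc.mem' hz rfl hzne
  have hand : ¬ Commute a d := fun h =>
    hiso a ⟨ha, h.eq⟩ (ne_of_three hD ha hwa).symm (by rw [hwa]; decide)
  have h4a : orderOf (d * a) = 4 := four_of hD hd ha (fun h => hand h.symm) fun h => by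
    rw [orderOf_mul_comm] at h
    exact line_not_commute hD hlc ha (fun e => hand (e ▸ Commute.refl d)) h hac.eq
  have hlc' := (four hD hd ha h4a).2.2.2.2
  obtain ⟨hc', hdc', hac', hada, -⟩ := four hD hd ha h4a
  have hlac' := line_second hD hd ha h4a
  set c' := (d * a) ^ 2
  have hc'l := line_lam K hlc'
  have hnc' : ¬ Commute w c' := fun h =>
    line_not_commute hD hlac' hwm.1 (ne_of_three hD ha hwa) (by rw [hwa]; decide) h.eq
  have h4' : orderOf (c' * w) = 4 := by
    rw [orderOf_mul_comm]; exact lam_pair K hw (lam_sub hc'l) hnc'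
  have hzE := hyp c' hc'l hlc' h4'
  have hlwz : Line D w ((c' * w) ^ 2) := line_second hD hc' hwm.1 h4'
  have hwc'w : w * c' * w = c' * (c' * w) ^ 2 := (four hD hc' hwm.1 h4').2.2.2.1
  set z := (c' * w) ^ 2
  have hbr := braid hD hwm.1 ha hwa
  have hwdw : w * d * w = d := conj_of_commute hD hwm.1 hwd
  have hfix : a * (w * (a * d * a) * w) * a = w * (a * d * a) * w := by
    rw [show a * (w * (a * d * a) * w) * a = (a * w * a) * d * (a * w * a) by group, ← hbr,
      show w * a * w * d * (w * a * w) = w * a * (w * d * w) * a * w by group, hwdw]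
    group
  have hd2 : w * (a * d * a) * w = d * c' * z := by
    rw [hada, conj_mul hD hwm.1, hwdw, hwc'w, mul_assoc]
  rw [hd2, conj_mul hD ha, conj_mul hD ha, hada, conj_of_commute hD ha hac',
    show d * c' * c' = d * (c' * c') by group, sq hD hc', mul_one] at hfix
  have haz : a * z * a = c' * z := mul_left_cancel (hfix.trans (mul_assoc d c' z))
  have hN : Commute a (d * z) := commute_of_conj hD ha (by
    rw [conj_mul hD ha, hada, haz, show d * c' * (c' * z) = d * (c' * c') * z by group, sq hD hc', mul_one])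
  have h1 := group_eq_one K hd ha hand (mul_mem (Subgroup.subset_closure (class_self hd)) hzE) hN
  have hzd : z = d := by rw [eq_inv_of_mul_eq_one_right h1, inv hD hd]
  exact hline (line_symm hD (hzd ▸ hlwz))

/-- The squares of products of isolated members, one on a line with a member of the class, lie in the class
group. -/
theorem pair_mem_group {d : G} (hd : d ∈ D) {C C' k : G} (hk : k ∈ sameCommutingClass D d)
    (hC : C ∈ lam D d) (hC' : C' ∈ lam D d) (hkC' : Line D k C') (h4 : orderOf (C * C') = 4) :
    (C * C') ^ 2 ∈ sameCommutingSubgroup D d := by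
  have hD := K.root
  set Q := Subgroup.closure (lam D d)
  obtain ⟨N, hN⟩ := (Subgroup.isNilpotent_iff_lowerCentralSeries Q).1 (closure_lam K hd).2
  suffices main : ∀ m j, N ≤ j + m → ∀ C ∈ lam D d, ∀ C' ∈ lam D d, ∀ k ∈ sameCommutingClass D d,
      Line D k C' → orderOf (C * C') = 4 → (C * C') ^ 2 ∈ Q.lowerCentralSeries j →
      (C * C') ^ 2 ∈ sameCommutingSubgroup D d from
    main N 0 (by omega) C hC C' hC' k hk hkC' h4 (by
      rw [Subgroup.lowerCentralSeries_zero]; exact sq_mem_closure K hC (lam_sub hC'))
  intro m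
  induction m with
  | zero =>
    intro j hj C hC C' hC' k hk hkC' h4 hmem
    have := Subgroup.lowerCentralSeries_antitone Q (show N ≤ j by omega) hmem
    rw [hN, Subgroup.mem_bot] at this
    rw [this]; exact one_mem _
  | succ m IH =>
    intro j hj C hC C' hC' k hk hkC' h4 hmem
    by_contra hbad
    obtain ⟨heD, -, -, -, -⟩ := four hD (lam_sub hC).1 (lam_sub hC').1 h4
    set e := (C * C') ^ 2 with hedef
    have hel : e ∈ lam D d := lam_of_mem K hd (sq_mem_closure K hC (lam_sub hC')) heD
    have hdeep : ∀ u ∈ lam D d, (e * u) ^ 2 ∈ Q.lowerCentralSeries (j + 1) := fun u hu => by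
      have h := Subgroup.commutator_mem_commutator hmem (Subgroup.subset_closure hu : u ∈ Q)
      rw [commutatorElement_def, inv hD heD, inv hD (lam_sub hu).1,
        show e * u * e * u = (e * u) ^ 2 by rw [pow_two]; group] at h
      exact h
    have hlk : lam D k = lam D d := lam_eq hk.2.symm
    have hgk : sameCommutingSubgroup D k = sameCommutingSubgroup D d := group_eq hk.2.symm
    have hlke : Line D k e := by
      refine isolated_line K hk.1 (hlk.symm ▸ hel) (fun h => hbad (h ▸ Subgroup.subset_closure hk))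
        fun c hc hkc hce => ?_
      rw [hgk]
      rw [hlk] at hc
      obtain ⟨hec, hsq⟩ := four_symm hD (lam_sub hc).1 heD hce
      rw [← hsq]
      exact IH (j + 1) (by omega) e hel c hc k hk hkc hec (hdeep c hc)
    have hne : commutingMembers D e ≠ commutingMembers D k := fun h =>
      hbad (Subgroup.subset_closure ⟨heD, hk.2.trans h.symm⟩)
    obtain ⟨x, hx, hkx, hex⟩ := exists_order_three hD K.conjClass (line_symm hD hlke) hne
    have P : Pivot D k e x := by
      refine ⟨hk.1, hlk.symm ▸ hel, hx, hex, hkx, fun u hu => ?_⟩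
      rw [hgk]
      rw [hlk] at hu
      by_cases hc : Commute e u
      · rw [(sq_mul_eq_one_iff hD heD (lam_sub hu).1).2 hc.eq]; exact one_mem _
      · have h4e := lam_pair K hel (lam_sub hu) hc
        obtain ⟨hue, hsq⟩ := four_symm hD heD (lam_sub hu).1 h4e
        rw [← hsq]
        exact IH (j + 1) (by omega) u hu e hel k hk hlke hue (hsq.symm ▸ hdeep u hu)
    exact no_member_pair K P (hlk.symm ▸ hC) (hlk.symm ▸ hC') hkC' h4 hedef.symm

/-- The isolated members are `d` and the members on lines with `d`. -/
theorem lam_eq_partners {d : G} (hd : d ∈ D) : lam D d = productPartners D d ∪ {d} := by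
  refine Set.Subset.antisymm (fun w hw => ?_) ?_
  · by_cases hne : w = d
    · exact Or.inr hne
    · refine Or.inl (mem_productPartners_of_line K.root (line_symm K.root (isolated_line K hd hw hne ?_)))
      intro c hc hdc h4
      obtain ⟨h4', hsq⟩ := four_symm K.root (lam_sub hc).1 (lam_sub hw).1 h4
      rw [← hsq]
      exact pair_mem_group K hd (class_self hd) hw hc hdc h4'
  · rintro w (hw | rfl)
    · exact line_lam K (line_symm K.root (line_of_mem_productPartners hd hw))
    · exact self_lam K hd

/-- The root structure theorem. -/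
theorem structure_theorem (hnd : IsNondegenerateRootInvolutionSet D) (hcl : IsRootInvolutionClass D)
    {d : G} (hd : d ∈ D) :
    Subgroup.closure (lam D d) = Subgroup.closure (productPartners D d ∪ {d}) ∧
    D ∩ (Subgroup.closure (productPartners D d ∪ {d}) : Set G) = productPartners D d ∪ {d} ∧
    ⁅Subgroup.closure (productPartners D d ∪ {d}), Subgroup.closure (productPartners D d ∪ {d})⁆ =
      sameCommutingSubgroup D d ∧
    sameCommutingClass D d = {e | e ∈ D ∧ e ∈ Subgroup.closure (productPartners D d ∪ {d}) ∧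
      ∀ y ∈ Subgroup.closure (productPartners D d ∪ {d}), e * y = y * e} := by
  have hD := K.root
  rw [← lam_eq_partners K hd]
  set M := Subgroup.closure (lam D d) with hM
  set E := sameCommutingSubgroup D d with hE
  have hcent : ∀ k ∈ E, ∀ y ∈ M, Commute k y := by
    intro k hk y hy
    exact (Subgroup.mem_centralizer_singleton_iff.1 ((Subgroup.closure_le _).2 (fun u hu =>
      Subgroup.mem_centralizer_singleton_iff.2
        (group_commute_members K hd hk (lam_sub hu)).symm.eq) hy) : y * k = k * y).symm
  have hgen : ∀ g ∈ lam D d, ∀ h ∈ lam D d, ⁅g, h⁆ ∈ E := by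
    intro g hg h hh
    have hgD := (lam_sub hg).1
    have hhD := (lam_sub hh).1
    rw [commutatorElement_def, inv hD hgD, inv hD hhD, show g * h * g * h = (g * h) ^ 2 by
      rw [pow_two]; group]
    by_cases hc : Commute g h
    · rw [(sq_mul_eq_one_iff hD hgD hhD).2 hc.eq]; exact one_mem _
    · have h4 := lam_pair K hg (lam_sub hh) hc
      rcases (lam_eq_partners K hd ▸ hh : h ∈ productPartners D d ∪ {d}) with h' | h'
      · exact pair_mem_group K hd (class_self hd) hg hh
          (line_symm hD (line_of_mem_productPartners hd h')) h4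
      · rw [Set.mem_singleton_iff] at h'
        exact absurd (h' ▸ (show Commute g d from (lam_sub hg).2)) hc
  refine ⟨rfl, ?_, le_antisymm ?_ ?_, ?_⟩
  · exact Set.Subset.antisymm (fun p hp => lam_of_mem K hd hp.2 hp.1)
      fun p hp => ⟨(lam_sub hp).1, Subgroup.subset_closure hp⟩
  · rw [Subgroup.commutator_le]
    have step1 : ∀ g ∈ lam D d, ∀ q ∈ M, ⁅g, q⁆ ∈ E := by
      intro g hg q hq
      induction hq using Subgroup.closure_induction with
      | mem v hv => exact hgen g hg v hv
      | one => rw [commutatorElement_one_right]; exact one_mem _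
      | mul v w hv hw ihv ihw =>
        have e1 : ⁅g, v * w⁆ = ⁅g, v⁆ * (v * ⁅g, w⁆ * v⁻¹) := by simp only [commutatorElement_def]; group
        rw [e1, ← (hcent _ ihw v hv).eq, mul_inv_cancel_right]
        exact mul_mem ihv ihw
      | inv v hv ihv =>
        have e1 : ⁅g, v⁻¹⁆ = v⁻¹ * ⁅g, v⁆⁻¹ * v := by simp only [commutatorElement_def]; group
        rw [e1, ← (hcent _ (inv_mem ihv) v⁻¹ (inv_mem hv)).eq, inv_mul_cancel_right]
        exact inv_mem ihv
    intro p hp q hq
    induction hp using Subgroup.closure_induction with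
    | mem v hv => exact step1 v hv q hq
    | one => rw [commutatorElement_one_left]; exact one_mem _
    | mul v w hv hw ihv ihw =>
      have e1 : ⁅v * w, q⁆ = v * ⁅w, q⁆ * v⁻¹ * ⁅v, q⁆ := by simp only [commutatorElement_def]; group
      rw [e1, ← (hcent _ ihw v hv).eq, mul_inv_cancel_right]
      exact mul_mem ihw ihv
    | inv v hv ihv =>
      have e1 : ⁅v⁻¹, q⁆ = v⁻¹ * ⁅v, q⁆⁻¹ * v := by simp only [commutatorElement_def]; group
      rw [e1, ← (hcent _ (inv_mem ihv) v⁻¹ (inv_mem hv)).eq, inv_mul_cancel_right]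
      exact inv_mem ihv
  · refine (Subgroup.closure_le _).2 fun k hk => ?_
    obtain ⟨u, hu, x, hx, hux⟩ := exists_proper_line hnd hcl hk.1
    have hne : commutingMembers D u ≠ commutingMembers D k := fun h => by
      rw [← oddPartners_of_class K hu.mem hk.1 h] at hx
      have := hx.2.2
      rw [hux] at this
      exact absurd this (by decide)
    obtain ⟨w, hw, hwu, hodd, hkw⟩ := exists_odd_four hD K.conjClass hu hne
    obtain ⟨b, hb, -, -, h4, hsq, -⟩ := exists_shift hD (line_symm hD hu) hw hwu hodd hkw
    have hul : u ∈ lam D d := lam_eq hk.2.symm ▸ line_lam K (line_symm hD hu)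
    have hbl : b ∈ lam D d :=
      lam_eq hk.2.symm ▸ line_lam K (line_symm hD (hsq ▸ line_second hD hu.mem hb h4))
    have h := Subgroup.commutator_mem_commutator (Subgroup.subset_closure hul : u ∈ M)
      (Subgroup.subset_closure hbl : b ∈ M)
    rw [commutatorElement_def, inv hD hu.mem, inv hD hb, show u * b * u * b = (u * b) ^ 2 by
      rw [pow_two]; group, hsq] at h
    exact h
  · ext p
    refine ⟨fun hp => ⟨hp.1, Subgroup.subset_closure (class_lam K hd hp), fun y hy =>
      (hcent p (Subgroup.subset_closure hp) y hy).eq⟩, ?_⟩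
    rintro ⟨hpD, hpM, hpc⟩
    by_contra hnot
    have hpl := lam_of_mem K hd hpM hpD
    rcases (lam_eq_partners K hd ▸ hpl : p ∈ productPartners D d ∪ {d}) with h | h
    · have hl := line_of_mem_productPartners hd h
      have hne : commutingMembers D p ≠ commutingMembers D d := fun e => hnot ⟨hpD, e.symm⟩
      obtain ⟨x, hx, hdx, hpx⟩ := exists_order_three hD K.conjClass hl hne
      refine line_not_commute hD (line_second hD hd hx hdx) hpD (ne_of_three hD hx hpx)
        (by rw [hpx]; decide) (hpc _ (Subgroup.subset_closure (line_lam K (four hD hd hx hdx).2.2.2.2)))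
    · rw [Set.mem_singleton_iff] at h
      exact hnot (h.symm ▸ class_self hd)

end CfsgLib.RootStructure
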