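import Cfsg.Agent.RootSubgroups.LineGraph

set_option autoImplicit false

/-!
Weak TI subsets of a non-degenerate class of abstract root subgroups are abelian.
-/

namespace CfsgLib.RootSubgroups

open Cfsg CfsgLib.RankOne commutatorElement

variable {G : Type*} [Group G] {S : Set (Subgroup G)} {A B C D E P : Subgroup G}

theorem exists_partner_centralizing (hS : IsRootSubgroupClass S) (hnd : IsNondegenerateRootSet S) (hA : A ∈ S)
    (hB : B ∈ S) (h : RootCommutatorCase S A B) : ∃ V ∈ S, IsRankOnePair B V ∧ ⁅A, V⁆ = ⊥ := by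
  have hpart : ∀ R ∈ S, ∃ P ∈ S, IsRankOnePair R P := fun R hR => partner_of_class hS hnd.2.1 hR
  obtain ⟨PA, hPA, hAP⟩ := hpart A hA
  have hp := members_partition hS.1 hA hPA hAP h
  have habel : ∀ x ∈ A ⊔ ⁅A, B⁆, ∀ y ∈ A ⊔ ⁅A, B⁆, x * y = y * x := by
    have hAE : ⁅A, ⁅A, B⁆⁆ = ⊥ := (Subgroup.commutator_comm A _).trans (CommCase.commute_left h)
    intro x hx y hy
    exact comm_of_abelian' hS.1 hA h.1 hAE hx hy
  have hEm : ⁅A, B⁆ ∈ membersIn S (A ⊔ ⁅A, B⁆) := ⟨h.1, le_sup_right⟩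
  obtain ⟨C, hC, hCE, -, V₀, hV₀, hEV, hback, hCV⟩ := line_companion hS.1 hpart habel hp hEm
    (V := A) ⟨hA, le_sup_left⟩ (CommCase.ne_left hS.1 h).symm
  obtain ⟨b, hb, rfl⟩ := (member_cases hS.1 hA hPA hAP h hC.1 hC.2).resolve_left hCE
  have hEb : conjBy ⁅A, B⁆ b⁻¹ = ⁅A, B⁆ := conjBy_eq_of_commute (CommCase.commute_right h) (inv_mem hb)
  have hEV' : ⁅⁅A, B⁆, conjBy V₀ b⁻¹⁆ = A := by
    have h1 := congrArg (fun R => conjBy R b⁻¹) hback
    simp only [conjBy_conjBy, inv_mul_cancel, conjBy_one] at h1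
    refine Eq.trans ?_ h1
    have h2 : ⁅conjBy ⁅A, B⁆ b⁻¹, conjBy V₀ b⁻¹⁆ = conjBy ⁅⁅A, B⁆, V₀⁆ b⁻¹ :=
      (Subgroup.map_commutator ⁅A, B⁆ V₀ _).symm
    rw [hEb] at h2
    exact h2
  have hV : conjBy V₀ b⁻¹ ∈ S := hS.1.conj_mem V₀ hV₀ _
  have H : NaturalLine S A B (conjBy V₀ b⁻¹) :=
    NaturalLine.mk' hS.1 hA hB h.1 hV ((Subgroup.commutator_comm _ _).trans hEV')
  refine ⟨_, hV, H.rankOne, eq_bot_iff.2 (Subgroup.commutator_le.2 fun x hx y hy => Subgroup.mem_bot.2 ?_)⟩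
  exact commutatorElement_eq_one_iff_commute.2 (H.aD hx hy)
where
  comm_of_abelian' {A D : Subgroup G} (hS : IsRootSubgroupSet S) (hA : A ∈ S) (hD : D ∈ S) (h : ⁅A, D⁆ = ⊥)
      {x y : G} (hx : x ∈ A ⊔ D) (hy : y ∈ A ⊔ D) : x * y = y * x := by
    obtain ⟨a, ha, d, hd, rfl⟩ := mem_sup_of_commute (fun a ha d hd => commute_of_commutator_eq_bot h ha hd) hy
    exact ((show Commute x a from commute_of_le_sup hS hA hD h hx ha).mul_right
      (show Commute x d from commute_of_le_sup hS hD hA ((Subgroup.commutator_comm D A).trans h)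
        (sup_comm A D ▸ hx) hd)).eq

theorem weakTI_abelian (hS : IsRootSubgroupClass S) (hnd : IsNondegenerateRootSet S) {Δ : Set (Subgroup G)}
    (hΔ : IsWeakTISubset S Δ) : IsAbelianFamily Δ := by
  obtain ⟨hsub, h2, hne, hTI⟩ := hΔ
  let H : Subgroup G :=
    { carrier := {g | (fun A => conjBy A g) '' Δ = Δ}
      one_mem' := by
        show (fun A => conjBy A (1 : G)) '' Δ = Δ
        simp [conjBy_one]
      mul_mem' := fun {g h} hg hh => by
        show (fun A => conjBy A (g * h)) '' Δ = Δ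
        calc (fun A => conjBy A (g * h)) '' Δ = (fun A => conjBy A g) '' ((fun A => conjBy A h) '' Δ) := by
              rw [Set.image_image]; simp only [conjBy_conjBy]
          _ = Δ := by rw [show (fun A => conjBy A h) '' Δ = Δ from hh, show (fun A => conjBy A g) '' Δ = Δ from hg]
      inv_mem' := fun {g} hg => by
        show (fun A => conjBy A g⁻¹) '' Δ = Δ
        conv_lhs => rw [← show (fun A => conjBy A g) '' Δ = Δ from hg]
        rw [Set.image_image]; simp only [conjBy_conjBy, inv_mul_cancel, conjBy_one, Set.image_id'] }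
  -- members commuting with some member of `Δ` stabilise it
  have hfix : ∀ A ∈ Δ, ∀ M ∈ S, ⁅A, M⁆ = ⊥ → M ≤ H := by
    intro A hA M hM hc m hm
    by_cases hm1 : m = 1
    · subst hm1; exact H.one_mem
    rcases hTI m ⟨hm1, M, hM, hm⟩ with h | h
    · exact h
    · exact absurd hA (Set.disjoint_left.1 h ⟨A, hA, conjBy_eq_of_commute hc hm⟩)
  have hnot : H ≠ ⊤ := by
    intro htop
    apply hne
    refine Set.Subset.antisymm hsub fun T hT => ?_
    obtain ⟨A, hA, -⟩ := h2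
    obtain ⟨g, rfl⟩ := hS.2.2 A (hsub hA) T hT
    have hg : (fun A => conjBy A g) '' Δ = Δ := (htop ▸ Subgroup.mem_top g : g ∈ H)
    exact hg ▸ ⟨A, hA, rfl⟩
  intro A hA B hB
  rcases hS.1.pair A (hsub hA) B (hsub hB) with h | h | h
  · exact fun a ha b hb => commute_of_commutator_eq_bot h ha hb
  · exfalso
    refine hnot (eq_top_iff.2 ((generated_by_line_partners hS hnd (hsub hA) (hsub hB) h).symm.le.trans
      (sup_le (iSup₂_le fun C hC => hfix A hA C hC.1.1 hC.1.2.2) ?_)))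
    exact hfix B hB B (hsub hB) (eq_bot_iff.2 (Subgroup.commutator_le.2 fun p hp q hq => Subgroup.mem_bot.2
      (commutatorElement_eq_one_iff_commute.2 (abelian_comm hS.1 (hsub hB) hp hq))))
  · exfalso
    obtain ⟨V, hV, hBV, hAV⟩ := exists_partner_centralizing hS hnd (hsub hA) (hsub hB) h
    refine hnot (eq_top_iff.2 ((generated_by_line_partners hS hnd (hsub hB) hV hBV).symm.le.trans
      (sup_le (iSup₂_le fun C hC => hfix B hB C hC.1.1 hC.1.2.2) (hfix A hA V hV hAV))))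

end CfsgLib.RootSubgroups
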